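import Mathlib
import Groth.Prelude.Def_Red
import Groth.Prelude.Def_Red2

/-!
# H93/GaPts: functor of points of `Red.bc t (Spec A)` over a field `k` on affine test objects

For a `ULift ℤ`-algebra `A`, `XA k A := Red.bc (Spec k ⟶ Spec ℤ) (Spec A)`.  Points of `XA k A` with
values in `TR k R = (Spec R → Spec k)` are ring homs `A →+* R` (`pt`, `co`), naturally in `R`.
A group structure on `XA k A` gives a natural law `mulP` on `A →+* R`; two group structures with the
same induced laws have the same multiplication (`mul_eq_of_mulP_eq`).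
-/

universe u
open CategoryTheory Limits MonoidalCategory CartesianMonoidalCategory MonObj GrpObj AlgebraicGeometry

namespace Groth.Agent.H93.GaPts

variable (k : Type u) [Field k]

/-- affine test object `Spec R → Spec k`. -/
noncomputable abbrev TR (R : Type u) [CommRing R] [Algebra k R] : Over (Spec (CommRingCat.of k)) :=
  Over.mk (Spec.map (CommRingCat.ofHom (algebraMap k R)))

variable {k} in
/-- functoriality of test objects. -/
noncomputable def TRmap {R R' : Type u} [CommRing R] [CommRing R'] [Algebra k R] [Algebra k R']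
    (f : R →ₐ[k] R') : TR k R' ⟶ TR k R :=
  Over.homMk (Spec.map (CommRingCat.ofHom (f : R →+* R'))) (by
    simp only [Over.mk_hom, Over.mk_left]
    rw [← Spec.map_comp, ← CommRingCat.ofHom_comp, AlgHom.comp_algebraMap])

variable (A : Type u) [CommRing A] [Algebra (ULift.{u} ℤ) A]

/-- the base change to `Spec k` of `Spec A` over `Spec ℤ`. -/
noncomputable abbrev XA : Over (Spec (CommRingCat.of k)) :=
  Red.bc (Limits.IsTerminal.from specULiftZIsTerminal (Spec (CommRingCat.of k)))
    ((Spec (CommRingCat.of A)).asOver (Spec (CommRingCat.of (ULift.{u} ℤ))))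

variable {k A}

variable (k A) in
/-- first projection. -/
noncomputable def fstA : (XA k A).left ⟶ Spec (CommRingCat.of A) := pullback.fst _ _

theorem hom_ext_XA {T : Over (Spec (CommRingCat.of k))} {a b : T ⟶ XA k A}
    (h : a.left ≫ fstA k A = b.left ≫ fstA k A) : a = b := by
  ext
  apply pullback.hom_ext
  · exact h
  · exact (Over.w a).trans (Over.w b).symm

/-- point of `XA k A` attached to a ring hom. -/
noncomputable def pt {R : Type u} [CommRing R] [Algebra k R] (φ : A →+* R) : TR k R ⟶ XA k A :=
  Over.homMk (pullback.lift (Spec.map (CommRingCat.ofHom φ)) (TR k R).hom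
    (specULiftZIsTerminal.hom_ext _ _)) (by
      simp only [Over.pullback_obj_hom, Over.mk_hom]
      exact pullback.lift_snd _ _ _)

/-- ring hom attached to a point of `XA k A`. -/
noncomputable def co {R : Type u} [CommRing R] [Algebra k R] (a : TR k R ⟶ XA k A) : A →+* R :=
  (Spec.preimage (a.left ≫ fstA k A)).hom

theorem pt_left_fst {R : Type u} [CommRing R] [Algebra k R] (φ : A →+* R) :
    (pt (k := k) φ).left ≫ fstA k A = Spec.map (CommRingCat.ofHom φ) :=
  pullback.lift_fst _ _ _

@[simp]
theorem co_pt {R : Type u} [CommRing R] [Algebra k R] (φ : A →+* R) : co (pt (k := k) φ) = φ := by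
  unfold co
  rw [pt_left_fst, Spec.preimage_map]
  rfl

@[simp]
theorem pt_co {R : Type u} [CommRing R] [Algebra k R] (a : TR k R ⟶ XA k A) : pt (co a) = a := by
  apply hom_ext_XA
  rw [pt_left_fst]
  unfold co
  rw [CommRingCat.ofHom_hom, Spec.map_preimage]

theorem co_injective {R : Type u} [CommRing R] [Algebra k R] :
    Function.Injective (co (k := k) (A := A) (R := R)) := by
  intro a b h
  rw [← pt_co a, ← pt_co b, h]

theorem co_nat {R R' : Type u} [CommRing R] [CommRing R'] [Algebra k R] [Algebra k R']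
    (f : R →ₐ[k] R') (a : TR k R ⟶ XA k A) : co (TRmap f ≫ a) = (f : R →+* R').comp (co a) := by
  have : Spec.preimage ((TRmap f ≫ a).left ≫ fstA k A) =
      Spec.preimage (a.left ≫ fstA k A) ≫ CommRingCat.ofHom (f : R →+* R') := by
    apply Spec.map_injective
    simp only [TRmap, Over.comp_left, Over.homMk_left, Category.assoc, Spec.map_preimage,
      Spec.map_comp]
  simp only [co, this]
  rfl

theorem pt_nat {R R' : Type u} [CommRing R] [CommRing R'] [Algebra k R] [Algebra k R']
    (f : R →ₐ[k] R') (φ : A →+* R) : TRmap f ≫ pt (k := k) φ = pt ((f : R →+* R').comp φ) := by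
  apply co_injective
  rw [co_nat, co_pt, co_pt]

/-- every object with affine source is a test object. -/
theorem exists_iso_TR (T : Over (Spec (CommRingCat.of k))) [IsAffine T.left] :
    ∃ (B : Type u) (_ : CommRing B) (_ : Algebra k B), Nonempty (TR k B ≅ T) := by
  let alg : Algebra k Γ(T.left, ⊤) :=
    ((Scheme.ΓSpecIso (CommRingCat.of k)).inv ≫ T.hom.appTop).hom.toAlgebra
  refine ⟨Γ(T.left, ⊤), inferInstance, alg, ⟨Over.isoMk T.left.isoSpec.symm ?_⟩⟩
  simp only [Over.mk_hom, Iso.symm_hom]
  rw [Iso.inv_comp_eq, RingHom.algebraMap_toAlgebra, CommRingCat.ofHom_hom, Spec.map_comp,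
    Scheme.isoSpec_hom, ← Scheme.toSpecΓ_naturality_assoc]
  simp

section Law

variable [GrpObj (XA k A)]

variable (k) in
/-- the law on `R`-points induced by a group structure. -/
noncomputable def mulP (R : Type u) [CommRing R] [Algebra k R] (φ ψ : A →+* R) : A →+* R :=
  co (lift (pt (k := k) φ) (pt ψ) ≫ μ[XA k A])

variable (k A) in
/-- the unit `R`-point. -/
noncomputable def oneP (R : Type u) [CommRing R] [Algebra k R] : A →+* R :=
  co (toUnit (TR k R) ≫ η[XA k A])

theorem mulP_nat {R R' : Type u} [CommRing R] [CommRing R'] [Algebra k R] [Algebra k R']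
    (f : R →ₐ[k] R') (φ ψ : A →+* R) :
    (f : R →+* R').comp (mulP k R φ ψ) =
      mulP k R' ((f : R →+* R').comp φ) ((f : R →+* R').comp ψ) := by
  unfold mulP
  rw [← co_nat, ← pt_nat, ← pt_nat, ← comp_lift_assoc]

theorem oneP_nat {R R' : Type u} [CommRing R] [CommRing R'] [Algebra k R] [Algebra k R']
    (f : R →ₐ[k] R') : (f : R →+* R').comp (oneP k A R) = oneP k A R' := by
  unfold oneP
  rw [← co_nat, ← Category.assoc, toUnit_unique (TRmap f ≫ toUnit (TR k R)) (toUnit (TR k R'))]

theorem oneP_eq (R : Type u) [CommRing R] [Algebra k R] :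
    oneP k A R = (algebraMap k R).comp (oneP k A k) := by
  rw [← oneP_nat (Algebra.ofId k R)]
  rfl

theorem one_mulP (R : Type u) [CommRing R] [Algebra k R] (φ : A →+* R) :
    mulP k R (oneP k A R) φ = φ := by
  unfold mulP oneP
  rw [pt_co, lift_comp_one_left, co_pt]

theorem mulP_one (R : Type u) [CommRing R] [Algebra k R] (φ : A →+* R) :
    mulP k R φ (oneP k A R) = φ := by
  unfold mulP oneP
  rw [pt_co, lift_comp_one_right, co_pt]

theorem mulP_assoc (R : Type u) [CommRing R] [Algebra k R] (φ ψ χ : A →+* R) :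
    mulP k R (mulP k R φ ψ) χ = mulP k R φ (mulP k R ψ χ) := by
  unfold mulP
  rw [pt_co, pt_co, lift_lift_assoc]

theorem exists_mulP_eq_one (R : Type u) [CommRing R] [Algebra k R] (φ : A →+* R) :
    ∃ ψ : A →+* R, mulP k R φ ψ = oneP k A R := by
  refine ⟨co (pt (k := k) φ ≫ ι[XA k A]), ?_⟩
  unfold mulP oneP
  rw [pt_co, lift_comp_inv_right]

end Law

theorem isAffine_XA_left : IsAffine (XA k A).left := by
  show IsAffine (pullback _ _)
  exact @Scheme.Pullback.isAffine_of_isAffine_isAffine_isAffine _ _ _ _ _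
    (inferInstanceAs (IsAffine (Spec (CommRingCat.of A)))) inferInstance inferInstance

/-- Two group structures on `XA k A` inducing the same laws on points have the same
multiplication. -/
theorem mul_eq_of_mulP_eq (h₁ h₂ : GrpObj (XA k A))
    (H : ∀ (R : Type u) [CommRing R] [Algebra k R] (φ ψ : A →+* R),
      @mulP k _ A _ _ h₁ R _ _ φ ψ = @mulP k _ A _ _ h₂ R _ _ φ ψ) :
    h₁.mul = h₂.mul := by
  have : IsAffine (XA k A).left := isAffine_XA_left
  have : IsAffine (XA k A ⊗ XA k A).left := by
    rw [Over.tensorObj_left]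
    infer_instance
  obtain ⟨B, _, _, ⟨θ⟩⟩ := exists_iso_TR (XA k A ⊗ XA k A)
  rw [← cancel_epi θ.hom]
  have e : θ.hom = lift (pt (co (θ.hom ≫ fst _ _))) (pt (co (θ.hom ≫ snd _ _))) := by
    rw [pt_co, pt_co]
    exact (lift_comp_fst_snd θ.hom).symm
  rw [e]
  apply co_injective
  exact H B (co (θ.hom ≫ fst _ _)) (co (θ.hom ≫ snd _ _))

end Groth.Agent.H93.GaPts
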