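import Mathlib
import Groth.Prelude.Def_Red
import Groth.Prelude.Def_Red2
import Groth.Agent.H93.GaPts

/-!
# H93/GaGmLaw: group laws on `Red.Ga (Spec k)` and `Red.Gm (Spec k)` reduce to natural laws on rings

`ga_mul_eq` / `gm_mul_eq`: given the pure-algebra classification of natural group laws
(`GaAlg k`, `GmAlg k`), two group structures with the same unit have the same multiplication.
-/

universe u v
open CategoryTheory Limits MonoidalCategory CartesianMonoidalCategory AlgebraicGeometry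

namespace Groth.Agent.H93.GaGmLaw

open Groth.Agent.H93.GaPts

theorem ulift_hom_ext {B : Type v} [Semiring B] (f g : ULift.{u} ℤ →+* B) : f = g := by
  have : ∀ (f : ULift.{u} ℤ →+* B) (r : ULift.{u} ℤ),
      f r = f.comp (ULift.ringEquiv : ULift.{u} ℤ ≃+* ℤ).symm.toRingHom r.down := by
    intro f r; rfl
  ext r
  rw [this f, this g, RingHom.ext_int (f.comp _) (g.comp _)]

/-- the algebra structure used to build homs out of `ULift ℤ`-algebras -/
noncomputable abbrev zAlg (B : Type v) [CommRing B] : Algebra (ULift.{u} ℤ) B :=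
  ((Int.castRingHom B).comp (ULift.ringEquiv : ULift.{u} ℤ ≃+* ℤ).toRingHom).toAlgebra

section Ga

/-- the coordinate of the symmetric algebra. -/
noncomputable def tt : SymmetricAlgebra (ULift.{u} ℤ) (ULift.{u} ℤ) :=
  SymmetricAlgebra.ι _ _ (ULift.up 1)

theorem sym_hom_ext {B : Type v} [CommRing B]
    (φ₁ φ₂ : SymmetricAlgebra (ULift.{u} ℤ) (ULift.{u} ℤ) →+* B) (h : φ₁ tt = φ₂ tt) : φ₁ = φ₂ := by
  refine RingHom.ext fun x => ?_
  induction x using SymmetricAlgebra.induction with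
  | algebraMap r =>
    exact RingHom.congr_fun (ulift_hom_ext (φ₁.comp (algebraMap _ _)) (φ₂.comp (algebraMap _ _))) r
  | ι x =>
    have : x = x.down • (ULift.up 1 : ULift.{u} ℤ) := by ext; simp
    rw [this, map_zsmul, map_zsmul, map_zsmul]
    exact congrArg _ h
  | mul a b ha hb => rw [map_mul, map_mul, ha, hb]
  | add a b ha hb => rw [map_add, map_add, ha, hb]

noncomputable def gaLin {B : Type v} [CommRing B] (b : B) :
    @LinearMap (ULift.{u} ℤ) (ULift.{u} ℤ) _ _ (RingHom.id _) (ULift.{u} ℤ) B _ _ _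
      (@Algebra.toModule _ _ _ _ (zAlg.{u} B)) :=
  @LinearMap.mk _ _ _ _ _ _ _ _ _ _ (@Algebra.toModule _ _ _ _ (zAlg.{u} B))
    ⟨fun r => @algebraMap (ULift.{u} ℤ) B _ _ (zAlg.{u} B) r * b, by intros; simp [add_mul]⟩
    (by
      intro r x
      show @algebraMap (ULift.{u} ℤ) B _ _ (zAlg.{u} B) (r • x) * b = _
      rw [smul_eq_mul, map_mul, mul_assoc]
      exact (@Algebra.smul_def _ _ _ _ (zAlg.{u} B) r _).symm)

/-- the ring hom out of the symmetric algebra with given value at the coordinate. -/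
noncomputable def gaHom {B : Type v} [CommRing B] (b : B) :
    SymmetricAlgebra (ULift.{u} ℤ) (ULift.{u} ℤ) →+* B :=
  @AlgHom.toRingHom (ULift.{u} ℤ) (SymmetricAlgebra (ULift.{u} ℤ) (ULift.{u} ℤ)) B _ _ _ _ (zAlg.{u} B)
    (@SymmetricAlgebra.lift (ULift.{u} ℤ) (ULift.{u} ℤ) _ _ _ B _ (zAlg.{u} B) (gaLin b))

@[simp]
theorem gaHom_tt {B : Type v} [CommRing B] (b : B) : gaHom.{u} b tt = b := by
  have h := @SymmetricAlgebra.lift_ι_apply (ULift.{u} ℤ) (ULift.{u} ℤ) _ _ _ B _ (zAlg.{u} B)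
    (gaLin b) (ULift.up 1)
  have h2 : gaLin.{u} b (ULift.up 1) = b := by
    show @algebraMap (ULift.{u} ℤ) B _ _ (zAlg.{u} B) 1 * b = b
    rw [map_one, one_mul]
  exact h.trans h2

theorem gaHom_ev {B : Type v} [CommRing B]
    (φ : SymmetricAlgebra (ULift.{u} ℤ) (ULift.{u} ℤ) →+* B) : gaHom (φ tt) = φ :=
  sym_hom_ext _ _ (gaHom_tt _)

theorem comp_gaHom {B B' : Type v} [CommRing B] [CommRing B'] (f : B →+* B') (b : B) :
    f.comp (gaHom.{u} b) = gaHom (f b) := by
  apply sym_hom_ext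
  rw [RingHom.comp_apply, gaHom_tt, gaHom_tt]

/-- The pure-algebra classification of natural group laws on the affine line. -/
def GaAlg (k : Type u) [Field k] : Prop :=
  ∀ (μ : ∀ (R : Type u) [CommRing R] [Algebra k R], R → R → R)
    (_ : ∀ (R R' : Type u) [CommRing R] [CommRing R'] [Algebra k R] [Algebra k R']
      (f : R →ₐ[k] R') (a b : R), f (μ R a b) = μ R' (f a) (f b))
    (ε : k)
    (_ : ∀ (R : Type u) [CommRing R] [Algebra k R] (a : R), μ R (algebraMap k R ε) a = a)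
    (_ : ∀ (R : Type u) [CommRing R] [Algebra k R] (a : R), μ R a (algebraMap k R ε) = a)
    (_ : ∀ (R : Type u) [CommRing R] [Algebra k R] (a b c : R),
      μ R (μ R a b) c = μ R a (μ R b c))
    (_ : ∀ (R : Type u) [CommRing R] [Algebra k R] (a : R), ∃ b : R, μ R a b = algebraMap k R ε),
    ∀ (R : Type u) [CommRing R] [Algebra k R] (a b : R), μ R a b = a + b - algebraMap k R ε

variable {k : Type u} [Field k]

/-- the coordinate ring of `GaZ`. -/
abbrev Sym := SymmetricAlgebra (ULift.{u} ℤ) (ULift.{u} ℤ)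

theorem oneP_ga [GrpObj (XA k Sym)] (R : Type u) [CommRing R] [Algebra k R] :
    oneP k Sym R = gaHom (algebraMap k R ((oneP k Sym k) tt)) := by
  rw [oneP_eq R]
  apply sym_hom_ext
  rw [RingHom.comp_apply, gaHom_tt]

theorem mulP_tt_eq (ALG : GaAlg k) [GrpObj (XA k Sym)] (R : Type u) [CommRing R] [Algebra k R]
    (φ ψ : Sym →+* R) :
    (mulP k R φ ψ) tt = φ tt + ψ tt - algebraMap k R ((oneP k Sym k) tt) := by
  have key := ALG (fun R _ _ a b => (mulP k R (gaHom a) (gaHom b)) tt)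
    (by
      intro R R' _ _ _ _ f a b
      show (f : R →+* R') ((mulP k R (gaHom a) (gaHom b)) tt) = _
      rw [← RingHom.comp_apply, mulP_nat, comp_gaHom, comp_gaHom]
      rfl)
    ((oneP k Sym k) tt)
    (by
      intro R _ _ a
      show (mulP k R (gaHom _) (gaHom a)) tt = a
      rw [← oneP_ga, one_mulP, gaHom_tt])
    (by
      intro R _ _ a
      show (mulP k R (gaHom a) (gaHom _)) tt = a
      rw [← oneP_ga, mulP_one, gaHom_tt])
    (by
      intro R _ _ a b c
      show (mulP k R (gaHom ((mulP k R (gaHom a) (gaHom b)) tt)) (gaHom c)) tt =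
        (mulP k R (gaHom a) (gaHom ((mulP k R (gaHom b) (gaHom c)) tt))) tt
      rw [gaHom_ev, gaHom_ev, mulP_assoc])
    (by
      intro R _ _ a
      obtain ⟨ψ, hψ⟩ := exists_mulP_eq_one (k := k) R (gaHom a)
      refine ⟨ψ tt, ?_⟩
      show (mulP k R (gaHom a) (gaHom (ψ tt))) tt = _
      rw [gaHom_ev, hψ, oneP_ga, gaHom_tt])
    R (φ tt) (ψ tt)
  simp only [gaHom_ev] at key
  exact key

/-- S15602 modulo the algebra lemma. -/
theorem ga_mul_eq (ALG : GaAlg k)
    (h₁ h₂ : GrpObj (Red.Ga (Spec (CommRingCat.of k)))) (e : h₁.one = h₂.one) : h₁.mul = h₂.mul := by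
  refine mul_eq_of_mulP_eq (k := k) (A := Sym) h₁ h₂ ?_
  intro R _ _ φ ψ
  apply sym_hom_ext
  rw [@mulP_tt_eq k _ ALG h₁, @mulP_tt_eq k _ ALG h₂]
  have : @oneP k _ Sym _ _ h₁ k _ _ = @oneP k _ Sym _ _ h₂ k _ _ := by
    unfold oneP
    rw [e]
  rw [this]

end Ga

section Gm

/-- the coordinate ring of `Gm` over `ℤ`. -/
abbrev Lau := MonoidAlgebra (ULift.{u} ℤ) (Multiplicative ℤ)

/-- the coordinate unit. -/
noncomputable def gU : (Lau.{u})ˣ :=
  ⟨MonoidAlgebra.of _ _ (Multiplicative.ofAdd 1), MonoidAlgebra.of _ _ (Multiplicative.ofAdd 1)⁻¹,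
   by rw [← map_mul, mul_inv_cancel, map_one], by rw [← map_mul, inv_mul_cancel, map_one]⟩

/-- evaluation of a ring hom at the coordinate unit. -/
noncomputable def evU {B : Type v} [CommRing B] (φ : Lau.{u} →+* B) : Bˣ :=
  Units.map (φ : Lau.{u} →* B) gU

theorem evU_comp {B B' : Type v} [CommRing B] [CommRing B'] (f : B →+* B') (φ : Lau.{u} →+* B) :
    evU (f.comp φ) = Units.map (f : B →* B') (evU φ) := by
  apply Units.ext
  rfl

theorem lau_hom_ext {B : Type v} [CommRing B] (φ₁ φ₂ : Lau.{u} →+* B) (h : evU φ₁ = evU φ₂) :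
    φ₁ = φ₂ := by
  apply MonoidAlgebra.ringHom_ext
  · intro r
    exact RingHom.congr_fun (ulift_hom_ext (φ₁.comp MonoidAlgebra.singleOneRingHom)
      (φ₂.comp MonoidAlgebra.singleOneRingHom)) r
  · intro m
    have h' : ((φ₁ : Lau.{u} →* B).comp (MonoidAlgebra.of _ _)) =
        ((φ₂ : Lau.{u} →* B).comp (MonoidAlgebra.of _ _)) := by
      apply MonoidHom.ext_mint
      exact congrArg Units.val h
    exact DFunLike.congr_fun h' m

/-- the ring hom out of the Laurent ring with given value at the coordinate unit. -/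
noncomputable def gmHom {B : Type v} [CommRing B] (w : Bˣ) : Lau.{u} →+* B :=
  @AlgHom.toRingHom (ULift.{u} ℤ) Lau.{u} B _ _ _ _ (zAlg.{u} B)
    (@MonoidAlgebra.lift (ULift.{u} ℤ) B (Multiplicative ℤ) _ _ (zAlg.{u} B) _
      ((Units.coeHom B).comp (zpowersHom Bˣ w)))

@[simp]
theorem evU_gmHom {B : Type v} [CommRing B] (w : Bˣ) : evU (gmHom.{u} w) = w := by
  apply Units.ext
  have h := @MonoidAlgebra.lift_of (ULift.{u} ℤ) B (Multiplicative ℤ) _ _ (zAlg.{u} B) _
    ((Units.coeHom B).comp (zpowersHom Bˣ w)) (Multiplicative.ofAdd 1)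
  refine h.trans ?_
  simp

theorem gmHom_ev {B : Type v} [CommRing B] (φ : Lau.{u} →+* B) : gmHom (evU φ) = φ :=
  lau_hom_ext _ _ (evU_gmHom _)

theorem comp_gmHom {B B' : Type v} [CommRing B] [CommRing B'] (f : B →+* B') (w : Bˣ) :
    f.comp (gmHom.{u} w) = gmHom (Units.map (f : B →* B') w) := by
  apply lau_hom_ext
  rw [evU_comp, evU_gmHom, evU_gmHom]

/-- The pure-algebra classification of natural unital laws on the punctured line. -/
def GmAlg (k : Type u) [Field k] : Prop :=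
  ∀ (μ : ∀ (R : Type u) [CommRing R] [Algebra k R], Rˣ → Rˣ → Rˣ)
    (_ : ∀ (R R' : Type u) [CommRing R] [CommRing R'] [Algebra k R] [Algebra k R']
      (f : R →ₐ[k] R') (a b : Rˣ),
      Units.map (f : R →* R') (μ R a b) = μ R' (Units.map (f : R →* R') a) (Units.map (f : R →* R') b))
    (ε : kˣ)
    (_ : ∀ (R : Type u) [CommRing R] [Algebra k R] (a : Rˣ),
      μ R (Units.map (algebraMap k R : k →* R) ε) a = a)
    (_ : ∀ (R : Type u) [CommRing R] [Algebra k R] (a : Rˣ),
      μ R a (Units.map (algebraMap k R : k →* R) ε) = a),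
    ∀ (R : Type u) [CommRing R] [Algebra k R] (a b : Rˣ),
      μ R a b = a * b * (Units.map (algebraMap k R : k →* R) ε)⁻¹

variable {k : Type u} [Field k]

theorem oneP_gm [GrpObj (XA k Lau)] (R : Type u) [CommRing R] [Algebra k R] :
    oneP k Lau R = gmHom (Units.map (algebraMap k R : k →* R) (evU (oneP k Lau k))) := by
  rw [oneP_eq R]
  apply lau_hom_ext
  rw [evU_comp, evU_gmHom]

theorem mulP_evU_eq (ALG : GmAlg k) [GrpObj (XA k Lau)] (R : Type u) [CommRing R] [Algebra k R]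
    (φ ψ : Lau →+* R) :
    evU (mulP k R φ ψ) =
      evU φ * evU ψ * (Units.map (algebraMap k R : k →* R) (evU (oneP k Lau k)))⁻¹ := by
  have key := ALG (fun R _ _ a b => evU (mulP k R (gmHom a) (gmHom b)))
    (by
      intro R R' _ _ _ _ f a b
      show Units.map ((f : R →+* R') : R →* R') (evU (mulP k R (gmHom a) (gmHom b))) = _
      rw [← evU_comp, mulP_nat, comp_gmHom, comp_gmHom]
      rfl)
    (evU (oneP k Lau k))
    (by
      intro R _ _ a
      show evU (mulP k R (gmHom _) (gmHom a)) = a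
      rw [← oneP_gm, one_mulP, evU_gmHom])
    (by
      intro R _ _ a
      show evU (mulP k R (gmHom a) (gmHom _)) = a
      rw [← oneP_gm, mulP_one, evU_gmHom])
    R (evU φ) (evU ψ)
  simp only [gmHom_ev] at key
  exact key

/-- S15603 modulo the algebra lemma. -/
theorem gm_mul_eq (ALG : GmAlg k)
    (h₁ h₂ : GrpObj (Red.Gm (Spec (CommRingCat.of k)))) (e : h₁.one = h₂.one) : h₁.mul = h₂.mul := by
  refine mul_eq_of_mulP_eq (k := k) (A := Lau) h₁ h₂ ?_
  intro R _ _ φ ψ
  apply lau_hom_ext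
  rw [@mulP_evU_eq k _ ALG h₁, @mulP_evU_eq k _ ALG h₂]
  have : @oneP k _ Lau _ _ h₁ k _ _ = @oneP k _ Lau _ _ h₂ k _ _ := by
    unfold oneP
    rw [e]
  rw [this]

end Gm

end Groth.Agent.H93.GaGmLaw
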