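import Groth.Agent.H93.Comod

/-! More helper lemmas on comodules over a field (helper93). -/

set_option autoImplicit false
universe u v v' w w'
open TensorProduct

namespace Groth.Agent.H93

section

variable {k : Type u} [Field k]
variable {V : Type w} [AddCommGroup V] [Module k V]

/-- over a field: `range (W ⊗ C → V ⊗ C) = ker (V ⊗ C → (V/W) ⊗ C)` -/
theorem range_subtype_rTensor_eq_ker (C : Type v) [AddCommGroup C] [Module k C] (W : Submodule k V) :
    LinearMap.range (W.subtype.rTensor C) = LinearMap.ker (W.mkQ.rTensor C) := by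
  have hex : Function.Exact W.subtype W.mkQ := by
    rw [LinearMap.exact_iff, Submodule.ker_mkQ, Submodule.range_subtype]
  exact (LinearMap.exact_iff.mp (Module.Flat.rTensor_exact C hex)).symm

/-- `(W ⊗ D) ∩ (V ⊗ C) = W ⊗ C` inside `V ⊗ D` for `C ↪ D`, over a field. -/
theorem mem_range_subtype_rTensor_of_lTensor
    {C : Type v} [AddCommGroup C] [Module k C] {D : Type v'} [AddCommGroup D] [Module k D]
    (i : C →ₗ[k] D) (hi : Function.Injective i) (W : Submodule k V) (x : V ⊗[k] C)
    (hx : i.lTensor V x ∈ LinearMap.range (W.subtype.rTensor D)) :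
    x ∈ LinearMap.range (W.subtype.rTensor C) := by
  rw [range_subtype_rTensor_eq_ker] at hx ⊢
  rw [LinearMap.mem_ker] at hx ⊢
  have hinj : Function.Injective (i.lTensor (V ⧸ W)) :=
    Module.Flat.lTensor_preserves_injective_linearMap i hi
  apply hinj
  rw [map_zero, ← hx]
  have h1 : (i.lTensor (V ⧸ W)) ∘ₗ (W.mkQ.rTensor C) = (W.mkQ.rTensor D) ∘ₗ (i.lTensor V) := by
    rw [LinearMap.lTensor_comp_rTensor, LinearMap.rTensor_comp_lTensor]
  exact LinearMap.congr_fun h1 x

end

end Groth.Agent.H93
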