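import Groth.Agent.H93.Comod3
import Mathlib.LinearAlgebra.Span.Basic

/-! Quotient comodules, sums of subcomodules, factorisation through injective comodule maps
(helper93). -/

set_option autoImplicit false
universe u v v' w w' w''
open TensorProduct

namespace Groth.Agent.H93

section

variable {k : Type u} [Field k] {C : Type v} [AddCommGroup C] [Module k C] [Coalgebra k C]
variable {V : Type w} [AddCommGroup V] [Module k V] [HopfRep.Comod k C V]

/-- monotonicity of `W ↦ range (W ⊗ C → V ⊗ C)` -/
theorem range_subtype_rTensor_mono (C : Type v) [AddCommGroup C] [Module k C]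
    {W W' : Submodule k V} (h : W ≤ W') :
    LinearMap.range (W.subtype.rTensor C) ≤ LinearMap.range (W'.subtype.rTensor C) := by
  have : W.subtype = W'.subtype ∘ₗ Submodule.inclusion h := rfl
  rw [this, LinearMap.rTensor_comp]
  exact LinearMap.range_comp_le_range _ _

theorem isSubcomod_iSup {ι : Sort*} (W : ι → Submodule k V)
    (hW : ∀ i, HopfRep.IsSubcomod (k := k) (A := C) (W i)) :
    HopfRep.IsSubcomod (k := k) (A := C) (⨆ i, W i) := by
  intro w hw
  induction hw using Submodule.iSup_induction' with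
  | mem i x hx => exact range_subtype_rTensor_mono C (le_iSup W i) (hW i x hx)
  | zero => rw [map_zero]; exact zero_mem _
  | add x y _ _ hx hy => rw [map_add]; exact add_mem hx hy

theorem isSubcomod_sup {W W' : Submodule k V}
    (hW : HopfRep.IsSubcomod (k := k) (A := C) W) (hW' : HopfRep.IsSubcomod (k := k) (A := C) W') :
    HopfRep.IsSubcomod (k := k) (A := C) (W ⊔ W') := by
  rw [sup_eq_iSup]
  exact isSubcomod_iSup _ (fun b => by cases b <;> assumption)

theorem isComodHom_comp {W : Type w'} [AddCommGroup W] [Module k W] [HopfRep.Comod k C W]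
    {X : Type w''} [AddCommGroup X] [Module k X] [HopfRep.Comod k C X]
    {f : V →ₗ[k] W} {g : W →ₗ[k] X} (hf : Hoch.IsComodHom C f) (hg : Hoch.IsComodHom C g) :
    Hoch.IsComodHom C (g ∘ₗ f) := by
  unfold Hoch.IsComodHom at hf hg ⊢
  rw [← LinearMap.comp_assoc, hg, LinearMap.comp_assoc, hf, ← LinearMap.comp_assoc,
    LinearMap.rTensor_comp]

/-- the coaction on the quotient by a subcomodule -/
noncomputable def quotCoact (W : Submodule k V) (hW : HopfRep.IsSubcomod (k := k) (A := C) W) :
    (V ⧸ W) →ₗ[k] (V ⧸ W) ⊗[k] C :=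
  W.liftQ ((W.mkQ.rTensor C) ∘ₗ HopfRep.Comod.coact (k := k) (A := C)) (by
    intro w hw
    rw [LinearMap.mem_ker, LinearMap.comp_apply, ← LinearMap.mem_ker,
      ← range_subtype_rTensor_eq_ker]
    exact hW w hw)

theorem quotCoact_mkQ (W : Submodule k V) (hW : HopfRep.IsSubcomod (k := k) (A := C) W) :
    quotCoact W hW ∘ₗ W.mkQ = (W.mkQ.rTensor C) ∘ₗ HopfRep.Comod.coact (k := k) (A := C) :=
  Submodule.liftQ_mkQ _ _ _

theorem assoc_naturality_left {X : Type w'} [AddCommGroup X] [Module k X] (f : V →ₗ[k] X) :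
    (TensorProduct.assoc k X C C).toLinearMap ∘ₗ ((f.rTensor C).rTensor C) =
      (f.rTensor (C ⊗[k] C)) ∘ₗ (TensorProduct.assoc k V C C).toLinearMap := by
  apply TensorProduct.ext_threefold
  intro v c c'
  simp

/-- the quotient comodule -/
@[reducible] noncomputable def quotComod (W : Submodule k V)
    (hW : HopfRep.IsSubcomod (k := k) (A := C) W) : HopfRep.Comod k C (V ⧸ W) where
  coact := quotCoact W hW
  coassoc := by
    apply Submodule.linearMap_qext
    set ρ := HopfRep.Comod.coact (k := k) (A := C) (V := V)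
    set π := W.mkQ
    have hq := quotCoact_mkQ W hW
    ext v
    have hq' : ∀ v, quotCoact W hW (π v) = π.rTensor C (ρ v) := fun v => LinearMap.congr_fun hq v
    simp only [LinearMap.comp_apply, LinearEquiv.coe_coe]
    rw [hq', ← LinearMap.comp_apply ((quotCoact W hW).rTensor C), ← LinearMap.rTensor_comp, hq,
      LinearMap.rTensor_comp, LinearMap.comp_apply]
    have h1 := LinearMap.congr_fun (assoc_naturality_left (C := C) π) (ρ.rTensor C (ρ v))
    simp only [LinearMap.comp_apply, LinearEquiv.coe_coe] at h1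
    rw [h1]
    have h2 := LinearMap.congr_fun (HopfRep.Comod.coassoc (k := k) (A := C) (V := V)) v
    simp only [LinearMap.comp_apply, LinearEquiv.coe_coe] at h2
    rw [h2, ← LinearMap.comp_apply, ← LinearMap.comp_apply (LinearMap.lTensor _ _),
      LinearMap.rTensor_comp_lTensor, LinearMap.lTensor_comp_rTensor]
  counit_comp := by
    apply Submodule.linearMap_qext
    set ρ := HopfRep.Comod.coact (k := k) (A := C) (V := V)
    set π := W.mkQ
    have hq := quotCoact_mkQ W hW
    rw [LinearMap.comp_assoc, hq, ← LinearMap.comp_assoc, LinearMap.lTensor_comp_rTensor,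
      ← LinearMap.rTensor_comp_lTensor, LinearMap.comp_assoc,
      HopfRep.Comod.counit_comp (k := k) (A := C) (V := V)]
    ext v
    simp
    rfl

theorem isComodHom_mkQ (W : Submodule k V) (hW : HopfRep.IsSubcomod (k := k) (A := C) W) :
    @Hoch.IsComodHom k _ C _ _ _ V _ _ _ (V ⧸ W) _ _ (quotComod W hW) W.mkQ :=
  quotCoact_mkQ W hW

/-- factor a comodule map through an injective comodule map with larger range -/
theorem exists_factor_of_range_le {K : Type w'} [AddCommGroup K] [Module k K] [HopfRep.Comod k C K]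
    {S : Type w''} [AddCommGroup S] [Module k S] [HopfRep.Comod k C S]
    {h : K →ₗ[k] V} (hh : Hoch.IsComodHom C h) (hinj : Function.Injective h)
    {u : S →ₗ[k] V} (hu : Hoch.IsComodHom C u) (hle : LinearMap.range u ≤ LinearMap.range h) :
    ∃ θ : S →ₗ[k] K, h ∘ₗ θ = u ∧ Hoch.IsComodHom C θ := by
  let e := LinearEquiv.ofInjective h hinj
  let θ : S →ₗ[k] K := e.symm.toLinearMap ∘ₗ u.codRestrict (LinearMap.range h)
    (fun s => hle (LinearMap.mem_range_self u s))
  have hθ : h ∘ₗ θ = u := by
    ext s
    simp only [θ, LinearMap.comp_apply, LinearEquiv.coe_coe]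
    rw [LinearEquiv.ofInjective_symm_apply]
    rfl
  refine ⟨θ, hθ, ?_⟩
  have hinj' : Function.Injective (h.rTensor C) :=
    Module.Flat.rTensor_preserves_injective_linearMap h hinj
  unfold Hoch.IsComodHom at hh hu ⊢
  ext s
  apply hinj'
  have h1 := LinearMap.congr_fun hh (θ s)
  have h2 := LinearMap.congr_fun hu s
  simp only [LinearMap.comp_apply] at h1 h2 ⊢
  rw [← h1, ← LinearMap.comp_apply h θ, hθ, h2, ← LinearMap.comp_apply (h.rTensor C),
    ← LinearMap.rTensor_comp, hθ]

end

end Groth.Agent.H93
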