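import Groth.Prelude.Def_FSch3
import Mathlib.AlgebraicGeometry.IdealSheaf.Functorial

/-!
# Inverse image of ideal sheaves commutes with products and powers

`comap_mul`, `comap_pow` for `AlgebraicGeometry.Scheme.IdealSheafData.comap`.
-/

set_option autoImplicit false
universe u

namespace Groth.Agent.H93.IdealComap

open AlgebraicGeometry CategoryTheory

lemma comap_mul_iso {P R : CommRingCat.{u}} (e : P ≅ R) (I J : Ideal P) :
    (I * J).comap e.inv.hom = I.comap e.inv.hom * J.comap e.inv.hom := by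
  have h : ∀ K : Ideal P, K.comap e.inv.hom = K.map e.commRingCatIsoToRingEquiv := by
    intro K
    rw [← Ideal.comap_symm]
    rfl
  rw [h, h, h, Ideal.map_mul]

lemma ideal_top_ker {X Y : Scheme.{u}} [IsAffine Y] (f : X ⟶ Y) :
    f.ker.ideal ⟨⊤, isAffineOpen_top Y⟩ = RingHom.ker f.appTop.hom := by
  rw [Scheme.ker_of_isAffine]
  simp

lemma ideal_top_map {U' V' : Scheme.{u}} [IsAffine U'] [IsAffine V'] (g : U' ⟶ V')
    (I : U'.IdealSheafData) :
    (I.map g).ideal ⟨⊤, isAffineOpen_top V'⟩ =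
      (I.ideal ⟨⊤, isAffineOpen_top U'⟩).comap g.appTop.hom := by
  have h1 : (I.map g).ideal ⟨⊤, isAffineOpen_top V'⟩ =
      RingHom.ker (I.subschemeι ≫ g).appTop.hom := ideal_top_ker (I.subschemeι ≫ g)
  have h2 : I.ideal ⟨⊤, isAffineOpen_top U'⟩ = RingHom.ker I.subschemeι.appTop.hom := by
    rw [← ideal_top_ker, Scheme.IdealSheafData.ker_subschemeι]
  rw [h1, h2, RingHom.comap_ker, Scheme.Hom.comp_appTop, CommRingCat.hom_comp]

lemma ideal_top_comap {U' V' : Scheme.{u}} [IsAffine U'] [IsAffine V'] (g : U' ⟶ V')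
    (K : V'.IdealSheafData) :
    (K.comap g).ideal ⟨⊤, isAffineOpen_top U'⟩ =
      (K.ideal ⟨⊤, isAffineOpen_top V'⟩).map g.appTop.hom := by
  apply le_antisymm
  · set I : U'.IdealSheafData := Scheme.IdealSheafData.ofIdealTop
      ((K.ideal ⟨⊤, isAffineOpen_top V'⟩).map g.appTop.hom) with hI
    have hItop : I.ideal ⟨⊤, isAffineOpen_top U'⟩ =
        (K.ideal ⟨⊤, isAffineOpen_top V'⟩).map g.appTop.hom := by
      rw [hI]
      simp
    have hle : K.comap g ≤ I := by
      rw [← Scheme.IdealSheafData.le_map_iff_comap_le]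
      apply Scheme.IdealSheafData.le_of_isAffine
      rw [ideal_top_map, hItop]
      exact Ideal.le_comap_map
    rw [← hItop]
    exact hle _
  · rw [Ideal.map_le_iff_le_comap, ← ideal_top_map]
    exact (K.le_map_comap g) _

lemma comap_mul_of_isAffine {U' V' : Scheme.{u}} [IsAffine U'] [IsAffine V'] (g : U' ⟶ V')
    (K L : V'.IdealSheafData) :
    (K * L).comap g = K.comap g * L.comap g := by
  apply Scheme.IdealSheafData.ext_of_isAffine
  rw [ideal_top_comap, Scheme.IdealSheafData.ideal_mul, Scheme.IdealSheafData.ideal_mul,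
    Pi.mul_apply, Pi.mul_apply, ideal_top_comap, ideal_top_comap, Ideal.map_mul]

lemma comap_mul_of_isOpenImmersion {X' X : Scheme.{u}} (j : X' ⟶ X) [IsOpenImmersion j]
    (I J : X.IdealSheafData) :
    (I * J).comap j = I.comap j * J.comap j := by
  apply Scheme.IdealSheafData.ext
  funext W
  rw [Scheme.IdealSheafData.ideal_mul, Pi.mul_apply,
    Scheme.IdealSheafData.ideal_comap_of_isOpenImmersion,
    Scheme.IdealSheafData.ideal_comap_of_isOpenImmersion,
    Scheme.IdealSheafData.ideal_comap_of_isOpenImmersion,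
    Scheme.IdealSheafData.ideal_mul, Pi.mul_apply, comap_mul_iso]

/-- An ideal sheaf is determined on an affine open `U` by its restriction to `U`. -/
lemma ideal_eq_of_comap_ι_eq {X : Scheme.{u}} (U : X.affineOpens) (I J : X.IdealSheafData)
    (h : I.comap U.1.ι = J.comap U.1.ι) : I.ideal U = J.ideal U := by
  have : IsAffine ↑U.1 := U.2
  have h1 := congrArg (fun Z => Z.ideal ⟨⊤, isAffineOpen_top _⟩) h
  simp only [Scheme.IdealSheafData.ideal_comap_of_isOpenImmersion] at h1
  have inj : Function.Injective (Ideal.comap (U.1.ι.appIso ⊤).inv.hom) :=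
    Ideal.comap_injective_of_surjective _
      ((U.1.ι.appIso ⊤).symm.commRingCatIsoToRingEquiv.surjective)
  have h2 := inj h1
  have e : ∀ hp, (⟨U.1.ι ''ᵁ ⊤, hp⟩ : X.affineOpens) = U :=
    fun _ => Subtype.ext (Scheme.Opens.ι_image_top _)
  have key : ∀ W : X.affineOpens, W = U → I.ideal W = J.ideal W → I.ideal U = J.ideal U := by
    rintro W rfl hW
    exact hW
  exact key _ (e _) h2

/-- Inverse image of ideal sheaves commutes with products. -/
theorem comap_mul {X Y : Scheme.{u}} (f : X ⟶ Y) (K L : Y.IdealSheafData) :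
    (K * L).comap f = K.comap f * L.comap f := by
  have hx : ∀ x : X, ∃ (U : X.affineOpens) (V : Y.affineOpens), x ∈ U.1 ∧ U.1 ≤ f ⁻¹ᵁ V.1 := by
    intro x
    obtain ⟨V, hV, hxV, -⟩ :=
      exists_isAffineOpen_mem_and_subset (X := Y) (x := f x) (U := ⊤) trivial
    obtain ⟨U, hU, hxU, hUV⟩ :=
      exists_isAffineOpen_mem_and_subset (X := X) (x := x) (U := f ⁻¹ᵁ V) hxV
    exact ⟨⟨U, hU⟩, ⟨V, hV⟩, hxU, hUV⟩
  choose U V hxU hUV using hx
  refine Scheme.IdealSheafData.ext_of_iSup_eq_top U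
    (eq_top_iff.mpr fun y _ => TopologicalSpace.Opens.mem_iSup.mpr ⟨y, hxU y⟩) (fun x => ?_)
  apply ideal_eq_of_comap_ι_eq
  have : IsAffine ↑(U x).1 := (U x).2
  have : IsAffine ↑(V x).1 := (V x).2
  have hfac : (U x).1.ι ≫ f = f.resLE (V x).1 (U x).1 (hUV x) ≫ (V x).1.ι :=
    (Scheme.Hom.resLE_comp_ι f (hUV x)).symm
  rw [comap_mul_of_isOpenImmersion (U x).1.ι (K.comap f) (L.comap f),
    ← Scheme.IdealSheafData.comap_comp,
    ← Scheme.IdealSheafData.comap_comp, ← Scheme.IdealSheafData.comap_comp, hfac,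
    Scheme.IdealSheafData.comap_comp, Scheme.IdealSheafData.comap_comp,
    Scheme.IdealSheafData.comap_comp, comap_mul_of_isOpenImmersion (V x).1.ι K L]
  exact comap_mul_of_isAffine _ _ _

/-- Inverse image of ideal sheaves commutes with powers. -/
theorem comap_pow {X Y : Scheme.{u}} (f : X ⟶ Y) (K : Y.IdealSheafData) (n : ℕ) :
    (K ^ n).comap f = (K.comap f) ^ n := by
  induction n with
  | zero =>
    rw [pow_zero, pow_zero]
    exact Scheme.IdealSheafData.comap_top f
  | succ n ih => rw [pow_succ, pow_succ, comap_mul, ih]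

end Groth.Agent.H93.IdealComap
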