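import Groth.Agent.H93.ThickHom
import Groth.Agent.H93.IdealComap
import Mathlib.AlgebraicGeometry.Morphisms.Finite
import Mathlib.AlgebraicGeometry.Morphisms.FiniteType
import Mathlib.RingTheory.Ideal.Maps
import Mathlib.RingTheory.FiniteType

/-!
# Cartesian squares over a nilpotent thickening: lifting finiteness properties

If `j : X₀ ⟶ X` is a closed immersion with locally nilpotent kernel and `F₀` is the base change of
`F : Y ⟶ X` along `j`, then `F` is locally of finite type / finite / a closed immersion as soon as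
`F₀` is.
-/

set_option autoImplicit false
universe u

namespace Groth.Agent.H93.NilPull

open AlgebraicGeometry CategoryTheory CategoryTheory.Limits TopologicalSpace Opposite

section algebra

theorem eq_top_of_sup_smul_top {A M : Type*} [CommRing A] [AddCommGroup M] [Module A M]
    (J : Ideal A) (m : ℕ) (hJ : J ^ m = ⊥) (N : Submodule A M)
    (h : N ⊔ J • (⊤ : Submodule A M) = ⊤) : N = ⊤ := by
  have key : ∀ k : ℕ, N ⊔ (J ^ k) • (⊤ : Submodule A M) = ⊤ := by
    intro k
    induction k with
    | zero => rw [pow_zero, Ideal.one_eq_top, Submodule.top_smul, sup_top_eq]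
    | succ k ih =>
      have h2 : J • (⊤ : Submodule A M) ≤ N ⊔ (J ^ (k + 1)) • (⊤ : Submodule A M) := by
        calc J • (⊤ : Submodule A M) = J • (N ⊔ (J ^ k) • (⊤ : Submodule A M)) := by rw [ih]
          _ = J • N ⊔ J • (J ^ k) • (⊤ : Submodule A M) := Submodule.smul_sup _ _ _
          _ ≤ N ⊔ (J ^ (k + 1)) • (⊤ : Submodule A M) := by
              apply sup_le_sup Submodule.smul_le_right
              rw [← Submodule.mul_smul, ← pow_succ']
      exact eq_top_iff.mpr (h.symm.le.trans (sup_le le_sup_left h2))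
  have := key m
  rwa [hJ, Submodule.bot_smul, sup_bot_eq] at this

theorem submodule_eq_top {A B B₀ : Type*} [CommRing A] [CommRing B] [CommRing B₀] [Algebra A B]
    [Algebra A B₀] (β : B →ₐ[A] B₀) (J : Ideal A) (hJ : IsNilpotent J)
    (hker : RingHom.ker β.toRingHom = J.map (algebraMap A B))
    (N : Submodule A B) (hN : N.map β.toLinearMap = ⊤) : N = ⊤ := by
  obtain ⟨m, hm⟩ := hJ
  apply eq_top_of_sup_smul_top J m hm
  rw [Ideal.smul_top_eq_map, ← hker]
  have h1 : N ⊔ LinearMap.ker β.toLinearMap = ⊤ := by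
    rw [← Submodule.comap_map_eq, hN, Submodule.comap_top]
  rw [eq_top_iff, ← h1]
  apply sup_le_sup_left
  intro x hx
  exact hx

variable {A B A₀ B₀ : Type u} [CommRing A] [CommRing B] [CommRing A₀] [CommRing B₀]
  (φ : A →+* B) (α : A →+* A₀) (β : B →+* B₀) (ψ : A₀ →+* B₀)

theorem ring_surj (hcomm : β.comp φ = ψ.comp α)
    (hker : RingHom.ker β = (RingHom.ker α).map φ) (hnil : IsNilpotent (RingHom.ker α))
    (hα : Function.Surjective α) (hψ : Function.Surjective ψ) : Function.Surjective φ := by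
  letI := φ.toAlgebra
  letI : Algebra A B₀ := (β.comp φ).toAlgebra
  let β' : B →ₐ[A] B₀ := ⟨β, fun a => rfl⟩
  have hN : (LinearMap.range (Algebra.linearMap A B)).map β'.toLinearMap = ⊤ := by
    rw [eq_top_iff]
    intro y _
    obtain ⟨a₀, rfl⟩ := hψ y
    obtain ⟨a, rfl⟩ := hα a₀
    refine ⟨φ a, ⟨a, rfl⟩, ?_⟩
    exact congrArg (fun f : A →+* B₀ => f a) hcomm
  have := submodule_eq_top β' (RingHom.ker α) hnil hker _ hN
  intro b
  have hb : b ∈ LinearMap.range (Algebra.linearMap A B) := by rw [this]; trivial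
  obtain ⟨a, ha⟩ := hb
  exact ⟨a, ha⟩

theorem ring_ft (hcomm : β.comp φ = ψ.comp α)
    (hker : RingHom.ker β = (RingHom.ker α).map φ) (hnil : IsNilpotent (RingHom.ker α))
    (hα : Function.Surjective α) (hβ : Function.Surjective β) (hψ : ψ.FiniteType) :
    φ.FiniteType := by
  classical
  letI := φ.toAlgebra
  letI : Algebra A B₀ := (β.comp φ).toAlgebra
  let β' : B →ₐ[A] B₀ := ⟨β, fun a => rfl⟩
  have hft : Algebra.FiniteType A B₀ := by
    have h := hψ.comp (RingHom.FiniteType.of_surjective α hα)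
    rw [← hcomm] at h
    exact h
  obtain ⟨s, hs⟩ := hft.out
  choose g hg using hβ
  have hN : (Subalgebra.toSubmodule (Algebra.adjoin A (g '' (s : Set B₀)))).map β'.toLinearMap
      = ⊤ := by
    have h1 : (Algebra.adjoin A (g '' (s : Set B₀))).map β' = ⊤ := by
      rw [AlgHom.map_adjoin, Set.image_image]
      have : (fun x => β' (g x)) '' (s : Set B₀) = s := by
        ext y
        simp only [Set.mem_image]
        constructor
        · rintro ⟨x, hx, rfl⟩
          have : β' (g x) = x := hg x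
          rwa [this]
        · intro hy
          exact ⟨y, hy, hg y⟩
      rw [this, hs]
    rw [← Subalgebra.map_toSubmodule, h1]
    rfl
  have := submodule_eq_top β' (RingHom.ker α) hnil hker _ hN
  refine ⟨⟨s.image g, ?_⟩⟩
  rw [Finset.coe_image]
  exact Subalgebra.toSubmodule_injective (by rw [this]; rfl)

end algebra

section cat

variable {C : Type*} [Category C] [HasPullbacks C]

theorem cube {X X₀ Y Y₀ U : C} {i' : Y₀ ⟶ Y} {F₀ : Y₀ ⟶ X₀} {F : Y ⟶ X} {j : X₀ ⟶ X}
    (hc : IsPullback i' F₀ F j) (g : U ⟶ X) :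
    ∃ (c : pullback (i' ≫ F) g ⟶ pullback F g) (a : pullback (i' ≫ F) g ⟶ pullback j g),
      IsPullback c a (pullback.snd F g) (pullback.snd j g) ∧
      IsPullback (pullback.fst (i' ≫ F) g) a F₀ (pullback.fst j g) := by
  have w1 : (pullback.fst (i' ≫ F) g ≫ i') ≫ F = pullback.snd (i' ≫ F) g ≫ g := by
    rw [Category.assoc]; exact pullback.condition
  have w2 : (pullback.fst (i' ≫ F) g ≫ F₀) ≫ j = pullback.snd (i' ≫ F) g ≫ g := by
    rw [Category.assoc, ← hc.w]; exact pullback.condition
  obtain ⟨c, hc1, hc2⟩ : ∃ c : pullback (i' ≫ F) g ⟶ pullback F g,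
      c ≫ pullback.fst F g = pullback.fst (i' ≫ F) g ≫ i' ∧
      c ≫ pullback.snd F g = pullback.snd (i' ≫ F) g :=
    ⟨pullback.lift _ _ w1, pullback.lift_fst _ _ _, pullback.lift_snd _ _ _⟩
  obtain ⟨a, ha1, ha2⟩ : ∃ a : pullback (i' ≫ F) g ⟶ pullback j g,
      a ≫ pullback.fst j g = pullback.fst (i' ≫ F) g ≫ F₀ ∧
      a ≫ pullback.snd j g = pullback.snd (i' ≫ F) g :=
    ⟨pullback.lift _ _ w2, pullback.lift_fst _ _ _, pullback.lift_snd _ _ _⟩
  refine ⟨c, a, ?_, ?_⟩
  · have s' : IsPullback (c ≫ pullback.snd F g) (pullback.fst (i' ≫ F) g) g (i' ≫ F) := by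
      rw [hc2]; exact (IsPullback.of_hasPullback (i' ≫ F) g).flip
    have L : IsPullback (pullback.fst (i' ≫ F) g) c i' (pullback.fst F g) :=
      (IsPullback.of_right s' hc1 (IsPullback.of_hasPullback F g).flip).flip
    have s : IsPullback (a ≫ pullback.fst j g) c j (pullback.snd F g ≫ g) := by
      rw [ha1, ← pullback.condition]
      exact L.paste_horiz hc.flip
    exact (IsPullback.of_right s (ha2.trans hc2.symm) (IsPullback.of_hasPullback j g)).flip
  · have s : IsPullback (pullback.fst (i' ≫ F) g) (a ≫ pullback.snd j g) (F₀ ≫ j) g := by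
      rw [ha2, ← hc.w]; exact IsPullback.of_hasPullback (i' ≫ F) g
    exact IsPullback.of_bot s ha1.symm (IsPullback.of_hasPullback j g)

end cat

section scheme

theorem ker_eq_comap_of_isPullback {P X' Z S' : Scheme.{u}} {a : P ⟶ X'} {b : P ⟶ Z}
    {c : X' ⟶ S'} {d : Z ⟶ S'} (hP : IsPullback a b c d) [IsClosedImmersion d] :
    a.ker = d.ker.comap c := by
  have e : a = hP.isoPullback.hom ≫ pullback.fst c d := hP.isoPullback_hom_fst.symm
  rw [e, Scheme.Hom.ker_comp_of_isIso, Scheme.IdealSheafData.ker_fst_of_isClosedImmersion]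

theorem nil_comap_iso {R S : CommRingCat.{u}} (e : R ≅ S) (I : Ideal R) (h : IsNilpotent I) :
    IsNilpotent (I.comap e.inv.hom) := by
  obtain ⟨m, hm⟩ := h
  refine ⟨m, ?_⟩
  rw [Ideal.zero_eq_bot] at hm ⊢
  rw [eq_bot_iff]
  refine (Ideal.le_comap_pow _ _).trans ?_
  rw [hm]
  intro x hx
  have h0 : e.inv.hom x = 0 := hx
  have h1 : x = e.hom.hom (e.inv.hom x) := by
    rw [← CommRingCat.comp_apply, Iso.inv_hom_id]
    rfl
  rw [Ideal.mem_bot, h1, h0, map_zero]

variable {X X₀ Y Y₀ : Scheme.{u}} {i' : Y₀ ⟶ Y} {F₀ : Y₀ ⟶ X₀} {F : Y ⟶ X} {j : X₀ ⟶ X}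

theorem nil_snd {U : Scheme.{u}} (j : X₀ ⟶ X) [IsClosedImmersion j] (g : U ⟶ X)
    [IsOpenImmersion g] [IsAffine U]
    (hnil : ∀ W : X.affineOpens, IsNilpotent (j.ker.ideal W)) :
    IsNilpotent (RingHom.ker (pullback.snd j g).appTop.hom) := by
  rw [← IdealComap.ideal_top_ker, ker_eq_comap_of_isPullback (IsPullback.of_hasPullback j g).flip,
    Scheme.IdealSheafData.ideal_comap_of_isOpenImmersion]
  exact nil_comap_iso _ _ (hnil _)

theorem affine_ker (hc : IsPullback i' F₀ F j) [IsClosedImmersion j] [IsAffine X] [IsAffine Y] :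
    RingHom.ker i'.appTop.hom = (RingHom.ker j.appTop.hom).map F.appTop.hom := by
  rw [← IdealComap.ideal_top_ker i', ← IdealComap.ideal_top_ker j,
    ker_eq_comap_of_isPullback hc, IdealComap.ideal_top_comap]

theorem comm_appTop (hc : IsPullback i' F₀ F j) :
    i'.appTop.hom.comp F.appTop.hom = F₀.appTop.hom.comp j.appTop.hom := by
  have := congrArg (fun h => h.appTop.hom) hc.w
  simpa [Scheme.Hom.comp_appTop] using this

theorem closedImm_top (hc : IsPullback i' F₀ F j) [IsClosedImmersion j] : IsClosedImmersion i' :=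
  MorphismProperty.of_isPullback (P := @IsClosedImmersion) hc.flip inferInstance

theorem surj_top (hc : IsPullback i' F₀ F j) (hs : Function.Surjective j.base) :
    Function.Surjective i'.base := by
  have : Surjective j := ⟨hs⟩
  exact (MorphismProperty.of_isPullback (P := @Surjective) hc.flip this).surj

theorem lft_aff (hc : IsPullback i' F₀ F j) [IsClosedImmersion j] [IsAffine X]
    (hnil : IsNilpotent (RingHom.ker j.appTop.hom)) [LocallyOfFiniteType F₀] :
    LocallyOfFiniteType F := by
  have hi' : IsClosedImmersion i' := closedImm_top hc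
  rw [IsZariskiLocalAtSource.iff_of_openCover (P := @LocallyOfFiniteType) Y.affineCover]
  intro k
  have hc' : IsPullback (pullback.snd i' (Y.affineCover.f k))
      (pullback.fst i' (Y.affineCover.f k) ≫ F₀) (Y.affineCover.f k ≫ F) j :=
    ((IsPullback.of_hasPullback i' (Y.affineCover.f k)).paste_horiz hc.flip).flip
  have hX₀ : IsAffine X₀ := isAffine_of_isAffineHom j
  have hV₀ : IsAffine (pullback i' (Y.affineCover.f k)) :=
    isAffine_of_isAffineHom (pullback.snd i' (Y.affineCover.f k))
  have hF₀' : LocallyOfFiniteType (pullback.fst i' (Y.affineCover.f k) ≫ F₀) := inferInstance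
  rw [HasRingHomProperty.iff_of_isAffine (P := @LocallyOfFiniteType)] at hF₀' ⊢
  exact ring_ft _ _ _ _ (comm_appTop hc') (affine_ker hc') hnil
    (IsClosedImmersion.isAffine_surjective_of_isAffine (f := j)).2
    (IsClosedImmersion.isAffine_surjective_of_isAffine
      (f := pullback.snd i' (Y.affineCover.f k))).2 hF₀'

theorem finite_aff (hc : IsPullback i' F₀ F j) [IsClosedImmersion j] [IsAffine X]
    (hs : Function.Surjective j.base)
    (hnil : IsNilpotent (RingHom.ker j.appTop.hom)) [IsFinite F₀] : IsFinite F := by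
  have hi' : IsClosedImmersion i' := closedImm_top hc
  rw [IsFinite.iff_isIntegralHom_and_locallyOfFiniteType]
  exact ⟨(ThickHom.integralHom_iff i' j F₀ F (surj_top hc hs) hc.w).mp inferInstance,
    lft_aff hc hnil⟩

theorem closedImm_aff (hc : IsPullback i' F₀ F j) [IsClosedImmersion j] [IsAffine X]
    (hs : Function.Surjective j.base)
    (hnil : IsNilpotent (RingHom.ker j.appTop.hom)) [IsClosedImmersion F₀] :
    IsClosedImmersion F := by
  have hi' : IsClosedImmersion i' := closedImm_top hc
  have hfin : IsFinite F := finite_aff hc hs hnil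
  have hY : IsAffine Y := isAffine_of_isAffineHom F
  have hX₀ : IsAffine X₀ := isAffine_of_isAffineHom j
  have hY₀ : IsAffine Y₀ := isAffine_of_isAffineHom i'
  apply IsClosedImmersion.of_surjective_of_isAffine
  exact ring_surj _ _ _ _ (comm_appTop hc) (affine_ker hc) hnil
    (IsClosedImmersion.isAffine_surjective_of_isAffine (f := j)).2
    (IsClosedImmersion.isAffine_surjective_of_isAffine (f := F₀)).2

/-- Globalization over an affine cover of the base. -/
theorem globalize (P : MorphismProperty Scheme.{u}) [IsZariskiLocalAtTarget P]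
    [P.IsStableUnderBaseChange]
    (H : ∀ {X X₀ Y Y₀ : Scheme.{u}} {i' : Y₀ ⟶ Y} {F₀ : Y₀ ⟶ X₀} {F : Y ⟶ X} {j : X₀ ⟶ X}
      (_ : IsPullback i' F₀ F j) [IsClosedImmersion j] [IsAffine X]
      (_ : Function.Surjective j.base) (_ : IsNilpotent (RingHom.ker j.appTop.hom)),
      P F₀ → P F)
    (hc : IsPullback i' F₀ F j) [IsClosedImmersion j] (hs : Function.Surjective j.base)
    (hnil : ∀ W : X.affineOpens, IsNilpotent (j.ker.ideal W)) (hF₀ : P F₀) : P F := by
  rw [IsZariskiLocalAtTarget.iff_of_openCover (P := P) X.affineCover]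
  intro k
  obtain ⟨c, a, h1, h2⟩ := cube hc (X.affineCover.f k)
  have ha : P a := MorphismProperty.of_isPullback (P := P) h2 hF₀
  have hs' : Function.Surjective (pullback.snd j (X.affineCover.f k)).base := by
    have : Surjective j := ⟨hs⟩
    exact (inferInstance : Surjective (pullback.snd j (X.affineCover.f k))).surj
  exact H h1 hs' (nil_snd j (X.affineCover.f k) hnil) ha

theorem lft_of_nil (hc : IsPullback i' F₀ F j) [IsClosedImmersion j]
    (hs : Function.Surjective j.base)
    (hnil : ∀ W : X.affineOpens, IsNilpotent (j.ker.ideal W)) [LocallyOfFiniteType F₀] :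
    LocallyOfFiniteType F :=
  globalize @LocallyOfFiniteType (by
    intro X X₀ Y Y₀ i' F₀ F j hc _ _ hs hn h
    exact lft_aff hc hn) hc hs hnil inferInstance

theorem finite_of_nil (hc : IsPullback i' F₀ F j) [IsClosedImmersion j]
    (hs : Function.Surjective j.base)
    (hnil : ∀ W : X.affineOpens, IsNilpotent (j.ker.ideal W)) [IsFinite F₀] : IsFinite F :=
  globalize @IsFinite (by
    intro X X₀ Y Y₀ i' F₀ F j hc _ _ hs hn h
    exact finite_aff hc hs hn) hc hs hnil inferInstance

theorem closedImm_of_nil (hc : IsPullback i' F₀ F j) [IsClosedImmersion j]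
    (hs : Function.Surjective j.base)
    (hnil : ∀ W : X.affineOpens, IsNilpotent (j.ker.ideal W)) [IsClosedImmersion F₀] :
    IsClosedImmersion F :=
  globalize @IsClosedImmersion (by
    intro X X₀ Y Y₀ i' F₀ F j hc _ _ hs hn h
    exact closedImm_aff hc hs hn) hc hs hnil inferInstance

theorem nil_of_pow_eq_bot (j : X₀ ⟶ X) (m : ℕ) (h : j.ker ^ m = ⊥) (W : X.affineOpens) :
    IsNilpotent (j.ker.ideal W) := by
  refine ⟨m, ?_⟩
  have := congrArg (fun I : X.IdealSheafData => I.ideal W) h
  simpa [Scheme.IdealSheafData.ideal_pow] using this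

end scheme

end Groth.Agent.H93.NilPull
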