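import Mathlib.AlgebraicGeometry.Morphisms.ClosedImmersion
import Mathlib.AlgebraicGeometry.Morphisms.QuasiCompact
import Mathlib.AlgebraicGeometry.Morphisms.Affine
import Mathlib.Topology.Sheaves.CommRingCat
import Mathlib.RingTheory.Nilpotent.Lemmas
import Mathlib.RingTheory.Localization.Away.Basic
import Mathlib.Algebra.Polynomial.AlgebraMap

/-!
# A scheme receiving a surjective closed immersion from an affine scheme is affine

Elementary proof (no cohomology, no limits): a two-open patching lemma lifting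
`u ^ j * v ^ i` (`u + v = 1`) for `j` large, then an ideal argument.
-/

set_option autoImplicit false
universe u

namespace Groth.Agent.H93.ThickAff

open AlgebraicGeometry CategoryTheory CategoryTheory.Limits TopologicalSpace Opposite

section algebra

open Polynomial in
theorem ring_half {R S : Type*} [CommRing R] [CommRing S] [Algebra R S] (I : Ideal R)
    (hI : ∀ x ∈ I, IsNilpotent x) (s t : R) (hs : IsUnit (algebraMap R S s)) (ν : S) (w : R)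
    (hw : w ∈ I) (m : ℕ) (h : algebraMap R S s ^ m * ν = algebraMap R S w) :
    ∃ N : ℕ, ∀ j, N ≤ j → ∀ i : ℕ, ∃ z ∈ I,
      (algebraMap R S s + ν) ^ j * (algebraMap R S t - ν) ^ i =
        algebraMap R S (s ^ j * t ^ i + z) := by
  obtain ⟨M, hM⟩ := hI w hw
  obtain ⟨ν', rfl⟩ : ∃ ν', ν = algebraMap R S s * ν' := by
    obtain ⟨σ, hσ⟩ := hs
    exact ⟨↑σ⁻¹ * ν, by rw [← hσ, ← mul_assoc, Units.mul_inv, one_mul]⟩
  have h1 : algebraMap R S s ^ (m + 1) * ν' = algebraMap R S w := by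
    rw [pow_succ, mul_assoc]; exact h
  have h2 : ∀ a, algebraMap R S s ^ ((m + 1) * a) * ν' ^ a = algebraMap R S (w ^ a) := by
    intro a; rw [pow_mul, ← mul_pow, h1, map_pow]
  have hν'M : ν' ^ M = 0 := by
    have := h2 M
    rw [hM, map_zero] at this
    exact (IsUnit.mul_right_eq_zero (hs.pow _)).mp this
  set K := (m + 1) * M with hK
  have h3 : ∀ a, 1 ≤ a → ∃ z ∈ I, algebraMap R S s ^ K * ν' ^ a = algebraMap R S z := by
    intro a ha
    by_cases haM : a < M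
    · have hle : (m + 1) * a ≤ K := Nat.mul_le_mul_left _ haM.le
      refine ⟨s ^ (K - (m + 1) * a) * w ^ a, I.mul_mem_left _ (I.pow_mem_of_mem hw a ha), ?_⟩
      rw [map_mul, ← h2 a, map_pow, ← mul_assoc, ← pow_add, Nat.sub_add_cancel hle]
    · refine ⟨0, I.zero_mem, ?_⟩
      rw [pow_eq_zero_of_le (not_lt.mp haM) hν'M, mul_zero, map_zero]
  have h4 : ∀ p : R[X], ∃ z ∈ I,
      algebraMap R S s ^ K * aeval ν' p = algebraMap R S (s ^ K * p.coeff 0 + z) := by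
    intro p
    induction p using Polynomial.induction_on' with
    | add p q hp hq =>
      obtain ⟨z1, hz1, e1⟩ := hp
      obtain ⟨z2, hz2, e2⟩ := hq
      refine ⟨z1 + z2, I.add_mem hz1 hz2, ?_⟩
      rw [map_add, mul_add, e1, e2, coeff_add, ← map_add]
      congr 1; ring
    | monomial n r =>
      rcases Nat.eq_zero_or_pos n with rfl | hn
      · refine ⟨0, I.zero_mem, ?_⟩
        rw [aeval_monomial, pow_zero, mul_one, coeff_monomial, if_pos rfl, add_zero, map_mul,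
          map_pow]
      · obtain ⟨z, hz, e⟩ := h3 n hn
        refine ⟨r * z, I.mul_mem_left _ hz, ?_⟩
        rw [aeval_monomial, coeff_monomial, if_neg hn.ne', mul_zero, zero_add, map_mul, ← e]
        ring
  refine ⟨K, fun j hj i => ?_⟩
  obtain ⟨z, hz, e⟩ := h4 ((1 + X) ^ j * (C t - C s * X) ^ i)
  have hP0 : ((1 + X) ^ j * (C t - C s * X) ^ i : R[X]).coeff 0 = t ^ i := by
    simp [coeff_zero_eq_eval_zero]
  have hPa : aeval ν' ((1 + X) ^ j * (C t - C s * X) ^ i : R[X]) =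
      (1 + ν') ^ j * (algebraMap R S t - algebraMap R S s * ν') ^ i := by
    simp
  refine ⟨s ^ (j - K) * z, I.mul_mem_left _ hz, ?_⟩
  rw [hP0, hPa] at e
  have e2 : algebraMap R S (s ^ j * t ^ i + s ^ (j - K) * z) =
      algebraMap R S s ^ (j - K) * algebraMap R S (s ^ K * t ^ i + z) := by
    rw [← map_pow, ← map_mul]
    congr 1
    rw [mul_add, ← mul_assoc, ← pow_add, Nat.sub_add_cancel hj]
  rw [e2, ← e, ← mul_assoc, ← pow_add, Nat.sub_add_cancel hj]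
  have e3 : algebraMap R S s + algebraMap R S s * ν' = algebraMap R S s * (1 + ν') := by ring
  rw [e3, mul_pow, mul_assoc]

end algebra

section scheme

theorem op_inj {Z X : Scheme.{u}} (t : Z ⟶ X) (ht : Function.Surjective t.base)
    {A B : X.Opens} (h : t ⁻¹ᵁ A ≤ t ⁻¹ᵁ B) : A ≤ B := by
  intro x hx
  obtain ⟨z, rfl⟩ := ht x
  exact h hx

theorem op_inj' {Z X : Scheme.{u}} (t : Z ⟶ X) (ht : Function.Surjective t.base)
    {A B : X.Opens} (h : t ⁻¹ᵁ A = t ⁻¹ᵁ B) : A = B :=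
  le_antisymm (op_inj t ht h.le) (op_inj t ht h.ge)

theorem app_res {Z X : Scheme.{u}} (t : Z ⟶ X) {A B : X.Opens} (i : A ≤ B) (x : Γ(X, B)) :
    t.app A (X.presheaf.map (homOfLE i).op x) =
      Z.presheaf.map (homOfLE (t.preimage_mono i)).op (t.app B x) :=
  ConcreteCategory.congr_hom (t.naturality (homOfLE i).op) x

theorem res_res (X : Scheme.{u}) {A B C : X.Opens} (i : A ≤ B) (j : B ≤ C) (x : Γ(X, C)) :
    X.presheaf.map (homOfLE i).op (X.presheaf.map (homOfLE j).op x) =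
      X.presheaf.map (homOfLE (i.trans j)).op x := by
  rw [← CommRingCat.comp_apply, ← Functor.map_comp]
  rfl

theorem nil_of_app {Z X : Scheme.{u}} (t : Z ⟶ X) (ht : Function.Surjective t.base)
    {W : X.Opens} (hW : IsCompact (W : Set X)) (b : Γ(X, W)) (hb : t.app W b = 0) :
    IsNilpotent b := by
  rw [Scheme.isNilpotent_iff_basicOpen_eq_bot_of_isCompact hW]
  apply op_inj' t ht
  rw [Scheme.preimage_basicOpen, hb, Scheme.basicOpen_zero]
  rfl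

theorem glue₂ (X : Scheme.{u}) (W₁ W₂ D : X.Opens) (hD₁ : D ≤ W₁) (hD₂ : D ≤ W₂)
    (hD : W₁ ⊓ W₂ ≤ D) (a : Γ(X, W₁)) (b : Γ(X, W₂))
    (h : X.presheaf.map (homOfLE hD₁).op a = X.presheaf.map (homOfLE hD₂).op b) :
    ∃ g : Γ(X, W₁ ⊔ W₂),
      X.presheaf.map (homOfLE (le_sup_left : W₁ ≤ W₁ ⊔ W₂)).op g = a ∧
      X.presheaf.map (homOfLE (le_sup_right : W₂ ≤ W₁ ⊔ W₂)).op g = b := by
  have h' : X.presheaf.map (homOfLE (inf_le_left : W₁ ⊓ W₂ ≤ W₁)).op a =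
      X.presheaf.map (homOfLE (inf_le_right : W₁ ⊓ W₂ ≤ W₂)).op b := by
    have := congrArg (X.presheaf.map (homOfLE hD).op) h
    rwa [res_res, res_res] at this
  let x : RingHom.eqLocus
      (RingHom.comp (X.sheaf.obj.map (homOfLE inf_le_left : W₁ ⊓ W₂ ⟶ W₁).op).hom
        (RingHom.fst (X.sheaf.obj.obj <| op W₁) (X.sheaf.obj.obj <| op W₂)))
      (RingHom.comp (X.sheaf.obj.map (homOfLE inf_le_right : W₁ ⊓ W₂ ⟶ W₂).op).hom
        (RingHom.snd (X.sheaf.obj.obj <| op W₁) (X.sheaf.obj.obj <| op W₂))) := ⟨(a, b), h'⟩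
  exact ⟨(X.sheaf.objSupIsoProdEqLocus W₁ W₂).inv x,
    X.sheaf.objSupIsoProdEqLocus_inv_fst W₁ W₂ x, X.sheaf.objSupIsoProdEqLocus_inv_snd W₁ W₂ x⟩

set_option maxHeartbeats 1600000 in
theorem half {Z X : Scheme.{u}} (t : Z ⟶ X) [IsClosedImmersion t]
    (ht : Function.Surjective t.base)
    (Ω W₁ W₂ : X.Opens) (hle₁ : W₁ ≤ Ω) (hle₂ : W₂ ≤ Ω) (hcov : Ω ≤ W₁ ⊔ W₂)
    (a₁ : IsAffineOpen W₁) (a₂ : IsAffineOpen W₂)
    (u v : Γ(Z, t ⁻¹ᵁ Ω)) (huv : u + v = 1)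
    (h₁ : t ⁻¹ᵁ W₁ = Z.basicOpen u) (h₂ : t ⁻¹ᵁ W₂ = Z.basicOpen v) :
    ∃ N : ℕ, ∀ j, N ≤ j → ∀ i : ℕ, ∃ g : Γ(X, Ω), t.app Ω g = u ^ j * v ^ i := by
  obtain rfl : v = 1 - u := eq_sub_of_add_eq' huv
  obtain ⟨U₁, hU₁⟩ := t.app_surjective W₁ a₁
    (Z.presheaf.map (homOfLE (t.preimage_mono hle₁)).op u)
  obtain ⟨U₂, hU₂⟩ := t.app_surjective W₂ a₂
    (Z.presheaf.map (homOfLE (t.preimage_mono hle₂)).op u)
  have hD : X.basicOpen U₂ = W₁ ⊓ W₂ := by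
    apply op_inj' t ht
    rw [Scheme.preimage_basicOpen, hU₂, Scheme.basicOpen_res, Scheme.Hom.preimage_inf, h₁,
      inf_comm]
  have hD₁ : X.basicOpen U₂ ≤ W₁ := hD.le.trans inf_le_left
  have hD₂ : X.basicOpen U₂ ≤ W₂ := X.basicOpen_le U₂
  have hloc := a₂.isLocalization_basicOpen U₂
  obtain ⟨n, b, hb⟩ := IsLocalization.Away.surj U₂
    (X.presheaf.map (homOfLE hD₁).op U₁ - algebraMap Γ(X, W₂) Γ(X, X.basicOpen U₂) U₂)
  have halg : ∀ y : Γ(X, W₂), algebraMap Γ(X, W₂) Γ(X, X.basicOpen U₂) y =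
      X.presheaf.map (homOfLE hD₂).op y := fun y => rfl
  have hν0 : t.app (X.basicOpen U₂) (X.presheaf.map (homOfLE hD₁).op U₁ -
      algebraMap Γ(X, W₂) Γ(X, X.basicOpen U₂) U₂) = 0 := by
    rw [map_sub, halg, app_res, app_res, hU₁, hU₂, res_res, res_res]
    exact sub_self _
  have key : Z.presheaf.map (homOfLE (t.preimage_mono hD₂)).op (t.app W₂ b) = 0 := by
    rw [← app_res t hD₂, ← halg, ← hb, map_mul, hν0, zero_mul]
  have e : Z.basicOpen (t.app W₂ U₂) = t ⁻¹ᵁ X.basicOpen U₂ :=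
    (Scheme.preimage_basicOpen t U₂).symm
  have H : Z.presheaf.map (homOfLE (Z.basicOpen_le (t.app W₂ U₂))).op (t.app W₂ b) = 0 := by
    have := congrArg (Z.presheaf.map (homOfLE e.le).op) key
    rwa [res_res, map_zero] at this
  obtain ⟨r, hr⟩ := exists_pow_mul_eq_zero_of_res_basicOpen_eq_zero_of_isAffineOpen Z
    (a₂.preimage t) (t.app W₂ b) (t.app W₂ U₂) H
  have hw : U₂ ^ r * b ∈ RingHom.ker (t.app W₂).hom := by
    rw [RingHom.mem_ker]
    change t.app W₂ (U₂ ^ r * b) = 0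
    rw [map_mul, map_pow]
    exact hr
  have hm : algebraMap Γ(X, W₂) Γ(X, X.basicOpen U₂) U₂ ^ (n + r) *
      (X.presheaf.map (homOfLE hD₁).op U₁ - algebraMap Γ(X, W₂) Γ(X, X.basicOpen U₂) U₂) =
      algebraMap Γ(X, W₂) Γ(X, X.basicOpen U₂) (U₂ ^ r * b) := by
    rw [map_mul, map_pow, ← hb]
    ring
  obtain ⟨N, hN⟩ := ring_half (R := Γ(X, W₂)) (S := Γ(X, X.basicOpen U₂))
    (RingHom.ker (t.app W₂).hom)
    (fun x hx => nil_of_app t ht a₂.isCompact x (RingHom.mem_ker.mp hx))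
    U₂ (1 - U₂) (IsLocalization.Away.algebraMap_isUnit U₂) _ _ hw (n + r) hm
  refine ⟨N, fun j hj i => ?_⟩
  obtain ⟨z, hz, e'⟩ := hN j hj i
  rw [add_sub_cancel, map_sub, map_one, sub_sub_sub_cancel_right] at e'
  obtain ⟨g', hg₁, hg₂⟩ := glue₂ X W₁ W₂ (X.basicOpen U₂) hD₁ hD₂ hD.ge
    (U₁ ^ j * (1 - U₁) ^ i) (U₂ ^ j * (1 - U₂) ^ i + z)
    (by rw [map_mul, map_pow, map_pow, map_sub, map_one, e', halg])
  have hz0 : t.app W₂ z = 0 := RingHom.mem_ker.mp hz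
  refine ⟨X.presheaf.map (homOfLE hcov).op g', ?_⟩
  refine Z.sheaf.eq_of_locally_eq₂ (homOfLE (t.preimage_mono hle₁))
    (homOfLE (t.preimage_mono hle₂)) (t.preimage_mono hcov) _ _ ?_ ?_
  · show Z.presheaf.map (homOfLE (t.preimage_mono hle₁)).op
        (t.app Ω (X.presheaf.map (homOfLE hcov).op g')) =
      Z.presheaf.map (homOfLE (t.preimage_mono hle₁)).op (u ^ j * (1 - u) ^ i)
    rw [← app_res t hle₁, res_res, hg₁, map_mul, map_pow, map_pow, map_sub, map_one, hU₁, map_mul,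
      map_pow, map_pow, map_sub, map_one]
  · show Z.presheaf.map (homOfLE (t.preimage_mono hle₂)).op
        (t.app Ω (X.presheaf.map (homOfLE hcov).op g')) =
      Z.presheaf.map (homOfLE (t.preimage_mono hle₂)).op (u ^ j * (1 - u) ^ i)
    rw [← app_res t hle₂, res_res, hg₂, map_add, hz0, add_zero, map_mul, map_pow, map_pow, map_sub,
      map_one, hU₂, map_mul, map_pow, map_pow, map_sub, map_one]

set_option maxHeartbeats 1600000 in
theorem affine_sup {Z X : Scheme.{u}} (t : Z ⟶ X) [IsClosedImmersion t]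
    (ht : Function.Surjective t.base)
    (Ω W₁ W₂ : X.Opens) (hle₁ : W₁ ≤ Ω) (hle₂ : W₂ ≤ Ω) (hcov : Ω ≤ W₁ ⊔ W₂)
    (a₁ : IsAffineOpen W₁) (a₂ : IsAffineOpen W₂)
    (u v : Γ(Z, t ⁻¹ᵁ Ω)) (huv : u + v = 1)
    (h₁ : t ⁻¹ᵁ W₁ = Z.basicOpen u) (h₂ : t ⁻¹ᵁ W₂ = Z.basicOpen v) : IsAffineOpen Ω := by
  obtain ⟨N₁, hN₁⟩ := half t ht Ω W₁ W₂ hle₁ hle₂ hcov a₁ a₂ u v huv h₁ h₂
  obtain ⟨N₂, hN₂⟩ := half t ht Ω W₂ W₁ hle₂ hle₁ (by rwa [sup_comm]) a₂ a₁ v u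
    (by rwa [add_comm]) h₂ h₁
  obtain ⟨N, hN⟩ : ∃ N : ℕ, N = N₁ + N₂ + 1 := ⟨_, rfl⟩
  have hΩc : IsCompact (Ω : Set X) := by
    have hΩ : Ω = W₁ ⊔ W₂ := le_antisymm hcov (sup_le hle₁ hle₂)
    rw [hΩ, Opens.coe_sup]
    exact a₁.isCompact.union a₂.isCompact
  apply isAffineOpen_of_isAffineOpen_basicOpen Ω
    {g | ∃ j i, j + i = 2 * N ∧ t.app Ω g = u ^ j * v ^ i}
  · have hex : ∀ j ∈ Finset.range (2 * N + 1),
        ∃ g : Γ(X, Ω), t.app Ω g = u ^ j * v ^ (2 * N - j) := by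
      intro j hj
      rcases le_or_gt N j with hjN | hjN
      · exact hN₁ j (by omega) _
      · obtain ⟨g, hg⟩ := hN₂ (2 * N - j) (by omega) j
        exact ⟨g, by rw [hg, mul_comm]⟩
    choose! G hG using hex
    have hT : t.app Ω (∑ j ∈ Finset.range (2 * N + 1), G j * ((2 * N).choose j : Γ(X, Ω))) = 1 := by
      rw [map_sum]
      have := add_pow u v (2 * N)
      rw [huv, one_pow] at this
      rw [this]
      apply Finset.sum_congr rfl
      intro j hj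
      rw [map_mul, map_natCast, hG j hj]
    have hTmem : (∑ j ∈ Finset.range (2 * N + 1), G j * ((2 * N).choose j : Γ(X, Ω))) ∈
        Ideal.span {g : Γ(X, Ω) | ∃ j i, j + i = 2 * N ∧ t.app Ω g = u ^ j * v ^ i} := by
      refine Submodule.sum_mem _ fun j hj => Ideal.mul_mem_right _ _ (Ideal.subset_span ?_)
      have := Finset.mem_range.mp hj
      exact ⟨j, 2 * N - j, by omega, hG j hj⟩
    have hnil : IsNilpotent
        ((∑ j ∈ Finset.range (2 * N + 1), G j * ((2 * N).choose j : Γ(X, Ω))) - 1) :=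
      nil_of_app t ht hΩc _ (by rw [map_sub, hT, map_one, sub_self])
    have hunit := hnil.isUnit_add_one
    rw [sub_add_cancel] at hunit
    exact Ideal.eq_top_of_isUnit_mem _ hTmem hunit
  · rintro g ⟨j, i, hji, hg⟩
    have hpre : t ⁻¹ᵁ (X.basicOpen g) = Z.basicOpen (u ^ j * v ^ i) := by
      rw [Scheme.preimage_basicOpen, hg]
    rcases (show 1 ≤ j ∨ 1 ≤ i by omega) with hj | hi
    · have hle : X.basicOpen g ≤ W₁ := by
        apply op_inj t ht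
        rw [hpre, h₁, Scheme.basicOpen_mul, Scheme.basicOpen_pow _ _ hj]
        exact inf_le_left
      have : X.basicOpen g = X.basicOpen (X.presheaf.map (homOfLE hle₁).op g) := by
        rw [Scheme.basicOpen_res]
        exact (inf_eq_right.mpr hle).symm
      rw [this]
      exact a₁.basicOpen _
    · have hle : X.basicOpen g ≤ W₂ := by
        apply op_inj t ht
        rw [hpre, h₂, Scheme.basicOpen_mul, Scheme.basicOpen_pow _ _ hi]
        exact inf_le_right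
      have : X.basicOpen g = X.basicOpen (X.presheaf.map (homOfLE hle₂).op g) := by
        rw [Scheme.basicOpen_res]
        exact (inf_eq_right.mpr hle).symm
      rw [this]
      exact a₂.basicOpen _

set_option maxHeartbeats 1600000 in
theorem main {Z X : Scheme.{u}} (t : Z ⟶ X) [IsClosedImmersion t]
    (ht : Function.Surjective t.base) [IsAffine Z] : IsAffine X := by
  classical
  have hzero : ∃ W : X.Opens, t ⁻¹ᵁ W = Z.basicOpen (0 : Γ(Z, ⊤)) ∧ IsAffineOpen W :=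
    ⟨⊥, by rw [Scheme.basicOpen_zero]; rfl, isAffineOpen_bot X⟩
  have hsmul : ∀ a f : Γ(Z, ⊤), (∃ W : X.Opens, t ⁻¹ᵁ W = Z.basicOpen f ∧ IsAffineOpen W) →
      ∃ W : X.Opens, t ⁻¹ᵁ W = Z.basicOpen (a * f) ∧ IsAffineOpen W := by
    rintro a f ⟨W, hW, aW⟩
    obtain ⟨F, hF⟩ := t.app_surjective W aW
      (Z.presheaf.map (homOfLE (le_top : t ⁻¹ᵁ W ≤ ⊤)).op (a * f))
    refine ⟨X.basicOpen F, ?_, aW.basicOpen F⟩
    rw [Scheme.preimage_basicOpen, hF, Scheme.basicOpen_res, hW]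
    exact inf_eq_right.mpr (by rw [Scheme.basicOpen_mul]; exact inf_le_right)
  have hadd : ∀ f g : Γ(Z, ⊤), (∃ W : X.Opens, t ⁻¹ᵁ W = Z.basicOpen f ∧ IsAffineOpen W) →
      (∃ W : X.Opens, t ⁻¹ᵁ W = Z.basicOpen g ∧ IsAffineOpen W) →
      ∃ W : X.Opens, t ⁻¹ᵁ W = Z.basicOpen (f + g) ∧ IsAffineOpen W := by
    rintro f g ⟨Wf, hWf, aWf⟩ ⟨Wg, hWg, aWg⟩
    obtain ⟨F, hF⟩ := t.app_surjective Wf aWf
      (Z.presheaf.map (homOfLE (le_top : t ⁻¹ᵁ Wf ≤ ⊤)).op (f + g))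
    obtain ⟨G, hG⟩ := t.app_surjective Wg aWg
      (Z.presheaf.map (homOfLE (le_top : t ⁻¹ᵁ Wg ≤ ⊤)).op (f + g))
    have p₁ : t ⁻¹ᵁ (X.basicOpen F) = Z.basicOpen f ⊓ Z.basicOpen (f + g) := by
      rw [Scheme.preimage_basicOpen, hF, Scheme.basicOpen_res, hWf]
    have p₂ : t ⁻¹ᵁ (X.basicOpen G) = Z.basicOpen g ⊓ Z.basicOpen (f + g) := by
      rw [Scheme.preimage_basicOpen, hG, Scheme.basicOpen_res, hWg]
    obtain ⟨Ω, hΩ⟩ : ∃ Ω : X.Opens, Ω = X.basicOpen F ⊔ X.basicOpen G := ⟨_, rfl⟩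
    have pΩ : t ⁻¹ᵁ Ω = Z.basicOpen (f + g) := by
      rw [hΩ, Scheme.Hom.preimage_sup, p₁, p₂, ← inf_sup_right]
      exact inf_eq_right.mpr (Z.basicOpen_add_le f g)
    refine ⟨Ω, pΩ, ?_⟩
    have hunit : IsUnit (Z.presheaf.map (homOfLE (le_top : t ⁻¹ᵁ Ω ≤ ⊤)).op (f + g)) := by
      have h0 := Z.toRingedSpace.isUnit_res_basicOpen (f + g)
      have h1 := h0.map (Z.presheaf.map (homOfLE pΩ.le).op).hom
      convert h1 using 1
      exact (res_res Z pΩ.le (Z.basicOpen_le (f + g)) (f + g)).symm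
    obtain ⟨c, hc⟩ := hunit
    have hci : Z.basicOpen ((↑c⁻¹ : Γ(Z, t ⁻¹ᵁ Ω))) = t ⁻¹ᵁ Ω :=
      Scheme.basicOpen_of_isUnit _ (c⁻¹).isUnit
    have hu : Z.basicOpen (Z.presheaf.map (homOfLE (le_top : t ⁻¹ᵁ Ω ≤ ⊤)).op f * (↑c⁻¹ : Γ(Z, t ⁻¹ᵁ Ω))) =
        t ⁻¹ᵁ (X.basicOpen F) := by
      rw [Scheme.basicOpen_mul, Scheme.basicOpen_res, hci, p₁, pΩ,
        inf_comm (Z.basicOpen (f + g)) (Z.basicOpen f), inf_assoc, inf_idem]
    have hv : Z.basicOpen (Z.presheaf.map (homOfLE (le_top : t ⁻¹ᵁ Ω ≤ ⊤)).op g * (↑c⁻¹ : Γ(Z, t ⁻¹ᵁ Ω))) =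
        t ⁻¹ᵁ (X.basicOpen G) := by
      rw [Scheme.basicOpen_mul, Scheme.basicOpen_res, hci, p₂, pΩ,
        inf_comm (Z.basicOpen (f + g)) (Z.basicOpen g), inf_assoc, inf_idem]
    refine affine_sup t ht Ω (X.basicOpen F) (X.basicOpen G) (hΩ ▸ le_sup_left)
      (hΩ ▸ le_sup_right) hΩ.le (aWf.basicOpen F) (aWg.basicOpen G) _ _ ?_ hu.symm hv.symm
    rw [← add_mul, ← map_add, ← hc, Units.mul_inv]
  let 𝔄 : Ideal Γ(Z, ⊤) :=
    { carrier := {f | ∃ W : X.Opens, t ⁻¹ᵁ W = Z.basicOpen f ∧ IsAffineOpen W}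
      zero_mem' := hzero
      add_mem' := fun ha hb => hadd _ _ ha hb
      smul_mem' := fun c x hx => hsmul c x hx }
  have htop : Ideal.span (𝔄 : Set Γ(Z, ⊤)) = ⊤ := by
    rw [← (isAffineOpen_top Z).iSup_basicOpen_eq_self_iff, eq_top_iff]
    intro z _
    obtain ⟨V, aV, hzV, -⟩ := exists_isAffineOpen_mem_and_subset (x := t.base z)
      (U := ⊤) trivial
    obtain ⟨_, ⟨f, rfl⟩, hzf, hfV⟩ := Opens.isBasis_iff_nbhd.mp (isBasis_basicOpen Z)
      (show z ∈ t ⁻¹ᵁ V from hzV)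
    have hfA : f ∈ 𝔄 := by
      obtain ⟨F, hF⟩ := t.app_surjective V aV
        (Z.presheaf.map (homOfLE (le_top : t ⁻¹ᵁ V ≤ ⊤)).op f)
      refine ⟨X.basicOpen F, ?_, aV.basicOpen F⟩
      rw [Scheme.preimage_basicOpen, hF, Scheme.basicOpen_res]
      exact inf_eq_right.mpr hfV
    exact Opens.mem_iSup.mpr ⟨⟨f, hfA⟩, hzf⟩
  rw [Ideal.span_eq] at htop
  have h1 : (1 : Γ(Z, ⊤)) ∈ 𝔄 := by rw [htop]; trivial
  obtain ⟨W, hW, aW⟩ := h1
  have hWtop : W = ⊤ := op_inj' t ht (by rw [hW, Scheme.basicOpen_one]; rfl)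
  subst hWtop
  have : IsAffine (⊤ : X.Opens).toScheme := aW
  exact IsAffine.of_isIso X.topIso.inv

end scheme

end Groth.Agent.H93.ThickAff
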