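import Mathlib
import Groth.Agent.S2102

/-!
# Finite birational morphisms onto integral normal affine schemes are isomorphisms
-/

set_option autoImplicit false
universe u
open CategoryTheory CategoryTheory.Limits AlgebraicGeometry TopologicalSpace

namespace Groth.Agent.H93.NormExt

/-- Normality passes to open subschemes. -/
theorem isNormalScheme_opens {S : Scheme.{u}} (hS : Pi1.IsNormalScheme S) (V : S.Opens) :
    Pi1.IsNormalScheme (V : Scheme.{u}) := by
  intro x
  obtain ⟨h1, h2⟩ := hS (V.ι x)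
  have e : S.presheaf.stalk (V.ι x) ≃+* (V : Scheme.{u}).presheaf.stalk x :=
    (asIso (V.ι.stalkMap x)).commRingCatIsoToRingEquiv
  exact ⟨e.symm.toMulEquiv.isDomain _, IsIntegrallyClosed.of_equiv e⟩

theorem isReduced_of_isNormalScheme {S : Scheme.{u}} (hS : Pi1.IsNormalScheme S) :
    IsReduced S := by
  have : ∀ x : S, _root_.IsReduced (S.presheaf.stalk x) := fun x => by
    have := (hS x).1
    infer_instance
  exact isReduced_of_isReduced_stalk S

/-- On an integral normal affine scheme, a section over a nonempty open which is integral over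
the ring of global sections extends to a global section. -/
theorem exists_restrict_eq_of_isIntegral (X : Scheme.{u}) [IsIntegral X] [IsAffine X]
    (hX : Pi1.IsNormalScheme X) (O : X.Opens) [Nonempty O] (d : Γ(X, O))
    (P : Polynomial Γ(X, ⊤)) (hP : P.Monic)
    (hd : Polynomial.eval₂ (X.presheaf.map (homOfLE (le_top : O ≤ ⊤)).op).hom d P = 0) :
    ∃ a : Γ(X, ⊤), X.presheaf.map (homOfLE (le_top : O ≤ ⊤)).op a = d := by
  have hic : IsIntegrallyClosed Γ(X, ⊤) := Groth.Agent.S2102.result X hX
  have hne : Nonempty (⊤ : X.Opens) := ⟨⟨genericPoint X, trivial⟩⟩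
  have hfr : IsFractionRing Γ(X, ⊤) X.functionField :=
    functionField_isFractionRing_of_isAffineOpen X ⊤ (isAffineOpen_top X)
  have hcomp : ∀ a : Γ(X, ⊤),
      X.germToFunctionField O (X.presheaf.map (homOfLE (le_top : O ≤ ⊤)).op a) =
        X.germToFunctionField ⊤ a := by
    intro a
    exact X.presheaf.germ_res_apply (homOfLE (le_top : O ≤ ⊤)) (genericPoint X) _ a
  have hβ : IsIntegral Γ(X, ⊤) (X.germToFunctionField O d) := by
    refine ⟨P, hP, ?_⟩
    have h1 : (algebraMap Γ(X, ⊤) X.functionField) =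
        (X.germToFunctionField O).hom.comp
          (X.presheaf.map (homOfLE (le_top : O ≤ ⊤)).op).hom := by
      ext a
      exact (hcomp a).symm
    rw [h1, ← Polynomial.hom_eval₂, hd, map_zero]
  obtain ⟨a, ha⟩ := IsIntegrallyClosed.isIntegral_iff.mp hβ
  refine ⟨a, X.germToFunctionField_injective O ?_⟩
  rw [hcomp]
  exact ha

theorem app_res' {Z X : Scheme.{u}} (t : Z ⟶ X) {A B : X.Opens} (i : A ≤ B) (x : Γ(X, B)) :
    t.app A (X.presheaf.map (homOfLE i).op x) =
      Z.presheaf.map (homOfLE (t.preimage_mono i)).op (t.app B x) :=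
  ConcreteCategory.congr_hom (t.naturality (homOfLE i).op) x

set_option maxHeartbeats 800000 in
/-- A finite (integral) morphism onto an integral normal affine scheme admitting a
"schematically dominant rational section" is an isomorphism. -/
theorem isIso_of_integral_of_section {X W O' : Scheme.{u}} [IsIntegral X] [IsAffine X]
    (hX : Pi1.IsNormalScheme X) (q : W ⟶ X) [IsIntegralHom q] (τ : O' ⟶ W) [Nonempty O']
    [IsOpenImmersion (τ ≫ q)] (hτ : Function.Injective τ.appTop) : IsIso q := by
  have hW : IsAffine W := isAffine_of_isAffineHom q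
  have hO' : IsIntegral O' := isIntegral_of_isOpenImmersion (τ ≫ q)
  -- injectivity of `(τ ≫ q).appTop`
  have hjinj : Function.Injective (τ ≫ q).appTop := by
    rw [injective_iff_map_eq_zero]
    intro a ha
    rw [← basicOpen_eq_bot_iff]
    by_contra hne
    have h1 : (τ ≫ q) ⁻¹ᵁ X.basicOpen a = ⊥ := by
      rw [Scheme.preimage_basicOpen_top, ha, Scheme.basicOpen_zero]
    have hne1 : (X.basicOpen a : Set X).Nonempty := by
      rw [Set.nonempty_iff_ne_empty]
      intro h
      apply hne
      ext x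
      simp [h]
    obtain ⟨u₀⟩ : Nonempty O' := inferInstance
    have hne2 : (Set.range (τ ≫ q)).Nonempty := ⟨_, u₀, rfl⟩
    obtain ⟨y, hy1, u, rfl⟩ := nonempty_preirreducible_inter (X.basicOpen a).isOpen
      (τ ≫ q).isOpenEmbedding.isOpen_range hne1 hne2
    have : u ∈ (τ ≫ q) ⁻¹ᵁ X.basicOpen a := hy1
    rw [h1] at this
    exact this
  have hcomp : (τ ≫ q).appTop = q.appTop ≫ τ.appTop := Scheme.Hom.comp_appTop τ q
  have hqinj : Function.Injective q.appTop := by
    intro a a' h
    apply hjinj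
    rw [hcomp, CommRingCat.comp_apply, CommRingCat.comp_apply, h]
  have hqsurj : Function.Surjective q.appTop := by
    intro b
    obtain ⟨P, hP, hPb⟩ := q.isIntegral_app ⊤ (isAffineOpen_top X) b
    set j := τ ≫ q with hj
    set O := j.opensRange with hO
    obtain ⟨u₀⟩ : Nonempty O' := inferInstance
    have hOne : Nonempty O := ⟨⟨j u₀, u₀, rfl⟩⟩
    have hpre : j ⁻¹ᵁ O = ⊤ := by
      ext u
      simp only [TopologicalSpace.Opens.coe_top, Set.mem_univ, iff_true]
      exact ⟨u, rfl⟩
    have hpreNe : Nonempty ↥(j ⁻¹ᵁ O) := ⟨⟨u₀, by rw [hpre]; trivial⟩⟩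
    have hiso : IsIso (j.app O) := j.isIso_app O le_rfl
    set c := τ.appTop b with hc
    have hPc : Polynomial.eval₂ j.appTop.hom c P = 0 := by
      have : j.appTop.hom = τ.appTop.hom.comp (q.app ⊤).hom := by
        rw [hcomp]; rfl
      rw [this, hc, ← Polynomial.hom_eval₂]
      exact (congrArg τ.appTop.hom hPb).trans (map_zero _)
    set c₁ := O'.presheaf.map (homOfLE (le_top : j ⁻¹ᵁ O ≤ ⊤)).op c with hc₁
    set d := (inv (j.app O)) c₁ with hd
    have hjd : j.app O d = c₁ := by
      rw [hd, ← CommRingCat.comp_apply, IsIso.inv_hom_id]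
      rfl
    have hjinjO : Function.Injective (j.app O) :=
      (ConcreteCategory.bijective_of_isIso (j.app O)).1
    have hnat : ∀ x : Γ(X, ⊤), j.app O (X.presheaf.map (homOfLE (le_top : O ≤ ⊤)).op x) =
        O'.presheaf.map (homOfLE (le_top : j ⁻¹ᵁ O ≤ ⊤)).op (j.appTop x) := fun x =>
      app_res' j (le_top : O ≤ ⊤) x
    have hdP : Polynomial.eval₂ (X.presheaf.map (homOfLE (le_top : O ≤ ⊤)).op).hom d P = 0 := by
      apply hjinjO
      rw [map_zero]
      have h1 := Polynomial.hom_eval₂ P (X.presheaf.map (homOfLE (le_top : O ≤ ⊤)).op).hom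
        (j.app O).hom d
      have h2 : (j.app O).hom.comp (X.presheaf.map (homOfLE (le_top : O ≤ ⊤)).op).hom =
          (O'.presheaf.map (homOfLE (le_top : j ⁻¹ᵁ O ≤ ⊤)).op).hom.comp j.appTop.hom := by
        ext x
        exact hnat x
      have h3 := Polynomial.hom_eval₂ P j.appTop.hom
        (O'.presheaf.map (homOfLE (le_top : j ⁻¹ᵁ O ≤ ⊤)).op).hom c
      show (j.app O).hom _ = 0
      rw [h1, h2]
      have h4 : (j.app O).hom d = c₁ := hjd
      rw [h4, hc₁]
      show Polynomial.eval₂ _ ((O'.presheaf.map (homOfLE (le_top : j ⁻¹ᵁ O ≤ ⊤)).op).hom c) P = 0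
      rw [← h3, hPc, map_zero]
    obtain ⟨a, ha⟩ := exists_restrict_eq_of_isIntegral X hX O d P hP hdP
    refine ⟨a, hτ ?_⟩
    have hres : Function.Injective (O'.presheaf.map (homOfLE (le_top : j ⁻¹ᵁ O ≤ ⊤)).op) :=
      @map_injective_of_isIntegral O' hO' (j ⁻¹ᵁ O) ⊤ (homOfLE (le_top : j ⁻¹ᵁ O ≤ ⊤))
        ⟨⟨u₀, by rw [hpre]; trivial⟩⟩
    apply hres
    have : τ.appTop (q.appTop a) = j.appTop a := by
      rw [hcomp, CommRingCat.comp_apply]
    rw [this, ← hnat, ha, hjd]
  have hiso : IsIso q.appTop :=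
    (ConcreteCategory.isIso_iff_bijective q.appTop).mpr ⟨hqinj, hqsurj⟩
  exact (HasAffineProperty.iff_of_isAffine (P := MorphismProperty.isomorphisms Scheme)).mpr
    ⟨hW, hiso⟩

end Groth.Agent.H93.NormExt
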