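import Mathlib
import Groth.Agent.S1574

/-!
# Complement of an open subscheme with affine inclusion has codimension `≤ 1`

Scheme-level corollaries of `S1574` (punctured spectrum of a Noetherian local ring is affine iff
`dim ≤ 1`), via base change to the spectrum of the local ring.
-/

open AlgebraicGeometry CategoryTheory TopologicalSpace

universe u

namespace Groth.Agent.H93.AffCompl

/-- In a Noetherian quasi-sober space, a point in the closure of an open set `V` has a
generization lying in `V`. -/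
theorem exists_specializes_of_mem_closure {Y : Type*} [TopologicalSpace Y] [NoetherianSpace Y]
    [QuasiSober Y] {V : Set Y} (hV : IsOpen V) {ξ : Y} (h : ξ ∈ closure V) :
    ∃ y ∈ V, y ⤳ ξ := by
  have hfin := NoetherianSpace.finite_irreducibleComponents (α := Y)
  have hV' : V = ⋃ Z ∈ irreducibleComponents Y, (V ∩ Z) := by
    rw [← Set.inter_iUnion₂, ← Set.sUnion_eq_biUnion, sUnion_irreducibleComponents,
      Set.inter_univ]
  rw [hV', hfin.closure_biUnion] at h
  obtain ⟨Z, hZ, hξZ⟩ := Set.mem_iUnion₂.mp h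
  have hZirr : IsIrreducible Z := hZ.1
  have hZcl : IsClosed Z := isClosed_of_mem_irreducibleComponents Z hZ
  obtain ⟨η, hη⟩ := QuasiSober.sober hZirr hZcl
  have hne : (V ∩ Z).Nonempty := by
    by_contra h0
    rw [Set.not_nonempty_iff_eq_empty] at h0
    rw [h0, closure_empty] at hξZ
    exact hξZ
  have hηV : η ∈ V := (hη.mem_open_set_iff hV).mpr (by rwa [Set.inter_comm] at hne)
  refine ⟨η, hηV, ?_⟩
  rw [specializes_iff_mem_closure, hη.def]
  exact closure_minimal Set.inter_subset_right hZcl hξZ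

/-- In a locally Noetherian scheme, a point in the closure of an open `U` has a generization
in `U`. -/
theorem exists_generization_mem (X : Scheme.{u}) [IsLocallyNoetherian X] (U : X.Opens) (ξ : X)
    (hcl : ξ ∈ closure (U : Set X)) : ∃ y ∈ U, y ⤳ ξ := by
  obtain ⟨_, ⟨W, hW, rfl⟩, hξW, -⟩ :=
    X.isBasis_affineOpens.exists_subset_of_mem_open (Set.mem_univ ξ) isOpen_univ
  have : IsNoetherianRing Γ(X, W) := IsLocallyNoetherian.component_noetherian ⟨W, hW⟩
  have : NoetherianSpace ↥W := noetherianSpace_of_isAffineOpen W hW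
  have : QuasiSober ↥W := W.isOpen.isOpenEmbedding_subtypeVal.quasiSober
  have hmem : (⟨ξ, hξW⟩ : ↥W) ∈ closure (Subtype.val ⁻¹' (U : Set X)) := by
    have h3 := IsOpenMap.preimage_closure_eq_closure_preimage (f := (Subtype.val : ↥W → X))
      W.isOpen.isOpenMap_subtype_val continuous_subtype_val (U : Set X)
    have h4 : (⟨ξ, hξW⟩ : ↥W) ∈ (Subtype.val : ↥W → X) ⁻¹' closure (U : Set X) := hcl
    rw [h3] at h4
    exact h4
  obtain ⟨y, hyV, hy⟩ :=
    exists_specializes_of_mem_closure (U.isOpen.preimage continuous_subtype_val) hmem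
  exact ⟨y.1, hyV, hy.map continuous_subtype_val⟩

variable (X : Scheme.{u}) (U : X.Opens) (ξ : X)

/-- If `ξ` is a maximal point of the complement of `U`, the preimage of `U` in `Spec 𝒪_{X,ξ}` is
the punctured spectrum. -/
theorem preimage_eq (hξ : ξ ∉ U) (hgen : ∀ y : X, y ∉ U → y ⤳ ξ → y = ξ) :
    (X.fromSpecStalk ξ) ⁻¹ᵁ U = FEt.puncturedSpec (X.presheaf.stalk ξ) := by
  refine SetLike.ext fun p => ⟨fun hp => ?_, fun hp => ?_⟩
  · show p ≠ IsLocalRing.closedPoint (X.presheaf.stalk ξ)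
    rintro rfl
    apply hξ
    have h2 : (X.fromSpecStalk ξ) (IsLocalRing.closedPoint (X.presheaf.stalk ξ)) ∈ U := hp
    rwa [Scheme.fromSpecStalk_closedPoint] at h2
  · have hp' : p ≠ IsLocalRing.closedPoint (X.presheaf.stalk ξ) := hp
    by_contra hU'
    have hU'' : (X.fromSpecStalk ξ) p ∉ U := hU'
    have hsp : (X.fromSpecStalk ξ) p ⤳ ξ := by
      have : (X.fromSpecStalk ξ) p ∈ Set.range (X.fromSpecStalk ξ) := ⟨p, rfl⟩
      rw [Scheme.range_fromSpecStalk] at this
      exact this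
    have h3 := hgen _ hU'' hsp
    apply hp'
    apply (X.fromSpecStalk ξ).isEmbedding.injective
    rw [h3, Scheme.fromSpecStalk_closedPoint]

theorem dim_le_one [IsLocallyNoetherian X] [IsAffineHom U.ι] (hξ : ξ ∉ U)
    (hgen : ∀ y : X, y ∉ U → y ⤳ ξ → y = ξ) :
    ringKrullDim (X.presheaf.stalk ξ) ≤ 1 := by
  have hpb := isPullback_morphismRestrict (X.fromSpecStalk ξ) U
  have h1 : IsAffineHom ((X.fromSpecStalk ξ) ⁻¹ᵁ U).ι :=
    MorphismProperty.of_isPullback (P := @IsAffineHom) hpb inferInstance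
  have h2 : IsAffine (((X.fromSpecStalk ξ) ⁻¹ᵁ U : (Spec (X.presheaf.stalk ξ)).Opens) :
      Scheme.{u}) := isAffine_of_isAffineHom ((X.fromSpecStalk ξ) ⁻¹ᵁ U).ι
  rw [preimage_eq X U ξ hξ hgen] at h2
  exact (Groth.Agent.S1574.result (X.presheaf.stalk ξ)).mp h2

theorem one_le_dim (hξ : ξ ∉ U) (y : X) (hy : y ∈ U) (hyξ : y ⤳ ξ) :
    1 ≤ ringKrullDim (X.presheaf.stalk ξ) := by
  have hy' : y ∈ Set.range (X.fromSpecStalk ξ) := by
    rw [Scheme.range_fromSpecStalk]; exact hyξ
  obtain ⟨p, rfl⟩ := hy'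
  have hne : p ≠ IsLocalRing.closedPoint (X.presheaf.stalk ξ) := by
    rintro rfl
    rw [Scheme.fromSpecStalk_closedPoint] at hy
    exact hξ hy
  have key : ∀ q : PrimeSpectrum (X.presheaf.stalk ξ),
      q ≠ IsLocalRing.closedPoint (X.presheaf.stalk ξ) →
      q < IsLocalRing.closedPoint (X.presheaf.stalk ξ) := fun q hq =>
    lt_of_le_of_ne ((PrimeSpectrum.asIdeal_le_asIdeal _ _).mp
      (IsLocalRing.le_maximalIdeal q.2.ne_top)) hq
  exact Order.one_le_krullDim_iff.mpr ⟨_, _, key p hne⟩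

theorem dim_eq_one [IsLocallyNoetherian X] [IsAffineHom U.ι] (hξ : ξ ∉ U)
    (hgen : ∀ y : X, y ∉ U → y ⤳ ξ → y = ξ) (hcl : ξ ∈ closure (U : Set X)) :
    ringKrullDim (X.presheaf.stalk ξ) = 1 := by
  obtain ⟨y, hyU, hy⟩ := exists_generization_mem X U ξ hcl
  exact le_antisymm (dim_le_one X U ξ hξ hgen) (one_le_dim X U ξ hξ y hyU hy)

end Groth.Agent.H93.AffCompl
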