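import Mathlib
import Groth.Prelude.Def_BlowUp2
import Groth.Agent.S1700
import Groth.Agent.S2285
import Groth.Agent.H93.AffCompl

/-!
# H93/EffCompl: effective Cartier divisor supported on the complement of a dense open with affine
inclusion, when the stalks outside are UFDs (via S1700 applied to the vanishing ideal).
-/

set_option autoImplicit false
universe u
open CategoryTheory CategoryTheory.Limits AlgebraicGeometry TopologicalSpace

namespace Groth.Agent.H93.EffCompl

/-- a reduced Noetherian local ring whose maximal ideal is an associated prime is a field. -/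
theorem isField_of_isAssociatedPrime (R : Type*) [CommRing R] [IsLocalRing R] [IsReduced R]
    [IsNoetherianRing R] (h : IsAssociatedPrime (IsLocalRing.maximalIdeal R) R) : IsField R := by
  obtain ⟨-, m, hm⟩ := isAssociatedPrime_iff.1 h
  have hmem : ∀ r, r ∈ IsLocalRing.maximalIdeal R ↔ r * m = 0 := by
    intro r
    rw [hm, Submodule.mem_colon_singleton, Submodule.mem_bot, smul_eq_mul]
  have hm0 : m ∉ nilradical R := by
    rw [nilradical_eq_zero, Ideal.zero_eq_bot, Ideal.mem_bot]
    rintro rfl
    have : (1 : R) ∈ IsLocalRing.maximalIdeal R := (hmem 1).2 (mul_zero _)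
    exact (Ideal.ne_top_iff_one _).1 (IsLocalRing.maximalIdeal.isMaximal R).ne_top this
  rw [nilradical_eq_sInf, Ideal.mem_sInf] at hm0
  push Not at hm0
  obtain ⟨𝔮, h𝔮, hm𝔮⟩ := hm0
  have h𝔮' : 𝔮.IsPrime := h𝔮
  have hle : IsLocalRing.maximalIdeal R ≤ 𝔮 := by
    intro a ha
    have : a * m ∈ 𝔮 := by rw [(hmem a).1 ha]; exact 𝔮.zero_mem
    exact (h𝔮'.mem_or_mem this).resolve_right hm𝔮
  have hmu : IsUnit m := by
    by_contra hnu
    exact hm𝔮 (hle ((IsLocalRing.mem_maximalIdeal m).2 hnu))
  rw [IsLocalRing.isField_iff_maximalIdeal_eq, eq_bot_iff]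
  intro a ha
  have := (hmem a).1 ha
  rw [Ideal.mem_bot]
  exact (hmu.mul_left_eq_zero).1 this

theorem main (X : Scheme.{u}) [IsNoetherian X] (U : X.Opens) [IsAffineHom U.ι]
    (hdense : Dense (U : Set X))
    (hufd : ∀ x : X, x ∉ U →
      IsDomain (X.presheaf.stalk x) ∧ UniqueFactorizationMonoid (X.presheaf.stalk x)) :
    ∃ D : X.IdealSheafData, BlowUp.IsEffCartierIdeal D ∧ (D.support : Set X) = (U : Set X)ᶜ := by
  let Z : TopologicalSpace.Closeds X := ⟨(U : Set X)ᶜ, U.isOpen.isClosed_compl⟩
  have hsupp : ((Scheme.IdealSheafData.vanishingIdeal Z).support : Set X) = (U : Set X)ᶜ :=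
    Scheme.IdealSheafData.coe_support_vanishingIdeal Z
  have hred : IsReduced (Scheme.IdealSheafData.vanishingIdeal Z).subscheme :=
    Groth.Agent.S2285.isReduced_subscheme_vanishingIdeal Z
  refine ⟨Scheme.IdealSheafData.vanishingIdeal Z, ?_, hsupp⟩
  generalize Scheme.IdealSheafData.vanishingIdeal Z = D at hsupp hred ⊢
  have hnoeth : IsLocallyNoetherian D.subscheme :=
    LocallyOfFiniteType.isLocallyNoetherian D.subschemeι
  have hmemS : ∀ y : X, y ∉ U → y ∈ Set.range D.subschemeι := by
    intro y hy
    rw [D.range_subschemeι]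
    show y ∈ (D.support : Set X)
    rw [hsupp]
    exact hy
  have hmem : ∀ z : D.subscheme, D.subschemeι z ∉ U := by
    intro z hz
    have h1 : D.subschemeι z ∈ (D.support : Set X) := by
      have : D.subschemeι z ∈ Set.range D.subschemeι := ⟨z, rfl⟩
      rw [D.range_subschemeι] at this
      exact this
    rw [hsupp] at h1
    exact h1 hz
  apply Groth.Agent.S1700.result X D
  · -- no embedded points: the stalk is a field
    intro z hass z' hz'
    have hF : IsField (D.subscheme.presheaf.stalk z) := isField_of_isAssociatedPrime _ hass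
    have hz'r : z' ∈ Set.range (D.subscheme.fromSpecStalk z) := by
      rw [Scheme.range_fromSpecStalk]; exact hz'
    obtain ⟨p, rfl⟩ := hz'r
    have hp : p = IsLocalRing.closedPoint (D.subscheme.presheaf.stalk z) := by
      apply PrimeSpectrum.ext
      have h1 : p.asIdeal ≤ IsLocalRing.maximalIdeal (D.subscheme.presheaf.stalk z) :=
        IsLocalRing.le_maximalIdeal p.isPrime.ne_top
      have h2 : IsLocalRing.maximalIdeal (D.subscheme.presheaf.stalk z) = ⊥ :=
        IsLocalRing.isField_iff_maximalIdeal_eq.1 hF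
      show p.asIdeal = IsLocalRing.maximalIdeal (D.subscheme.presheaf.stalk z)
      rw [h2] at h1 ⊢
      exact le_bot_iff.1 h1
    rw [hp, Scheme.fromSpecStalk_closedPoint]
  · -- maximal points have codimension one
    intro z hzmax
    apply Groth.Agent.H93.AffCompl.dim_eq_one X U _ (hmem z)
    · intro y hyU hy
      obtain ⟨z', rfl⟩ := hmemS y hyU
      have h3 : z' ⤳ z :=
        (D.subschemeι.isClosedEmbedding.isEmbedding.isInducing.specializes_iff).1 hy
      rw [hzmax z' h3]
    · rw [hdense.closure_eq]; trivial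
  · intro x hx
    apply hufd
    intro hxU
    have h1 : x ∈ (D.support : Set X) := hx
    rw [hsupp] at h1
    exact h1 hxU

end Groth.Agent.H93.EffCompl
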