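import Mathlib.AlgebraicGeometry.QuasiAffine
import Mathlib.AlgebraicGeometry.Morphisms.QuasiSeparated
import Mathlib.AlgebraicGeometry.Morphisms.Affine

/-!
# Quasi-affine morphisms: locality on the target, composition, restriction

`QAHom f` : `f` quasi-compact and preimages of affine opens are quasi-affine schemes.
`IndQA X` : every quasi-compact open subscheme of `X` is quasi-affine.
-/

set_option autoImplicit false
universe u

namespace Groth.Agent.H93.QAff

open AlgebraicGeometry CategoryTheory CategoryTheory.Limits TopologicalSpace Opposite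

/-- quasi-affine morphism -/
def QAHom {X Y : Scheme.{u}} (f : X ⟶ Y) : Prop :=
  QuasiCompact f ∧ ∀ V : Y.Opens, IsAffineOpen V → Scheme.IsQuasiAffine (f ⁻¹ᵁ V : Scheme.{u})

/-- ind-quasi-affine scheme -/
def IndQA (X : Scheme.{u}) : Prop :=
  ∀ U : X.Opens, IsCompact (U : Set X) → Scheme.IsQuasiAffine (U : Scheme.{u})

/-- A quasi-compact scheme with an open immersion into `X` landing in a quasi-affine open
subscheme is quasi-affine. -/
lemma of_openImmersion_le {P X : Scheme.{u}} (k : P ⟶ X) [IsOpenImmersion k] [CompactSpace P]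
    (B : X.Opens) (hk : Set.range k ⊆ (B : Set X))
    (hB : Scheme.IsQuasiAffine (B : Scheme.{u})) : P.IsQuasiAffine := by
  have hr : Set.range k ⊆ Set.range B.ι := by rwa [Scheme.Opens.range_ι]
  have h1 : IsOpenImmersion (IsOpenImmersion.lift B.ι k hr ≫ B.ι) := by
    rw [IsOpenImmersion.lift_fac]; infer_instance
  have h2 : IsOpenImmersion (IsOpenImmersion.lift B.ι k hr) := IsOpenImmersion.of_comp _ B.ι
  exact Scheme.IsQuasiAffine.of_isImmersion (IsOpenImmersion.lift B.ι k hr)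

lemma of_indQA {P X : Scheme.{u}} (k : P ⟶ X) [IsOpenImmersion k] [CompactSpace P]
    (hX : IndQA X) : P.IsQuasiAffine := by
  have hc : IsCompact (k.opensRange : Set X) := isCompact_range k.continuous
  exact of_openImmersion_le k k.opensRange (fun _ h => h) (hX _ hc)

lemma indQA_of_openImmersion {X' X : Scheme.{u}} (j : X' ⟶ X) [IsOpenImmersion j]
    (hX : IndQA X) : IndQA X' := by
  intro U hU
  have : CompactSpace U.toScheme := isCompact_iff_compactSpace.mp hU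
  exact of_indQA (U.ι ≫ j) hX

lemma indQA_of_isQuasiAffine {X : Scheme.{u}} [X.IsQuasiAffine] : IndQA X := by
  intro U hU
  have : CompactSpace U.toScheme := isCompact_iff_compactSpace.mp hU
  exact Scheme.IsQuasiAffine.of_isImmersion U.ι

/-- A qcqs scheme covered by quasi-affine opens of the form `X_s`, `s` a global section, is
quasi-affine. -/
lemma core (X : Scheme.{u}) [CompactSpace X] [QuasiSeparatedSpace X]
    (H : ∀ x : X, ∃ s' : Γ(X, ⊤), x ∈ X.basicOpen s' ∧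
      Scheme.IsQuasiAffine ((X.basicOpen s') : Scheme.{u})) : X.IsQuasiAffine := by
  refine Scheme.IsQuasiAffine.of_forall_exists_mem_basicOpen X fun x => ?_
  obtain ⟨s', hxs', hq⟩ := H x
  obtain ⟨_, ⟨_, ⟨t, ht, rfl⟩, rfl⟩, hxt, -⟩ := (Scheme.IsQuasiAffine.isBasis_basicOpen
    (X.basicOpen s').toScheme).exists_subset_of_mem_open
      (Set.mem_univ (⟨x, hxs'⟩ : (X.basicOpen s').toScheme)) isOpen_univ
  have hB : IsAffineOpen (X.basicOpen t) := by
    rw [← Scheme.Opens.ι_image_basicOpen]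
    exact ht.image_of_isOpenImmersion (X.basicOpen s').ι
  have hxB : x ∈ X.basicOpen t := by
    rw [← Scheme.Opens.ι_image_basicOpen]
    exact ⟨⟨x, hxs'⟩, hxt, rfl⟩
  have hs'W : X.basicOpen s' ≤ (X.basicOpen s').ι ''ᵁ ⊤ := (Scheme.Opens.ι_image_top _).ge
  obtain ⟨n, y, hy⟩ := exists_eq_pow_mul_of_isCompact_of_isQuasiSeparated X ⊤
    isCompact_univ isQuasiSeparated_univ s' (X.presheaf.map (homOfLE hs'W).op t)
  have key : X.basicOpen (s' * y) = X.basicOpen s' ⊓ X.basicOpen t := by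
    rw [Scheme.basicOpen_mul]
    dsimp only [TopCat.Presheaf.restrictOpenCommRingCat_apply] at hy
    have h1 := congrArg X.basicOpen hy
    rw [Scheme.basicOpen_res, Scheme.basicOpen_mul, Scheme.basicOpen_res] at h1
    have hu : IsUnit ((X.presheaf.map (homOfLE (X.basicOpen_le s')).op s') ^ n) :=
      (RingedSpace.isUnit_res_basicOpen X.toRingedSpace s').pow n
    rw [Scheme.basicOpen_of_isUnit _ hu] at h1
    rw [h1, ← inf_assoc, inf_idem]
    rfl
  refine ⟨s' * y, ?_, ?_⟩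
  · rw [key, inf_comm, ← Scheme.basicOpen_res X s' (homOfLE (le_top : X.basicOpen t ≤ ⊤)).op]
    exact hB.basicOpen _
  · rw [key]
    exact ⟨hxs', hxB⟩

/-- quasi-affine over an affine base is local on the base -/
lemma isQuasiAffine_of_cover_of_isAffine {X Y : Scheme.{u}} [IsAffine Y]
    (f : X ⟶ Y) {ι : Type u} (V : ι → Y.Opens) (hV : iSup V = ⊤) (hVa : ∀ i, IsAffineOpen (V i))
    (hq : ∀ i, Scheme.IsQuasiAffine (↑(f ⁻¹ᵁ V i) : Scheme.{u})) : X.IsQuasiAffine := by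
  have hqc : QuasiCompact f := by
    refine IsZariskiLocalAtTarget.of_iSup_eq_top (P := @QuasiCompact) V hV fun i => ?_
    have := hq i
    have : IsAffine (V i).toScheme := hVa i
    exact (quasiCompact_iff_compactSpace (f ∣_ V i)).mpr inferInstance
  have hqs : QuasiSeparated f := by
    refine IsZariskiLocalAtTarget.of_iSup_eq_top (P := @QuasiSeparated) V hV fun i => ?_
    have := hq i
    have : IsAffine (V i).toScheme := hVa i
    exact (quasiSeparated_iff_quasiSeparatedSpace (f ∣_ V i)).mpr inferInstance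
  have hc : CompactSpace X := QuasiCompact.compactSpace_of_compactSpace f
  have hs : QuasiSeparatedSpace X := quasiSeparatedSpace_of_quasiSeparated f
  refine core X fun x => ?_
  obtain ⟨i, hi⟩ : ∃ i, f x ∈ V i := by
    have : f x ∈ iSup V := hV ▸ (trivial : f x ∈ (⊤ : Y.Opens))
    exact Opens.mem_iSup.mp this
  obtain ⟨_, ⟨_, ⟨s, rfl⟩, rfl⟩, hxs, hsV⟩ :=
    (isBasis_basicOpen Y).exists_subset_of_mem_open hi (V i).2
  refine ⟨f.appTop s, ?_, ?_⟩
  · rw [← Scheme.preimage_basicOpen_top]; exact hxs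
  · rw [← Scheme.preimage_basicOpen_top]
    have hcs : CompactSpace (f ⁻¹ᵁ Y.basicOpen s).toScheme :=
      isCompact_iff_compactSpace.mp
        (f.isCompact_preimage ((isAffineOpen_top Y).basicOpen s).isCompact)
    exact of_openImmersion_le (f ⁻¹ᵁ Y.basicOpen s).ι (f ⁻¹ᵁ V i)
      (by rw [Scheme.Opens.range_ι]; exact fun z hz => hsV hz) (hq i)

/-- membership helper for restricted morphisms -/
lemma mem_preimage_image {X Y : Scheme.{u}} (f : X ⟶ Y) (U : Y.Opens) (O : U.toScheme.Opens)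
    (z : ((f ∣_ U) ⁻¹ᵁ O).toScheme) :
    (((f ∣_ U) ⁻¹ᵁ O).ι ≫ (f ⁻¹ᵁ U).ι) z ∈ f ⁻¹ᵁ (U.ι ''ᵁ O) := by
  have hz : ((f ∣_ U) ⁻¹ᵁ O).ι z ∈ (((f ∣_ U) ⁻¹ᵁ O : (f ⁻¹ᵁ U).toScheme.Opens) :
      Set (f ⁻¹ᵁ U).toScheme) := by
    rw [← Scheme.Opens.range_ι]; exact ⟨z, rfl⟩
  have h1 : (f ⁻¹ᵁ U).ι (((f ∣_ U) ⁻¹ᵁ O).ι z) ∈ (f ⁻¹ᵁ U).ι ''ᵁ ((f ∣_ U) ⁻¹ᵁ O) :=
    Set.mem_image_of_mem _ hz
  rw [image_morphismRestrict_preimage] at h1
  exact h1

/-- restriction of a quasi-affine morphism to an open of the target -/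
lemma qaHom_restrict {X Y : Scheme.{u}} (f : X ⟶ Y) (hf : QAHom f) (U : Y.Opens) :
    QAHom (f ∣_ U) := by
  have := hf.1
  have hqc : QuasiCompact (f ∣_ U) := inferInstance
  refine ⟨hqc, fun V' hV' => ?_⟩
  have hc : CompactSpace ((f ∣_ U) ⁻¹ᵁ V').toScheme :=
    isCompact_iff_compactSpace.mp ((f ∣_ U).isCompact_preimage hV'.isCompact)
  refine of_openImmersion_le (((f ∣_ U) ⁻¹ᵁ V').ι ≫ (f ⁻¹ᵁ U).ι) (f ⁻¹ᵁ (U.ι ''ᵁ V')) ?_
    (hf.2 _ (hV'.image_of_isOpenImmersion U.ι))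
  rintro _ ⟨z, rfl⟩
  exact mem_preimage_image f U V' z

/-- a scheme quasi-affine over a quasi-affine scheme is quasi-affine -/
lemma isQuasiAffine_of_qaHom {X Y : Scheme.{u}} (f : X ⟶ Y) (hf : QAHom f) [Y.IsQuasiAffine] :
    X.IsQuasiAffine := by
  have := hf.1
  have hqs : QuasiSeparated f := by
    refine IsZariskiLocalAtTarget.of_iSup_eq_top (P := @QuasiSeparated)
      (fun V : Y.affineOpens => V.1) (iSup_affineOpens_eq_top Y) fun V => ?_
    have := hf.2 V.1 V.2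
    have : IsAffine (V.1).toScheme := V.2
    exact (quasiSeparated_iff_quasiSeparatedSpace (f ∣_ V.1)).mpr inferInstance
  have hc : CompactSpace X := QuasiCompact.compactSpace_of_compactSpace f
  have hs : QuasiSeparatedSpace X := quasiSeparatedSpace_of_quasiSeparated f
  refine core X fun x => ?_
  obtain ⟨_, ⟨_, ⟨s, hs, rfl⟩, rfl⟩, hxs, -⟩ := (Scheme.IsQuasiAffine.isBasis_basicOpen
    Y).exists_subset_of_mem_open (Set.mem_univ (f x)) isOpen_univ
  refine ⟨f.appTop s, ?_, ?_⟩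
  · rw [← Scheme.preimage_basicOpen_top]; exact hxs
  · rw [← Scheme.preimage_basicOpen_top]; exact hf.2 _ hs

/-- quasi-affineness of a morphism can be checked on an affine open cover of the target -/
lemma qaHom_of_cover {X Y : Scheme.{u}} (f : X ⟶ Y) {ι : Type u} (V : ι → Y.Opens)
    (hV : iSup V = ⊤) (hVa : ∀ i, IsAffineOpen (V i))
    (hq : ∀ i, Scheme.IsQuasiAffine (↑(f ⁻¹ᵁ V i) : Scheme.{u})) : QAHom f := by
  have hqc : QuasiCompact f := by
    refine IsZariskiLocalAtTarget.of_iSup_eq_top (P := @QuasiCompact) V hV fun i => ?_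
    have := hq i
    have : IsAffine (V i).toScheme := hVa i
    exact (quasiCompact_iff_compactSpace (f ∣_ V i)).mpr inferInstance
  refine ⟨hqc, fun W hW => ?_⟩
  have hWa : IsAffine W.toScheme := hW
  refine isQuasiAffine_of_cover_of_isAffine (f ∣_ W)
    (ι := {D : W.toScheme.Opens // IsAffineOpen D ∧ ∃ i, W.ι ''ᵁ D ≤ V i})
    (fun D => D.1) ?_ (fun D => D.2.1) (fun D => ?_)
  · rw [eq_top_iff]
    rintro w -
    obtain ⟨i, hi⟩ : ∃ i, W.ι w ∈ V i := by
      have : W.ι w ∈ iSup V := hV ▸ (trivial : W.ι w ∈ (⊤ : Y.Opens))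
      exact Opens.mem_iSup.mp this
    obtain ⟨D, hD, hwD, hDle⟩ := Opens.isBasis_iff_nbhd.mp (W.toScheme.isBasis_affineOpens)
      (show w ∈ W.ι ⁻¹ᵁ V i from hi)
    refine Opens.mem_iSup.mpr ⟨⟨D, hD, i, ?_⟩, hwD⟩
    rintro _ ⟨d, hd, rfl⟩
    exact hDle hd
  · obtain ⟨D, hD, i, hDi⟩ := D
    have hqcg : QuasiCompact (f ∣_ W) := inferInstance
    have hc : CompactSpace ((f ∣_ W) ⁻¹ᵁ D).toScheme :=
      isCompact_iff_compactSpace.mp ((f ∣_ W).isCompact_preimage hD.isCompact)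
    refine of_openImmersion_le (((f ∣_ W) ⁻¹ᵁ D).ι ≫ (f ⁻¹ᵁ W).ι) (f ⁻¹ᵁ V i) ?_ (hq i)
    rintro _ ⟨z, rfl⟩
    exact hDi (mem_preimage_image f W D z)

/-- affine opens of the source mapping into affine opens of the target cover the source -/
lemma iSup_affine_le_preimage_affine {Y' Y : Scheme.{u}} (g : Y' ⟶ Y) :
    (⨆ V' : {V' : Y'.Opens // IsAffineOpen V' ∧ ∃ V : Y.Opens, IsAffineOpen V ∧ V' ≤ g ⁻¹ᵁ V},
      V'.1) = ⊤ := by
  rw [eq_top_iff]
  rintro y -
  obtain ⟨V, hV, hyV, -⟩ := Opens.isBasis_iff_nbhd.mp (Y.isBasis_affineOpens)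
    (show g y ∈ (⊤ : Y.Opens) from trivial)
  obtain ⟨V', hV', hyV', hle⟩ := Opens.isBasis_iff_nbhd.mp (Y'.isBasis_affineOpens)
    (show y ∈ g ⁻¹ᵁ V from hyV)
  exact Opens.mem_iSup.mpr ⟨⟨V', hV', V, hV, hle⟩, hyV'⟩

/-- composition -/
lemma qaHom_comp {X Y Z : Scheme.{u}} (f : X ⟶ Y) (g : Y ⟶ Z) (hf : QAHom f) (hg : QAHom g) :
    QAHom (f ≫ g) := by
  have := hf.1
  have := hg.1
  refine ⟨inferInstance, fun W hW => ?_⟩
  have hY' := hg.2 W hW
  exact isQuasiAffine_of_qaHom (f ∣_ (g ⁻¹ᵁ W)) (qaHom_restrict f hf _)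

/-- base change, local piece -/
lemma bc_aux {X Y Y' : Scheme.{u}} (f : X ⟶ Y) (hf : QAHom f) (g : Y' ⟶ Y) (V' : Y'.Opens)
    (hV' : IsAffineOpen V') (V : Y.Opens) (hV : IsAffineOpen V) (hle : V' ≤ g ⁻¹ᵁ V) :
    Scheme.IsQuasiAffine (↑((pullback.snd f g) ⁻¹ᵁ V') : Scheme.{u}) := by
  have H : IsPullback (pullback.fst f g) (pullback.snd f g) f g := IsPullback.of_hasPullback f g
  have e : (pullback.snd f g) ⁻¹ᵁ V' =
      (pullback.fst f g) ⁻¹ᵁ (f ⁻¹ᵁ V) ⊓ (pullback.snd f g) ⁻¹ᵁ V' := by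
    refine (inf_eq_right.mpr ?_).symm
    intro z hz
    show f (pullback.fst f g z) ∈ V
    have h1 : f (pullback.fst f g z) = g (pullback.snd f g z) := by
      rw [← Scheme.Hom.comp_apply, ← Scheme.Hom.comp_apply, pullback.condition]
    rw [h1]; exact hle hz
  rw [e]
  have sq := Scheme.Hom.isPullback_resLE H (US := V) (UT := V') (UX := f ⁻¹ᵁ V) hle le_rfl
    (UY := (pullback.fst f g) ⁻¹ᵁ (f ⁻¹ᵁ V) ⊓ (pullback.snd f g) ⁻¹ᵁ V') rfl
  have : IsAffine V.toScheme := hV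
  have : IsAffine V'.toScheme := hV'
  have hq := hf.2 V hV
  have haff := MorphismProperty.of_isPullback (P := @IsAffineHom) sq.flip
    (inferInstance : IsAffineHom (g.resLE V V' hle))
  exact @Scheme.IsQuasiAffine.of_isAffineHom _ _ _ haff hq

/-- base change -/
lemma qaHom_baseChange {X Y Y' : Scheme.{u}} (f : X ⟶ Y) (hf : QAHom f) (g : Y' ⟶ Y) :
    QAHom (pullback.snd f g) := by
  refine qaHom_of_cover (pullback.snd f g)
    (ι := {V' : Y'.Opens // IsAffineOpen V' ∧ ∃ V : Y.Opens, IsAffineOpen V ∧ V' ≤ g ⁻¹ᵁ V})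
    (fun V' => V'.1) (iSup_affine_le_preimage_affine g) (fun V' => V'.2.1) (fun V' => ?_)
  obtain ⟨V', hV', V, hV, hle⟩ := V'
  exact bc_aux f hf g V' hV' V hV hle

/-- cancellation -/
lemma qaHom_of_comp {X Y Z : Scheme.{u}} (f : X ⟶ Y) (g : Y ⟶ Z) [QuasiSeparated g]
    (h : QAHom (f ≫ g)) : QAHom f := by
  have := h.1
  have hqc : QuasiCompact f := QuasiCompact.of_comp f g
  refine qaHom_of_cover f
    (ι := {V : Y.Opens // IsAffineOpen V ∧ ∃ W : Z.Opens, IsAffineOpen W ∧ V ≤ g ⁻¹ᵁ W})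
    (fun V => V.1) (iSup_affine_le_preimage_affine g) (fun V => V.2.1) (fun V => ?_)
  obtain ⟨V, hV, W, hW, hle⟩ := V
  have hc : CompactSpace (f ⁻¹ᵁ V).toScheme :=
    isCompact_iff_compactSpace.mp (f.isCompact_preimage hV.isCompact)
  exact of_openImmersion_le (f ⁻¹ᵁ V).ι ((f ≫ g) ⁻¹ᵁ W)
    (by rw [Scheme.Opens.range_ι]; exact fun z hz => hle hz) (h.2 W hW)

/-- a quasi-compact scheme with a topological embedding into an affine scheme is quasi-affine -/
lemma isQuasiAffine_of_isEmbedding {X Y : Scheme.{u}} [IsAffine Y] [CompactSpace X] (g : X ⟶ Y)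
    (hg : Topology.IsEmbedding g) : X.IsQuasiAffine := by
  refine Scheme.IsQuasiAffine.of_forall_exists_mem_basicOpen X fun x => ?_
  obtain ⟨U, hU, hxU, -⟩ := Opens.isBasis_iff_nbhd.mp (X.isBasis_affineOpens)
    (show x ∈ (⊤ : X.Opens) from trivial)
  obtain ⟨W, hWo, hWU⟩ := hg.isInducing.isOpen_iff.mp U.2
  have hgx : g x ∈ W := by
    have : x ∈ g ⁻¹' W := by rw [hWU]; exact hxU
    exact this
  obtain ⟨_, ⟨_, ⟨b, rfl⟩, rfl⟩, hxb, hbW⟩ :=
    (isBasis_basicOpen Y).exists_subset_of_mem_open hgx hWo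
  have hle : X.basicOpen (g.appTop b) ≤ U := by
    rw [← Scheme.preimage_basicOpen_top]
    intro z hz
    have h1 : z ∈ g ⁻¹' W := hbW hz
    rw [hWU] at h1; exact h1
  refine ⟨g.appTop b, ?_, ?_⟩
  · have h2 : X.basicOpen (X.presheaf.map (homOfLE (le_top : U ≤ ⊤)).op (g.appTop b)) =
        X.basicOpen (g.appTop b) := by
      rw [Scheme.basicOpen_res]; exact inf_eq_right.mpr hle
    rw [← h2]
    exact hU.basicOpen _
  · rw [← Scheme.preimage_basicOpen_top]; exact hxb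

/-- a quasi-compact morphism which is a topological embedding is quasi-affine -/
lemma qaHom_of_isEmbedding {X Y : Scheme.{u}} (f : X ⟶ Y) [QuasiCompact f]
    (hf : Topology.IsEmbedding f) : QAHom f := by
  refine ⟨inferInstance, fun V hV => ?_⟩
  have : IsAffine V.toScheme := hV
  have hc : CompactSpace (f ⁻¹ᵁ V).toScheme :=
    isCompact_iff_compactSpace.mp (f.isCompact_preimage hV.isCompact)
  refine isQuasiAffine_of_isEmbedding (f ∣_ V) ?_
  rw [morphismRestrict_base]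
  exact hf.restrictPreimage V.1

end Groth.Agent.H93.QAff
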