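import Groth.Agent.H93.ThickAff
import Mathlib.AlgebraicGeometry.Morphisms.Integral
import Mathlib.AlgebraicGeometry.Morphisms.Separated
import Mathlib.AlgebraicGeometry.Morphisms.UniversallyClosed

/-!
# Morphisms of thickenings: affine / integral iff
-/

set_option autoImplicit false
universe u

namespace Groth.Agent.H93.ThickHom

open AlgebraicGeometry CategoryTheory CategoryTheory.Limits TopologicalSpace Opposite

theorem affineHom_iff {X X' S S' : Scheme.{u}} (iX : X ⟶ X') (iS : S ⟶ S') (f : X ⟶ S)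
    (f' : X' ⟶ S') [IsClosedImmersion iX] [IsClosedImmersion iS]
    (hX : Function.Surjective iX.base) (w : iX ≫ f' = f ≫ iS) :
    IsAffineHom f ↔ IsAffineHom f' := by
  constructor
  · intro hf
    refine ⟨fun U hU => ?_⟩
    have e : iX ⁻¹ᵁ (f' ⁻¹ᵁ U) = f ⁻¹ᵁ (iS ⁻¹ᵁ U) := by
      rw [← Scheme.Hom.comp_preimage, ← Scheme.Hom.comp_preimage, w]
    have hsrc : IsAffineOpen (iX ⁻¹ᵁ (f' ⁻¹ᵁ U)) := e ▸ ((hU.preimage iS).preimage f)
    have : IsAffine (iX ⁻¹ᵁ (f' ⁻¹ᵁ U)).toScheme := hsrc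
    have hsurj : Function.Surjective (iX ∣_ (f' ⁻¹ᵁ U)).base := by
      rintro ⟨y, hy⟩
      obtain ⟨x, rfl⟩ := hX y
      exact ⟨⟨x, hy⟩, Subtype.ext (morphismRestrict_base_coe iX (f' ⁻¹ᵁ U) ⟨x, hy⟩)⟩
    exact Groth.Agent.H93.ThickAff.main (iX ∣_ (f' ⁻¹ᵁ U)) hsurj
  · intro hf'
    have : IsAffineHom (f ≫ iS) := by
      rw [← w]
      infer_instance
    exact IsAffineHom.of_comp f iS

theorem integralHom_iff {X X' S S' : Scheme.{u}} (iX : X ⟶ X') (iS : S ⟶ S') (f : X ⟶ S)
    (f' : X' ⟶ S') [IsClosedImmersion iX] [IsClosedImmersion iS]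
    (hX : Function.Surjective iX.base) (w : iX ≫ f' = f ≫ iS) :
    IsIntegralHom f ↔ IsIntegralHom f' := by
  constructor
  · intro hf
    rw [IsIntegralHom.iff_universallyClosed_and_isAffineHom]
    refine ⟨?_, (affineHom_iff iX iS f f' hX w).mp inferInstance⟩
    have : Surjective iX := ⟨hX⟩
    have : UniversallyClosed (iX ≫ f') := by
      rw [w]
      infer_instance
    exact UniversallyClosed.of_comp_surjective iX f'
  · intro hf'
    have : IsIntegralHom (f ≫ iS) := by
      rw [← w]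
      infer_instance
    exact IsIntegralHom.of_comp f iS

end Groth.Agent.H93.ThickHom
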