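import Mathlib
import Groth.Prelude.Def_Rees
import Groth.Prelude.Def_BlowUp2
import Groth.Prelude.Def_ega3
import Groth.Agent.H95.ReesProjDefs
set_option autoImplicit false
set_option linter.unusedSimpArgs false
universe u
open CategoryTheory AlgebraicGeometry
open Groth.Agent.H95.ReesProj

namespace Groth.Agent.H93.RP_U2

variable (A : Type u) [CommRing A] (I : Ideal A)

open HomogeneousLocalization in
/-- key identity in `Away (bX)`: `a = ((aX)/(bX)) · b`. -/
theorem key_identity (a b : A) (ha : a ∈ I) (hb : b ∈ I) :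
    toAway A I b hb a =
      Away.isLocalizationElem (gen_mem A I b hb) (gen_mem A I a ha) * toAway A I b hb b := by
  apply HomogeneousLocalization.val_injective
  rw [HomogeneousLocalization.val_mul]
  change Localization.mk _ _ = Localization.mk _ _ * Localization.mk _ _
  rw [Localization.mk_mul, Localization.mk_eq_mk_iff, Localization.r_iff_exists]
  refine ⟨1, ?_⟩
  apply Subtype.ext
  simp only [Subalgebra.coe_mul, Submonoid.coe_mul, Submonoid.coe_one, Subalgebra.coe_one, pow_one,
    one_mul, mul_one, OneMemClass.coe_one]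
  show (Polynomial.monomial 1 b : Polynomial A) * 1 * Polynomial.C a =
    1 * ((Polynomial.monomial 1 a : Polynomial A) * Polynomial.C b)
  rw [mul_one, one_mul, Polynomial.monomial_mul_C, Polynomial.monomial_mul_C, mul_comm]

open HomogeneousLocalization in
/-- the element `(aX)/(bX)` becomes a unit as soon as `I` becomes principal generated by the
non-zero-divisor image of `a`. -/
theorem isUnit_elem (a b : A) (ha : a ∈ I) (hb : b ∈ I) {C' : Type u} [CommRing C']
    (φ' : A →+* C') (hgen : I.map φ' = Ideal.span {φ' a}) (hnzd : φ' a ∈ nonZeroDivisors C')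
    (ψ : Away (Rees.deg (reesAlgebra I)) (gen A I b hb) →+* C')
    (hψ : ψ.comp (toAway A I b hb) = φ') :
    IsUnit (ψ (Away.isLocalizationElem (gen_mem A I b hb) (gen_mem A I a ha))) := by
  have h1 : φ' a = ψ (Away.isLocalizationElem (gen_mem A I b hb) (gen_mem A I a ha)) * φ' b := by
    rw [← hψ, RingHom.comp_apply, RingHom.comp_apply, key_identity A I a b ha hb, map_mul]
  have h2 : φ' b ∈ Ideal.span {φ' a} := hgen ▸ Ideal.mem_map_of_mem _ hb
  obtain ⟨w, hw⟩ := Ideal.mem_span_singleton'.mp h2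
  have h3 : φ' a * (ψ (Away.isLocalizationElem (gen_mem A I b hb) (gen_mem A I a ha)) * w) =
      φ' a * 1 := by
    rw [mul_one]
    conv_rhs => rw [h1, ← hw]
    ring
  have h4 := (mul_cancel_left_mem_nonZeroDivisors hnzd).mp h3
  exact IsUnit.of_mul_eq_one _ h4

/-- monomials of positive degree lie in any ideal containing all `bX`. -/
theorem monomial_mem_of_gen_mem (P : Ideal (reesAlgebra I))
    (hP : ∀ b (hb : b ∈ I), gen A I b hb ∈ P) (n : ℕ) :
    ∀ r ∈ I ^ (n + 1), ∃ h : Polynomial.monomial (n + 1) r ∈ reesAlgebra I,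
      (⟨Polynomial.monomial (n + 1) r, h⟩ : reesAlgebra I) ∈ P := by
  intro r hr
  rw [pow_succ'] at hr
  refine Submodule.mul_induction_on hr ?_ ?_
  · intro b hb c hc
    have hc' : Polynomial.monomial n c ∈ reesAlgebra I := reesAlgebra.monomial_mem.mpr hc
    have hbc : Polynomial.monomial (n + 1) (b * c) ∈ reesAlgebra I := by
      have h0 : Polynomial.monomial (n + 1) (b * c) =
          Polynomial.monomial 1 b * Polynomial.monomial n c := by
        rw [Polynomial.monomial_mul_monomial, add_comm]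
      rw [h0]
      exact Subalgebra.mul_mem _ (gen A I b hb).2 hc'
    refine ⟨hbc, ?_⟩
    have h5 : (⟨Polynomial.monomial (n + 1) (b * c), hbc⟩ : reesAlgebra I) =
        gen A I b hb * ⟨Polynomial.monomial n c, hc'⟩ := by
      apply Subtype.ext
      rw [Subalgebra.coe_mul]
      show Polynomial.monomial (n + 1) (b * c) = Polynomial.monomial 1 b * Polynomial.monomial n c
      rw [Polynomial.monomial_mul_monomial, add_comm]
    rw [h5]
    exact P.mul_mem_right _ (hP b hb)
  · rintro x y ⟨hx, hxP⟩ ⟨hy, hyP⟩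
    have hxy : Polynomial.monomial (n + 1) (x + y) ∈ reesAlgebra I := by
      rw [map_add]
      exact Subalgebra.add_mem _ hx hy
    refine ⟨hxy, ?_⟩
    have h6 : (⟨Polynomial.monomial (n + 1) (x + y), hxy⟩ : reesAlgebra I) =
        ⟨Polynomial.monomial (n + 1) x, hx⟩ + ⟨Polynomial.monomial (n + 1) y, hy⟩ := by
      apply Subtype.ext
      rw [Subalgebra.coe_add]
      exact map_add _ _ _
    rw [h6]
    exact P.add_mem hxP hyP

/-- the `D₊(bX)`, `b ∈ I`, cover `Proj` of the Rees algebra. -/
theorem exists_gen_mem_basicOpen (y : Proj (Rees.deg (reesAlgebra I))) :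
    ∃ (b : A) (hb : b ∈ I), y ∈ Proj.basicOpen (Rees.deg (reesAlgebra I)) (gen A I b hb) := by
  by_contra hcon
  push Not at hcon
  have hmem : ∀ b (hb : b ∈ I), gen A I b hb ∈ y.asHomogeneousIdeal.toIdeal := by
    intro b hb
    have h0 := hcon b hb
    rw [Proj.mem_basicOpen] at h0
    exact not_not.mp h0
  apply y.not_irrelevant_le
  rw [HomogeneousIdeal.irrelevant_le]
  intro i hi z hz
  obtain ⟨n, rfl⟩ : ∃ n, i = n + 1 := Nat.exists_eq_succ_of_ne_zero hi.ne'
  have hz' : ∀ m, m ≠ n + 1 → (z : Polynomial A).coeff m = 0 := hz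
  have hzeq : (z : Polynomial A) =
      Polynomial.monomial (n + 1) ((z : Polynomial A).coeff (n + 1)) := by
    ext m
    rw [Polynomial.coeff_monomial]
    split_ifs with h
    · rw [h]
    · exact hz' m (Ne.symm h)
  have hr : (z : Polynomial A).coeff (n + 1) ∈ I ^ (n + 1) := z.2 (n + 1)
  obtain ⟨h, hP⟩ := monomial_mem_of_gen_mem A I y.asHomogeneousIdeal.toIdeal hmem n _ hr
  have h7 : z = ⟨Polynomial.monomial (n + 1) ((z : Polynomial A).coeff (n + 1)), h⟩ :=
    Subtype.ext hzeq
  rw [h7]
  exact hP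

open HomogeneousLocalization in
theorem U2 (a : A) (ha : a ∈ I) {C : Type u} [CommRing C] (φ : A →+* C)
    (hgen : I.map φ = Ideal.span {φ a}) (hnzd : φ a ∈ nonZeroDivisors C)
    (v : Spec (CommRingCat.of C) ⟶ Proj (Rees.deg (reesAlgebra I)))
    (hv : v ≫ (Proj (Rees.deg (reesAlgebra I)) ↘ Spec (CommRingCat.of A)) =
      Spec.map (CommRingCat.ofHom φ)) :
    Set.range v ⊆ (Proj.basicOpen (Rees.deg (reesAlgebra I)) (gen A I a ha) : Set _) := by
  rintro _ ⟨x, rfl⟩
  obtain ⟨b, hb, hyb⟩ := exists_gen_mem_basicOpen A I (v.base x)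
  have hopen : IsOpen (v.base ⁻¹'
      (Proj.basicOpen (Rees.deg (reesAlgebra I)) (gen A I b hb) : Set _)) :=
    (Proj.basicOpen (Rees.deg (reesAlgebra I)) (gen A I b hb)).isOpen.preimage v.continuous
  obtain ⟨c, hxc, hcsub⟩ : ∃ c : C, x ∈ (PrimeSpectrum.basicOpen c : Set (PrimeSpectrum C)) ∧
      (PrimeSpectrum.basicOpen c : Set (PrimeSpectrum C)) ⊆ v.base ⁻¹'
        (Proj.basicOpen (Rees.deg (reesAlgebra I)) (gen A I b hb) : Set _) := by
    obtain ⟨_, ⟨c, rfl⟩, hx, hsub⟩ :=
      PrimeSpectrum.isTopologicalBasis_basic_opens.exists_subset_of_mem_open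
        (show x ∈ v.base ⁻¹' (Proj.basicOpen (Rees.deg (reesAlgebra I)) (gen A I b hb) : Set _)
          from hyb) hopen
    exact ⟨c, hx, hsub⟩
  let jc : Spec (CommRingCat.of (Localization.Away c)) ⟶ Spec (CommRingCat.of C) :=
    Spec.map (CommRingCat.ofHom (algebraMap C (Localization.Away c)))
  have hjc : Set.range jc.base = (PrimeSpectrum.basicOpen c : Set (PrimeSpectrum C)) :=
    PrimeSpectrum.localization_away_comap_range (Localization.Away c) c
  have hrange : Set.range (jc ≫ v).base ⊆
      Set.range (Proj.awayι (Rees.deg (reesAlgebra I)) (gen A I b hb) (gen_mem A I b hb)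
        one_pos).base := by
    have h0 : Set.range (Proj.awayι (Rees.deg (reesAlgebra I)) (gen A I b hb) (gen_mem A I b hb)
        one_pos).base = (Proj.basicOpen (Rees.deg (reesAlgebra I)) (gen A I b hb) : Set _) := by
        rw [← Proj.opensRange_awayι (Rees.deg (reesAlgebra I)) (gen A I b hb) (gen_mem A I b hb)
          one_pos]
        rfl
    rw [h0]
    rintro _ ⟨z, rfl⟩
    apply hcsub
    rw [← hjc]
    exact ⟨z, rfl⟩
  let w := IsOpenImmersion.lift (Proj.awayι (Rees.deg (reesAlgebra I)) (gen A I b hb)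
    (gen_mem A I b hb) one_pos) (jc ≫ v) hrange
  have hw : w ≫ Proj.awayι (Rees.deg (reesAlgebra I)) (gen A I b hb) (gen_mem A I b hb) one_pos =
      jc ≫ v := IsOpenImmersion.lift_fac _ _ _
  obtain ⟨ψ', hψ'⟩ := Spec.map_surjective w
  have h2 : Proj.awayι (Rees.deg (reesAlgebra I)) (gen A I b hb) (gen_mem A I b hb) one_pos ≫
      (Proj (Rees.deg (reesAlgebra I)) ↘ Spec (CommRingCat.of A)) =
      Spec.map (CommRingCat.ofHom (toAway A I b hb)) := by
    show _ ≫ Proj.toSpecZero _ ≫ Spec.map _ = _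
    rw [← Category.assoc, Proj.awayι_toSpecZero, ← Spec.map_comp]
    rfl
  have hcomp : ψ'.hom.comp (toAway A I b hb) = (algebraMap C (Localization.Away c)).comp φ := by
    have h1 : (w ≫ Proj.awayι (Rees.deg (reesAlgebra I)) (gen A I b hb) (gen_mem A I b hb)
        one_pos) ≫ (Proj (Rees.deg (reesAlgebra I)) ↘ Spec (CommRingCat.of A)) =
        jc ≫ Spec.map (CommRingCat.ofHom φ) := by
      rw [hw, Category.assoc, hv]
    rw [Category.assoc, h2, ← hψ', ← Spec.map_comp, ← Spec.map_comp] at h1
    have h3 := Spec.map_injective h1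
    ext r
    exact congrArg (fun f => f.hom r) h3
  have hgen' : I.map ((algebraMap C (Localization.Away c)).comp φ) =
      Ideal.span {((algebraMap C (Localization.Away c)).comp φ) a} := by
    rw [← Ideal.map_map, hgen, Ideal.map_span, Set.image_singleton]
    rfl
  have hnzd' : ((algebraMap C (Localization.Away c)).comp φ) a ∈
      nonZeroDivisors (Localization.Away c) :=
    IsLocalization.map_nonZeroDivisors_le (Submonoid.powers c) (Localization.Away c)
      (Submonoid.mem_map_of_mem _ hnzd)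
  have hunit := isUnit_elem A I a b ha hb _ hgen' hnzd' ψ'.hom hcomp
  -- the point
  obtain ⟨x', hx'⟩ : ∃ x', jc.base x' = x := by
    have : x ∈ Set.range jc.base := by rw [hjc]; exact hxc
    exact this
  have hpt : (Proj.awayι (Rees.deg (reesAlgebra I)) (gen A I b hb) (gen_mem A I b hb)
      one_pos).base (w.base x') = v.base x := by
    have h8 : (w ≫ Proj.awayι (Rees.deg (reesAlgebra I)) (gen A I b hb) (gen_mem A I b hb)
      one_pos).base x' = (jc ≫ v).base x' := by rw [hw]
    rw [← hx']
    exact h8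
  have hmem : w.base x' ∈ (Proj.awayι (Rees.deg (reesAlgebra I)) (gen A I b hb) (gen_mem A I b hb)
      one_pos) ⁻¹ᵁ Proj.basicOpen (Rees.deg (reesAlgebra I)) (gen A I a ha) := by
    rw [Proj.awayι_preimage_basicOpen (Rees.deg (reesAlgebra I)) (gen_mem A I b hb) one_pos
      (gen_mem A I a ha) one_pos]
    show Away.isLocalizationElem (gen_mem A I b hb) (gen_mem A I a ha) ∉ (w.base x').asIdeal
    rw [← hψ']
    intro hcontra
    have h9 : ψ'.hom (Away.isLocalizationElem (gen_mem A I b hb) (gen_mem A I a ha)) ∈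
        x'.asIdeal := hcontra
    exact x'.isPrime.ne_top (Ideal.eq_top_of_isUnit_mem _ h9 hunit)
  have hfinal : (Proj.awayι (Rees.deg (reesAlgebra I)) (gen A I b hb) (gen_mem A I b hb)
      one_pos).base (w.base x') ∈
      (Proj.basicOpen (Rees.deg (reesAlgebra I)) (gen A I a ha) : Set _) := hmem
  rw [hpt] at hfinal
  exact hfinal

end Groth.Agent.H93.RP_U2
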