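import Mathlib
import Groth.Agent.H37.GeomSepClosed
import Groth.Agent.H37.FieldBase
import Groth.Agent.H37.GeomDescentFlat
import Groth.Agent.H37.PbPoints

/-!
# Group schemes over a field: irreducible components through a point

For a group scheme `G` over a field, through every point of `G` there passes exactly one
irreducible component; the component through the unit is geometrically irreducible.
-/

set_option autoImplicit false
universe u
open CategoryTheory CategoryTheory.Limits AlgebraicGeometry MonoidalCategory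
  CartesianMonoidalCategory MonObj GrpObj

namespace Groth.Agent.H93.GrpIrr

section Top

/-- At most one irreducible component passes through `x`. -/
def UniqueComp (X : Type*) [TopologicalSpace X] (x : X) : Prop :=
  ∀ Z₁ ∈ irreducibleComponents X, ∀ Z₂ ∈ irreducibleComponents X, x ∈ Z₁ → x ∈ Z₂ → Z₁ = Z₂

variable {X Y : Type*} [TopologicalSpace X] [TopologicalSpace Y]

theorem exists_comp_of_irreducible {s : Set X} (hs : IsIrreducible s) :
    ∃ Z ∈ irreducibleComponents X, s ⊆ Z := by
  obtain ⟨t, ht, hst, hmax⟩ := exists_preirreducible s hs.isPreirreducible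
  have hmem : t ∈ irreducibleComponents X := by
    show Maximal IsIrreducible t
    exact ⟨⟨hs.nonempty.mono hst, ht⟩, fun u hu htu => (hmax u hu.isPreirreducible htu).le⟩
  exact ⟨t, hmem, hst⟩

theorem exists_comp_mem (x : X) : ∃ Z ∈ irreducibleComponents X, x ∈ Z := by
  obtain ⟨Z, hZ, h⟩ := exists_comp_of_irreducible (isIrreducible_singleton (x := x))
  exact ⟨Z, hZ, h (Set.mem_singleton x)⟩

theorem exists_genericPoint [QuasiSober X] {Z : Set X} (hZ : Z ∈ irreducibleComponents X) :
    ∃ ζ : X, closure {ζ} = Z := by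
  have hZ' : Maximal IsIrreducible Z := hZ
  obtain ⟨ζ, hζ⟩ := QuasiSober.sober hZ'.prop (isClosed_of_mem_irreducibleComponents Z hZ)
  exact ⟨ζ, hζ.def⟩

theorem eq_of_specializes_genericPoint [T0Space X] {Z : Set X}
    (hZ : Z ∈ irreducibleComponents X) {ζ y : X} (hζ : closure {ζ} = Z) (h : y ⤳ ζ) : y = ζ := by
  have hZ' : Maximal IsIrreducible Z := hZ
  have h1 : Z ⊆ closure {y} := by
    rw [← hζ]
    exact closure_minimal (Set.singleton_subset_iff.mpr h.mem_closure) isClosed_closure
  have h2 : closure {y} ⊆ Z := hZ'.2 (isIrreducible_singleton (x := y)).closure h1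
  have h3 : ζ ⤳ y := by
    rw [specializes_iff_mem_closure, hζ]
    exact h2 (subset_closure (Set.mem_singleton y))
  exact (h.antisymm h3).eq

theorem UniqueComp.of_generalizing [QuasiSober X] {p : Y → X} (hp : Continuous p)
    (hg : GeneralizingMap p) {y : Y} (hy : UniqueComp Y y) : UniqueComp X (p y) := by
  have key : ∀ Z ∈ irreducibleComponents X, p y ∈ Z →
      ∃ W ∈ irreducibleComponents Y, y ∈ W ∧ Z = closure (p '' W) := by
    intro Z hZ hyZ
    have hZ' : Maximal IsIrreducible Z := hZ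
    obtain ⟨ζ, hζ⟩ := exists_genericPoint hZ
    have hs : ζ ⤳ p y := by rw [specializes_iff_mem_closure, hζ]; exact hyZ
    obtain ⟨y', hy'y, hpy'⟩ := hg hs
    obtain ⟨W, hW, hsub⟩ := exists_comp_of_irreducible
      (isIrreducible_singleton (x := y')).closure
    have hW' : Maximal IsIrreducible W := hW
    refine ⟨W, hW, hsub hy'y.mem_closure, ?_⟩
    have hirr : IsIrreducible (closure (p '' W)) := (hW'.prop.image p hp.continuousOn).closure
    have hsub' : Z ⊆ closure (p '' W) := by
      rw [← hζ]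
      refine closure_minimal (Set.singleton_subset_iff.mpr ?_) isClosed_closure
      exact subset_closure ⟨y', hsub (subset_closure (Set.mem_singleton y')), hpy'⟩
    exact subset_antisymm hsub' (hZ'.2 hirr hsub')
  intro Z₁ hZ₁ Z₂ hZ₂ h₁ h₂
  obtain ⟨W₁, hW₁, hy₁, e₁⟩ := key Z₁ hZ₁ h₁
  obtain ⟨W₂, hW₂, hy₂, e₂⟩ := key Z₂ hZ₂ h₂
  rw [e₁, e₂, hy W₁ hW₁ W₂ hW₂ hy₁ hy₂]

theorem asIdeal_le_of_specializes {R : Type*} [CommSemiring R] {Q P : PrimeSpectrum R}
    (h : Q ⤳ P) : Q.asIdeal ≤ P.asIdeal := (PrimeSpectrum.le_iff_specializes Q P).mpr h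

end Top

section Core

/-- The abstract core: a "multiplication" `m` on `X` over a one-point base with two-sided unit
`ε`, with generalizing projections and irreducible fibres of `(pr₁, pr₂)`, forces a unique
irreducible component through the unit. -/
theorem core {P X S : Scheme.{u}} (pr₁ pr₂ m : P ⟶ X) (h : X ⟶ S) (ε : S ⟶ X) (s₁ s₂ : X ⟶ P)
    (h11 : s₁ ≫ pr₁ = 𝟙 X) (h12 : s₁ ≫ pr₂ = h ≫ ε) (h1m : s₁ ≫ m = 𝟙 X)
    (h21 : s₂ ≫ pr₁ = h ≫ ε) (h22 : s₂ ≫ pr₂ = 𝟙 X) (h2m : s₂ ≫ m = 𝟙 X)
    (g₁ : GeneralizingMap pr₁) (g₂ : GeneralizingMap pr₂)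
    (hF : ∀ x x' : X, IsPreirreducible ((pr₁ ⁻¹' {x}) ∩ (pr₂ ⁻¹' {x'})))
    [Subsingleton S] (s₀ : S) : UniqueComp X (ε s₀) := by
  intro Z₁ hZ₁ Z₂ hZ₂ he₁ he₂
  obtain ⟨τ, hτ⟩ := exists_genericPoint hZ₁
  obtain ⟨τ', hτ'⟩ := exists_genericPoint hZ₂
  have hτe : τ ⤳ ε s₀ := by rw [specializes_iff_mem_closure, hτ]; exact he₁
  have hτ'e : τ' ⤳ ε s₀ := by rw [specializes_iff_mem_closure, hτ']; exact he₂
  have a11 : ∀ x, pr₁ (s₁ x) = x := fun x => by
    rw [← Scheme.Hom.comp_apply, h11]; rfl
  have a12 : ∀ x, pr₂ (s₁ x) = ε s₀ := fun x => by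
    rw [← Scheme.Hom.comp_apply, h12, Scheme.Hom.comp_apply, Subsingleton.elim (h x) s₀]
  have a1m : ∀ x, m (s₁ x) = x := fun x => by
    rw [← Scheme.Hom.comp_apply, h1m]; rfl
  have a21 : ∀ x, pr₁ (s₂ x) = ε s₀ := fun x => by
    rw [← Scheme.Hom.comp_apply, h21, Scheme.Hom.comp_apply, Subsingleton.elim (h x) s₀]
  have a22 : ∀ x, pr₂ (s₂ x) = x := fun x => by
    rw [← Scheme.Hom.comp_apply, h22]; rfl
  have a2m : ∀ x, m (s₂ x) = x := fun x => by
    rw [← Scheme.Hom.comp_apply, h2m]; rfl
  obtain ⟨p₁, hp₁, hp₁2⟩ := g₂ (a := s₁ τ) (b := τ') (by rw [a12]; exact hτ'e)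
  obtain ⟨p₂, hp₂, hp₂1⟩ := g₁ (a := s₂ τ') (b := τ) (by rw [a21]; exact hτe)
  have mp₁ : m p₁ = τ := eq_of_specializes_genericPoint hZ₁ hτ (by
    have := hp₁.map m.continuous
    rwa [a1m] at this)
  have mp₂ : m p₂ = τ' := eq_of_specializes_genericPoint hZ₂ hτ' (by
    have := hp₂.map m.continuous
    rwa [a2m] at this)
  have p₁1 : pr₁ p₁ = τ := eq_of_specializes_genericPoint hZ₁ hτ (by
    have := hp₁.map pr₁.continuous
    rwa [a11] at this)
  have p₂2 : pr₂ p₂ = τ' := eq_of_specializes_genericPoint hZ₂ hτ' (by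
    have := hp₂.map pr₂.continuous
    rwa [a22] at this)
  have hFirr : IsIrreducible ((pr₁ ⁻¹' {τ}) ∩ (pr₂ ⁻¹' {τ'})) := ⟨⟨p₁, p₁1, hp₁2⟩, hF τ τ'⟩
  obtain ⟨ω, hω⟩ := QuasiSober.sober hFirr.closure isClosed_closure
  have hω₁ : ω ⤳ p₁ := by
    rw [specializes_iff_mem_closure, hω.def]; exact subset_closure ⟨p₁1, hp₁2⟩
  have hω₂ : ω ⤳ p₂ := by
    rw [specializes_iff_mem_closure, hω.def]; exact subset_closure ⟨hp₂1, p₂2⟩
  have e1 : m ω = τ := eq_of_specializes_genericPoint hZ₁ hτ (by
    have := hω₁.map m.continuous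
    rwa [mp₁] at this)
  have e2 : m ω = τ' := eq_of_specializes_genericPoint hZ₂ hτ' (by
    have := hω₂.map m.continuous
    rwa [mp₂] at this)
  have : τ = τ' := e1.symm.trans e2
  subst this
  exact hτ.symm.trans hτ'

end Core

section Grp

variable {Ω : Type u} [Field Ω] [IsSepClosed Ω]

/-- Over a separably closed field, a group scheme has a unique irreducible component through
the unit. -/
theorem uniqueComp_unit (H : Over (Spec (CommRingCat.of Ω))) [GrpObj H] :
    UniqueComp H.left (η[H].left (IsLocalRing.closedPoint Ω)) := by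
  have hS := Groth.Agent.H37.integral_subsingleton_of_iso_spec_field Ω (Iso.refl _)
  have hSub : Subsingleton ↥(Spec (CommRingCat.of Ω)) := hS.2
  have hflat : Flat H.hom := Groth.Agent.H37.flat_to_spec_field Ω H.hom
  have hf1 : Flat (fst H H).left := by
    show Flat (pullback.fst H.hom H.hom)
    infer_instance
  have hf2 : Flat (snd H H).left := by
    show Flat (pullback.snd H.hom H.hom)
    infer_instance
  refine core (P := (H ⊗ H).left) (X := H.left) (S := Spec (CommRingCat.of Ω))
    (fst H H).left (snd H H).left μ[H].left H.hom η[H].left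
    (lift (𝟙 H) (toUnit H ≫ η[H])).left (lift (toUnit H ≫ η[H]) (𝟙 H)).left
    ?_ ?_ ?_ ?_ ?_ ?_ (Flat.generalizingMap _) (Flat.generalizingMap _) ?_ _
  · rw [← Over.comp_left, lift_fst, Over.id_left]
  · rw [← Over.comp_left, lift_snd, Over.comp_left, Over.toUnit_left]
  · rw [← Over.comp_left, lift_comp_one_right, Over.id_left]
  · rw [← Over.comp_left, lift_fst, Over.comp_left, Over.toUnit_left]
  · rw [← Over.comp_left, lift_snd, Over.id_left]
  · rw [← Over.comp_left, lift_comp_one_left, Over.id_left]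
  · intro x x'
    have hirr : IrreducibleSpace ↥(pullback (H.left.fromSpecResidueField x ≫ H.hom)
        (H.left.fromSpecResidueField x' ≫ H.hom)) := by
      have : GeometricallyIrreducible (H.left.fromSpecResidueField x ≫ H.hom) :=
        Groth.Agent.H37.geomIrr_of_isSepClosed (k := Ω) _
      have : UniversallyOpen (H.left.fromSpecResidueField x ≫ H.hom) :=
        Groth.Agent.H37.univOpen_of_iso_spec_field Ω (Iso.refl _) _
      infer_instance
    have hr := Scheme.Pullback.range_map (H.left.fromSpecResidueField x ≫ H.hom)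
      (H.left.fromSpecResidueField x' ≫ H.hom) H.hom H.hom
      (H.left.fromSpecResidueField x) (H.left.fromSpecResidueField x') (𝟙 _)
      (Category.comp_id _) (Category.comp_id _)
    rw [Scheme.range_fromSpecResidueField, Scheme.range_fromSpecResidueField] at hr
    show IsPreirreducible
      (pullback.fst H.hom H.hom ⁻¹' {x} ∩ pullback.snd H.hom H.hom ⁻¹' {x'})
    rw [← hr, ← Set.image_univ]
    exact ((IrreducibleSpace.isIrreducible_univ _).image _
      (Scheme.Hom.continuous _).continuousOn).isPreirreducible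

/-- Over a separably closed field, a group scheme has a unique irreducible component through
every rational point. -/
theorem uniqueComp_of_point (H : Over (Spec (CommRingCat.of Ω))) [GrpObj H]
    (y : 𝟙_ (Over (Spec (CommRingCat.of Ω))) ⟶ H) :
    UniqueComp H.left (y.left (IsLocalRing.closedPoint Ω)) := by
  have h0 := uniqueComp_unit H
  have hiso : IsIso (GrpObj.mulRight y).hom.left :=
    (Over.forget _).map_isIso (GrpObj.mulRight y).hom
  have h1 := UniqueComp.of_generalizing (GrpObj.mulRight y).hom.left.continuous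
    ((GrpObj.mulRight y).hom.left.isOpenEmbedding.generalizingMap) h0
  have h2 : η[H] ≫ (GrpObj.mulRight y).hom = y := by
    have e := lift_comp_one_left (𝟙 (𝟙_ (Over (Spec (CommRingCat.of Ω))))) y
    rw [Category.id_comp] at e
    simpa [GrpObj.mulRight, comp_lift_assoc] using e
  have h3 : (GrpObj.mulRight y).hom.left (η[H].left (IsLocalRing.closedPoint Ω)) =
      y.left (IsLocalRing.closedPoint Ω) := by
    rw [← Scheme.Hom.comp_apply, ← Over.comp_left, h2]
  rwa [h3] at h1

end Grp

section Field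

variable {K : Type u} [Field K]

theorem exists_sepClosed_point (X : Scheme.{u}) (x : X) :
    ∃ (Ω : Type u) (_ : Field Ω) (_ : IsSepClosed Ω) (g : Spec (CommRingCat.of Ω) ⟶ X),
      g (IsLocalRing.closedPoint Ω) = x := by
  refine ⟨AlgebraicClosure (X.residueField x), inferInstance, inferInstance,
    Spec.map (CommRingCat.ofHom (algebraMap (X.residueField x)
      (AlgebraicClosure (X.residueField x)))) ≫ X.fromSpecResidueField x, ?_⟩
  have : (Spec.map (CommRingCat.ofHom (algebraMap (X.residueField x)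
      (AlgebraicClosure (X.residueField x)))) ≫ X.fromSpecResidueField x)
      (IsLocalRing.closedPoint _) ∈ Set.range (X.fromSpecResidueField x) :=
    ⟨_, (Scheme.Hom.comp_apply _ _ _).symm⟩
  rw [Scheme.range_fromSpecResidueField] at this
  exact this

theorem uniqueComp_of_geomPoint (G : Over (Spec (CommRingCat.of K))) [GrpObj G]
    {Ω : Type u} [Field Ω] [IsSepClosed Ω] (g₀ : Spec (CommRingCat.of Ω) ⟶ G.left) :
    UniqueComp G.left (g₀ (IsLocalRing.closedPoint Ω)) := by
  let _ : GrpObj (Over.mk G.hom) := ‹GrpObj G›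
  let _ : GrpObj (Over.mk (pullback.snd G.hom (g₀ ≫ G.hom))) := Over.grpObjMkPullbackSnd
  have hw : g₀ ≫ G.hom = 𝟙 _ ≫ (g₀ ≫ G.hom) := (Category.id_comp _).symm
  have h1 := uniqueComp_of_point (Over.mk (pullback.snd G.hom (g₀ ≫ G.hom)))
    (Over.homMk (pullback.lift g₀ (𝟙 _) hw) (pullback.lift_snd _ _ _))
  have hflat : Flat (g₀ ≫ G.hom) := Groth.Agent.H37.flat_to_spec_field K _
  have hq : Flat (pullback.fst G.hom (g₀ ≫ G.hom)) := inferInstance
  have h2 := UniqueComp.of_generalizing (p := ⇑(pullback.fst G.hom (g₀ ≫ G.hom)))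
    (pullback.fst G.hom (g₀ ≫ G.hom)).continuous (Flat.generalizingMap _) h1
  have h2' : UniqueComp G.left ((pullback.fst G.hom (g₀ ≫ G.hom))
      ((pullback.lift g₀ (𝟙 _) hw) (IsLocalRing.closedPoint Ω))) := h2
  have h3 : (pullback.fst G.hom (g₀ ≫ G.hom))
      ((pullback.lift g₀ (𝟙 _) hw) (IsLocalRing.closedPoint Ω)) =
      g₀ (IsLocalRing.closedPoint Ω) := by
    rw [← Scheme.Hom.comp_apply, pullback.lift_fst]
  rwa [h3] at h2'

/-- Through every point of a group scheme over a field passes at most one irreducible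
component. -/
theorem uniqueComp_point (G : Over (Spec (CommRingCat.of K))) [GrpObj G] (x : G.left) :
    UniqueComp G.left x := by
  obtain ⟨Ω, _, _, g₀, hg₀⟩ := exists_sepClosed_point G.left x
  have := uniqueComp_of_geomPoint G g₀
  rwa [hg₀] at this

theorem minimalPrimes_subsingleton_of_uniqueComp {X : Scheme.{u}} {x : X}
    (h : UniqueComp X x) : (minimalPrimes (X.presheaf.stalk x)).Subsingleton := by
  have hj := (X.fromSpecStalk x).isEmbedding
  have key : ∀ P : PrimeSpectrum (X.presheaf.stalk x),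
      P.asIdeal ∈ minimalPrimes (X.presheaf.stalk x) →
      ∃ Z ∈ irreducibleComponents X, x ∈ Z ∧ ∀ ζ : X, closure {ζ} = Z →
        X.fromSpecStalk x P = ζ := by
    intro P hP
    have hP' : Minimal (fun q : Ideal (X.presheaf.stalk x) => q.IsPrime ∧ ⊥ ≤ q) P.asIdeal := hP
    have hyx : X.fromSpecStalk x P ⤳ x := by
      have : X.fromSpecStalk x P ∈ Set.range (X.fromSpecStalk x) := ⟨_, rfl⟩
      rwa [Scheme.range_fromSpecStalk] at this
    obtain ⟨Z, hZ, hsub⟩ := exists_comp_of_irreducible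
      (isIrreducible_singleton (x := X.fromSpecStalk x P)).closure
    refine ⟨Z, hZ, hsub hyx.mem_closure, fun ζ hζ => ?_⟩
    have hζy : ζ ⤳ X.fromSpecStalk x P := by
      rw [specializes_iff_mem_closure, hζ]; exact hsub (subset_closure (Set.mem_singleton _))
    have hζr : ζ ∈ Set.range (X.fromSpecStalk x) := by
      rw [Scheme.range_fromSpecStalk]; exact hζy.trans hyx
    obtain ⟨Q, rfl⟩ := hζr
    have hQP : Q ⤳ P := hj.isInducing.specializes_iff.mp hζy
    have hle : Q.asIdeal ≤ P.asIdeal := asIdeal_le_of_specializes hQP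
    have hge : P.asIdeal ≤ Q.asIdeal := hP'.2 ⟨Q.isPrime, bot_le⟩ hle
    have : Q = P := PrimeSpectrum.ext (le_antisymm hle hge)
    rw [this]
  intro p₁ hp₁ p₂ hp₂
  obtain ⟨Z₁, hZ₁, hx₁, k₁⟩ := key ⟨p₁, Ideal.IsMinimalPrime.isPrime hp₁⟩ hp₁
  obtain ⟨Z₂, hZ₂, hx₂, k₂⟩ := key ⟨p₂, Ideal.IsMinimalPrime.isPrime hp₂⟩ hp₂
  have hZ := h Z₁ hZ₁ Z₂ hZ₂ hx₁ hx₂
  obtain ⟨ζ, hζ⟩ := exists_genericPoint hZ₁
  have e1 := k₁ ζ hζ
  have e2 := k₂ ζ (hζ.trans hZ)
  have := hj.injective (e1.trans e2.symm)
  exact congrArg PrimeSpectrum.asIdeal this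

end Field

section GeomIrr

variable {K : Type u} [Field K]

/-- Base change of the unit component along an integral extension to a separably closed field
is irreducible. -/
theorem irreducibleSpace_pullback_of_integral (G : Over (Spec (CommRingCat.of K))) [GrpObj G]
    (Z : Scheme.{u}) (incl : Z ⟶ G.left) [IsClosedImmersion incl]
    (hZ : Set.range ⇑incl ∈ irreducibleComponents ↥G.left)
    (he : η[G].left (IsLocalRing.closedPoint K) ∈ Set.range ⇑incl)
    {Ω : Type u} [Field Ω] [IsSepClosed Ω]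
    (ψ : Spec (CommRingCat.of Ω) ⟶ Spec (CommRingCat.of K)) [IsIntegralHom ψ] :
    IrreducibleSpace ↥(pullback (incl ≫ G.hom) ψ) := by
  let _ : GrpObj (Over.mk G.hom) := ‹GrpObj G›
  let _ : GrpObj (Over.mk (pullback.snd G.hom ψ)) := Over.grpObjMkPullbackSnd
  have hSubK : Subsingleton ↥(Spec (CommRingCat.of K)) :=
    (Groth.Agent.H37.integral_subsingleton_of_iso_spec_field K (Iso.refl _)).2
  have hSubΩ : Subsingleton ↥(Spec (CommRingCat.of Ω)) :=
    (Groth.Agent.H37.integral_subsingleton_of_iso_spec_field Ω (Iso.refl _)).2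
  obtain ⟨ε, hεdef⟩ : ∃ ε : Spec (CommRingCat.of K) ⟶ G.left, ε = η[G].left := ⟨_, rfl⟩
  have hεf : ε ≫ G.hom = 𝟙 _ := by rw [hεdef]; exact Over.w η[G]
  have he' : ε (IsLocalRing.closedPoint K) ∈ Set.range ⇑incl := by rw [hεdef]; exact he
  have hw : (ψ ≫ ε) ≫ G.hom = 𝟙 _ ≫ ψ := by
    rw [Category.assoc, hεf, Category.comp_id, Category.id_comp]
  obtain ⟨σ, hσ1, hσ2⟩ : ∃ σ : Spec (CommRingCat.of Ω) ⟶ pullback G.hom ψ,
      σ ≫ pullback.fst G.hom ψ = ψ ≫ ε ∧ σ ≫ pullback.snd G.hom ψ = 𝟙 _ :=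
    ⟨pullback.lift (ψ ≫ ε) (𝟙 _) hw, pullback.lift_fst _ _ _, pullback.lift_snd _ _ _⟩
  have hqflat : Flat (pullback.fst G.hom ψ) := by
    have : Flat ψ := Groth.Agent.H37.flat_to_spec_field K ψ
    infer_instance
  have hqint : IsIntegralHom (pullback.fst G.hom ψ) :=
    MorphismProperty.pullback_fst (P := @IsIntegralHom) _ _ inferInstance
  have hqcl : IsClosedMap (pullback.fst G.hom ψ) := (pullback.fst G.hom ψ).isClosedMap
  have hqgen : GeneralizingMap (pullback.fst G.hom ψ) := Flat.generalizingMap _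
  have hqcont : Continuous (pullback.fst G.hom ψ) := (pullback.fst G.hom ψ).continuous
  have hqe : (pullback.fst G.hom ψ) (σ (IsLocalRing.closedPoint Ω)) =
      ε (IsLocalRing.closedPoint K) := by
    rw [← Scheme.Hom.comp_apply, hσ1, Scheme.Hom.comp_apply]
    congr 1
    exact Subsingleton.elim _ _
  have hsq : IsPullback σ ψ (pullback.fst G.hom ψ) ε := by
    have t : IsPullback (pullback.snd G.hom ψ) (pullback.fst G.hom ψ) ψ G.hom :=
      (IsPullback.of_hasPullback G.hom ψ).flip
    refine IsPullback.of_right ?_ hσ1 t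
    rw [hσ2, hεf]
    exact IsPullback.of_horiz_isIso ⟨by simp⟩
  have hfib : ∀ z : ↥(pullback G.hom ψ),
      (pullback.fst G.hom ψ) z = ε (IsLocalRing.closedPoint K) →
      z = σ (IsLocalRing.closedPoint Ω) := by
    intro z hz
    obtain ⟨τ, hτ, -⟩ :=
      Groth.Agent.H37.exists_of_isPullback hsq z (IsLocalRing.closedPoint K) hz
    rw [← hτ]
    congr 1
    exact Subsingleton.elim _ _
  have hU' : UniqueComp ↥(pullback G.hom ψ) (σ (IsLocalRing.closedPoint Ω)) :=
    uniqueComp_of_point (Over.mk (pullback.snd G.hom ψ)) (Over.homMk σ hσ2)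
  obtain ⟨T', hT', heT'⟩ := exists_comp_mem (σ (IsLocalRing.closedPoint Ω))
  have hT'max : Maximal IsIrreducible T' := hT'
  have hUe : UniqueComp ↥G.left (ε (IsLocalRing.closedPoint K)) := uniqueComp_point G _
  have hpre : (pullback.fst G.hom ψ) ⁻¹' (Set.range ⇑incl) = T' := by
    apply subset_antisymm
    · intro z hz
      obtain ⟨τ, hτ⟩ := exists_genericPoint hZ
      have hs : τ ⤳ (pullback.fst G.hom ψ) z := by
        rw [specializes_iff_mem_closure, hτ]; exact hz
      obtain ⟨z', hz'z, hqz'⟩ := hqgen hs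
      obtain ⟨W, hW, hsub⟩ := exists_comp_of_irreducible
        (isIrreducible_singleton (x := z')).closure
      have hWcl : IsClosed W := isClosed_of_mem_irreducibleComponents W hW
      have hqW : IsClosed ((pullback.fst G.hom ψ) '' W) := hqcl W hWcl
      have hτW : τ ∈ (pullback.fst G.hom ψ) '' W :=
        ⟨z', hsub (subset_closure (Set.mem_singleton z')), hqz'⟩
      have hTsub : Set.range ⇑incl ⊆ (pullback.fst G.hom ψ) '' W := by
        rw [← hτ]; exact closure_minimal (Set.singleton_subset_iff.mpr hτW) hqW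
      obtain ⟨w, hwW, hqw⟩ := hTsub he'
      have hw' := hfib w hqw
      rw [hw'] at hwW
      have : W = T' := hU' W hW T' hT' hwW heT'
      rw [← this]; exact hsub hz'z.mem_closure
    · intro z hz
      have hirr : IsIrreducible (closure ((pullback.fst G.hom ψ) '' T')) :=
        (hT'max.prop.image _ hqcont.continuousOn).closure
      obtain ⟨C, hC, hsubC⟩ := exists_comp_of_irreducible hirr
      have heC : ε (IsLocalRing.closedPoint K) ∈ C := hsubC (subset_closure ⟨_, heT', hqe⟩)
      have : C = Set.range ⇑incl := hUe C hC _ hZ heC he'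
      rw [← this]; exact hsubC (subset_closure ⟨z, hz, rfl⟩)
  have hirrT' : IsIrreducible ((pullback.fst G.hom ψ) ⁻¹' (Set.range ⇑incl)) := by
    rw [hpre]; exact hT'max.prop
  have hrange : Set.range ⇑(pullback.snd incl (pullback.fst G.hom ψ)) =
      (pullback.fst G.hom ψ) ⁻¹' (Set.range ⇑incl) :=
    Scheme.Pullback.range_snd incl (pullback.fst G.hom ψ)
  have hemb := (pullback.snd incl (pullback.fst G.hom ψ)).isClosedEmbedding
  have hI : IrreducibleSpace ↥(pullback incl (pullback.fst G.hom ψ)) := by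
    have h1 : IrreducibleSpace ↥(Set.range ⇑(pullback.snd incl (pullback.fst G.hom ψ))) := by
      rw [hrange]; exact Subtype.irreducibleSpace hirrT'
    exact (hemb.isEmbedding.toHomeomorph).irreducibleSpace_iff.mpr h1
  exact (pullbackRightPullbackFstIso G.hom ψ incl).hom.homeomorph.irreducibleSpace_iff.mp hI

/-- The irreducible component of a group scheme over a field through the unit is geometrically
irreducible. -/
theorem geomIrr_component (G : Over (Spec (CommRingCat.of K))) [GrpObj G]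
    (Z : Scheme.{u}) (incl : Z ⟶ G.left) [IsClosedImmersion incl]
    (hZ : Set.range ⇑incl ∈ irreducibleComponents ↥G.left)
    (he : η[G].left (IsLocalRing.closedPoint K) ∈ Set.range ⇑incl) :
    GeometricallyIrreducible (incl ≫ G.hom) := by
  have hint : IsIntegralHom
      (Spec.map (CommRingCat.ofHom (algebraMap K (AlgebraicClosure K)))) := by
    rw [IsIntegralHom.SpecMap_iff]
    exact algebraMap_isIntegral_iff.mpr inferInstance
  have hirr := irreducibleSpace_pullback_of_integral G Z incl hZ he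
    (Spec.map (CommRingCat.ofHom (algebraMap K (AlgebraicClosure K))))
  have hgi : GeometricallyIrreducible (pullback.snd (incl ≫ G.hom)
      (Spec.map (CommRingCat.ofHom (algebraMap K (AlgebraicClosure K))))) :=
    Groth.Agent.H37.geomIrr_of_isSepClosed _
  have hsurj : Surjective (Spec.map (CommRingCat.ofHom (algebraMap K (AlgebraicClosure K)))) :=
    Groth.Agent.H37.surjective_specMap_field
  refine ⟨Groth.Agent.H37.geometrically_descends_flat (P := (IrreducibleSpace ·)) ?_
    (incl ≫ G.hom) (Spec.map (CommRingCat.ofHom (algebraMap K (AlgebraicClosure K))))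
    hgi.geometrically_irreducibleSpace⟩
  intro Z' Z₀ p hs _ hZ'
  have hZ'' : IrreducibleSpace ↥Z' := hZ'
  have := (IrreducibleSpace.isIrreducible_univ ↥Z').image p p.continuous.continuousOn
  rw [Set.image_univ, Set.range_eq_univ.mpr p.surjective] at this
  exact (irreducibleSpace_def _).mpr this

end GeomIrr

end Groth.Agent.H93.GrpIrr
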