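import Mathlib

/-!
# Quasi-compactness from the valuative criterion (Zariski–Riemann compactness)

`quasiCompact_of_valuativeCriterion`: a morphism locally of finite type satisfying the valuative
criterion (existence and uniqueness), whose source has finitely many irreducible components,
is quasi-compact.  The proof uses the compactness of the space of valuation subrings of a field
containing a given subset (patch topology, via Tychonoff on `K → Bool`).
-/

set_option autoImplicit false
universe u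

namespace Groth.Agent.H93.ZR

open CategoryTheory AlgebraicGeometry IsLocalRing

section Patch

variable {K : Type u} [Field K]

/-- `s : K → Bool` is the indicator function of a valuation subring containing `S`. -/
structure IsVal (S : Set K) (s : K → Bool) : Prop where
  sub : ∀ a ∈ S, s a = true
  zero : s 0 = true
  one : s 1 = true
  add : ∀ x y, s x = true → s y = true → s (x + y) = true
  mul : ∀ x y, s x = true → s y = true → s (x * y) = true
  neg : ∀ x, s x = true → s (-x) = true
  inv : ∀ x, s x = true ∨ s x⁻¹ = true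

/-- The valuation subring attached to an indicator function. -/
def IsVal.toVS {S : Set K} {s : K → Bool} (h : IsVal S s) : ValuationSubring K where
  carrier := {x | s x = true}
  mul_mem' := fun {a b} ha hb => h.mul a b ha hb
  one_mem' := h.one
  add_mem' := fun {a b} ha hb => h.add a b ha hb
  zero_mem' := h.zero
  neg_mem' := fun {a} ha => h.neg a ha
  mem_or_inv_mem' := h.inv

lemma IsVal.mem_toVS {S : Set K} {s : K → Bool} (h : IsVal S s) (x : K) :
    x ∈ h.toVS ↔ s x = true := Iff.rfl

open Classical in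
lemma isVal_indicator (S : Set K) (R : ValuationSubring K) (hS : S ⊆ (R : Set K)) :
    IsVal S (fun x => decide (x ∈ R)) where
  sub := fun a ha => by simpa using hS ha
  zero := by simp
  one := by simp
  add := fun x y hx hy => by
    simp only [decide_eq_true_eq] at hx hy ⊢; exact add_mem hx hy
  mul := fun x y hx hy => by
    simp only [decide_eq_true_eq] at hx hy ⊢; exact mul_mem hx hy
  neg := fun x hx => by
    simp only [decide_eq_true_eq] at hx ⊢; exact neg_mem hx
  inv := fun x => by
    simp only [decide_eq_true_eq]; exact R.mem_or_inv_mem x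

lemma isClosed_setOf_apply3 (P : Bool → Bool → Bool → Prop) (x y z : K) :
    IsClosed {s : K → Bool | P (s x) (s y) (s z)} := by
  have : {s : K → Bool | P (s x) (s y) (s z)} =
      (fun s : K → Bool => (s x, s y, s z)) ⁻¹' {p | P p.1 p.2.1 p.2.2} := rfl
  rw [this]
  exact (isClosed_discrete _).preimage
    ((continuous_apply x).prodMk ((continuous_apply y).prodMk (continuous_apply z)))

lemma isOpen_setOf_apply (a : K) : IsOpen {s : K → Bool | s a = true} := by
  have : {s : K → Bool | s a = true} = (fun s : K → Bool => s a) ⁻¹' {b | b = true} := rfl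
  rw [this]
  exact (isOpen_discrete _).preimage (continuous_apply a)

lemma isClosed_setOf_isVal (S : Set K) : IsClosed {s : K → Bool | IsVal S s} := by
  have h1 : ∀ a : K, IsClosed {s : K → Bool | s a = true} := fun a =>
    isClosed_setOf_apply3 (fun b _ _ => b = true) a a a
  have h3 : ∀ x y z : K,
      IsClosed {s : K → Bool | s x = true → s y = true → s z = true} := fun x y z =>
    isClosed_setOf_apply3 (fun b c d => b = true → c = true → d = true) x y z
  have h2 : ∀ x y : K, IsClosed {s : K → Bool | s x = true → s y = true} := fun x y =>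
    isClosed_setOf_apply3 (fun b c _ => b = true → c = true) x y y
  have h2' : ∀ x y : K, IsClosed {s : K → Bool | s x = true ∨ s y = true} := fun x y =>
    isClosed_setOf_apply3 (fun b c _ => b = true ∨ c = true) x y y
  have : {s : K → Bool | IsVal S s} =
      (⋂ a ∈ S, {s : K → Bool | s a = true}) ∩ ({s | s 0 = true} ∩ ({s | s 1 = true} ∩
      ((⋂ x, ⋂ y, {s : K → Bool | s x = true → s y = true → s (x + y) = true}) ∩
      ((⋂ x, ⋂ y, {s : K → Bool | s x = true → s y = true → s (x * y) = true}) ∩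
      ((⋂ x, {s : K → Bool | s x = true → s (-x) = true}) ∩
      (⋂ x, {s : K → Bool | s x = true ∨ s x⁻¹ = true})))))) := by
    ext s
    simp only [Set.mem_ofPred_eq, Set.mem_inter_iff, Set.mem_iInter]
    exact ⟨fun h => ⟨h.sub, h.zero, h.one, h.add, h.mul, h.neg, h.inv⟩,
      fun h => ⟨h.1, h.2.1, h.2.2.1, h.2.2.2.1, h.2.2.2.2.1, h.2.2.2.2.2.1, h.2.2.2.2.2.2⟩⟩
  rw [this]
  exact (isClosed_biInter fun a _ => h1 a).inter ((h1 0).inter ((h1 1).inter
    ((isClosed_iInter fun x => isClosed_iInter fun y => h3 x y (x + y)).inter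
    ((isClosed_iInter fun x => isClosed_iInter fun y => h3 x y (x * y)).inter
    ((isClosed_iInter fun x => h2 x (-x)).inter (isClosed_iInter fun x => h2' x x⁻¹))))))

/-- Compactness of the Zariski–Riemann space: if every valuation subring of `K` containing `S`
contains one of the finite sets `G i`, then finitely many `i` suffice. -/
lemma exists_finite_cover {ι : Type*} (S : Set K) (G : ι → Finset K)
    (hcov : ∀ R : ValuationSubring K, S ⊆ (R : Set K) → ∃ i, (↑(G i) : Set K) ⊆ (R : Set K)) :
    ∃ t : Finset ι, ∀ R : ValuationSubring K, S ⊆ (R : Set K) →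
      ∃ i ∈ t, (↑(G i) : Set K) ⊆ (R : Set K) := by
  classical
  have hC : IsCompact {s : K → Bool | IsVal S s} := (isClosed_setOf_isVal S).isCompact
  let O : ι → Set (K → Bool) := fun i => ⋂ b ∈ G i, {s : K → Bool | s b = true}
  have hO : ∀ i, IsOpen (O i) := fun i =>
    isOpen_biInter_finset fun b _ => isOpen_setOf_apply b
  have hsub : {s : K → Bool | IsVal S s} ⊆ ⋃ i, O i := by
    intro s hs
    obtain ⟨i, hi⟩ := hcov (IsVal.toVS hs) (fun a ha => hs.sub a ha)
    refine Set.mem_iUnion.mpr ⟨i, ?_⟩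
    simp only [O, Set.mem_iInter, Set.mem_ofPred_eq]
    intro b hb
    exact hi (Finset.mem_coe.mpr hb)
  obtain ⟨t, ht⟩ := hC.elim_finite_subcover O hO hsub
  refine ⟨t, fun R hR => ?_⟩
  have hmem := ht (show (fun x => decide (x ∈ R)) ∈ {s : K → Bool | IsVal S s} from
    isVal_indicator S R hR)
  simp only [Set.mem_iUnion, O, Set.mem_iInter, Set.mem_ofPred_eq, decide_eq_true_eq] at hmem
  obtain ⟨i, hit, hi⟩ := hmem
  exact ⟨i, hit, fun b hb => hi b (Finset.mem_coe.mp hb)⟩

end Patch

section Alg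

lemma exists_finset_of_finiteType {A B : Type u} [CommRing A] [CommRing B] (g : A →+* B)
    (hg : g.FiniteType) :
    ∃ s : Finset B, ∀ T : Subring B, (∀ a, g a ∈ T) → (∀ b ∈ s, b ∈ T) → ∀ b, b ∈ T := by
  let _ : Algebra A B := g.toAlgebra
  obtain ⟨s, hs⟩ := (show Algebra.FiniteType A B from hg).out
  refine ⟨s, fun T hT hsT b => ?_⟩
  have hb : b ∈ Algebra.adjoin A (↑s : Set B) := hs ▸ Algebra.mem_top
  induction hb using Algebra.adjoin_induction with
  | mem x hx => exact hsT x hx
  | algebraMap r => exact hT r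
  | add x y _ _ hx hy => exact add_mem hx hy
  | mul x y _ _ hx hy => exact mul_mem hx hy

end Alg

section Sch

variable {X Y : Scheme.{u}}

lemma exists_factor_fromSpec {V : Y.Opens} (hV : IsAffineOpen V) {R : CommRingCat.{u}}
    (g : Spec R ⟶ Y) (hg : ∀ t, g t ∈ V) :
    ∃ ρ : Γ(Y, V) ⟶ R, Spec.map ρ ≫ hV.fromSpec = g := by
  have hr : Set.range g ⊆ Set.range hV.fromSpec := by
    rw [hV.range_fromSpec]; rintro _ ⟨t, rfl⟩; exact hg t
  exact ⟨Spec.preimage (IsOpenImmersion.lift hV.fromSpec g hr), by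
    rw [Spec.map_preimage, IsOpenImmersion.lift_fac]⟩

lemma fromSpec_cancel {V : Y.Opens} (hV : IsAffineOpen V) {R : CommRingCat.{u}}
    {ρ ρ' : Γ(Y, V) ⟶ R} (h : Spec.map ρ ≫ hV.fromSpec = Spec.map ρ' ≫ hV.fromSpec) :
    ρ = ρ' :=
  Spec.map_injective ((cancel_mono hV.fromSpec).mp h)

lemma mem_of_closedPoint_mem {R : Type u} [CommRing R] [IsLocalRing R]
    (g : Spec (CommRingCat.of R) ⟶ X) (W : X.Opens) (h : g (closedPoint R) ∈ W)
    (t : Spec (CommRingCat.of R)) : g t ∈ W :=
  ((specializes_closedPoint (R := R) t).map g.continuous).mem_open W.isOpen h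

lemma fromSpec_mem {V : Y.Opens} (hV : IsAffineOpen V) (t : Spec Γ(Y, V)) :
    hV.fromSpec t ∈ V := by
  have : hV.fromSpec t ∈ Set.range hV.fromSpec := Set.mem_range_self t
  rw [hV.range_fromSpec] at this
  exact this

set_option maxHeartbeats 800000 in
/-- Key step: if `f` satisfies the valuative criterion and is locally of finite type, then for
every affine open `V` of the target and every point `ξ` of the source with `f ξ ∈ V`, the
part of `closure {ξ}` lying over `V` is covered by finitely many affine opens lying over `V`. -/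
lemma exists_finite_affine_cover (f : X ⟶ Y) [LocallyOfFiniteType f]
    (hf : ValuativeCriterion f) {V : Y.Opens} (hV : IsAffineOpen V) (ξ : X) (hξ : f ξ ∈ V) :
    ∃ t : Finset X.Opens, (∀ W ∈ t, IsAffineOpen W ∧ W ≤ f ⁻¹ᵁ V) ∧
      closure {ξ} ∩ (f ⁻¹ᵁ V : Set X) ⊆ ⋃ W ∈ t, (W : Set X) := by
  classical
  let i₁ := X.fromSpecResidueField ξ
  have hi₁ : ∀ s, i₁ s = ξ := fun s => X.fromSpecResidueField_apply ξ s
  obtain ⟨φ, hφ⟩ := exists_factor_fromSpec hV (i₁ ≫ f) (fun s => by
    rw [Scheme.Hom.comp_apply, hi₁]; exact hξ)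
  let ι := {W : X.Opens // IsAffineOpen W ∧ W ≤ f ⁻¹ᵁ V ∧ ξ ∈ W}
  have hω' : ∀ i : ι, ∃ ω : Γ(X, i.1) ⟶ X.residueField ξ,
      Spec.map ω ≫ i.2.1.fromSpec = i₁ := fun i =>
    exists_factor_fromSpec i.2.1 i₁ (fun s => by rw [hi₁]; exact i.2.2.2)
  choose ω hω using hω'
  have hφω : ∀ i : ι, f.appLE V i.1 i.2.2.1 ≫ ω i = φ := fun i => by
    apply fromSpec_cancel hV
    rw [Spec.map_comp, Category.assoc,
      IsAffineOpen.SpecMap_appLE_fromSpec f hV i.2.1 i.2.2.1, ← Category.assoc, hω i, hφ]
  have hφω' : ∀ (i : ι) (a : Γ(Y, V)),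
      (ω i).hom ((f.appLE V i.1 i.2.2.1).hom a) = φ.hom a := fun i a => by
    rw [← hφω i]; rfl
  choose s hs using fun i : ι =>
    exists_finset_of_finiteType (f.appLE V i.1 i.2.2.1).hom
      (f.finiteType_appLE hV i.2.1 i.2.2.1)
  let G : ι → Finset (X.residueField ξ) := fun i => (s i).image (ω i).hom
  have hcov : ∀ R : ValuationSubring (X.residueField ξ),
      Set.range φ.hom ⊆ (R : Set (X.residueField ξ)) →
      ∃ i, (↑(G i) : Set (X.residueField ξ)) ⊆ (R : Set (X.residueField ξ)) := by
    intro R hR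
    let φR : Γ(Y, V) ⟶ CommRingCat.of R :=
      CommRingCat.ofHom (φ.hom.codRestrict R.toSubring (fun a => hR ⟨a, rfl⟩))
    have hφR : φR ≫ CommRingCat.ofHom (algebraMap R (X.residueField ξ)) = φ := by
      ext a; rfl
    have w : i₁ ≫ f = Spec.map (CommRingCat.ofHom (algebraMap R (X.residueField ξ))) ≫
        Spec.map φR ≫ hV.fromSpec := by
      rw [← hφ, ← Spec.map_comp_assoc, hφR]
    let Sq₀ : ValuativeCommSq f :=
      { R := R
        K := X.residueField ξ
        i₁ := i₁
        i₂ := Spec.map φR ≫ hV.fromSpec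
        commSq := ⟨w⟩ }
    obtain ⟨l, hl₁, hl₂⟩ := (hf.existence Sq₀).exists_lift
    have hc : l (closedPoint R) ∈ f ⁻¹ᵁ V := by
      show f (l (closedPoint R)) ∈ V
      rw [← Scheme.Hom.comp_apply, hl₂, Scheme.Hom.comp_apply]
      exact fromSpec_mem hV _
    obtain ⟨_, ⟨W, hW, rfl⟩, hcW, hWV⟩ :=
      X.isBasis_affineOpens.exists_subset_of_mem_open hc (f ⁻¹ᵁ V).isOpen
    have hall : ∀ t, l t ∈ W := mem_of_closedPoint_mem l W hcW
    have hξW : ξ ∈ W := by
      have := hall (Spec.map (CommRingCat.ofHom (algebraMap R (X.residueField ξ)))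
        (closedPoint (X.residueField ξ)))
      rwa [← Scheme.Hom.comp_apply, hl₁, hi₁] at this
    obtain ⟨ρ, hρ⟩ := exists_factor_fromSpec hW l hall
    have hWV' : W ≤ f ⁻¹ᵁ V := fun x hx => hWV hx
    refine ⟨⟨W, hW, hWV', hξW⟩, ?_⟩
    have hωρ : ω ⟨W, hW, hWV', hξW⟩ =
        ρ ≫ CommRingCat.ofHom (algebraMap R (X.residueField ξ)) := by
      apply fromSpec_cancel hW
      rw [hω, Spec.map_comp, Category.assoc, hρ, hl₁]
    intro k hk
    obtain ⟨b, -, rfl⟩ := Finset.mem_image.mp (Finset.mem_coe.mp hk)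
    rw [hωρ]
    exact SetLike.coe_mem (ρ.hom b)
  obtain ⟨t₀, ht₀⟩ := exists_finite_cover (Set.range φ.hom) G hcov
  refine ⟨t₀.image (fun i => i.1), ?_, ?_⟩
  · intro W hW
    obtain ⟨i, -, rfl⟩ := Finset.mem_image.mp hW
    exact ⟨i.2.1, i.2.2.1⟩
  · rintro x ⟨hx, hxV⟩
    have hsp : ξ ⤳ x := specializes_iff_mem_closure.mpr hx
    let ψ : X.presheaf.stalk x ⟶ X.residueField ξ :=
      X.presheaf.stalkSpecializes hsp ≫ X.residue ξ
    obtain ⟨A, hA, hA_local⟩ := exists_factor_valuationRing ψ.hom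
    let ψA : X.presheaf.stalk x ⟶ CommRingCat.of A :=
      CommRingCat.ofHom (ψ.hom.codRestrict _ hA)
    let g : Spec (CommRingCat.of A) ⟶ X := Spec.map ψA ≫ X.fromSpecStalk x
    have w1 : Spec.map (CommRingCat.ofHom (algebraMap A (X.residueField ξ))) ≫ g = i₁ := by
      show _ = X.fromSpecResidueField ξ
      rw [Scheme.fromSpecResidueField, ← Scheme.SpecMap_stalkSpecializes_fromSpecStalk hsp]
      simp_rw [g, ← Spec.map_comp_assoc]
      rfl
    have hgc : g (closedPoint A) = x := by
      have h0 : g (closedPoint A) = X.fromSpecStalk x (Spec.map ψA (closedPoint A)) := rfl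
      have : Spec.map ψA (closedPoint A) = closedPoint (X.presheaf.stalk x) :=
        comap_closedPoint (S := A) (ψ.hom.codRestrict A.toSubring hA)
      rw [h0, this, X.fromSpecStalk_closedPoint]
    have hgall : ∀ t, (g ≫ f) t ∈ V := fun t => by
      rw [Scheme.Hom.comp_apply]
      have : g t ∈ f ⁻¹ᵁ V :=
        mem_of_closedPoint_mem g (f ⁻¹ᵁ V) (by rw [hgc]; exact hxV) t
      exact this
    obtain ⟨ρ, hρ⟩ := exists_factor_fromSpec hV (g ≫ f) hgall
    have hφρ : φ = ρ ≫ CommRingCat.ofHom (algebraMap A (X.residueField ξ)) := by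
      apply fromSpec_cancel hV
      rw [hφ, Spec.map_comp, Category.assoc, hρ, ← Category.assoc, w1]
    have hφρ' : ∀ a, φ.hom a = ((ρ.hom a : A) : X.residueField ξ) := fun a => by
      rw [hφρ]; rfl
    have hSA : Set.range φ.hom ⊆ (A : Set (X.residueField ξ)) := by
      rintro _ ⟨a, rfl⟩
      rw [hφρ']
      exact SetLike.coe_mem (ρ.hom a)
    obtain ⟨i, hit, hiA⟩ := ht₀ A hSA
    have hmem : ∀ b, (ω i).hom b ∈ A.toSubring := by
      refine fun b => hs i (A.toSubring.comap (ω i).hom) (fun a => ?_) (fun b hb => ?_) b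
      · show (ω i).hom ((f.appLE V i.1 i.2.2.1).hom a) ∈ A
        rw [hφω' i a]; exact hSA ⟨a, rfl⟩
      · exact hiA (Finset.mem_coe.mpr (Finset.mem_image_of_mem _ hb))
    let ρ' : Γ(X, i.1) ⟶ CommRingCat.of A :=
      CommRingCat.ofHom ((ω i).hom.codRestrict A.toSubring hmem)
    have hρ' : ρ' ≫ CommRingCat.ofHom (algebraMap A (X.residueField ξ)) = ω i := by
      ext b; rfl
    let l' : Spec (CommRingCat.of A) ⟶ X := Spec.map ρ' ≫ i.2.1.fromSpec
    have hl'1 : Spec.map (CommRingCat.ofHom (algebraMap A (X.residueField ξ))) ≫ l' = i₁ := by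
      rw [← hω i, ← hρ', Spec.map_comp, Category.assoc]
    have hρρ' : f.appLE V i.1 i.2.2.1 ≫ ρ' = ρ := by
      ext a
      show (ω i).hom ((f.appLE V i.1 i.2.2.1).hom a) = ((ρ.hom a : A) : X.residueField ξ)
      rw [hφω' i a, hφρ']
    have hl'2 : l' ≫ f = g ≫ f := by
      rw [← hρ, ← hρρ', Spec.map_comp, Category.assoc, Category.assoc,
        IsAffineOpen.SpecMap_appLE_fromSpec f hV i.2.1 i.2.2.1]
    let Sq : ValuativeCommSq f :=
      { R := A
        K := X.residueField ξ
        i₁ := i₁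
        i₂ := g ≫ f
        commSq := ⟨by rw [← Category.assoc, w1]⟩ }
    have huniq : Subsingleton Sq.commSq.LiftStruct := hf.uniqueness Sq
    have hgl' : g = l' := by
      have := @Subsingleton.elim _ huniq (⟨g, w1, rfl⟩ : Sq.commSq.LiftStruct) ⟨l', hl'1, hl'2⟩
      exact congrArg CommSq.LiftStruct.l this
    refine Set.mem_iUnion₂.mpr ⟨i.1, Finset.mem_image_of_mem _ hit, ?_⟩
    rw [← hgc, hgl']
    exact fromSpec_mem i.2.1 _

/-- A morphism locally of finite type which satisfies the valuative criterion and whose source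
has finitely many irreducible components is quasi-compact. -/
theorem quasiCompact_of_valuativeCriterion (f : X ⟶ Y) [LocallyOfFiniteType f]
    (hf : ValuativeCriterion f) (hX : (irreducibleComponents ↥X).Finite) : QuasiCompact f := by
  rw [quasiCompact_iff_forall_isAffineOpen]
  intro V hV
  have hcover : (f ⁻¹ᵁ V : Set X) =
      ⋃ Z ∈ irreducibleComponents X, Z ∩ (f ⁻¹ᵁ V : Set X) := by
    ext x
    constructor
    · intro hx
      exact Set.mem_iUnion₂.mpr ⟨irreducibleComponent x,
        irreducibleComponent_mem_irreducibleComponents x, mem_irreducibleComponent, hx⟩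
    · intro hx
      obtain ⟨Z, -, -, hx'⟩ := Set.mem_iUnion₂.mp hx
      exact hx'
  rw [hcover]
  refine hX.isCompact_biUnion fun Z hZ => ?_
  have hZc : IsClosed Z := isClosed_of_mem_irreducibleComponents Z hZ
  obtain ⟨ξ, hξ⟩ := QuasiSober.sober hZ.1 hZc
  by_cases hξV : f ξ ∈ V
  · obtain ⟨t, ht, hcov⟩ := exists_finite_affine_cover f hf hV ξ hξV
    have : Z ∩ (f ⁻¹ᵁ V : Set X) = ⋃ W ∈ t, Z ∩ (W : Set X) := by
      apply Set.Subset.antisymm
      · intro x hx
        have := hcov (by rw [hξ.def]; exact hx)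
        obtain ⟨W, hWt, hxW⟩ := Set.mem_iUnion₂.mp this
        exact Set.mem_iUnion₂.mpr ⟨W, hWt, hx.1, hxW⟩
      · intro x hx
        obtain ⟨W, hWt, hxZ, hxW⟩ := Set.mem_iUnion₂.mp hx
        exact ⟨hxZ, (ht W hWt).2 hxW⟩
    rw [this]
    exact t.isCompact_biUnion fun W hW => (ht W hW).1.isCompact.inter_left hZc
  · have : Z ∩ (f ⁻¹ᵁ V : Set X) = ∅ := by
      rw [Set.eq_empty_iff_forall_notMem]
      rintro x ⟨hxZ, hxV⟩
      apply hξV
      have hsp : ξ ⤳ x := by rw [specializes_iff_mem_closure, hξ.def]; exact hxZ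
      exact (hsp.map f.continuous).mem_open V.isOpen hxV
    rw [this]; exact isCompact_empty

end Sch

end Groth.Agent.H93.ZR
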