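import Mathlib
import Groth.Agent.H93.ZR

/-!
# Functor-of-points tools over a field (for the representability of the centre)

`SpecO K A` is `Spec A` as an object over `Spec K`; `SpecO.map` is its functoriality.
`exists_eqIdeal`: two `A`-points of a separated `K`-scheme agree after a base change `θ`
iff `θ` kills a certain ideal.  `coeffIdeal`: the ideal of `A` generated by the coefficients
(w.r.t. a `K`-basis of `B`) of the elements of an ideal of `A ⊗[K] B`.
-/

set_option autoImplicit false
universe u

namespace Groth.Agent.H93.Centre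

open CategoryTheory CategoryTheory.Limits AlgebraicGeometry
open scoped TensorProduct

section SpecO

variable (K : Type u) [Field K]

/-- `Spec A` as an object over `Spec K`. -/
noncomputable abbrev SpecO (A : Type u) [CommRing A] [Algebra K A] :
    Over (Spec (CommRingCat.of K)) :=
  Over.mk (Spec.map (CommRingCat.ofHom (algebraMap K A)))

variable {K}
variable {A R R' : Type u} [CommRing A] [Algebra K A] [CommRing R] [Algebra K R]
  [CommRing R'] [Algebra K R']

/-- Functoriality of `SpecO`. -/
noncomputable def SpecO.map (θ : A →ₐ[K] R) : SpecO K R ⟶ SpecO K A :=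
  Over.homMk (Spec.map (CommRingCat.ofHom θ.toRingHom)) (by
    show Spec.map (CommRingCat.ofHom θ.toRingHom) ≫
      Spec.map (CommRingCat.ofHom (algebraMap K A)) = Spec.map (CommRingCat.ofHom (algebraMap K R))
    have h : θ.toRingHom.comp (algebraMap K A) = algebraMap K R := RingHom.ext θ.commutes
    rw [← Spec.map_comp, ← CommRingCat.ofHom_comp, h])

@[simp] lemma SpecO.map_left (θ : A →ₐ[K] R) :
    (SpecO.map θ).left = Spec.map (CommRingCat.ofHom θ.toRingHom) := rfl

lemma SpecO.map_comp (θ : A →ₐ[K] R) (θ' : R →ₐ[K] R') :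
    SpecO.map (θ'.comp θ) = SpecO.map θ' ≫ SpecO.map θ := by
  apply Over.OverMorphism.ext
  rw [Over.comp_left, SpecO.map_left, SpecO.map_left, SpecO.map_left, ← Spec.map_comp]
  rfl

lemma SpecO.map_id : SpecO.map (AlgHom.id K A) = 𝟙 (SpecO K A) := by
  apply Over.OverMorphism.ext
  rw [SpecO.map_left]
  exact Spec.map_id _

/-- Every morphism from an affine scheme `Spec R` to the total space of an object over `Spec K`
comes from a point over `Spec K`, for a suitable `K`-algebra structure on `R`. -/
lemma exists_specO_of_hom (T : Over (Spec (CommRingCat.of K))) (R : CommRingCat.{u})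
    (j : Spec R ⟶ T.left) :
    ∃ (_ : Algebra K R) (w : SpecO K R ⟶ T), w.left = j := by
  let ψ : CommRingCat.of K ⟶ R := Spec.preimage (j ≫ T.hom)
  have hψ : Spec.map ψ = j ≫ T.hom := Spec.map_preimage _
  refine ⟨ψ.hom.toAlgebra, ?_⟩
  let _ : Algebra K R := ψ.hom.toAlgebra
  exact ⟨Over.homMk j (by rw [← hψ]; rfl), rfl⟩

/-- Two `C`-points of a separated `K`-scheme: there is an ideal of `C` such that the points
agree after a base change `θ` iff `θ` kills the ideal. -/
lemma exists_eqIdeal (G : Over (Spec (CommRingCat.of K))) [IsSeparated G.hom]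
    {C : Type u} [CommRing C] [Algebra K C] (p q : SpecO K C ⟶ G) :
    ∃ I : Ideal C, ∀ (R : Type u) [CommRing R] [Algebra K R] (θ : C →ₐ[K] R),
      SpecO.map θ ≫ p = SpecO.map θ ≫ q ↔ I ≤ RingHom.ker θ.toRingHom := by
  have hci : IsClosedImmersion (equalizer.ι p q).left := inferInstance
  obtain ⟨I, e, he⟩ := IsClosedImmersion.Spec_iff.mp hci
  refine ⟨I, fun R _ _ θ => ⟨fun h => ?_, fun h => ?_⟩⟩
  · let l := equalizer.lift (SpecO.map θ) h
    have hl : l.left ≫ (equalizer.ι p q).left = Spec.map (CommRingCat.ofHom θ.toRingHom) := by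
      rw [← Over.comp_left, equalizer.lift_ι]; rfl
    rw [he, ← Category.assoc] at hl
    have h2 : Spec.map (Spec.preimage (l.left ≫ e.hom)) = l.left ≫ e.hom := Spec.map_preimage _
    rw [← h2, ← Spec.map_comp] at hl
    have h3 := Spec.map_injective hl
    intro c hc
    rw [RingHom.mem_ker]
    have : θ.toRingHom c =
        (Spec.preimage (l.left ≫ e.hom)).hom (Ideal.Quotient.mk I c) :=
      (congrArg (fun m : CommRingCat.of C ⟶ CommRingCat.of R => m.hom c) h3).symm
    rw [this, Ideal.Quotient.eq_zero_iff_mem.mpr hc, map_zero]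
  · apply Over.OverMorphism.ext
    rw [Over.comp_left, Over.comp_left, SpecO.map_left]
    let θ' : C ⧸ I →+* R := Ideal.Quotient.lift I θ.toRingHom (fun c hc => h hc)
    have hθ : CommRingCat.ofHom θ.toRingHom =
        CommRingCat.ofHom (Ideal.Quotient.mk I) ≫ CommRingCat.ofHom θ' := by
      ext c; rfl
    have hcond : (equalizer.ι p q).left ≫ p.left = (equalizer.ι p q).left ≫ q.left := by
      rw [← Over.comp_left, ← Over.comp_left, equalizer.condition]
    have hmk : Spec.map (CommRingCat.ofHom (Ideal.Quotient.mk I)) =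
        e.inv ≫ (equalizer.ι p q).left := by
      rw [he, Iso.inv_hom_id_assoc]
    rw [hθ, Spec.map_comp, hmk, Category.assoc, Category.assoc, Category.assoc, Category.assoc,
      hcond]

end SpecO

section Tensor

variable {K : Type u} [Field K]
variable {A R B : Type u} [CommRing A] [Algebra K A] [CommRing R] [Algebra K R]
  [CommRing B] [Algebra K B]

lemma repr_map_apply (φ : A →ₐ[K] R) (f : A ⊗[K] B) (β : Module.Basis.ofVectorSpaceIndex K B) :
    (Algebra.TensorProduct.basis R (Module.Basis.ofVectorSpace K B)).repr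
      (Algebra.TensorProduct.map φ (AlgHom.id K B) f) β =
    φ ((Algebra.TensorProduct.basis A (Module.Basis.ofVectorSpace K B)).repr f β) := by
  induction f using TensorProduct.induction_on with
  | zero => simp
  | tmul a m =>
    simp [Algebra.TensorProduct.basis_repr_tmul, Algebra.TensorProduct.map_tmul]
  | add x y hx hy => simp [map_add, hx, hy]

lemma map_eq_zero_iff (φ : A →ₐ[K] R) (f : A ⊗[K] B) :
    Algebra.TensorProduct.map φ (AlgHom.id K B) f = 0 ↔
      ∀ β, φ ((Algebra.TensorProduct.basis A (Module.Basis.ofVectorSpace K B)).repr f β) = 0 := by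
  rw [← LinearEquiv.map_eq_zero_iff
    (Algebra.TensorProduct.basis R (Module.Basis.ofVectorSpace K B)).repr, Finsupp.ext_iff]
  simp only [repr_map_apply, Finsupp.zero_apply]

/-- The ideal of `A` generated by all coefficients of all elements of an ideal of `A ⊗[K] B`. -/
noncomputable def coeffIdeal (I : Ideal (A ⊗[K] B)) : Ideal A :=
  Ideal.span {a | ∃ f ∈ I, ∃ β,
    (Algebra.TensorProduct.basis A (Module.Basis.ofVectorSpace K B)).repr f β = a}

lemma coeffIdeal_le_ker_iff (I : Ideal (A ⊗[K] B)) (φ : A →ₐ[K] R) :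
    coeffIdeal I ≤ RingHom.ker φ.toRingHom ↔
      I ≤ RingHom.ker (Algebra.TensorProduct.map φ (AlgHom.id K B)).toRingHom := by
  rw [coeffIdeal, Ideal.span_le]
  constructor
  · intro h f hf
    rw [RingHom.mem_ker]
    refine (map_eq_zero_iff φ f).mpr fun β => ?_
    exact RingHom.mem_ker.mp (h ⟨f, hf, β, rfl⟩)
  · rintro h _ ⟨f, hf, β, rfl⟩
    exact RingHom.mem_ker.mpr ((map_eq_zero_iff φ f).mp (RingHom.mem_ker.mp (h hf)) β)

end Tensor

end Groth.Agent.H93.Centre
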