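import Mathlib
import Groth.Agent.H93.Centre1

/-!
# The centre of a separated group scheme over a field is a closed subscheme

Functor-of-points argument: for an `A`-point `x` of `G`, the condition that the base change of `x`
along `φ : A → R` commutes with all points of `G` (after all further base changes) is equivalent to
`φ` killing the ideal `centralIdeal x`, generated by the coefficients (w.r.t. `K`-bases) of the
equations expressing commutation with the `B`-points of `G`.
-/

set_option autoImplicit false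
universe u

namespace Groth.Agent.H93.Centre

open CategoryTheory CategoryTheory.Limits AlgebraicGeometry MonoidalCategory
  CartesianMonoidalCategory
open scoped MonObj TensorProduct

variable {K : Type u} [Field K] (G : Over (Spec (CommRingCat.of K))) [GrpObj G]

section AC

variable {A R B : Type u} [CommRing A] [Algebra K A] [CommRing R] [Algebra K R]
  [CommRing B] [Algebra K B]

/-- The product `x_B * y_A` in `G(A ⊗ B)`. -/
noncomputable def mulLR (x : SpecO K A ⟶ G) (y : SpecO K B ⟶ G) : SpecO K (A ⊗[K] B) ⟶ G :=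
  (SpecO.map (Algebra.TensorProduct.includeLeft : A →ₐ[K] A ⊗[K] B) ≫ x) *
    (SpecO.map (Algebra.TensorProduct.includeRight : B →ₐ[K] A ⊗[K] B) ≫ y)

/-- The product `y_A * x_B` in `G(A ⊗ B)`. -/
noncomputable def mulRL (x : SpecO K A ⟶ G) (y : SpecO K B ⟶ G) : SpecO K (A ⊗[K] B) ⟶ G :=
  (SpecO.map (Algebra.TensorProduct.includeRight : B →ₐ[K] A ⊗[K] B) ≫ y) *
    (SpecO.map (Algebra.TensorProduct.includeLeft : A →ₐ[K] A ⊗[K] B) ≫ x)

lemma map_incl_left (φ : A →ₐ[K] R) (x : SpecO K A ⟶ G) :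
    SpecO.map (Algebra.TensorProduct.map φ (AlgHom.id K B)) ≫
      SpecO.map (Algebra.TensorProduct.includeLeft : A →ₐ[K] A ⊗[K] B) ≫ x =
    SpecO.map (Algebra.TensorProduct.includeLeft : R →ₐ[K] R ⊗[K] B) ≫ SpecO.map φ ≫ x := by
  rw [← Category.assoc, ← SpecO.map_comp, Algebra.TensorProduct.map_comp_includeLeft,
    SpecO.map_comp, Category.assoc]

lemma map_incl_right (φ : A →ₐ[K] R) (y : SpecO K B ⟶ G) :
    SpecO.map (Algebra.TensorProduct.map φ (AlgHom.id K B)) ≫
      SpecO.map (Algebra.TensorProduct.includeRight : B →ₐ[K] A ⊗[K] B) ≫ y =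
    SpecO.map (Algebra.TensorProduct.includeRight : B →ₐ[K] R ⊗[K] B) ≫ y := by
  rw [← Category.assoc, ← SpecO.map_comp, Algebra.TensorProduct.map_comp_includeRight,
    AlgHom.comp_id]

lemma map_comp_mulLR (φ : A →ₐ[K] R) (x : SpecO K A ⟶ G) (y : SpecO K B ⟶ G) :
    SpecO.map (Algebra.TensorProduct.map φ (AlgHom.id K B)) ≫ mulLR G x y =
      mulLR G (SpecO.map φ ≫ x) y := by
  unfold mulLR
  rw [MonObj.comp_mul, map_incl_left, map_incl_right]

lemma map_comp_mulRL (φ : A →ₐ[K] R) (x : SpecO K A ⟶ G) (y : SpecO K B ⟶ G) :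
    SpecO.map (Algebra.TensorProduct.map φ (AlgHom.id K B)) ≫ mulRL G x y =
      mulRL G (SpecO.map φ ≫ x) y := by
  unfold mulRL
  rw [MonObj.comp_mul, map_incl_left, map_incl_right]

/-- An `R`-point of `G` commuting with all `B`-points after base change to `R ⊗ B`. -/
def AC (z : SpecO K R ⟶ G) : Prop :=
  ∀ (B : Type u) [CommRing B] [Algebra K B] (y : SpecO K B ⟶ G), mulLR G z y = mulRL G z y

lemma lmul_incl_left (z : SpecO K R ⟶ G) :
    SpecO.map (Algebra.TensorProduct.lmul' K (S := R)) ≫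
      SpecO.map (Algebra.TensorProduct.includeLeft : R →ₐ[K] R ⊗[K] R) ≫ z = z := by
  rw [← Category.assoc, ← SpecO.map_comp, Algebra.TensorProduct.lmul'_comp_includeLeft,
    SpecO.map_id, Category.id_comp]

lemma lmul_incl_right (z : SpecO K R ⟶ G) :
    SpecO.map (Algebra.TensorProduct.lmul' K (S := R)) ≫
      SpecO.map (Algebra.TensorProduct.includeRight : R →ₐ[K] R ⊗[K] R) ≫ z = z := by
  rw [← Category.assoc, ← SpecO.map_comp, Algebra.TensorProduct.lmul'_comp_includeRight,
    SpecO.map_id, Category.id_comp]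

lemma AC.comm {z : SpecO K R ⟶ G} (hz : AC G z) (y : SpecO K R ⟶ G) : z * y = y * z := by
  have h : SpecO.map (Algebra.TensorProduct.lmul' K (S := R)) ≫ mulLR G z y =
      SpecO.map (Algebra.TensorProduct.lmul' K (S := R)) ≫ mulRL G z y := by
    rw [hz R y]
  unfold mulLR mulRL at h
  rw [MonObj.comp_mul, MonObj.comp_mul, lmul_incl_left, lmul_incl_right] at h
  exact h

/-- Centrality of a `T`-point of `G`. -/
def Central {T : Over (Spec (CommRingCat.of K))} (g : T ⟶ G) : Prop :=
  ∀ (T' : Over (Spec (CommRingCat.of K))) (h : T' ⟶ T) (g' : T' ⟶ G),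
    (h ≫ g) * g' = g' * (h ≫ g)

lemma Central.comp {T T₁ : Over (Spec (CommRingCat.of K))} {g : T ⟶ G} (hg : Central G g)
    (t : T₁ ⟶ T) : Central G (t ≫ g) := fun T' h g' => by
  have := hg T' (h ≫ t) g'
  rwa [Category.assoc] at this

lemma Central.ac {z : SpecO K R ⟶ G} (hz : Central G z) : AC G z := fun B _ _ y => by
  unfold mulLR mulRL
  exact hz (SpecO K (R ⊗[K] B))
    (SpecO.map (Algebra.TensorProduct.includeLeft : R →ₐ[K] R ⊗[K] B))
    (SpecO.map (Algebra.TensorProduct.includeRight : B →ₐ[K] R ⊗[K] B) ≫ y)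

/-- Centrality can be tested on affine test objects mapping into affine opens of `G`. -/
lemma central_of_forall_affine {T : Over (Spec (CommRingCat.of K))} (g : T ⟶ G)
    (H : ∀ (R : CommRingCat.{u}) (_ : Algebra K R) (t : SpecO K R ⟶ T)
      (U : G.left.affineOpens), (∀ s, (t ≫ g).left s ∈ U.1) → AC G (t ≫ g)) :
    Central G g := by
  intro T' h g'
  apply Over.OverMorphism.ext
  apply Scheme.hom_ext_of_forall
  intro x
  obtain ⟨_, ⟨U, hU, rfl⟩, hxU, -⟩ := G.left.isBasis_affineOpens.exists_subset_of_mem_open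
    (Set.mem_univ ((h ≫ g).left x)) isOpen_univ
  obtain ⟨_, ⟨W, hW, rfl⟩, hxW, hWU⟩ := T'.left.isBasis_affineOpens.exists_subset_of_mem_open
    (show x ∈ ((h ≫ g).left ⁻¹ᵁ U : Set T'.left) from hxU) ((h ≫ g).left ⁻¹ᵁ U).isOpen
  refine ⟨W, hxW, ?_⟩
  obtain ⟨alg, w, hw⟩ := exists_specO_of_hom T' Γ(T'.left, W) hW.fromSpec
  let _ := alg
  have hac : AC G ((w ≫ h) ≫ g) := H _ alg (w ≫ h) ⟨U, hU⟩ (fun s => by
    have : ((w ≫ h) ≫ g).left s = (h ≫ g).left (hW.fromSpec s) := by
      rw [Category.assoc, Over.comp_left, hw]; rfl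
    rw [this]
    exact hWU (ZR.fromSpec_mem hW s))
  have hcomm := AC.comm G hac (w ≫ g')
  have e1 : w ≫ ((h ≫ g) * g') = w ≫ (g' * (h ≫ g)) := by
    rw [MonObj.comp_mul, MonObj.comp_mul, ← Category.assoc]; exact hcomm
  have e2 := congrArg (fun m => m.left) e1
  simp only [Over.comp_left, hw] at e2
  rw [← hW.isoSpec_inv_ι, Category.assoc, Category.assoc] at e2
  exact (cancel_epi _).mp e2

variable [IsSeparated G.hom]

/-- The ideal of `A ⊗ B` cutting out the locus where `x_B` and `y_A` commute. -/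
noncomputable def commIdeal (x : SpecO K A ⟶ G) (y : SpecO K B ⟶ G) : Ideal (A ⊗[K] B) :=
  (exists_eqIdeal G (mulLR G x y) (mulRL G x y)).choose

lemma commIdeal_spec (x : SpecO K A ⟶ G) (y : SpecO K B ⟶ G) {R' : Type u} [CommRing R']
    [Algebra K R'] (θ : A ⊗[K] B →ₐ[K] R') :
    SpecO.map θ ≫ mulLR G x y = SpecO.map θ ≫ mulRL G x y ↔
      commIdeal G x y ≤ RingHom.ker θ.toRingHom :=
  (exists_eqIdeal G (mulLR G x y) (mulRL G x y)).choose_spec R' θ

/-- The ideal of `A` cutting out the locus where the point `x` is central. -/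
noncomputable def centralIdeal (x : SpecO K A ⟶ G) : Ideal A :=
  sSup {J | ∃ (B : Type u) (_ : CommRing B) (_ : Algebra K B) (y : SpecO K B ⟶ G),
    J = coeffIdeal (commIdeal G x y)}

lemma ac_comp_iff (x : SpecO K A ⟶ G) (φ : A →ₐ[K] R) :
    AC G (SpecO.map φ ≫ x) ↔ centralIdeal G x ≤ RingHom.ker φ.toRingHom := by
  rw [centralIdeal, sSup_le_iff]
  constructor
  · rintro h J ⟨B, _, _, y, rfl⟩
    rw [coeffIdeal_le_ker_iff, ← commIdeal_spec, map_comp_mulLR, map_comp_mulRL]
    exact h B y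
  · intro h B _ _ y
    have := h _ ⟨B, inferInstance, inferInstance, y, rfl⟩
    rw [coeffIdeal_le_ker_iff, ← commIdeal_spec, map_comp_mulLR, map_comp_mulRL] at this
    exact this

end AC

end Groth.Agent.H93.Centre
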