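import Mathlib
import Groth.Agent.H93.Centre2

/-!
# The centre of a separated group scheme over a field: the ideal sheaf and representability
-/

set_option autoImplicit false
universe u

namespace Groth.Agent.H93.Centre

open CategoryTheory CategoryTheory.Limits AlgebraicGeometry MonoidalCategory
  CartesianMonoidalCategory
open scoped MonObj TensorProduct

variable {K : Type u} [Field K] (G : Over (Spec (CommRingCat.of K))) [GrpObj G]

section Sheaf

lemma ker_comp_mk {A B : CommRingCat.{u}} (φ : A ⟶ B) (M : Ideal B) :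
    RingHom.ker (φ ≫ CommRingCat.ofHom (Ideal.Quotient.mk M)).hom = M.comap φ.hom := by
  ext a
  rw [RingHom.mem_ker, Ideal.mem_comap]
  exact Ideal.Quotient.eq_zero_iff_mem (a := φ.hom a) (I := M)

lemma app_factor {X : Scheme.{u}} {U : X.Opens} (hU : IsAffineOpen U) {R : CommRingCat.{u}}
    (ρ : Γ(X, U) ⟶ R) (f : Spec R ⟶ X) (hf : Spec.map ρ ≫ hU.fromSpec = f) (a : Γ(X, U))
    (ha : (f.app U).hom a = 0) : ρ.hom a = 0 := by
  subst hf
  have hle : (⊤ : (Spec R).Opens) ≤ (Spec.map ρ ≫ hU.fromSpec) ⁻¹ᵁ U := by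
    intro s _
    show (Spec.map ρ ≫ hU.fromSpec) s ∈ U
    rw [Scheme.Hom.comp_apply]; exact ZR.fromSpec_mem hU _
  have h1 := IsAffineOpen.SpecMap_appLE_fromSpec (Spec.map ρ ≫ hU.fromSpec) hU
    (isAffineOpen_top (Spec R)) hle
  rw [IsAffineOpen.fromSpec_top, Scheme.isoSpec_Spec_inv, ← Category.assoc, ← Spec.map_comp]
    at h1
  have h2 := ZR.fromSpec_cancel hU h1
  have h3 : (ρ ≫ (Scheme.ΓSpecIso R).inv).hom a = 0 := by
    rw [← h2, Scheme.Hom.appLE, CommRingCat.comp_apply, ha, map_zero]
  have h4 : ρ.hom a = (Scheme.ΓSpecIso R).hom.hom ((ρ ≫ (Scheme.ΓSpecIso R).inv).hom a) := by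
    have e : (ρ ≫ (Scheme.ΓSpecIso R).inv) ≫ (Scheme.ΓSpecIso R).hom = ρ := by
      rw [Category.assoc, Iso.inv_hom_id, Category.comp_id]
    exact (congrArg (fun m => m.hom a) e).symm
  rw [h4, h3, map_zero]

lemma section_eq_zero_of_affine {X : Scheme.{u}} {V : X.Opens} (s : Γ(X, V))
    (h : ∀ (W : X.Opens) (_ : IsAffineOpen W) (hWV : W ≤ V),
      (X.presheaf.map (homOfLE hWV).op).hom s = 0) : s = 0 := by
  refine TopCat.Sheaf.eq_of_locally_eq' X.sheaf
    (fun W : {W : X.affineOpens // W.1 ≤ V} => W.1.1) V (fun W => homOfLE W.2) ?_ s 0 ?_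
  · intro x hx
    obtain ⟨_, ⟨W, hW, rfl⟩, hxW, hWV⟩ :=
      X.isBasis_affineOpens.exists_subset_of_mem_open hx V.isOpen
    exact TopologicalSpace.Opens.mem_iSup.mpr ⟨⟨⟨W, hW⟩, hWV⟩, hxW⟩
  · intro W
    rw [map_zero]
    exact h W.1.1 W.1.2 W.2

end Sheaf

section Ideal

variable [IsSeparated G.hom]

/-- The `K`-algebra structure on the sections over an affine open of `G`. -/
noncomputable def algU (U : G.left.affineOpens) : Algebra K Γ(G.left, U.1) :=
  (exists_specO_of_hom G Γ(G.left, U.1) U.2.fromSpec).choose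

/-- The tautological point of `G` with values in the sections over an affine open. -/
noncomputable def ptU (U : G.left.affineOpens) :
    @SpecO K _ Γ(G.left, U.1) _ (algU G U) ⟶ G :=
  (exists_specO_of_hom G Γ(G.left, U.1) U.2.fromSpec).choose_spec.choose

lemma ptU_left (U : G.left.affineOpens) : (ptU G U).left = U.2.fromSpec :=
  (exists_specO_of_hom G Γ(G.left, U.1) U.2.fromSpec).choose_spec.choose_spec

/-- The ideal of the centre on an affine open. -/
noncomputable def idealU (U : G.left.affineOpens) : Ideal Γ(G.left, U.1) :=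
  letI := algU G U
  centralIdeal G (ptU G U)

lemma ac_iff_idealU_le (U : G.left.affineOpens) {R : Type u} [CommRing R] [Algebra K R]
    (ρ : Γ(G.left, U.1) ⟶ CommRingCat.of R) (z : SpecO K R ⟶ G)
    (hz : z.left = Spec.map ρ ≫ U.2.fromSpec) :
    AC G z ↔ idealU G U ≤ RingHom.ker ρ.hom := by
  letI := algU G U
  have hK : ρ.hom.comp (algebraMap K Γ(G.left, U.1)) = algebraMap K R := by
    have h1 : Spec.map (CommRingCat.ofHom (algebraMap K Γ(G.left, U.1)) ≫ ρ) =
        Spec.map (CommRingCat.ofHom (algebraMap K R)) := by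
      rw [Spec.map_comp]
      have h2 : (ptU G U).left ≫ G.hom =
          Spec.map (CommRingCat.ofHom (algebraMap K Γ(G.left, U.1))) := Over.w (ptU G U)
      have h3 : z.left ≫ G.hom = Spec.map (CommRingCat.ofHom (algebraMap K R)) := Over.w z
      rw [← h2, ptU_left, ← Category.assoc, ← hz, h3]
    have := Spec.map_injective h1
    exact congrArg (fun m => m.hom) this
  let φ : Γ(G.left, U.1) →ₐ[K] R :=
    { ρ.hom with commutes' := fun k => congrArg (fun m : K →+* R => m k) hK }
  have hzφ : z = SpecO.map φ ≫ ptU G U := by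
    apply Over.OverMorphism.ext
    rw [Over.comp_left, ptU_left, hz]; rfl
  rw [hzφ, ac_comp_iff]
  rfl

lemma idealU_map_basicOpen (U : G.left.affineOpens) (f : Γ(G.left, U.1)) :
    (idealU G U).map (G.left.presheaf.map (homOfLE <| G.left.basicOpen_le f).op).hom =
      idealU G (G.left.affineBasicOpen f) := by
  have hfs : Spec.map (G.left.presheaf.map (homOfLE <| G.left.basicOpen_le f).op) ≫
      U.2.fromSpec = (G.left.affineBasicOpen f).2.fromSpec :=
    U.2.map_fromSpec (G.left.affineBasicOpen f).2 _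
  letI := algU G (G.left.affineBasicOpen f)
  have key : ∀ M : Ideal Γ(G.left, (G.left.affineBasicOpen f).1),
      idealU G (G.left.affineBasicOpen f) ≤ M ↔
        idealU G U ≤
          M.comap (G.left.presheaf.map (homOfLE <| G.left.basicOpen_le f).op).hom := by
    intro M
    let z : SpecO K (Γ(G.left, (G.left.affineBasicOpen f).1) ⧸ M) ⟶ G :=
      SpecO.map (Ideal.Quotient.mkₐ K M) ≫ ptU G (G.left.affineBasicOpen f)
    have hz1 : z.left = Spec.map (CommRingCat.ofHom (Ideal.Quotient.mk M)) ≫
        (G.left.affineBasicOpen f).2.fromSpec := by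
      rw [Over.comp_left, ptU_left]; rfl
    have hz2 : z.left = Spec.map ((G.left.presheaf.map
        (homOfLE <| G.left.basicOpen_le f).op) ≫ CommRingCat.ofHom (Ideal.Quotient.mk M)) ≫
        U.2.fromSpec := by
      rw [hz1, Spec.map_comp, Category.assoc, hfs]
      rfl
    have e1 := ac_iff_idealU_le G (G.left.affineBasicOpen f)
      (CommRingCat.ofHom (Ideal.Quotient.mk M)) z hz1
    have e2 := ac_iff_idealU_le G U ((G.left.presheaf.map
        (homOfLE <| G.left.basicOpen_le f).op) ≫ CommRingCat.ofHom (Ideal.Quotient.mk M)) z hz2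
    have h1 : RingHom.ker (CommRingCat.ofHom (Ideal.Quotient.mk M)).hom = M := Ideal.mk_ker
    have h2 : RingHom.ker ((G.left.presheaf.map
        (homOfLE <| G.left.basicOpen_le f).op) ≫
          CommRingCat.ofHom (Ideal.Quotient.mk M)).hom =
        M.comap (G.left.presheaf.map (homOfLE <| G.left.basicOpen_le f).op).hom := by
      exact ker_comp_mk _ M
    rw [h1] at e1
    rw [h2] at e2
    exact e1.symm.trans e2
  apply le_antisymm
  · rw [Ideal.map_le_iff_le_comap]
    exact (key _).mp le_rfl
  · exact (key _).mpr Ideal.le_comap_map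

/-- The ideal sheaf of the centre. -/
noncomputable def centreIdeal : G.left.IdealSheafData where
  ideal U := idealU G U
  map_ideal_basicOpen U f := idealU_map_basicOpen G U f

theorem centre_representable :
    ∃ (Z : Over (Spec (CommRingCat.of K))) (incl : Z ⟶ G), IsClosedImmersion incl.left ∧
      ∀ (T : Over (Spec (CommRingCat.of K))) (g : T ⟶ G),
        (∃ z : T ⟶ Z, z ≫ incl = g) ↔ Central G g := by
  refine ⟨Over.mk ((centreIdeal G).subschemeι ≫ G.hom),
    Over.homMk (centreIdeal G).subschemeι rfl, ?_, ?_⟩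
  · show IsClosedImmersion (centreIdeal G).subschemeι
    infer_instance
  intro T g
  constructor
  · rintro ⟨z, rfl⟩
    apply Central.comp
    apply central_of_forall_affine
    intro R alg t U hU
    let _ := alg
    obtain ⟨ρ, hρ⟩ := ZR.exists_factor_fromSpec U.2
      ((t ≫ (Over.homMk (centreIdeal G).subschemeι rfl :
        Over.mk ((centreIdeal G).subschemeι ≫ G.hom) ⟶ G)).left) hU
    rw [ac_iff_idealU_le G U ρ _ hρ.symm]
    intro a ha
    rw [RingHom.mem_ker]
    apply app_factor U.2 ρ _ hρ
    have h0 : ((centreIdeal G).subschemeι.app U.1).hom a = 0 := by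
      have := (centreIdeal G).ker_subschemeι_app U
      rw [← RingHom.mem_ker, this]
      exact ha
    show ((t.left ≫ (centreIdeal G).subschemeι).app U.1).hom a = 0
    rw [Scheme.Hom.comp_app]
    show (t.left.app _).hom (((centreIdeal G).subschemeι.app U.1).hom a) = 0
    rw [h0, map_zero]
  · intro hg
    have hI : centreIdeal G ≤ g.left.ker := by
      rw [Scheme.Hom.ker, Scheme.IdealSheafData.le_ofIdeals_iff]
      intro U a ha
      refine RingHom.mem_ker.mpr ?_
      apply section_eq_zero_of_affine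
      intro W hW hWU
      obtain ⟨alg, w, hw⟩ := exists_specO_of_hom T Γ(T.left, W) hW.fromSpec
      let _ := alg
      have hac : AC G (w ≫ g) := (hg.comp G w).ac G
      have hz : (w ≫ g).left = Spec.map (g.left.appLE U.1 W hWU) ≫ U.2.fromSpec := by
        rw [Over.comp_left, hw, IsAffineOpen.SpecMap_appLE_fromSpec g.left U.2 hW hWU]
      have hle := (ac_iff_idealU_le G U (g.left.appLE U.1 W hWU) (w ≫ g) hz).mp hac
      have := hle ha
      rw [RingHom.mem_ker] at this
      exact this
    refine ⟨Over.homMk (IsClosedImmersion.lift (centreIdeal G).subschemeι g.left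
      (by rw [(centreIdeal G).ker_subschemeι]; exact hI)) ?_, ?_⟩
    · show IsClosedImmersion.lift _ _ _ ≫ ((centreIdeal G).subschemeι ≫ G.hom) = T.hom
      rw [← Category.assoc, IsClosedImmersion.lift_fac]
      exact Over.w g
    · apply Over.OverMorphism.ext
      show IsClosedImmersion.lift (centreIdeal G).subschemeι g.left _ ≫
        (centreIdeal G).subschemeι = g.left
      exact IsClosedImmersion.lift_fac _ _ _

end Ideal

end Groth.Agent.H93.Centre
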