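import Mathlib
import Groth.Agent.H93.Transp1

/-!
# Equaliser-type closed conditions

For two natural operations `L, R : Y(T) × X(T) → Z(T)` with values in a separated `K`-scheme `Z`,
the condition `L g x = R g x` is a closed condition (`eqCond`).
-/

set_option autoImplicit false
universe u

namespace Groth.Agent.H93.Transp

open CategoryTheory CategoryTheory.Limits AlgebraicGeometry
open Groth.Agent.H93.Centre
open scoped TensorProduct

variable {K : Type u} [Field K]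

section Eq

variable {Y X Z : Over (Spec (CommRingCat.of K))}
  (L R : ∀ ⦃T : Over (Spec (CommRingCat.of K))⦄, (T ⟶ Y) → (T ⟶ X) → (T ⟶ Z))
  (hL : ∀ ⦃T T' : Over (Spec (CommRingCat.of K))⦄ (h : T' ⟶ T) (g : T ⟶ Y) (x : T ⟶ X),
    h ≫ L g x = L (h ≫ g) (h ≫ x))
  (hR : ∀ ⦃T T' : Over (Spec (CommRingCat.of K))⦄ (h : T' ⟶ T) (g : T ⟶ Y) (x : T ⟶ X),
    h ≫ R g x = R (h ≫ g) (h ≫ x))

include hL hR in
lemma eq_comp ⦃T T' : Over (Spec (CommRingCat.of K))⦄ (h : T' ⟶ T) (g : T ⟶ Y) (x : T ⟶ X)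
    (hP : L g x = R g x) : L (h ≫ g) (h ≫ x) = R (h ≫ g) (h ≫ x) := by
  rw [← hL, ← hR, hP]

include hL hR in
lemma eq_ideal [IsSeparated Z.hom] (C : Type u) [CommRing C] [Algebra K C] (g : SpecO K C ⟶ Y)
    (x : SpecO K C ⟶ X) :
    ∃ I : Ideal C, ∀ (R' : Type u) [CommRing R'] [Algebra K R'] (θ : C →ₐ[K] R'),
      L (SpecO.map θ ≫ g) (SpecO.map θ ≫ x) = R (SpecO.map θ ≫ g) (SpecO.map θ ≫ x) ↔
        I ≤ RingHom.ker θ.toRingHom := by
  obtain ⟨I, hI⟩ := exists_eqIdeal Z (L g x) (R g x)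
  refine ⟨I, fun R' _ _ θ => ?_⟩
  rw [← hI R' θ, hL, hR]

include hL hR in
lemma eq_loc ⦃T : Over (Spec (CommRingCat.of K))⦄ (g : T ⟶ Y) (x : T ⟶ X)
    (H : ∀ p : T.left, ∃ (W : T.left.Opens) (hW : IsAffineOpen W), p ∈ W ∧
      ∀ (alg : Algebra K Γ(T.left, W)) (w : @SpecO K _ Γ(T.left, W) _ alg ⟶ T),
        w.left = hW.fromSpec → L (w ≫ g) (w ≫ x) = R (w ≫ g) (w ≫ x)) :
    L g x = R g x := by
  apply Over.OverMorphism.ext
  apply Scheme.hom_ext_of_forall
  intro p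
  obtain ⟨W, hW, hpW, HW⟩ := H p
  refine ⟨W, hpW, ?_⟩
  obtain ⟨alg, w, hw⟩ := exists_specO_of_hom T Γ(T.left, W) hW.fromSpec
  have e1 : w ≫ L g x = w ≫ R g x := by rw [hL, hR]; exact HW alg w hw
  have e2 := congrArg (fun m => m.left) e1
  simp only [Over.comp_left, hw] at e2
  rw [← hW.isoSpec_inv_ι, Category.assoc, Category.assoc] at e2
  exact (cancel_epi _).mp e2

/-- The equaliser-type closed condition `L g x = R g x`. -/
def eqCond [IsSeparated Z.hom] : ClosedCond Y X where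
  P := fun _ g x => L g x = R g x
  comp := eq_comp L R hL hR
  ideal := eq_ideal L R hL hR
  loc := eq_loc L R hL hR

include hL hR in
/-- Representability of an equaliser-type condition by a closed subscheme. -/
theorem eq_representable [IsSeparated Z.hom] :
    ∃ (W : Over (Spec (CommRingCat.of K))) (incl : W ⟶ Y), IsClosedImmersion incl.left ∧
      ∀ (T : Over (Spec (CommRingCat.of K))) (g : T ⟶ Y),
        (∃ z : T ⟶ W, z ≫ incl = g) ↔
          ∀ (T' : Over (Spec (CommRingCat.of K))) (h : T' ⟶ T) (x : T' ⟶ X),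
            L (h ≫ g) x = R (h ≫ g) x :=
  representable (eqCond L R hL hR)

end Eq

end Groth.Agent.H93.Transp
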