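import Mathlib
import Groth.Agent.H93.Transp2

/-!
# Factorisation-type closed conditions, intersections, and normalising points

* `facCond`: for a natural operation `L : Y(T) × X(T) → Z(T)` and a closed immersion `y : Yc ⟶ Z`,
  the condition "`L g x` factors through `y`" is a closed condition.
* `closedRep_and`: conjunction of two conditions represented by closed subschemes.
* `NormP`: points normalising a subobject; closed under products, inverses, unit.
-/

set_option autoImplicit false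
universe u

namespace Groth.Agent.H93.Transp

open CategoryTheory CategoryTheory.Limits AlgebraicGeometry
open Groth.Agent.H93.Centre
open scoped TensorProduct

variable {K : Type u} [Field K]

section Factor

variable {Y X Z Yc : Over (Spec (CommRingCat.of K))}

/-- A `C`-point of `Z` factors through a closed immersion after base change `θ` iff `θ` kills a
certain ideal. -/
lemma exists_factorIdeal (y : Yc ⟶ Z) [IsClosedImmersion y.left]
    {C : Type u} [CommRing C] [Algebra K C] (ℓ : SpecO K C ⟶ Z) :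
    ∃ I : Ideal C, ∀ (R : Type u) [CommRing R] [Algebra K R] (θ : C →ₐ[K] R),
      (∃ x' : SpecO K R ⟶ Yc, SpecO.map θ ≫ ℓ = x' ≫ y) ↔ I ≤ RingHom.ker θ.toRingHom := by
  have hci : IsClosedImmersion (pullback.fst ℓ.left y.left) := inferInstance
  obtain ⟨I, e, he⟩ := IsClosedImmersion.Spec_iff.mp hci
  refine ⟨I, fun R _ _ θ => ⟨?_, fun h => ?_⟩⟩
  · rintro ⟨x', hx'⟩
    have hx'' : Spec.map (CommRingCat.ofHom θ.toRingHom) ≫ ℓ.left = x'.left ≫ y.left :=
      congrArg (fun m => m.left) hx'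
    let l := pullback.lift (Spec.map (CommRingCat.ofHom θ.toRingHom)) x'.left hx''
    have hl : l ≫ pullback.fst ℓ.left y.left = Spec.map (CommRingCat.ofHom θ.toRingHom) :=
      pullback.lift_fst _ _ _
    rw [he, ← Category.assoc] at hl
    have h2 : Spec.map (Spec.preimage (l ≫ e.hom)) = l ≫ e.hom := Spec.map_preimage _
    rw [← h2, ← Spec.map_comp] at hl
    have h3 := Spec.map_injective hl
    intro c hc
    rw [RingHom.mem_ker]
    have : θ.toRingHom c =
        (Spec.preimage (l ≫ e.hom)).hom (Ideal.Quotient.mk I c) :=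
      (congrArg (fun m : CommRingCat.of C ⟶ CommRingCat.of R => m.hom c) h3).symm
    rw [this, Ideal.Quotient.eq_zero_iff_mem.mpr hc, map_zero]
  · let θ' : C ⧸ I →+* R := Ideal.Quotient.lift I θ.toRingHom (fun c hc => h hc)
    have hθ : CommRingCat.ofHom θ.toRingHom =
        CommRingCat.ofHom (Ideal.Quotient.mk I) ≫ CommRingCat.ofHom θ' := by
      ext c; rfl
    have hmk : Spec.map (CommRingCat.ofHom (Ideal.Quotient.mk I)) =
        e.inv ≫ pullback.fst ℓ.left y.left := by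
      rw [he, Iso.inv_hom_id_assoc]
    have hm : (Spec.map (CommRingCat.ofHom θ') ≫ e.inv ≫ pullback.snd ℓ.left y.left) ≫ y.left =
        Spec.map (CommRingCat.ofHom θ.toRingHom) ≫ ℓ.left := by
      rw [hθ, Spec.map_comp, hmk]
      simp only [Category.assoc]
      rw [pullback.condition]
    have h1 : y.left ≫ Z.hom = Yc.hom := Over.w y
    have h2 : ℓ.left ≫ Z.hom = (SpecO K C).hom := Over.w ℓ
    have h3 : (SpecO.map θ).left ≫ (SpecO K C).hom = (SpecO K R).hom := Over.w (SpecO.map θ)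
    refine ⟨Over.homMk (Spec.map (CommRingCat.ofHom θ') ≫ e.inv ≫ pullback.snd ℓ.left y.left) ?_,
      ?_⟩
    · rw [← h1, ← Category.assoc, hm, Category.assoc, h2]
      exact h3
    · apply Over.OverMorphism.ext
      exact hm.symm

variable (L : ∀ ⦃T : Over (Spec (CommRingCat.of K))⦄, (T ⟶ Y) → (T ⟶ X) → (T ⟶ Z))
  (hL : ∀ ⦃T T' : Over (Spec (CommRingCat.of K))⦄ (h : T' ⟶ T) (g : T ⟶ Y) (x : T ⟶ X),
    h ≫ L g x = L (h ≫ g) (h ≫ x))
  (y : Yc ⟶ Z)

include hL in
lemma fac_comp ⦃T T' : Over (Spec (CommRingCat.of K))⦄ (h : T' ⟶ T) (g : T ⟶ Y) (x : T ⟶ X)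
    (hP : ∃ x' : T ⟶ Yc, L g x = x' ≫ y) : ∃ x' : T' ⟶ Yc, L (h ≫ g) (h ≫ x) = x' ≫ y := by
  obtain ⟨x', hx'⟩ := hP
  exact ⟨h ≫ x', by rw [← hL, hx', Category.assoc]⟩

include hL in
lemma fac_ideal [IsClosedImmersion y.left] (C : Type u) [CommRing C] [Algebra K C]
    (g : SpecO K C ⟶ Y) (x : SpecO K C ⟶ X) :
    ∃ I : Ideal C, ∀ (R' : Type u) [CommRing R'] [Algebra K R'] (θ : C →ₐ[K] R'),
      (∃ x' : SpecO K R' ⟶ Yc, L (SpecO.map θ ≫ g) (SpecO.map θ ≫ x) = x' ≫ y) ↔
        I ≤ RingHom.ker θ.toRingHom := by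
  obtain ⟨I, hI⟩ := exists_factorIdeal y (L g x)
  refine ⟨I, fun R' _ _ θ => ?_⟩
  rw [← hI R' θ, hL]

include hL in
lemma fac_loc [IsClosedImmersion y.left] ⦃T : Over (Spec (CommRingCat.of K))⦄ (g : T ⟶ Y)
    (x : T ⟶ X)
    (H : ∀ p : T.left, ∃ (W : T.left.Opens) (hW : IsAffineOpen W), p ∈ W ∧
      ∀ (alg : Algebra K Γ(T.left, W)) (w : @SpecO K _ Γ(T.left, W) _ alg ⟶ T),
        w.left = hW.fromSpec →
          ∃ x' : @SpecO K _ Γ(T.left, W) _ alg ⟶ Yc, L (w ≫ g) (w ≫ x) = x' ≫ y) :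
    ∃ x' : T ⟶ Yc, L g x = x' ≫ y := by
  choose W hW hpW HW using H
  have hloc : ∀ p : T.left, ∃ l : (W p).toScheme ⟶ Yc.left,
      l ≫ y.left = (W p).ι ≫ (L g x).left := by
    intro p
    obtain ⟨alg, w, hw⟩ := exists_specO_of_hom T Γ(T.left, W p) (hW p).fromSpec
    obtain ⟨x', hx'⟩ := HW p alg w hw
    refine ⟨(hW p).isoSpec.hom ≫ x'.left, ?_⟩
    have e1 : (hW p).fromSpec ≫ (L g x).left = x'.left ≫ y.left := by
      have := congrArg (fun m => m.left) (show w ≫ L g x = x' ≫ y by rw [hL, hx'])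
      simp only [Over.comp_left, hw] at this
      exact this
    rw [Category.assoc, ← e1, ← (hW p).isoSpec_inv_ι, Category.assoc, Iso.hom_inv_id_assoc]
  choose l hl using hloc
  let 𝒰 : T.left.OpenCover := {
    I₀ := T.left, X i := (W i), f i := (W i).ι,
    mem₀ := by
      rw [Scheme.presieve₀_mem_precoverage_iff]
      refine ⟨fun p ↦ ⟨p, by simpa using hpW p⟩, inferInstance⟩ }
  have hcompat : ∀ i j : T.left, pullback.fst (𝒰.f i) (𝒰.f j) ≫ l i =
      pullback.snd (𝒰.f i) (𝒰.f j) ≫ l j := by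
    intro i j
    rw [← cancel_mono y.left, Category.assoc, Category.assoc, hl, hl, ← Category.assoc,
      ← Category.assoc]
    exact congrArg (fun t => t ≫ (L g x).left) pullback.condition
  obtain ⟨m, hmι⟩ : ∃ m : T.left ⟶ Yc.left, ∀ i : T.left, 𝒰.f i ≫ m = l i :=
    ⟨𝒰.glueMorphisms l hcompat, fun i => 𝒰.ι_glueMorphisms l hcompat i⟩
  have hm : m ≫ y.left = (L g x).left := by
    apply 𝒰.hom_ext
    intro i
    rw [← Category.assoc, hmι i]
    exact hl i
  have h1 : y.left ≫ Z.hom = Yc.hom := Over.w y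
  have h2 : (L g x).left ≫ Z.hom = T.hom := Over.w (L g x)
  refine ⟨Over.homMk m ?_, ?_⟩
  · rw [← h1, ← Category.assoc, hm, h2]
  · apply Over.OverMorphism.ext
    exact hm.symm

/-- The factorisation-type closed condition "`L g x` factors through the closed immersion `y`". -/
def facCond [IsClosedImmersion y.left] : ClosedCond Y X where
  P := fun _ g x => ∃ x', L g x = x' ≫ y
  comp := fac_comp L hL y
  ideal := fac_ideal L hL y
  loc := fac_loc L hL y

include hL in
/-- Representability of a factorisation-type condition by a closed subscheme. -/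
theorem fac_representable [IsClosedImmersion y.left] :
    ∃ (W : Over (Spec (CommRingCat.of K))) (incl : W ⟶ Y), IsClosedImmersion incl.left ∧
      ∀ (T : Over (Spec (CommRingCat.of K))) (g : T ⟶ Y),
        (∃ z : T ⟶ W, z ≫ incl = g) ↔
          ∀ (T' : Over (Spec (CommRingCat.of K))) (s : T' ⟶ T) (x : T' ⟶ X),
            ∃ x' : T' ⟶ Yc, L (s ≫ g) x = x' ≫ y :=
  representable (facCond L hL y)

end Factor

section And

variable {Y : Over (Spec (CommRingCat.of K))}

/-- The conjunction of two conditions represented by closed subschemes is represented by a closed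
subscheme (their intersection). -/
lemma closedRep_and {F₁ F₂ : ∀ ⦃T : Over (Spec (CommRingCat.of K))⦄, (T ⟶ Y) → Prop}
    (h₁ : ∃ (W : Over (Spec (CommRingCat.of K))) (incl : W ⟶ Y), IsClosedImmersion incl.left ∧
      ∀ (T : Over (Spec (CommRingCat.of K))) (g : T ⟶ Y), (∃ z : T ⟶ W, z ≫ incl = g) ↔ F₁ g)
    (h₂ : ∃ (W : Over (Spec (CommRingCat.of K))) (incl : W ⟶ Y), IsClosedImmersion incl.left ∧
      ∀ (T : Over (Spec (CommRingCat.of K))) (g : T ⟶ Y), (∃ z : T ⟶ W, z ≫ incl = g) ↔ F₂ g) :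
    ∃ (W : Over (Spec (CommRingCat.of K))) (incl : W ⟶ Y), IsClosedImmersion incl.left ∧
      ∀ (T : Over (Spec (CommRingCat.of K))) (g : T ⟶ Y),
        (∃ z : T ⟶ W, z ≫ incl = g) ↔ (F₁ g ∧ F₂ g) := by
  obtain ⟨Z₁, i₁, hc₁, H₁⟩ := h₁
  obtain ⟨Z₂, i₂, hc₂, H₂⟩ := h₂
  have w₁ : i₁.left ≫ Y.hom = Z₁.hom := Over.w i₁
  have w₂ : i₂.left ≫ Y.hom = Z₂.hom := Over.w i₂
  refine ⟨Over.mk ((pullback.fst i₁.left i₂.left ≫ i₁.left) ≫ Y.hom),
    Over.homMk (pullback.fst i₁.left i₂.left ≫ i₁.left) rfl, ?_, ?_⟩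
  · show IsClosedImmersion (pullback.fst i₁.left i₂.left ≫ i₁.left)
    infer_instance
  intro T g
  rw [← H₁, ← H₂]
  constructor
  · rintro ⟨z, rfl⟩
    have hz : z.left ≫ (pullback.fst i₁.left i₂.left ≫ i₁.left) ≫ Y.hom = T.hom := Over.w z
    refine ⟨⟨Over.homMk (z.left ≫ pullback.fst i₁.left i₂.left) ?_, ?_⟩,
      ⟨Over.homMk (z.left ≫ pullback.snd i₁.left i₂.left) ?_, ?_⟩⟩
    · rw [← w₁, ← hz]
      simp only [Category.assoc]
    · apply Over.OverMorphism.ext
      show (z.left ≫ pullback.fst i₁.left i₂.left) ≫ i₁.left =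
        z.left ≫ (pullback.fst i₁.left i₂.left ≫ i₁.left)
      rw [Category.assoc]
    · rw [← w₂, ← hz]
      simp only [Category.assoc]
      rw [pullback.condition_assoc]
    · apply Over.OverMorphism.ext
      show (z.left ≫ pullback.snd i₁.left i₂.left) ≫ i₂.left =
        z.left ≫ (pullback.fst i₁.left i₂.left ≫ i₁.left)
      rw [Category.assoc]
      exact congrArg (fun t => z.left ≫ t) pullback.condition.symm
  · rintro ⟨⟨z₁, hz₁⟩, ⟨z₂, hz₂⟩⟩
    have e1 : z₁.left ≫ i₁.left = g.left := by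
      have := congrArg (fun m => m.left) hz₁
      simpa only [Over.comp_left] using this
    have e2 : z₂.left ≫ i₂.left = g.left := by
      have := congrArg (fun m => m.left) hz₂
      simpa only [Over.comp_left] using this
    have hc : z₁.left ≫ i₁.left = z₂.left ≫ i₂.left := by rw [e1, e2]
    have hg : g.left ≫ Y.hom = T.hom := Over.w g
    refine ⟨Over.homMk (pullback.lift z₁.left z₂.left hc) ?_, ?_⟩
    · show pullback.lift z₁.left z₂.left hc ≫
        (pullback.fst i₁.left i₂.left ≫ i₁.left) ≫ Y.hom = T.hom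
      rw [Category.assoc, pullback.lift_fst_assoc, ← Category.assoc, e1, hg]
    · apply Over.OverMorphism.ext
      show pullback.lift z₁.left z₂.left hc ≫ pullback.fst i₁.left i₂.left ≫ i₁.left = g.left
      rw [pullback.lift_fst_assoc, e1]

end And

section NormP

open scoped MonObj

variable {C : Type*} [Category C] [CartesianMonoidalCategory C] {G H : C} [GrpObj G]

/-- `g` normalises the subobject `h : H ⟶ G`, universally. -/
def NormP (h : H ⟶ G) {T : C} (g : T ⟶ G) : Prop :=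
  ∀ (T' : C) (t : T' ⟶ T) (k : T' ⟶ H),
    (∃ k' : T' ⟶ H, (t ≫ g) * (k ≫ h) * (t ≫ g)⁻¹ = k' ≫ h) ∧
    (∃ k' : T' ⟶ H, (t ≫ g)⁻¹ * (k ≫ h) * (t ≫ g) = k' ≫ h)

lemma NormP.mul {h : H ⟶ G} {T : C} {a b : T ⟶ G} (ha : NormP h a) (hb : NormP h b) :
    NormP h (a * b) := by
  intro T' t k
  constructor
  · obtain ⟨k₁, hk₁⟩ := (hb T' t k).1
    obtain ⟨k₂, hk₂⟩ := (ha T' t k₁).1
    refine ⟨k₂, ?_⟩
    rw [← hk₂, ← hk₁, MonObj.comp_mul]
    group
  · obtain ⟨k₁, hk₁⟩ := (ha T' t k).2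
    obtain ⟨k₂, hk₂⟩ := (hb T' t k₁).2
    refine ⟨k₂, ?_⟩
    rw [← hk₂, ← hk₁, MonObj.comp_mul]
    group

lemma NormP.inv {h : H ⟶ G} {T : C} {a : T ⟶ G} (ha : NormP h a) : NormP h a⁻¹ := by
  intro T' t k
  constructor
  · obtain ⟨k₁, hk₁⟩ := (ha T' t k).2
    refine ⟨k₁, ?_⟩
    rw [← hk₁, GrpObj.comp_inv, inv_inv]
  · obtain ⟨k₁, hk₁⟩ := (ha T' t k).1
    refine ⟨k₁, ?_⟩
    rw [← hk₁, GrpObj.comp_inv, inv_inv]

lemma NormP.one {h : H ⟶ G} {T : C} : NormP h (1 : T ⟶ G) := by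
  intro T' t k
  rw [MonObj.comp_one]
  exact ⟨⟨k, by rw [one_mul, inv_one, mul_one]⟩, ⟨k, by rw [inv_one, one_mul, mul_one]⟩⟩

end NormP

end Groth.Agent.H93.Transp
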