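import Mathlib
import Groth.Agent.H63.GrpHomFlat

/-!
# H93/FlatOpenRange: a homomorphism of group schemes over a field with open range in a reduced
group is flat (piece (F1) for helper63's S3035-S3038 squad).  The proof is helper63's
`flat_left_of_isField` with "surjective" replaced by "the point with field stalk is in the range".
-/

set_option autoImplicit false
set_option linter.style.haveILetI false
set_option linter.unusedSectionVars false
universe u
open CategoryTheory CategoryTheory.Limits AlgebraicGeometry MonoidalCategory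
  CartesianMonoidalCategory MonObj

namespace Groth.Agent.H93.FlatOpenRange
open Groth.Agent.H63.GrpHomFlat

section Key

variable {k : Type u} [Field k] {G H : Over (Spec (CommRingCat.of k))} [GrpObj G] [GrpObj H]

theorem flat_left_of_isField' (φ : G ⟶ H) [IsMonHom φ] (ξ : H.left)
    (hmem : ξ ∈ Set.range φ.left) (hξ : IsField (H.left.presheaf.stalk ξ)) : Flat φ.left := by
  letI : Field (H.left.presheaf.stalk ξ) := hξ.toField
  haveI : Flat (H.left.fromSpecStalk ξ) := flat_fromSpecStalk _ _
  haveI : IsIntegral (Spec (H.left.presheaf.stalk ξ)) := inferInstance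
  haveI : Subsingleton (Spec (H.left.presheaf.stalk ξ)) :=
    inferInstanceAs (Subsingleton (PrimeSpectrum (H.left.presheaf.stalk ξ)))
  haveI : Flat (pullback.snd φ.left (H.left.fromSpecStalk ξ)) := inferInstance
  obtain ⟨Pₒ, a, hψ, hne⟩ : ∃ (Pₒ : Over (Spec (CommRingCat.of k))) (a : Pₒ ⟶ G),
      Flat (a ≫ φ).left ∧ Nonempty Pₒ.left := by
    refine ⟨Over.mk (pullback.fst φ.left (H.left.fromSpecStalk ξ) ≫ G.hom),
      Over.homMk (pullback.fst φ.left (H.left.fromSpecStalk ξ)) rfl, ?_, ?_⟩
    · have e : (Over.homMk (pullback.fst φ.left (H.left.fromSpecStalk ξ)) rfl ≫ φ :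
          Over.mk (pullback.fst φ.left (H.left.fromSpecStalk ξ) ≫ G.hom) ⟶ H).left =
          pullback.snd φ.left (H.left.fromSpecStalk ξ) ≫ H.left.fromSpecStalk ξ :=
        pullback.condition
      rw [e]
      infer_instance
    · obtain ⟨u, hu⟩ := hmem
      obtain ⟨z, -, -⟩ := Scheme.Pullback.exists_preimage_pullback (f := φ.left)
        (g := H.left.fromSpecStalk ξ) u (IsLocalRing.closedPoint _)
        (by rw [hu]; exact (H.left.fromSpecStalk_closedPoint).symm)
      exact ⟨z⟩
  haveI : Flat G.hom := inferInstance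
  haveI : Flat Pₒ.hom := inferInstance
  haveI : Surjective Pₒ.hom := ⟨fun s => by
    obtain ⟨z⟩ := hne
    exact ⟨z, @Subsingleton.elim (PrimeSpectrum k) inferInstance _ _⟩⟩
  haveI hf1 : Flat (fst G Pₒ).left := by rw [Over.fst_left]; infer_instance
  haveI hs1 : Surjective (fst G Pₒ).left := by rw [Over.fst_left]; infer_instance
  haveI : IsIso (shear a).left :=
    (inferInstance : IsIso ((Over.forget _).map (shear a)))
  have hm : (fst G Pₒ * (snd G Pₒ ≫ a)).left = (shear a).left ≫ (fst G Pₒ).left := by
    rw [← Over.comp_left, shear_fst]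
  haveI hmf : Flat (fst G Pₒ * (snd G Pₒ ≫ a)).left := by rw [hm]; infer_instance
  haveI hms : Surjective (fst G Pₒ * (snd G Pₒ ≫ a)).left := by rw [hm]; infer_instance
  have SQ2 : IsPullback (fst G H).left ((φ ▷ H) ≫ μ[H]).left (toUnit G).left (toUnit H).left :=
    (Groth.Agent.H40.MaxOpen.sq_prod φ).map (Over.forget _)
  have hflat_m : Flat ((φ ▷ H) ≫ μ[H]).left :=
    MorphismProperty.of_isPullback (P := @Flat) SQ2 (inferInstance : Flat G.hom)
  have hflat_w : Flat (G ◁ (a ≫ φ)).left := by
    rw [Over.whiskerLeft_left]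
    exact MorphismProperty.pullbackMap (P := @Flat) (inferInstance : Flat (𝟙 _)) hψ
      (Category.id_comp _).symm (Over.w (a ≫ φ)).symm
  haveI : Flat ((fst G Pₒ * (snd G Pₒ ≫ a)).left ≫ φ.left) := by
    rw [← Over.comp_left, mul_comp_hom, Over.comp_left]
    exact Flat.comp _ _
  exact flat_of_flat_comp (fst G Pₒ * (snd G Pₒ ≫ a)).left φ.left

end Key

/-- (F1) -/
theorem flat_of_isOpen_range {K : Type u} [Field K] (G' H' : Over (Spec (CommRingCat.of K)))
    [GrpObj G'] [GrpObj H'] [LocallyOfFiniteType G'.hom] [LocallyOfFiniteType H'.hom]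
    [IsReduced H'.left] (v : G' ⟶ H') [IsMonHom v] (h : IsOpen (Set.range v.left)) :
    Flat v.left := by
  let g₀ : G'.left := η[G'].left (IsLocalRing.closedPoint K)
  let x₀ : H'.left := v.left g₀
  have hx₀ : x₀ ∈ Set.range v.left := ⟨g₀, rfl⟩
  have hirr := isIrreducible_irreducibleComponent (x := x₀)
  have hcl := isClosed_irreducibleComponent (x := x₀)
  have hgen : closure {hirr.genericPoint} = irreducibleComponent x₀ :=
    hirr.isGenericPoint_genericPoint hcl
  have hξ : IsField (H'.left.presheaf.stalk hirr.genericPoint) :=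
    isField_stalk_of_closure_mem_irreducibleComponents H'.left _ (by
      rw [hgen]; exact irreducibleComponent_mem_irreducibleComponents x₀)
  have hmem : hirr.genericPoint ∈ Set.range v.left := by
    have hx : x₀ ∈ closure {hirr.genericPoint} := by
      rw [hgen]; exact mem_irreducibleComponent
    exact (specializes_iff_mem_closure.2 hx).mem_open h hx₀
  exact flat_left_of_isField' v _ hmem hξ

end Groth.Agent.H93.FlatOpenRange
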