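import Groth.Prelude.Def_HopfRep
import Groth.Prelude.Def_Hoch
import Groth.Agent.H40.Comod
import Groth.Agent.H83.HopfAux
import Mathlib.RingTheory.HopfAlgebra.Convolution

/-! Total integrals on a commutative Hopf algebra give comodule retractions of the coaction
(helper93).  For `α : A → k` a (left) integral (`IsInt α`), `retr α : V ⊗ A → V`,
`v ⊗ b ↦ Σ v₀ α(S(v₁) b)` is a comodule map from the induced comodule `V ⊗ A` (coaction
`id ⊗ Δ`) to `V` (`coact_retr`), and if `α 1 = 1` it is a retraction of the coaction
(`retr_coact`). -/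

set_option autoImplicit false
universe u v w
open TensorProduct

namespace Groth.Agent.H93

open Groth.Agent.H40 (contr contr_tmul)

section Hopf

variable {k : Type u} [CommRing k] {A : Type v} [CommRing A] [HopfAlgebra k A]

/-- `γ(x ⊗ y) = α (S x * y)` -/
noncomputable def gam (α : A →ₗ[k] k) : A ⊗[k] A →ₗ[k] k :=
  α ∘ₗ LinearMap.mul' k A ∘ₗ (HopfAlgebraStruct.antipode k (A := A)).rTensor A

@[simp] theorem gam_tmul (α : A →ₗ[k] k) (x y : A) :
    gam α (x ⊗ₜ[k] y) = α (HopfAlgebraStruct.antipode k x * y) := by
  simp [gam]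

/-- `γ_b = γ(· ⊗ b)` -/
noncomputable def gamb (α : A →ₗ[k] k) (b : A) : A →ₗ[k] k :=
  (TensorProduct.curry (gam α)).flip b

@[simp] theorem gamb_apply (α : A →ₗ[k] k) (b x : A) :
    gamb α b x = α (HopfAlgebraStruct.antipode k x * b) := by
  simp [gamb]

/-- `(b' ⊗ b'') ↦ (a ↦ γ(a ⊗ b') • b'')` -/
noncomputable def Eflip (α : A →ₗ[k] k) : A ⊗[k] A →ₗ[k] (A →ₗ[k] A) :=
  TensorProduct.lift (LinearMap.smulRightₗ ∘ₗ (TensorProduct.curry (gam α)).flip)

@[simp] theorem Eflip_tmul (α : A →ₗ[k] k) (b' b'' a : A) :
    Eflip α (b' ⊗ₜ[k] b'') a = α (HopfAlgebraStruct.antipode k a * b') • b'' := by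
  simp [Eflip]

/-- `α` is a (left) integral: `Σ α(c₁) c₂ = α(c) 1`. -/
def IsInt (α : A →ₗ[k] k) : Prop :=
  ∀ c : A, α c • (1 : A) =
    TensorProduct.lid k A (α.rTensor A (CoalgebraStruct.comul (R := k) c))

theorem isInt_of_isComodHom (α : A →ₗ[k] k)
    (hα : @Hoch.IsComodHom k _ A _ _ _ A _ _ _ k _ _ (HopfRep.Comod.trivial k A k) α) :
    IsInt α := by
  intro c
  have h := LinearMap.congr_fun hα c
  simp only [LinearMap.comp_apply] at h
  change ((TensorProduct.mk k k A).flip 1) (α c) =
    α.rTensor A (CoalgebraStruct.comul (R := k) c) at h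
  rw [← h]
  simp

theorem gam_comp_comul (α : A →ₗ[k] k) (h1 : α 1 = 1) :
    gam α ∘ₗ (CoalgebraStruct.comul (R := k) (A := A)) = CoalgebraStruct.counit (R := k) (A := A) := by
  ext a
  simp only [gam, LinearMap.comp_apply]
  rw [HopfAlgebra.mul_antipode_rTensor_comul_apply, Algebra.algebraMap_eq_smul_one, map_smul, h1,
    smul_eq_mul, mul_one]

theorem star_aux (α : A →ₗ[k] k) (z w : A ⊗[k] A) :
    LinearMap.mul' k A (TensorProduct.map (HopfAlgebraStruct.antipode k (A := A)) (Eflip α w) z) =
      TensorProduct.lid k A (α.rTensor A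
        (TensorProduct.map (HopfAlgebraStruct.antipode k (A := A)) (HopfAlgebraStruct.antipode k (A := A))
          (TensorProduct.comm k A A z) * w)) := by
  induction z using TensorProduct.induction_on with
  | zero => simp
  | tmul x y =>
    induction w using TensorProduct.induction_on with
    | zero => simp
    | tmul b' b'' =>
      simp only [TensorProduct.map_tmul, LinearMap.mul'_apply, Eflip_tmul, TensorProduct.comm_tmul,
        Algebra.TensorProduct.tmul_mul_tmul, LinearMap.rTensor_tmul, TensorProduct.lid_tmul,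
        mul_smul_comm]
    | add w w' hw hw' =>
      simp only [mul_add, map_add, TensorProduct.map_add_right, LinearMap.add_apply, hw, hw']
  | add z z' hz hz' =>
    rw [map_add, map_add, hz, hz', map_add, map_add, add_mul, map_add, map_add]

/-- the key identity `Σ a₁ γ(a₂ ⊗ b) = Σ γ(a ⊗ b₁) b₂` -/
theorem star (α : A →ₗ[k] k) (hα : IsInt α) (b : A) :
    contr A (gamb α b) ∘ₗ (CoalgebraStruct.comul (R := k) (A := A)) =
      Eflip α (CoalgebraStruct.comul (R := k) b) := by
  have h1 : WithConv.toConv (contr A (gamb α b) ∘ₗ (CoalgebraStruct.comul (R := k) (A := A))) =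
      WithConv.toConv (LinearMap.id : A →ₗ[k] A) *
        WithConv.toConv ((gamb α b).smulRight (1 : A)) := by
    ext a
    simp only [LinearMap.convMul_apply, LinearMap.comp_apply]
    generalize CoalgebraStruct.comul (R := k) a = z
    induction z using TensorProduct.induction_on with
    | zero => simp
    | tmul x y =>
      simp only [contr_tmul, TensorProduct.map_tmul, LinearMap.id_apply, LinearMap.smulRight_apply,
        LinearMap.mul'_apply, mul_smul_comm, mul_one]
    | add z z' hz hz' => simp only [map_add, hz, hz']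
  have h2 : WithConv.toConv (HopfAlgebraStruct.antipode k (A := A)) *
      WithConv.toConv (Eflip α (CoalgebraStruct.comul (R := k) b)) =
        WithConv.toConv ((gamb α b).smulRight (1 : A)) := by
    ext a
    simp only [LinearMap.convMul_apply]
    rw [star_aux, LinearMap.smulRight_apply, gamb_apply, hα, Bialgebra.comul_mul,
      Groth.Agent.H83.comul_antipode]
  have h3 : WithConv.toConv (contr A (gamb α b) ∘ₗ (CoalgebraStruct.comul (R := k) (A := A))) =
      WithConv.toConv (Eflip α (CoalgebraStruct.comul (R := k) b)) := by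
    rw [h1, ← h2, ← mul_assoc, LinearMap.id_mul_antipode, one_mul]
  exact WithConv.toConv_injective h3

end Hopf

section Comod

variable {k : Type u} [CommRing k] {A : Type v} [CommRing A] [HopfAlgebra k A]
variable {V : Type w} [AddCommGroup V] [Module k V] [HopfRep.Comod k A V]

/-- the retraction `v ⊗ b ↦ Σ v₀ α(S(v₁) b)` of the coaction -/
noncomputable def retr (α : A →ₗ[k] k) : V ⊗[k] A →ₗ[k] V :=
  (TensorProduct.rid k V).toLinearMap ∘ₗ (gam α).lTensor V ∘ₗ
    (TensorProduct.assoc k V A A).toLinearMap ∘ₗ
      (HopfRep.Comod.coact (k := k) (A := A) (V := V)).rTensor A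

theorem retr_tmul (α : A →ₗ[k] k) (v : V) (b : A) :
    retr α (v ⊗ₜ[k] b) = contr V (gamb α b) (HopfRep.Comod.coact (k := k) (A := A) v) := by
  unfold retr
  simp only [LinearMap.comp_apply, LinearMap.rTensor_tmul, LinearEquiv.coe_coe]
  generalize HopfRep.Comod.coact (k := k) (A := A) v = y
  induction y using TensorProduct.induction_on with
  | zero => simp
  | tmul x a => simp
  | add y y' hy hy' => simp only [TensorProduct.add_tmul, map_add, hy, hy']

/-- `retr α` is a retraction of the coaction when `α 1 = 1` -/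
theorem retr_coact (α : A →ₗ[k] k) (h1 : α 1 = 1) (v : V) :
    retr α (HopfRep.Comod.coact (k := k) (A := A) v) = v := by
  unfold retr
  simp only [LinearMap.comp_apply, LinearEquiv.coe_coe]
  rw [Groth.Agent.H40.coassoc_apply, ← LinearMap.comp_apply ((gam α).lTensor V),
    ← LinearMap.lTensor_comp, gam_comp_comul α h1]
  exact Groth.Agent.H40.contr_counit_coact v

theorem rTensor_retr_assoc_symm (α : A →ₗ[k] k) (v : V) (w : A ⊗[k] A) :
    (retr α (V := V)).rTensor A ((TensorProduct.assoc k V A A).symm (v ⊗ₜ[k] w)) =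
      (Eflip α w).lTensor V (HopfRep.Comod.coact (k := k) (A := A) v) := by
  induction w using TensorProduct.induction_on with
  | zero => simp
  | tmul b' b'' =>
    simp only [TensorProduct.assoc_symm_tmul, LinearMap.rTensor_tmul, retr_tmul]
    generalize HopfRep.Comod.coact (k := k) (A := A) v = y
    induction y using TensorProduct.induction_on with
    | zero => simp
    | tmul x a =>
      simp only [contr_tmul, gamb_apply, LinearMap.lTensor_tmul, Eflip_tmul,
        TensorProduct.tmul_smul, TensorProduct.smul_tmul']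
    | add y y' hy hy' => simp only [map_add, TensorProduct.add_tmul, hy, hy']
  | add w w' hw hw' =>
    rw [TensorProduct.tmul_add, map_add, map_add, hw, hw', map_add, LinearMap.lTensor_add,
      LinearMap.add_apply]

/-- `retr α` is a comodule map from the induced comodule `V ⊗ A` to `V` (pure tensors) -/
theorem coact_retr_tmul (α : A →ₗ[k] k) (hα : IsInt α) (v : V) (b : A) :
    HopfRep.Comod.coact (k := k) (A := A) (retr α (v ⊗ₜ[k] b)) =
      (retr α (V := V)).rTensor A
        ((TensorProduct.assoc k V A A).symm (v ⊗ₜ[k] CoalgebraStruct.comul (R := k) b)) := by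
  rw [retr_tmul, rTensor_retr_assoc_symm, ← star α hα b]
  exact Groth.Agent.H40.coact_contr_coact (gamb α b) v

/-- `retr α` is a comodule map from the induced comodule `V ⊗ A` (coaction `id ⊗ Δ`) to `V` -/
theorem coact_retr (α : A →ₗ[k] k) (hα : IsInt α) (y : V ⊗[k] A) :
    HopfRep.Comod.coact (k := k) (A := A) (retr α y) =
      (retr α (V := V)).rTensor A (Hoch.Ind.coactAux k A V y) := by
  induction y using TensorProduct.induction_on with
  | zero => simp
  | tmul v b => rw [coact_retr_tmul α hα, Hoch.Ind.coactAux_tmul]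
  | add y y' hy hy' => simp only [map_add, hy, hy']

omit [HopfRep.Comod k A V] in
theorem contr_mem (W : Submodule k V) (f : A →ₗ[k] k) {x : V ⊗[k] A}
    (hx : x ∈ LinearMap.range (W.subtype.rTensor A)) : contr V f x ∈ W := by
  obtain ⟨t, rfl⟩ := hx
  induction t using TensorProduct.induction_on with
  | zero => simp
  | tmul w a =>
    rw [LinearMap.rTensor_tmul, contr_tmul]
    exact W.smul_mem _ w.2
  | add t t' ht ht' => rw [map_add, map_add]; exact W.add_mem ht ht'

/-- `retr α` maps `W ⊗ A` into `W` for a subcomodule `W` -/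
theorem retr_mem (α : A →ₗ[k] k) (W : Submodule k V)
    (hW : HopfRep.IsSubcomod (k := k) (A := A) W) {y : V ⊗[k] A}
    (hy : y ∈ LinearMap.range (W.subtype.rTensor A)) : retr α y ∈ W := by
  obtain ⟨t, rfl⟩ := hy
  induction t using TensorProduct.induction_on with
  | zero => simp
  | tmul w b =>
    rw [LinearMap.rTensor_tmul, Submodule.subtype_apply, retr_tmul]
    exact contr_mem W _ (hW w w.2)
  | add t t' ht ht' => rw [map_add, map_add]; exact W.add_mem ht ht'

omit [HopfRep.Comod k A V] in
theorem coactAux_rTensor {V' : Type*} [AddCommGroup V'] [Module k V'] (π : V →ₗ[k] V')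
    (y : V ⊗[k] A) :
    Hoch.Ind.coactAux k A V' (π.rTensor A y) =
      (π.rTensor A).rTensor A (Hoch.Ind.coactAux k A V y) := by
  induction y using TensorProduct.induction_on with
  | zero => simp
  | tmul x a =>
    rw [LinearMap.rTensor_tmul, Hoch.Ind.coactAux_tmul, Hoch.Ind.coactAux_tmul]
    generalize CoalgebraStruct.comul (R := k) a = z
    induction z using TensorProduct.induction_on with
    | zero => simp
    | tmul z' z'' => simp
    | add z z' hz hz' => simp only [TensorProduct.tmul_add, map_add, hz, hz']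
  | add y y' hy hy' => simp only [map_add, hy, hy']

theorem rTensor_coact_coact (v : V) :
    (HopfRep.Comod.coact (k := k) (A := A) (V := V)).rTensor A
        (HopfRep.Comod.coact (k := k) (A := A) v) =
      Hoch.Ind.coactAux k A V (HopfRep.Comod.coact (k := k) (A := A) v) := by
  unfold Hoch.Ind.coactAux
  rw [LinearMap.comp_apply, ← Groth.Agent.H40.coassoc_apply]
  simp

/-- for any linear `π : V → V`, the average `retr α ∘ (π ⊗ id) ∘ ρ` is a comodule map -/
theorem isComodHom_average (α : A →ₗ[k] k) (hα : IsInt α) (π : V →ₗ[k] V) :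
    Hoch.IsComodHom A (retr α ∘ₗ π.rTensor A ∘ₗ HopfRep.Comod.coact (k := k) (A := A)) := by
  unfold Hoch.IsComodHom
  ext v
  simp only [LinearMap.comp_apply]
  rw [coact_retr α hα, coactAux_rTensor, LinearMap.rTensor_comp, LinearMap.rTensor_comp,
    LinearMap.comp_apply, LinearMap.comp_apply, rTensor_coact_coact]

end Comod

end Groth.Agent.H93
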