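import Groth.Prelude.Def_HopfRep
import Groth.Prelude.Def_Hoch
import Mathlib.RingTheory.Flat.Basic
import Mathlib.LinearAlgebra.FreeModule.Basic
import Mathlib.LinearAlgebra.TensorProduct.RightExactness

/-! Helper lemmas on comodules over a coalgebra over a field (helper93). -/

set_option autoImplicit false
universe u v w w'
open TensorProduct

namespace Groth.Agent.H93

section

variable {k : Type u} [Field k] {C : Type v} [AddCommGroup C] [Module k C] [Coalgebra k C]
variable {V : Type w} [AddCommGroup V] [Module k V] [HopfRep.Comod k C V]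
variable {W : Type w'} [AddCommGroup W] [Module k W] [HopfRep.Comod k C W]

theorem comodHom_apply {f : V →ₗ[k] W} (hf : Hoch.IsComodHom C f) (v : V) :
    HopfRep.Comod.coact (k := k) (A := C) (f v) =
      f.rTensor C (HopfRep.Comod.coact (k := k) (A := C) v) :=
  LinearMap.congr_fun hf v

/-- over a field, the kernel of `f ⊗ id` is `ker f ⊗ C` -/
theorem ker_rTensor_eq (C : Type v) [AddCommGroup C] [Module k C] (f : V →ₗ[k] W) :
    LinearMap.ker (f.rTensor C) = LinearMap.range ((LinearMap.ker f).subtype.rTensor C) := by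
  have h : Function.Exact ((LinearMap.ker f).subtype.rTensor C) (f.rTensor C) :=
    Module.Flat.rTensor_exact C (LinearMap.exact_subtype_ker_map f)
  exact LinearMap.exact_iff.mp h

/-- the range of `f ⊗ id` is `range f ⊗ C` -/
theorem range_rTensor_eq (C : Type v) [AddCommGroup C] [Module k C] (f : V →ₗ[k] W) :
    LinearMap.range (f.rTensor C) = LinearMap.range ((LinearMap.range f).subtype.rTensor C) := by
  have hf : f = (LinearMap.range f).subtype ∘ₗ f.rangeRestrict := rfl
  conv_lhs => rw [hf, LinearMap.rTensor_comp]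
  rw [LinearMap.range_comp]
  have hs : Function.Surjective (f.rangeRestrict.rTensor C) :=
    LinearMap.rTensor_surjective C f.surjective_rangeRestrict
  rw [LinearMap.range_eq_top.mpr hs, Submodule.map_top]

theorem isSubcomod_ker {f : V →ₗ[k] W} (hf : Hoch.IsComodHom C f) :
    HopfRep.IsSubcomod (k := k) (A := C) (LinearMap.ker f) := by
  intro v hv
  rw [← ker_rTensor_eq, LinearMap.mem_ker, ← comodHom_apply hf, LinearMap.mem_ker.mp hv, map_zero]

theorem isSubcomod_range {f : V →ₗ[k] W} (hf : Hoch.IsComodHom C f) :
    HopfRep.IsSubcomod (k := k) (A := C) (LinearMap.range f) := by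
  rintro _ ⟨v, rfl⟩
  rw [← range_rTensor_eq, comodHom_apply hf]
  exact ⟨_, rfl⟩

theorem isSubcomod_bot : HopfRep.IsSubcomod (k := k) (A := C) (⊥ : Submodule k V) := by
  intro v hv
  rw [(Submodule.mem_bot k).mp hv, map_zero]
  exact zero_mem _

theorem isSubcomod_top : HopfRep.IsSubcomod (k := k) (A := C) (⊤ : Submodule k V) := by
  intro v _
  have : Function.Surjective ((⊤ : Submodule k V).subtype.rTensor C) :=
    LinearMap.rTensor_surjective C (fun x => ⟨⟨x, trivial⟩, rfl⟩)
  exact LinearMap.range_eq_top.mpr this ▸ Submodule.mem_top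

end

end Groth.Agent.H93
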