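import Groth.Agent.H93.Comod4
import Groth.Agent.H40.Comod
import Groth.Agent.H62.Reynolds
import Groth.Agent.S18815
import Groth.Agent.S18818
import Mathlib.Order.CompactlyGenerated.Basic
import Mathlib.RingTheory.Finiteness.Basic

/-! Simple comodules inside sums of simple comodules; subcomodule criterion via functionals
(helper93). -/

set_option autoImplicit false
universe u v w w' w''
open TensorProduct

namespace Groth.Agent.H93

section

variable {k : Type u} [Field k] {C : Type v} [AddCommGroup C] [Module k C] [Coalgebra k C]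
variable {V : Type w} [AddCommGroup V] [Module k V] [HopfRep.Comod k C V]

/-- the inverse of a bijective comodule map is a comodule map -/
theorem isComodHom_symm {W : Type w'} [AddCommGroup W] [Module k W] [HopfRep.Comod k C W]
    (e : V ≃ₗ[k] W) (he : Hoch.IsComodHom C (e : V →ₗ[k] W)) :
    Hoch.IsComodHom C (e.symm : W →ₗ[k] V) := by
  unfold Hoch.IsComodHom at he ⊢
  ext w
  have h := LinearMap.congr_fun he (e.symm w)
  simp only [LinearMap.comp_apply, LinearEquiv.coe_coe, LinearEquiv.apply_symm_apply] at h ⊢
  rw [h, ← LinearMap.comp_apply, ← LinearMap.rTensor_comp]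
  have : (e.symm : W →ₗ[k] V) ∘ₗ (e : V →ₗ[k] W) = LinearMap.id := by
    ext v; simp
  rw [this, LinearMap.rTensor_id, LinearMap.id_apply]

/-- a simple comodule is finite-dimensional -/
theorem finite_of_isSimpleComod (hV : HopfRep.IsSimpleComod k C V) : Module.Finite k V := by
  haveI := hV.1
  obtain ⟨v, hv⟩ := exists_ne (0 : V)
  obtain ⟨W, hWfin, hvW, hWsub⟩ := Groth.Agent.H40.exists_finite_subcomod_mem (k := k) (C := C) v
  rcases hV.2 W hWsub with h | h
  · exfalso; rw [h, Submodule.mem_bot] at hvW; exact hv hvW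
  · rw [h] at hWfin
    exact Module.Finite.equiv (Submodule.topEquiv : (⊤ : Submodule k V) ≃ₗ[k] V)

/-- A simple comodule mapping nontrivially into a finite sum of images of simple comodules is
isomorphic to one of them. -/
theorem exists_iso_of_range_le_biSup {ι : Type*} (K : ι → Type w')
    [∀ i, AddCommGroup (K i)] [∀ i, Module k (K i)] [∀ i, HopfRep.Comod k C (K i)]
    (hK : ∀ i, HopfRep.IsSimpleComod k C (K i)) (g : ∀ i, K i →ₗ[k] V)
    (hg : ∀ i, Hoch.IsComodHom C (g i))
    (S : Type w'') [AddCommGroup S] [Module k S] [HopfRep.Comod k C S]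
    (hS : HopfRep.IsSimpleComod k C S) (f : S →ₗ[k] V) (hf : Hoch.IsComodHom C f) (hf0 : f ≠ 0)
    (s : Finset ι) (hle : LinearMap.range f ≤ ⨆ i ∈ s, LinearMap.range (g i)) :
    ∃ i ∈ s, ∃ e : S ≃ₗ[k] K i, Hoch.IsComodHom C (e : S →ₗ[k] K i) := by
  classical
  haveI := hS.1
  induction s using Finset.induction_on with
  | empty =>
    exfalso
    simp only [Finset.notMem_empty, iSup_false, iSup_bot, le_bot_iff, LinearMap.range_eq_bot] at hle
    exact hf0 hle
  | insert a s' ha ih =>
    rw [Finset.iSup_insert] at hle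
    set U' : Submodule k V := ⨆ i ∈ s', LinearMap.range (g i) with hU'
    have hU'sub : HopfRep.IsSubcomod (k := k) (A := C) U' :=
      isSubcomod_iSup _ (fun i => isSubcomod_iSup _ (fun _ => isSubcomod_range (hg i)))
    by_cases hfU : LinearMap.range f ≤ U'
    · obtain ⟨i, hi, e, he⟩ := ih hfU
      exact ⟨i, Finset.mem_insert_of_mem hi, e, he⟩
    · refine ⟨a, Finset.mem_insert_self a s', ?_⟩
      letI instQ : HopfRep.Comod k C (V ⧸ U') := quotComod U' hU'sub
      have hπ : Hoch.IsComodHom C U'.mkQ := isComodHom_mkQ U' hU'sub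
      set u : S →ₗ[k] V ⧸ U' := U'.mkQ ∘ₗ f with hu
      set h : K a →ₗ[k] V ⧸ U' := U'.mkQ ∘ₗ g a with hh
      have hu_hom : Hoch.IsComodHom C u := isComodHom_comp hf hπ
      have hh_hom : Hoch.IsComodHom C h := isComodHom_comp (hg a) hπ
      have hu_ker : LinearMap.ker u = ⊥ := by
        rcases hS.2 _ (isSubcomod_ker hu_hom) with h1 | h1
        · exact h1
        · exfalso
          apply hfU
          rintro _ ⟨x, rfl⟩
          have : x ∈ LinearMap.ker u := by rw [h1]; trivial
          rw [LinearMap.mem_ker, hu, LinearMap.comp_apply, Submodule.mkQ_apply,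
            Submodule.Quotient.mk_eq_zero] at this
          exact this
      have hu_inj : Function.Injective u := LinearMap.ker_eq_bot.mp hu_ker
      have hle' : LinearMap.range u ≤ LinearMap.range h := by
        rintro _ ⟨x, rfl⟩
        have hx : f x ∈ LinearMap.range (g a) ⊔ U' := hle (LinearMap.mem_range_self f x)
        obtain ⟨y, ⟨κ, rfl⟩, z, hz, hyz⟩ := Submodule.mem_sup.mp hx
        refine ⟨κ, ?_⟩
        rw [hh, hu, LinearMap.comp_apply, LinearMap.comp_apply, ← hyz, map_add]
        have : U'.mkQ z = 0 := by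
          rw [Submodule.mkQ_apply, Submodule.Quotient.mk_eq_zero]; exact hz
        rw [this, add_zero]
      have hh_ker : LinearMap.ker h = ⊥ := by
        rcases (hK a).2 _ (isSubcomod_ker hh_hom) with h1 | h1
        · exact h1
        · exfalso
          have hh0 : h = 0 := LinearMap.ker_eq_top.mp h1
          have : LinearMap.range u ≤ ⊥ := by
            rw [hh0, LinearMap.range_zero] at hle'
            exact hle'
          rw [le_bot_iff, LinearMap.range_eq_bot] at this
          obtain ⟨x, hx⟩ := exists_ne (0 : S)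
          apply hx
          apply hu_inj
          rw [this, map_zero, LinearMap.zero_apply]
      have hh_inj : Function.Injective h := LinearMap.ker_eq_bot.mp hh_ker
      obtain ⟨θ, hθ, hθ_hom⟩ := exists_factor_of_range_le hh_hom hh_inj hu_hom hle'
      have hθ0 : θ ≠ 0 := by
        intro h0
        obtain ⟨x, hx⟩ := exists_ne (0 : S)
        apply hx
        apply hu_inj
        rw [← hθ, h0, LinearMap.comp_zero, LinearMap.zero_apply, map_zero]
      rcases Groth.Agent.S18815.result k C S hS (K a) (hK a) θ hθ_hom with h0 | hbij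
      · exact absurd h0 hθ0
      · exact ⟨LinearEquiv.ofBijective θ hbij, hθ_hom⟩

/-- Same with an arbitrary family. -/
theorem exists_iso_of_range_le_iSup {ι : Type*} (K : ι → Type w')
    [∀ i, AddCommGroup (K i)] [∀ i, Module k (K i)] [∀ i, HopfRep.Comod k C (K i)]
    (hK : ∀ i, HopfRep.IsSimpleComod k C (K i)) (g : ∀ i, K i →ₗ[k] V)
    (hg : ∀ i, Hoch.IsComodHom C (g i))
    (S : Type w'') [AddCommGroup S] [Module k S] [HopfRep.Comod k C S]
    (hS : HopfRep.IsSimpleComod k C S) (f : S →ₗ[k] V) (hf : Hoch.IsComodHom C f) (hf0 : f ≠ 0)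
    (hle : LinearMap.range f ≤ ⨆ i, LinearMap.range (g i)) :
    ∃ i, ∃ e : S ≃ₗ[k] K i, Hoch.IsComodHom C (e : S →ₗ[k] K i) := by
  haveI := finite_of_isSimpleComod hS
  have hfg : (LinearMap.range f).FG := by
    rw [← Submodule.map_top]
    exact (Module.Finite.fg_top (R := k) (M := S)).map f
  have hcpt := (Submodule.fg_iff_compact _).mp hfg
  obtain ⟨s, hs⟩ := CompleteLattice.IsCompactElement.exists_finset_of_le_iSup (Submodule k V) hcpt _ hle
  obtain ⟨i, _, e, he⟩ := exists_iso_of_range_le_biSup K hK g hg S hS f hf hf0 s hs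
  exact ⟨i, e, he⟩

/-- a minimal nonzero subcomodule is a simple comodule -/
theorem isSimpleComod_subComod (T : Submodule k V)
    (hT : HopfRep.IsSubcomod (k := k) (A := C) T) (hTne : T ≠ ⊥)
    (hmin : ∀ W' : Submodule k V, HopfRep.IsSubcomod (k := k) (A := C) W' → W' ≤ T →
      W' = ⊥ ∨ W' = T) :
    @HopfRep.IsSimpleComod k C _ _ _ _ T _ _ (Groth.Agent.H62.subComod T hT) := by
  letI := Groth.Agent.H62.subComod T hT
  have hsub := Groth.Agent.H62.isComodHom_subtype T hT
  constructor
  · exact Submodule.nontrivial_iff_ne_bot.mpr hTne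
  · intro W hW
    have hmap : HopfRep.IsSubcomod (k := k) (A := C) (W.map T.subtype) :=
      Groth.Agent.H62.isSubcomod_map hsub hW
    have hle : W.map T.subtype ≤ T := by
      rintro _ ⟨w, _, rfl⟩
      exact w.2
    rcases hmin _ hmap hle with h | h
    · left
      rw [eq_bot_iff]
      intro w hw
      have : T.subtype w ∈ W.map T.subtype := Submodule.mem_map_of_mem hw
      rw [h, Submodule.mem_bot] at this
      rw [Submodule.mem_bot]
      exact Subtype.ext this
    · right
      rw [eq_top_iff]
      intro w _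
      have : (w : V) ∈ W.map T.subtype := by rw [h]; exact w.2
      obtain ⟨w', hw', hww'⟩ := this
      have : w' = w := Subtype.ext hww'
      rw [← this]; exact hw'

omit [Coalgebra k C] [HopfRep.Comod k C V] in
/-- coefficients w.r.t. a basis are contractions with the coordinate functionals -/
theorem coeff_eq_contr {κ : Type*} [DecidableEq κ] (b : Module.Basis κ k C) (x : V ⊗[k] C) (i : κ) :
    TensorProduct.equivFinsuppOfBasisRight b x i = Groth.Agent.H40.contr V (b.coord i) x := by
  induction x using TensorProduct.induction_on with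
  | zero => simp
  | tmul m c => simp
  | add y z hy hz => simp only [map_add, Finsupp.add_apply, hy, hz]

/-- `W` is a subcomodule as soon as it is stable under all operators `(id ⊗ φ) ∘ ρ`. -/
theorem isSubcomod_of_forall_contr_mem (W : Submodule k V)
    (h : ∀ (φ : C →ₗ[k] k) (w : V), w ∈ W →
      Groth.Agent.H40.contr V φ (HopfRep.Comod.coact (k := k) (A := C) w) ∈ W) :
    HopfRep.IsSubcomod (k := k) (A := C) W := by
  classical
  intro w hw
  rw [Groth.Agent.H40.mem_range_rTensor_iff_coeff (Module.Basis.ofVectorSpace k C)]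
  intro i
  rw [coeff_eq_contr]
  exact h _ w hw

end

end Groth.Agent.H93
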