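import Groth.Agent.H93.Union

/-!
# Prime avoidance for cosets, and geometric consequences on affine schemes
-/

set_option autoImplicit false
universe u

namespace Groth.Agent.H93.Avoid

open AlgebraicGeometry CategoryTheory CategoryTheory.Limits TopologicalSpace Opposite
open Groth.Agent.H93

/-- Coset prime avoidance. -/
theorem coset_avoid {R : Type*} [CommRing R] (I : Ideal R) (x : R) :
    ∀ (n : ℕ) (s : Finset (Ideal R)), s.card = n → (∀ p ∈ s, p.IsPrime) →
      (∀ p ∈ s, ¬ (x ∈ p ∧ I ≤ p)) → ∃ k ∈ I, ∀ p ∈ s, x + k ∉ p := by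
  intro n
  induction n with
  | zero =>
    intro s hs _ _
    rw [Finset.card_eq_zero] at hs
    subst hs
    exact ⟨0, I.zero_mem, fun p hp => absurd hp (Finset.notMem_empty p)⟩
  | succ n ih =>
    intro s hs hp h
    have hne : s.Nonempty := by
      rw [← Finset.card_pos, hs]
      exact Nat.succ_pos n
    obtain ⟨q, hq, hmin⟩ := s.exists_minimal hne
    have hq' : q ∈ s := hq
    have hqp : q.IsPrime := hp q hq'
    have hcard : (s.erase q).card = n := by
      rw [Finset.card_erase_of_mem hq', hs]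
      rfl
    obtain ⟨k', hk', hav⟩ := ih (s.erase q) hcard
      (fun p hp' => hp p (Finset.mem_of_mem_erase hp'))
      (fun p hp' => h p (Finset.mem_of_mem_erase hp'))
    by_cases hy : x + k' ∈ q
    · have hIq : ¬ I ≤ q := by
        intro hIq
        apply h q hq'
        refine ⟨?_, hIq⟩
        have h1 := q.sub_mem hy (hIq hk')
        rwa [add_sub_cancel_right] at h1
      have hprod : ¬ (I * (s.erase q).prod id ≤ q) := by
        intro hle
        rcases hqp.mul_le.mp hle with h1 | h1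
        · exact hIq h1
        · obtain ⟨p, hps, hpq⟩ := hqp.prod_le.mp h1
          have hpq' : p ≤ q := hpq
          have hne' : p ≠ q := Finset.ne_of_mem_erase hps
          exact hne' (le_antisymm hpq' (hmin (Finset.mem_of_mem_erase hps) hpq'))
      obtain ⟨z, hz1, hz2⟩ := SetLike.not_le_iff_exists.mp hprod
      have hzI : z ∈ I := (Ideal.mul_le_left (I := I) (J := (s.erase q).prod id)) hz1
      have hzp : ∀ p ∈ s.erase q, z ∈ p := by
        intro p hps
        have h1 : z ∈ (s.erase q).prod id :=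
          (Ideal.mul_le_right (I := I) (J := (s.erase q).prod id)) hz1
        have h2 : (s.erase q).prod id ≤ p :=
          (Ideal.prod_le_inf (s := s.erase q) (f := id)).trans (Finset.inf_le (f := id) hps)
        exact h2 h1
      refine ⟨k' + z, I.add_mem hk' hzI, ?_⟩
      intro p hps hmem
      by_cases hpq : p = q
      · subst hpq
        apply hz2
        have h1 := p.sub_mem hmem hy
        have e : x + (k' + z) - (x + k') = z := by ring
        rwa [e] at h1
      · have hps' : p ∈ s.erase q := Finset.mem_erase.mpr ⟨hpq, hps⟩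
        apply hav p hps'
        have h1 := p.sub_mem hmem (hzp p hps')
        have e : x + (k' + z) - z = x + k' := by ring
        rwa [e] at h1
    · refine ⟨k', hk', ?_⟩
      intro p hps
      by_cases hpq : p = q
      · subst hpq
        exact hy
      · exact hav p (Finset.mem_erase.mpr ⟨hpq, hps⟩)

theorem mem_basicOpen_iff {Y : Scheme.{u}} {V : Y.Opens} (hV : IsAffineOpen V) (y : Y)
    (hy : y ∈ V) (g : Γ(Y, V)) :
    y ∈ Y.basicOpen g ↔ g ∉ (hV.primeIdealOf ⟨y, hy⟩).asIdeal := by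
  have h1 := hV.fromSpec_primeIdealOf ⟨y, hy⟩
  have h2 := hV.fromSpec_preimage_basicOpen g
  have h3 : hV.primeIdealOf ⟨y, hy⟩ ∈ hV.fromSpec ⁻¹ᵁ Y.basicOpen g ↔ y ∈ Y.basicOpen g := by
    show hV.fromSpec (hV.primeIdealOf ⟨y, hy⟩) ∈ Y.basicOpen g ↔ _
    rw [h1]
  rw [← h3, h2]
  rfl

/-- The ideal of functions on an affine open whose non-vanishing locus lies in `O`. -/
def idealOf {Y : Scheme.{u}} (V O : Y.Opens) : Ideal Γ(Y, V) where
  carrier := {g | Y.basicOpen g ≤ O}
  add_mem' := by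
    intro a b ha hb
    exact (Y.basicOpen_add_le a b).trans (sup_le ha hb)
  zero_mem' := by
    show Y.basicOpen (0 : Γ(Y, V)) ≤ O
    rw [Scheme.basicOpen_zero]
    exact bot_le
  smul_mem' := by
    intro c a ha
    show Y.basicOpen (c * a) ≤ O
    rw [Scheme.basicOpen_mul]
    exact inf_le_right.trans ha

theorem mem_idealOf {Y : Scheme.{u}} (V O : Y.Opens) (g : Γ(Y, V)) :
    g ∈ idealOf V O ↔ Y.basicOpen g ≤ O := Iff.rfl

/-- Finitely many points of an affine open lying in an open `O` lie in a common basic open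
contained in `O`. -/
theorem exists_basicOpen_finite {Y : Scheme.{u}} {V : Y.Opens} (hV : IsAffineOpen V)
    (O : Y.Opens) (S : Set Y) (hS : S.Finite) (hSV : S ⊆ V) (hSO : S ⊆ O) :
    ∃ g : Γ(Y, V), Y.basicOpen g ≤ O ∧ S ⊆ Y.basicOpen g := by
  classical
  obtain ⟨f, hf⟩ : ∃ f : Y → Ideal Γ(Y, V), ∀ (y : Y) (hy : y ∈ V),
      f y = (hV.primeIdealOf ⟨y, hy⟩).asIdeal :=
    ⟨fun y => if hy : y ∈ V then (hV.primeIdealOf ⟨y, hy⟩).asIdeal else ⊤,
      fun y hy => dif_pos hy⟩
  obtain ⟨k, hk, hav⟩ := coset_avoid (idealOf V O) 0 _ (hS.image f).toFinset rfl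
    (by
      intro p hp
      rw [Set.Finite.mem_toFinset] at hp
      obtain ⟨y, hy, rfl⟩ := hp
      rw [hf y (hSV hy)]
      exact (hV.primeIdealOf ⟨y, hSV hy⟩).isPrime)
    (by
      intro p hp
      rw [Set.Finite.mem_toFinset] at hp
      obtain ⟨y, hy, rfl⟩ := hp
      rintro ⟨-, hle⟩
      obtain ⟨g, hg1, hg2⟩ := hV.exists_basicOpen_le (V := O) ⟨y, hSO hy⟩ (hSV hy)
      have h1 : g ∈ f y := hle ((mem_idealOf V O g).mpr hg1)
      rw [hf y (hSV hy)] at h1
      exact (mem_basicOpen_iff hV y (hSV hy) g).mp hg2 h1)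
  refine ⟨k, (mem_idealOf V O k).mp hk, ?_⟩
  intro y hy
  show y ∈ Y.basicOpen k
  rw [mem_basicOpen_iff hV y (hSV hy) k, ← hf y (hSV hy)]
  have h1 := hav (f y) ((Set.Finite.mem_toFinset _).mpr ⟨y, hy, rfl⟩)
  rwa [zero_add] at h1

/-- Lifting a function from a closed subscheme of an affine scheme, keeping it non-vanishing at
finitely many prescribed points. -/
theorem exists_lift_avoid {P Q : Scheme.{u}} [IsAffine P] (q : Q ⟶ P) [IsClosedImmersion q]
    (φ : Γ(Q, ⊤)) (S : Set P) (hS : S.Finite)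
    (h : ∀ w : Q, q.base w ∈ S → w ∈ Q.basicOpen φ) :
    ∃ g : Γ(P, ⊤), q.appTop.hom g = φ ∧ S ⊆ P.basicOpen g := by
  classical
  obtain ⟨x₀, hx₀⟩ := (IsClosedImmersion.isAffine_surjective_of_isAffine (f := q)).2 φ
  obtain ⟨f, hf⟩ : ∃ f : P → Ideal Γ(P, ⊤), ∀ y : P,
      f y = ((isAffineOpen_top P).primeIdealOf ⟨y, trivial⟩).asIdeal := ⟨_, fun y => rfl⟩
  obtain ⟨k, hk, hav⟩ := coset_avoid (RingHom.ker q.appTop.hom) x₀ _ (hS.image f).toFinset rfl
    (by
      intro p hp
      rw [Set.Finite.mem_toFinset] at hp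
      obtain ⟨y, hy, rfl⟩ := hp
      rw [hf y]
      exact ((isAffineOpen_top P).primeIdealOf ⟨y, trivial⟩).isPrime)
    (by
      intro p hp
      rw [Set.Finite.mem_toFinset] at hp
      obtain ⟨y, hy, rfl⟩ := hp
      rintro ⟨hx, hle⟩
      have hy0 : y ∈ P.zeroLocus (U := ⊤) (RingHom.ker q.appTop.hom : Set Γ(P, ⊤)) := by
        rw [Scheme.mem_zeroLocus_iff]
        intro c hc hyc
        have h1 : c ∈ f y := hle hc
        rw [hf y] at h1
        exact (mem_basicOpen_iff (isAffineOpen_top P) y trivial c).mp hyc h1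
      obtain ⟨w, rfl⟩ := Union.mem_range_of_mem_zeroLocus_ker q y hy0
      have h2 : w ∈ Q.basicOpen φ := h w hy
      rw [← hx₀] at h2
      have h3 : w ∈ q ⁻¹ᵁ P.basicOpen x₀ := by
        rw [Union.preimage_basicOpen_top]
        exact h2
      rw [hf] at hx
      exact (mem_basicOpen_iff (isAffineOpen_top P) _ trivial x₀).mp h3 hx)
  refine ⟨x₀ + k, ?_, ?_⟩
  · rw [map_add, RingHom.mem_ker.mp hk, add_zero]
    exact hx₀
  · intro y hy
    show y ∈ P.basicOpen (x₀ + k)
    rw [mem_basicOpen_iff (isAffineOpen_top P) y trivial, ← hf y]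
    exact hav (f y) ((Set.Finite.mem_toFinset _).mpr ⟨y, hy, rfl⟩)

end Groth.Agent.H93.Avoid
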