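import Mathlib
import Groth.Prelude.Def_AlgGrp
import Groth.Agent.H63.ActionTranslate
import Groth.Agent.H63.OrbitDim
import Groth.Agent.H38.DimFibreSum
import Groth.Agent.H9.DimBaseField
import Groth.Agent.S14480
import Groth.Agent.S14901

/-!
# dim G = dim (orbit) + dim (stabilizer)  (helper93)

* `isPullback_fst_mul` : for the stabilizer `N` of `x` (the pullback of the orbit map along `x`),
  the square `G ⊗ N ⟶ G` (`fst`, `(g, h) ↦ g * h`) over the orbit map is cartesian.
* `dim_fibre_eq` : every topological fibre of the orbit map has the dimension of the stabilizer.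
* `dim_eq` : `dim G = dim (range orbit map) + dim stabilizer`.
-/

set_option autoImplicit false
set_option linter.style.haveILetI false
universe u
open CategoryTheory CategoryTheory.Limits AlgebraicGeometry MonoidalCategory
  CartesianMonoidalCategory MonObj

namespace Groth.Agent.H93.OrbitStab

open Groth.Agent.H63.ActionTranslate

section General

variable {S : Scheme.{u}} {G X : Over S} [GrpObj G] (a : AlgGrp.Action G X)
  (x : 𝟙_ (Over S) ⟶ X)

lemma mul_comp_orbitMap {T : Over S} (g h : T ⟶ G) :
    (g * h) ≫ a.orbitMap x = lift g (h ≫ a.orbitMap x) ≫ a.act := by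
  rw [comp_orbitMap, act_mul, ← comp_orbitMap]

lemma one_comp_orbitMap (T : Over S) : (1 : T ⟶ G) ≫ a.orbitMap x = toUnit T ≫ x := by
  rw [comp_orbitMap]
  exact act_one' a _

lemma mul_comp_orbitMap_of_stab {T : Over S} (g h : T ⟶ G)
    (hh : h ≫ a.orbitMap x = toUnit T ≫ x) :
    (g * h) ≫ a.orbitMap x = g ≫ a.orbitMap x := by
  rw [mul_comp_orbitMap, hh, ← comp_orbitMap]

lemma inv_mul_comp_orbitMap {T : Over S} (g b : T ⟶ G)
    (h : g ≫ a.orbitMap x = b ≫ a.orbitMap x) :
    (g⁻¹ * b) ≫ a.orbitMap x = toUnit T ≫ x := by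
  rw [mul_comp_orbitMap, ← h, ← mul_comp_orbitMap, _root_.inv_mul_cancel, one_comp_orbitMap]

/-- `G ⊗ N ≅ G ×_X G` for the stabilizer `N`. -/
theorem isPullback_fst_mul {N : Over S} (i : N ⟶ G)
    (hN : IsPullback i (toUnit N) (a.orbitMap x) x) :
    IsPullback (fst G N) (fst G N * (snd G N ≫ i)) (a.orbitMap x) (a.orbitMap x) := by
  have comm : fst G N ≫ a.orbitMap x = (fst G N * (snd G N ≫ i)) ≫ a.orbitMap x := by
    rw [mul_comp_orbitMap_of_stab a x _ _ (by
      rw [Category.assoc, hN.w, ← Category.assoc]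
      congr 1
      exact toUnit_unique _ _)]
  exact IsPullback.of_isLimit (PullbackCone.IsLimit.mk comm
    (fun s => lift s.fst (hN.lift (s.fst⁻¹ * s.snd) (toUnit _)
      (inv_mul_comp_orbitMap a x _ _ s.condition)))
    (fun s => lift_fst _ _)
    (fun s => by
      rw [MonObj.comp_mul, lift_fst, ← Category.assoc, lift_snd, hN.lift_fst]
      exact _root_.mul_inv_cancel_left _ _)
    (fun s m h1 h2 => by
      apply CartesianMonoidalCategory.hom_ext
      · rw [lift_fst]; exact h1
      · rw [lift_snd]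
        apply hN.hom_ext
        · rw [hN.lift_fst]
          rw [MonObj.comp_mul, h1] at h2
          rw [← h2, Category.assoc]
          exact (_root_.inv_mul_cancel_left _ _).symm
        · exact toUnit_unique _ _))

end General

section Top

theorem dim_ne_bot (T : Type*) [TopologicalSpace T] [Nonempty T] : topologicalKrullDim T ≠ ⊥ := by
  obtain ⟨t⟩ := ‹Nonempty T›
  rw [Ne, topologicalKrullDim, Order.krullDim_eq_bot_iff, not_isEmpty_iff]
  exact ⟨⟨closure {t}, isIrreducible_singleton.closure, isClosed_closure⟩⟩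

theorem eq_top_or_nat {v : WithBot ℕ∞} (h0 : v ≠ ⊥) :
    v = ⊤ ∨ ∃ a : ℕ, v = (a : WithBot ℕ∞) := by
  induction v using WithBot.recBotCoe with
  | bot => exact absurd rfl h0
  | coe e =>
    induction e using ENat.recTopCoe with
    | top => left; rfl
    | coe a => right; exact ⟨a, by norm_cast⟩

theorem top_add_of_ne_bot {v : WithBot ℕ∞} (h0 : v ≠ ⊥) : (⊤ : WithBot ℕ∞) + v = ⊤ := by
  induction v using WithBot.recBotCoe with
  | bot => exact absurd rfl h0
  | coe e =>
    show ((⊤ : ℕ∞) : WithBot ℕ∞) + (e : WithBot ℕ∞) = ((⊤ : ℕ∞) : WithBot ℕ∞)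
    rw [← WithBot.coe_add, top_add]

theorem add_top_of_ne_bot {v : WithBot ℕ∞} (h0 : v ≠ ⊥) : v + (⊤ : WithBot ℕ∞) = ⊤ := by
  rw [add_comm]; exact top_add_of_ne_bot h0

theorem exists_nat_eq {v : WithBot ℕ∞} {n : ℕ} (h0 : v ≠ ⊥) (h : v ≤ (n : WithBot ℕ∞)) :
    ∃ a : ℕ, v = (a : WithBot ℕ∞) := by
  rcases eq_top_or_nat h0 with h1 | h1
  · exfalso
    rw [h1] at h
    have h2 : ((⊤ : ℕ∞) : WithBot ℕ∞) ≤ ((n : ℕ∞) : WithBot ℕ∞) := h
    have h3 : (⊤ : ℕ∞) ≤ (n : ℕ∞) := WithBot.coe_le_coe.mp h2
    exact absurd (top_le_iff.mp h3) (ENat.natCast_ne_top n)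
  · exact h1

/-- dimension is invariant under base change along a morphism of spectra of fields -/
theorem dim_eq_of_isPullback_fields {Z P : Scheme.{u}} {k K : Type u} [Field k] [Field K]
    (p : Z ⟶ Spec (CommRingCat.of k)) [LocallyOfFiniteType p]
    (ψ : Spec (CommRingCat.of K) ⟶ Spec (CommRingCat.of k))
    (h : P ⟶ Z) (q : P ⟶ Spec (CommRingCat.of K)) (sq : IsPullback h q p ψ) :
    topologicalKrullDim P = topologicalKrullDim Z :=
  Groth.Agent.H9.DimBaseField.topologicalKrullDim_eq_of_isPullback_field p (Spec.preimage ψ) h q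
    (by rw [Spec.map_preimage]; exact sq)

end Top

section Field

open Groth.Agent.H54 Groth.Agent.H38.DimFibreSum

variable {k : Type u} [Field k] {G X : Over (Spec (CommRingCat.of k))} [GrpObj G]
  (a : AlgGrp.Action G X) (x : 𝟙_ (Over (Spec (CommRingCat.of k))) ⟶ X)

/-- the stabilizer as an object over `k` -/
noncomputable def stabO : Over (Spec (CommRingCat.of k)) :=
  Over.mk (pullback.snd (a.orbitMap x).left x.left)

lemma stab_w : pullback.fst (a.orbitMap x).left x.left ≫ G.hom =
    pullback.snd (a.orbitMap x).left x.left := by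
  have h1 : x.left ≫ X.hom = 𝟙 _ := Over.w x
  have h2 : (a.orbitMap x).left ≫ X.hom = G.hom := Over.w _
  rw [← h2, ← Category.assoc, pullback.condition, Category.assoc, h1, Category.comp_id]

noncomputable def stabι : stabO a x ⟶ G :=
  Over.homMk (pullback.fst (a.orbitMap x).left x.left) (stab_w a x)

theorem isPullback_stab :
    IsPullback (stabι a x) (toUnit (stabO a x)) (a.orbitMap x) x := by
  refine IsPullback.of_map (Over.forget _) ?_ ?_
  · apply Over.OverMorphism.ext
    show pullback.fst (a.orbitMap x).left x.left ≫ (a.orbitMap x).left =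
      pullback.snd (a.orbitMap x).left x.left ≫ x.left
    exact pullback.condition
  · exact IsPullback.of_hasPullback (a.orbitMap x).left x.left

theorem isPullback_left :
    IsPullback (fst G (stabO a x)).left
      (fst G (stabO a x) * (snd G (stabO a x) ≫ stabι a x)).left
      (a.orbitMap x).left (a.orbitMap x).left :=
  (isPullback_fst_mul a x (stabι a x) (isPullback_stab a x)).map (Over.forget _)

theorem dim_fibre_eq [LocallyOfFiniteType G.hom] [LocallyOfFiniteType X.hom] (g : G.left) :
    topologicalKrullDim ↥((a.orbitMap x).left.base ⁻¹' {(a.orbitMap x).left.base g}) =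
      topologicalKrullDim ↥(pullback (a.orbitMap x).left x.left) := by
  set o := (a.orbitMap x).left with ho
  have hw : o ≫ X.hom = G.hom := Over.w _
  haveI : LocallyOfFiniteType (o ≫ X.hom) := by rw [hw]; infer_instance
  haveI : LocallyOfFiniteType o := locallyOfFiniteType_of_comp o X.hom
  set N := stabO a x with hNdef
  haveI : LocallyOfFiniteType N.hom :=
    MorphismProperty.pullback_snd (P := @LocallyOfFiniteType) _ _ inferInstance
  set p₁ : (G ⊗ N).left ⟶ G.left := (fst G N).left with hp₁
  set p₂ : (G ⊗ N).left ⟶ N.left := (snd G N).left with hp₂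
  set m' : (G ⊗ N).left ⟶ G.left := (fst G N * (snd G N ≫ stabι a x)).left with hm'
  have prodSq : IsPullback p₁ p₂ G.hom N.hom := IsPullback.of_hasPullback G.hom N.hom
  have sq1 : IsPullback p₁ m' o o := isPullback_left a x
  let ρ : Spec (CommRingCat.of (G.left.residueField g)) ⟶ G.left := G.left.fromSpecResidueField g
  have sqP : IsPullback (pullback.fst p₁ ρ) (pullback.snd p₁ ρ) p₁ ρ :=
    IsPullback.of_hasPullback p₁ ρ
  -- first computation: `P` is a base change of the stabilizer
  have sqA : IsPullback (pullback.fst p₁ ρ ≫ p₂) (pullback.snd p₁ ρ) N.hom (ρ ≫ G.hom) :=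
    sqP.paste_horiz prodSq.flip
  have hA : topologicalKrullDim ↥(pullback p₁ ρ) = topologicalKrullDim ↥N.left :=
    dim_eq_of_isPullback_fields N.hom (ρ ≫ G.hom) _ _ sqA
  -- second computation: `P` is a base change of the fibre
  have sqB : IsPullback (pullback.fst p₁ ρ ≫ m') (pullback.snd p₁ ρ) o (ρ ≫ o) :=
    sqP.paste_horiz sq1.flip
  let ψ : Spec (CommRingCat.of (G.left.residueField g)) ⟶
      Spec (CommRingCat.of (X.left.residueField (o.base g))) := Spec.map (o.residueFieldMap g)
  have hρ : ρ ≫ o = ψ ≫ X.left.fromSpecResidueField (o.base g) :=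
    (Scheme.Hom.SpecMap_residueFieldMap_fromSpecResidueField o g).symm
  have sqB' : IsPullback (pullback.fst p₁ ρ ≫ m') (pullback.snd p₁ ρ) o
      (ψ ≫ X.left.fromSpecResidueField (o.base g)) := by
    rw [← hρ]; exact sqB
  have sqF : IsPullback (o.fiberι (o.base g)) (fiberQ o (o.base g)) o
      (X.left.fromSpecResidueField (o.base g)) :=
    IsPullback.of_hasPullback o (X.left.fromSpecResidueField (o.base g))
  have sqC := IsPullback.of_right' sqB' sqF
  have hB : topologicalKrullDim ↥(pullback p₁ ρ) = topologicalKrullDim ↥(o.fiber (o.base g)) :=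
    dim_eq_of_isPullback_fields (fiberQ o (o.base g)) ψ _ _ sqC
  have hC := (o.fiberHomeo (o.base g)).isHomeomorph.topologicalKrullDim_eq
  rw [← hC, ← hB, hA]
  rfl

/-- bounding the dimension of the orbit by transcendence degrees -/
theorem dim_range_le [LocallyOfFiniteType G.hom] [QuasiCompact G.hom] [LocallyOfFiniteType X.hom]
    (n : ℕ) (h : ∀ g : G.left, tdeg X.hom ((a.orbitMap x).left.base g) ≤ n) :
    topologicalKrullDim ↥(Set.range (a.orbitMap x).left.base) ≤ n := by
  set o := (a.orbitMap x).left with ho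
  haveI : IsLocallyNoetherian G.left := LocallyOfFiniteType.isLocallyNoetherian G.hom
  haveI : CompactSpace G.left := QuasiCompact.compactSpace_of_compactSpace G.hom
  haveI : IsNoetherian G.left := {}
  haveI : TopologicalSpace.NoetherianSpace G.left := inferInstance
  obtain ⟨F, hF⟩ :=
    Groth.Agent.H63.OrbitDim.exists_finite_specializes o.base o.base.hom.continuous
  have h1 : topologicalKrullDim ↥(closure (Set.range o.base)) ≤ n :=
    Groth.Agent.S14480.topologicalKrullDim_closed_le_of_forall_tdeg_le X.hom _ isClosed_closure n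
      (fun z hz => by
        obtain ⟨g, -, hgz⟩ := hF z hz
        exact (tdeg_le_of_specializes X.hom hgz).trans (h g))
  exact (Topology.IsEmbedding.inclusion subset_closure).isInducing.topologicalKrullDim_le.trans h1

theorem dim_eq [LocallyOfFiniteType G.hom] [QuasiCompact G.hom] [LocallyOfFiniteType X.hom]
    [QuasiCompact X.hom] :
    topologicalKrullDim ↥G.left =
      topologicalKrullDim ↥(Set.range (a.orbitMap x).left.base) +
        topologicalKrullDim ↥(pullback (a.orbitMap x).left x.left) := by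
  set o := (a.orbitMap x).left with ho
  have hw : o ≫ X.hom = G.hom := Over.w _
  haveI : LocallyOfFiniteType (o ≫ X.hom) := by rw [hw]; infer_instance
  haveI : LocallyOfFiniteType o := locallyOfFiniteType_of_comp o X.hom
  have hfib : ∀ g : G.left, topologicalKrullDim ↥(o.base ⁻¹' {o.base g}) =
      topologicalKrullDim ↥(pullback o x.left) := fun g => dim_fibre_eq a x g
  let e₀ : G.left := η[G].left.base (IsLocalRing.closedPoint k)
  haveI : Nonempty G.left := ⟨e₀⟩
  have hr0 : topologicalKrullDim ↥(pullback o x.left) ≠ ⊥ := by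
    rw [← hfib e₀]
    haveI : Nonempty ↥(o.base ⁻¹' {o.base e₀}) := ⟨⟨e₀, rfl⟩⟩
    exact dim_ne_bot _
  have hO0 : topologicalKrullDim ↥(Set.range o.base) ≠ ⊥ := by
    haveI : Nonempty ↥(Set.range o.base) := ⟨⟨_, e₀, rfl⟩⟩
    exact dim_ne_bot _
  have hG0 : topologicalKrullDim ↥G.left ≠ ⊥ := dim_ne_bot _
  have hA : ∀ g : G.left, (tdeg X.hom (o.base g) : WithBot ℕ∞) ≤
      topologicalKrullDim ↥(Set.range o.base) := fun g =>
    Groth.Agent.S14901.tdeg_image_le_dim_range G.hom X.hom o hw g
  apply le_antisymm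
  · rcases eq_top_or_nat hO0 with hO | ⟨a', ha'⟩
    · rw [hO, top_add_of_ne_bot hr0]; exact le_top
    rcases eq_top_or_nat hr0 with hR | ⟨b, hb⟩
    · rw [hR, add_top_of_ne_bot hO0]; exact le_top
    rw [ha', hb]
    have key : ∀ g : G.left, tdeg (o ≫ X.hom) g ≤ a' + b := by
      intro g
      have h1 : tdeg (o ≫ X.hom) g ≤ tdeg X.hom (o.base g) + b :=
        tdeg_le_add_dim_fibre X.hom o b g (((hfib g).trans hb).le)
      have h2 : (tdeg X.hom (o.base g) : WithBot ℕ∞) ≤ (a' : WithBot ℕ∞) := ha' ▸ hA g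
      have h3 : tdeg X.hom (o.base g) ≤ a' := by exact_mod_cast h2
      omega
    have h4 := topologicalKrullDim_le_of_forall_tdeg_le (o ≫ X.hom) (a' + b) key
    refine h4.trans (le_of_eq ?_)
    push_cast
    rfl
  · rcases eq_top_or_nat hG0 with hG | ⟨n, hn⟩
    · rw [hG]; exact le_top
    have htn : ∀ g : G.left, tdeg (o ≫ X.hom) g ≤ n := by
      intro g
      have h1 := tdeg_le_dim (o ≫ X.hom) g
      rw [hn] at h1
      exact_mod_cast h1
    have hOn : topologicalKrullDim ↥(Set.range o.base) ≤ n :=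
      dim_range_le a x n (fun g => (tdeg_le_of_hom X.hom (o ≫ X.hom) o rfl g).trans (htn g))
    have hrn : topologicalKrullDim ↥(pullback o x.left) ≤ n := by
      rw [← hfib e₀, ← hn]
      exact topologicalKrullDim_subspace_le _ _
    obtain ⟨a', ha'⟩ := exists_nat_eq hO0 hOn
    obtain ⟨b, hb⟩ := exists_nat_eq hr0 hrn
    obtain ⟨g₀, hg₀⟩ : ∃ g₀ : G.left, a' ≤ tdeg X.hom (o.base g₀) := by
      by_contra hcon
      push Not at hcon
      rcases Nat.eq_zero_or_pos a' with h0 | hpos
      · have := hcon e₀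
        omega
      · have h5 := dim_range_le a x (a' - 1) (fun g => Nat.le_sub_one_of_lt (hcon g))
        rw [← ho, ha'] at h5
        have h6 : a' ≤ a' - 1 := by exact_mod_cast h5
        omega
    obtain ⟨g₁, -, hg₁⟩ := exists_point_over X.hom o b (o.base g₀) (((hfib g₀).trans hb).ge)
    have h7 := htn g₁
    rw [ha', hb, hn]
    have h8 : a' + b ≤ n := by omega
    exact_mod_cast h8

end Field

end Groth.Agent.H93.OrbitStab
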