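import Mathlib
import Groth.Prelude.Def_ActBC
import Groth.Agent.H93.OrbitStab
import Groth.Agent.H37.GrpImage
import Groth.Agent.H38.DimFibreSum

/-!
# Homomorphisms of group schemes over an artinian local ring (helper93)

* `homAct u` : `G` acting on `H` by left translation through `u : G ⟶ H`; its orbit map at the
  unit is `u` (`orbitMap_homAct`).
* `field_main` : over a field, a quasi-compact homomorphism `u` between group schemes locally of
  finite type has closed image and `dim G = dim u(G) + dim Ker u` (no quasi-compactness of `G`).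
* `clPt A`, `isHomeomorph_of_isPullback` : base change along the closed point of an artinian local
  ring is a homeomorphism.
* `main` : the same statement as `field_main` over an artinian local ring (S3016).
-/

set_option autoImplicit false
set_option linter.style.haveILetI false
universe u
open CategoryTheory CategoryTheory.Limits AlgebraicGeometry MonoidalCategory
  CartesianMonoidalCategory MonObj

namespace Groth.Agent.H93.ArtinBC

open Groth.Agent.H93.OrbitStab Groth.Agent.H38.DimFibreSum

section Field

variable {k : Type u} [Field k] {G H : Over (Spec (CommRingCat.of k))} [GrpObj G] [GrpObj H]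
  (u : G ⟶ H) [IsMonHom u]

/-- `G` acting on `H` by left translation through `u`. -/
noncomputable def homAct : AlgGrp.Action G H := (NonAbH1.trivialAction H).restrict u

theorem orbitMap_homAct : (homAct u).orbitMap η[H] = u := by
  have h1 : (homAct u).orbitMap η[H] =
      lift (𝟙 G ≫ u) (toUnit G ≫ η[H]) ≫ (NonAbH1.trivialAction H).act :=
    AlgGrp.Action.lift_restrict_act u (NonAbH1.trivialAction H) (𝟙 G) (toUnit G ≫ η[H])
  rw [h1, Category.id_comp]
  have h2 : lift u (toUnit G ≫ η[H]) ≫ (NonAbH1.trivialAction H).act = u * (1 : G ⟶ H) := rfl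
  rw [h2, _root_.mul_one]

theorem field_main [LocallyOfFiniteType G.hom] [LocallyOfFiniteType H.hom] [QuasiCompact u.left] :
    IsClosed (Set.range u.left.base) ∧
    topologicalKrullDim G.left =
      topologicalKrullDim (Set.range u.left.base) +
        topologicalKrullDim
          ↥(pullback u.left (η[H] : 𝟙_ (Over (Spec (CommRingCat.of k))) ⟶ H).left) := by
  obtain ⟨H', instH', i, f', hi, hf', hfi, hcl, -, -, hsurj⟩ :=
    Groth.Agent.H37.GrpImage.exists_image_grp k G H u
  haveI := hcl
  haveI := hsurj
  have hfi' : f'.left ≫ i.left = u.left := by rw [← Over.comp_left, hfi]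
  have hbase : ∀ x : G.left, u.left.base x = i.left.base (f'.left.base x) := by
    intro x; rw [← hfi']; rfl
  have hinj : Function.Injective i.left.base := i.left.isClosedEmbedding.injective
  have hrange : Set.range u.left.base = Set.range i.left.base := by
    ext z; constructor
    · rintro ⟨x, rfl⟩; exact ⟨f'.left.base x, (hbase x).symm⟩
    · rintro ⟨y, rfl⟩
      obtain ⟨x, hx⟩ := f'.left.surjective y
      exact ⟨x, (hbase x).trans (congrArg i.left.base hx)⟩
  have hclosed : IsClosed (Set.range u.left.base) := by
    rw [hrange]; exact i.left.isClosedEmbedding.isClosed_range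
  refine ⟨hclosed, ?_⟩
  have hdimR : topologicalKrullDim ↥(Set.range u.left.base) = topologicalKrullDim ↥H'.left := by
    rw [hrange]
    exact (i.left.isClosedEmbedding.isEmbedding.toHomeomorph.isHomeomorph.topologicalKrullDim_eq).symm
  haveI : LocallyOfFiniteType H'.hom := by
    have : i.left ≫ H.hom = H'.hom := Over.w i
    rw [← this]; infer_instance
  have hw' : f'.left ≫ H'.hom = G.hom := Over.w f'
  haveI : LocallyOfFiniteType (f'.left ≫ H'.hom) := by rw [hw']; infer_instance
  haveI : LocallyOfFiniteType f'.left := locallyOfFiniteType_of_comp f'.left H'.hom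
  have hfib : ∀ g : G.left, topologicalKrullDim ↥(f'.left.base ⁻¹' {f'.left.base g}) =
      topologicalKrullDim
        ↥(pullback u.left (η[H] : 𝟙_ (Over (Spec (CommRingCat.of k))) ⟶ H).left) := by
    intro g
    have hset : f'.left.base ⁻¹' {f'.left.base g} = u.left.base ⁻¹' {u.left.base g} := by
      ext x
      simp only [Set.mem_preimage, Set.mem_singleton_iff]
      rw [hbase x, hbase g]
      exact ⟨fun h => congrArg _ h, fun h => hinj h⟩
    rw [hset]
    have h1 := dim_fibre_eq (homAct u) η[H] g
    rw [orbitMap_homAct] at h1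
    exact h1
  generalize hd : topologicalKrullDim
        ↥(pullback u.left (η[H] : 𝟙_ (Over (Spec (CommRingCat.of k))) ⟶ H).left) = d at hfib ⊢
  let e₀ : G.left := η[G].left.base (IsLocalRing.closedPoint k)
  have hd0 : d ≠ ⊥ := by
    rw [← hfib e₀]
    haveI : Nonempty ↥(f'.left.base ⁻¹' {f'.left.base e₀}) := ⟨⟨e₀, rfl⟩⟩
    exact dim_ne_bot _
  have hR0 : topologicalKrullDim ↥(Set.range u.left.base) ≠ ⊥ := by
    haveI : Nonempty ↥(Set.range u.left.base) := ⟨⟨_, e₀, rfl⟩⟩
    exact dim_ne_bot _
  rcases eq_top_or_nat hd0 with hdt | ⟨n, hn⟩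
  · rw [hdt, add_top_of_ne_bot hR0]
    have h1 : topologicalKrullDim ↥(f'.left.base ⁻¹' {f'.left.base e₀}) ≤
        topologicalKrullDim ↥G.left := topologicalKrullDim_subspace_le _ _
    rw [hfib e₀, hdt] at h1
    exact top_le_iff.mp h1
  · rw [hn, hdimR]
    have h1 : topologicalKrullDim ↥G.left ≤ (n : WithBot ℕ∞) + topologicalKrullDim ↥H'.left :=
      dim_le_add H'.hom f'.left n (fun x => ((hfib x).trans hn).le)
    have h2 : (n : WithBot ℕ∞) + topologicalKrullDim ↥H'.left ≤ topologicalKrullDim ↥G.left :=
      add_dim_le H'.hom f'.left n (fun y _ => by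
        obtain ⟨g, hg⟩ := f'.left.surjective y
        have hg' : f'.left.base g = y := hg
        rw [← hg', hfib g, hn])
    rw [add_comm]
    exact le_antisymm h1 h2

end Field

section Artin

variable (A : Type u) [CommRing A] [IsArtinianRing A] [IsLocalRing A]

/-- the inclusion of the closed point of `Spec A` -/
noncomputable def clPt : Spec (CommRingCat.of (IsLocalRing.ResidueField A)) ⟶ Spec (CommRingCat.of A) :=
  Spec.map (CommRingCat.ofHom (IsLocalRing.residue A))

instance : IsClosedImmersion (clPt A) :=
  IsClosedImmersion.spec_of_surjective (CommRingCat.ofHom (IsLocalRing.residue A))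
    Ideal.Quotient.mk_surjective

instance : Subsingleton ↥(Spec (CommRingCat.of A)) :=
  inferInstanceAs (Subsingleton (PrimeSpectrum A))

instance : Surjective (clPt A) :=
  ⟨fun _ => ⟨default, Subsingleton.elim _ _⟩⟩

variable {A}

theorem isHomeomorph_of_isPullback {Z Z' : Scheme.{u}} (q : Z ⟶ Spec (CommRingCat.of A))
    (t : Z' ⟶ Z) (q' : Z' ⟶ Spec (CommRingCat.of (IsLocalRing.ResidueField A)))
    (sq : IsPullback t q' q (clPt A)) : IsHomeomorph t.base := by
  haveI : IsClosedImmersion t :=
    MorphismProperty.of_isPullback (P := @IsClosedImmersion) sq.flip inferInstance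
  haveI : Surjective t :=
    MorphismProperty.of_isPullback (P := @Surjective) sq.flip inferInstance
  exact isHomeomorph_iff_isEmbedding_surjective.mpr
    ⟨t.isClosedEmbedding.isEmbedding, t.surjective⟩

variable (G H : Over (Spec (CommRingCat.of A))) [GrpObj G] [GrpObj H]
  (u : G ⟶ H) [IsMonHom u]

set_option quotPrecheck false

local notation "G'" => Red.bc (clPt A) G
local notation "H'" => Red.bc (clPt A) H
local notation "u'" => (Over.pullback (clPt A)).map u

theorem unit_bc : (η[H'] : 𝟙_ (Over (Spec (CommRingCat.of (IsLocalRing.ResidueField A)))) ⟶ H').left ≫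
      pullback.fst H.hom (clPt A) =
    clPt A ≫ (η[H] : 𝟙_ (Over (Spec (CommRingCat.of A))) ⟶ H).left := by
  have h3 : (Functor.LaxMonoidal.ε (Over.pullback (clPt A))).left ≫
      pullback.fst (𝟙_ (Over (Spec (CommRingCat.of A)))).hom (clPt A) = clPt A := by
    show _ ≫ pullback.fst (𝟙 (Spec (CommRingCat.of A))) (clPt A) = clPt A
    rw [Over.ε_pullback_left, IsIso.inv_comp_eq, ← pullback.condition, Category.comp_id]
  have hpm : ((Over.pullback (clPt A)).map η[H]).left ≫ pullback.fst H.hom (clPt A) =
      pullback.fst (𝟙_ (Over (Spec (CommRingCat.of A)))).hom (clPt A) ≫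
        (η[H] : 𝟙_ (Over (Spec (CommRingCat.of A))) ⟶ H).left :=
    ActBC.pullback_map_left_fst (clPt A) η[H]
  calc (η[H'] : 𝟙_ (Over (Spec (CommRingCat.of (IsLocalRing.ResidueField A)))) ⟶ H').left ≫
        pullback.fst H.hom (clPt A)
      = ((Functor.LaxMonoidal.ε (Over.pullback (clPt A))).left ≫
          ((Over.pullback (clPt A)).map η[H]).left) ≫ pullback.fst H.hom (clPt A) := rfl
    _ = (Functor.LaxMonoidal.ε (Over.pullback (clPt A))).left ≫
          (((Over.pullback (clPt A)).map η[H]).left ≫ pullback.fst H.hom (clPt A)) :=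
        Category.assoc _ _ _
    _ = (Functor.LaxMonoidal.ε (Over.pullback (clPt A))).left ≫
          (pullback.fst (𝟙_ (Over (Spec (CommRingCat.of A)))).hom (clPt A) ≫
            (η[H] : 𝟙_ (Over (Spec (CommRingCat.of A))) ⟶ H).left) := by rw [hpm]
    _ = ((Functor.LaxMonoidal.ε (Over.pullback (clPt A))).left ≫
          pullback.fst (𝟙_ (Over (Spec (CommRingCat.of A)))).hom (clPt A)) ≫
            (η[H] : 𝟙_ (Over (Spec (CommRingCat.of A))) ⟶ H).left :=
        (Category.assoc _ _ _).symm
    _ = clPt A ≫ (η[H] : 𝟙_ (Over (Spec (CommRingCat.of A))) ⟶ H).left := by rw [h3]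

theorem main [LocallyOfFiniteType G.hom] [LocallyOfFiniteType H.hom] [QuasiCompact u.left] :
    IsClosed (Set.range u.left.base) ∧
    topologicalKrullDim G.left =
      topologicalKrullDim (Set.range u.left.base) +
        topologicalKrullDim
          ↥(pullback u.left (η[H] : 𝟙_ (Over (Spec (CommRingCat.of A))) ⟶ H).left) := by
  have hcomm : (u').left ≫ pullback.fst H.hom (clPt A) = pullback.fst G.hom (clPt A) ≫ u.left :=
    ActBC.pullback_map_left_fst (clPt A) u
  have hwu : u.left ≫ H.hom = G.hom := Over.w u
  have hwu' : (u').left ≫ (H').hom = (G').hom := Over.w (u')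
  have sqH : IsPullback (pullback.fst H.hom (clPt A)) (H').hom H.hom (clPt A) :=
    IsPullback.of_hasPullback H.hom (clPt A)
  have sqG : IsPullback (pullback.fst G.hom (clPt A)) (G').hom G.hom (clPt A) :=
    IsPullback.of_hasPullback G.hom (clPt A)
  have sqGH : IsPullback (u').left (pullback.fst G.hom (clPt A)) (pullback.fst H.hom (clPt A)) u.left := by
    refine IsPullback.of_right ?_ hcomm sqH.flip
    rw [hwu', hwu]
    exact sqG.flip
  haveI : QuasiCompact (u').left :=
    MorphismProperty.of_isPullback (P := @QuasiCompact) sqGH.flip inferInstance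
  haveI : LocallyOfFiniteType (G').hom :=
    MorphismProperty.pullback_snd (P := @LocallyOfFiniteType) _ _ inferInstance
  haveI : LocallyOfFiniteType (H').hom :=
    MorphismProperty.pullback_snd (P := @LocallyOfFiniteType) _ _ inferInstance
  obtain ⟨hcl', hdim'⟩ := field_main (u')
  have hGhom : IsHomeomorph (pullback.fst G.hom (clPt A)).base :=
    isHomeomorph_of_isPullback G.hom _ (G').hom sqG
  have hHhom : IsHomeomorph (pullback.fst H.hom (clPt A)).base :=
    isHomeomorph_of_isPullback H.hom _ (H').hom sqH
  have hpt : ∀ x : (G').left, (pullback.fst H.hom (clPt A)).base ((u').left.base x) =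
      u.left.base ((pullback.fst G.hom (clPt A)).base x) := fun x =>
    congrArg (fun φ => φ.base x) hcomm
  have hrange : Set.range u.left.base =
      (pullback.fst H.hom (clPt A)).base '' Set.range (u').left.base := by
    ext z; constructor
    · rintro ⟨g, rfl⟩
      obtain ⟨x, rfl⟩ := hGhom.surjective g
      exact ⟨_, ⟨x, rfl⟩, hpt x⟩
    · rintro ⟨_, ⟨x, rfl⟩, rfl⟩
      exact ⟨(pullback.fst G.hom (clPt A)).base x, (hpt x).symm⟩
  have hclosed : IsClosed (Set.range u.left.base) := by
    rw [hrange]
    exact hHhom.isClosedMap _ hcl'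
  have hdG : topologicalKrullDim ↥(G').left = topologicalKrullDim ↥G.left :=
    hGhom.topologicalKrullDim_eq
  have hdR : topologicalKrullDim ↥(Set.range (u').left.base) =
      topologicalKrullDim ↥(Set.range u.left.base) := by
    rw [hrange]
    exact (hHhom.isEmbedding.homeomorphImage
      (Set.range (u').left.base)).isHomeomorph.topologicalKrullDim_eq
  -- the kernel
  set e := (η[H] : 𝟙_ (Over (Spec (CommRingCat.of A))) ⟶ H).left with he
  set e' := (η[H'] : 𝟙_ (Over (Spec (CommRingCat.of (IsLocalRing.ResidueField A)))) ⟶ H').left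
    with he'
  have hee : e' ≫ pullback.fst H.hom (clPt A) = clPt A ≫ e := unit_bc H
  have sqK' : IsPullback (pullback.fst (u').left e') (pullback.snd (u').left e') (u').left e' :=
    IsPullback.of_hasPullback _ _
  have big : IsPullback (pullback.fst (u').left e' ≫ pullback.fst G.hom (clPt A))
      (pullback.snd (u').left e') u.left (e' ≫ pullback.fst H.hom (clPt A)) :=
    sqK'.paste_horiz sqGH.flip
  rw [hee] at big
  have sqK : IsPullback (pullback.fst u.left e) (pullback.snd u.left e) u.left e :=
    IsPullback.of_hasPullback _ _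
  let t : pullback (u').left e' ⟶ pullback u.left e :=
    pullback.lift (pullback.fst (u').left e' ≫ pullback.fst G.hom (clPt A))
      (pullback.snd (u').left e' ≫ clPt A) (big.w.trans (Category.assoc _ _ _).symm)
  have ht1 : t ≫ pullback.fst u.left e =
      pullback.fst (u').left e' ≫ pullback.fst G.hom (clPt A) := pullback.lift_fst _ _ _
  have ht2 : t ≫ pullback.snd u.left e = pullback.snd (u').left e' ≫ clPt A :=
    pullback.lift_snd _ _ _
  have sqT : IsPullback t (pullback.snd (u').left e') (pullback.snd u.left e) (clPt A) := by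
    refine IsPullback.of_right ?_ ht2 sqK
    rw [ht1]; exact big
  have hKhom : IsHomeomorph t.base :=
    isHomeomorph_of_isPullback (pullback.snd u.left e) t (pullback.snd (u').left e') sqT
  have hdK : topologicalKrullDim ↥(pullback (u').left e') = topologicalKrullDim ↥(pullback u.left e) :=
    hKhom.topologicalKrullDim_eq
  refine ⟨hclosed, ?_⟩
  rw [← hdG, ← hdR, ← hdK]
  exact hdim'

end Artin

end Groth.Agent.H93.ArtinBC
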