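import Mathlib
import Groth.Prelude.Def_ActBC
import Groth.Prelude.Def_Flat
import Groth.Agent.H93.ArtinBC
import Groth.Agent.H63.ActionTranslate
import Groth.Agent.H37.GrpdDim
import Groth.Agent.H38.ProdLocalDim
import Groth.Agent.H12.NoethTop
import Groth.Agent.H9.FibDimTop

/-!
# Homogeneous spaces: constant local dimension (helper93)

* `AT a g` : for a `T`-point `g` of `G`, the translation automorphism of `X ⊗ T` over `T`
  (`ATiso`), with `section_comp_AT`.
* `localDim_eq_of_homogeneous` : over a field, if `G ×_k X → X ×_k X` is surjective then the local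
  dimension of `X` is the same at all points (`X` locally of finite type; no hypothesis on `G`).
* `dim_connectedComponent_eq_localDim`, `dim_connectedComponent_eq_field`.
* `isPullback_map_left`, `surjective_bc` : base change of the graph morphism of an action.
* `main` : S3033 (artinian local base).
-/

set_option autoImplicit false
set_option linter.style.haveILetI false
universe u
open CategoryTheory CategoryTheory.Limits AlgebraicGeometry MonoidalCategory
  CartesianMonoidalCategory MonObj

namespace Groth.Agent.H93.HomogDim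

open Groth.Agent.H63.ActionTranslate Groth.Agent.H93.OrbitStab Groth.Agent.H93.ArtinBC

section Translate

variable {S : Scheme.{u}} {G X : Over S} [GrpObj G] (a : AlgGrp.Action G X) {T : Over S}

/-- translation of `X ⊗ T` by a `T`-point of `G` -/
noncomputable def AT (g : T ⟶ G) : X ⊗ T ⟶ X ⊗ T :=
  lift (lift (snd X T ≫ g) (fst X T) ≫ a.act) (snd X T)

lemma AT_fst (g : T ⟶ G) :
    AT a g ≫ fst X T = lift (snd X T ≫ g) (fst X T) ≫ a.act := lift_fst _ _

lemma AT_snd (g : T ⟶ G) : AT a g ≫ snd X T = snd X T := lift_snd _ _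

lemma AT_comp (g h : T ⟶ G) : AT a g ≫ AT a h = AT a (h * g) := by
  apply CartesianMonoidalCategory.hom_ext
  · rw [Category.assoc, AT_fst, AT_fst, comp_lift_assoc, ← Category.assoc, AT_snd, AT_fst,
      MonObj.comp_mul, act_mul]
  · rw [Category.assoc, AT_snd, AT_snd, AT_snd]

lemma AT_one : AT a (1 : T ⟶ G) = 𝟙 (X ⊗ T) := by
  apply CartesianMonoidalCategory.hom_ext
  · rw [AT_fst, MonObj.comp_one, act_one', Category.id_comp]
  · rw [AT_snd, Category.id_comp]

/-- the translation as an isomorphism -/
noncomputable def ATiso (g : T ⟶ G) : X ⊗ T ≅ X ⊗ T where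
  hom := AT a g
  inv := AT a g⁻¹
  hom_inv_id := by rw [AT_comp, _root_.inv_mul_cancel, AT_one]
  inv_hom_id := by rw [AT_comp, _root_.mul_inv_cancel, AT_one]

lemma section_comp_AT (g : T ⟶ G) (x : T ⟶ X) :
    lift x (𝟙 T) ≫ AT a g = lift (lift g x ≫ a.act) (𝟙 T) := by
  apply CartesianMonoidalCategory.hom_ext
  · rw [Category.assoc, AT_fst, comp_lift_assoc, lift_fst, ← Category.assoc, lift_snd,
      Category.id_comp, lift_fst]
  · rw [Category.assoc, AT_snd, lift_snd, lift_snd]

end Translate

section Field

variable {k : Type u} [Field k] {G X : Over (Spec (CommRingCat.of k))} [GrpObj G]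

theorem localDim_eq_of_homogeneous [LocallyOfFiniteType X.hom] (a : AlgGrp.Action G X)
    (hΦ : Surjective (lift a.act (snd G X)).left) (x y : X.left) :
    FlatMor.localDim ↥X.left x = FlatMor.localDim ↥X.left y := by
  haveI := hΦ
  haveI : Subsingleton ↥(Spec (CommRingCat.of k)) :=
    inferInstanceAs (Subsingleton (PrimeSpectrum k))
  obtain ⟨z, hz1, hz2⟩ := Scheme.Pullback.exists_preimage_pullback (f := X.hom) (g := X.hom) y x
    (Subsingleton.elim _ _)
  obtain ⟨w, hw⟩ := (lift a.act (snd G X)).left.surjective z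
  have hact : a.act.left.base w = y := by
    have h2 : (fst X X).left.base ((lift a.act (snd G X)).left.base w) = a.act.left.base w :=
      congrArg (fun φ : G ⊗ X ⟶ X => φ.left.base w) (lift_fst a.act (snd G X))
    exact h2.symm.trans ((congrArg (fun t => (fst X X).left.base t) hw).trans hz1)
  have hsnd : (snd G X).left.base w = x := by
    have h2 : (snd X X).left.base ((lift a.act (snd G X)).left.base w) = (snd G X).left.base w :=
      congrArg (fun φ : G ⊗ X ⟶ X => φ.left.base w) (lift_snd a.act (snd G X))
    exact h2.symm.trans ((congrArg (fun t => (snd X X).left.base t) hw).trans hz2)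
  let W : Scheme.{u} := (G ⊗ X).left
  let ρ : Spec (W.residueField w) ⟶ W := W.fromSpecResidueField w
  let T : Over (Spec (CommRingCat.of k)) := Over.mk (ρ ≫ (G ⊗ X).hom)
  let ρ' : T ⟶ G ⊗ X := Over.homMk ρ rfl
  have hy : lift (ρ' ≫ fst G X) (ρ' ≫ snd G X) ≫ a.act = ρ' ≫ a.act := by
    rw [← comp_lift, lift_fst_snd, Category.comp_id]
  let Θ : X ⊗ T ≅ X ⊗ T := ATiso a (ρ' ≫ fst G X)
  have hσ : lift (ρ' ≫ snd G X) (𝟙 T) ≫ Θ.hom = lift (ρ' ≫ a.act) (𝟙 T) := by
    show lift (ρ' ≫ snd G X) (𝟙 T) ≫ AT a (ρ' ≫ fst G X) = _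
    rw [section_comp_AT, hy]
  let pt : ↥T.left := IsLocalRing.closedPoint (W.residueField w)
  have hρpt : ρ.base pt = w := Scheme.fromSpecResidueField_apply w pt
  let xt : ↥(X ⊗ T).left := (lift (ρ' ≫ snd G X) (𝟙 T)).left.base pt
  let yt : ↥(X ⊗ T).left := (lift (ρ' ≫ a.act) (𝟙 T)).left.base pt
  have hΘ : Θ.hom.left.base xt = yt :=
    congrArg (fun φ : T ⟶ X ⊗ T => φ.left.base pt) hσ
  haveI : IsIso Θ.hom.left := (Over.forget _).map_isIso Θ.hom
  have h3 : FlatMor.localDim ↥(X ⊗ T).left xt = FlatMor.localDim ↥(X ⊗ T).left yt :=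
    (Groth.Agent.H9.FibDim.localDim_of_isOpenEmbedding Θ.hom.left.isOpenEmbedding xt).trans
      (congrArg (FlatMor.localDim ↥(X ⊗ T).left) hΘ)
  have sqXT : IsPullback (fst X T).left (snd X T).left X.hom T.hom :=
    IsPullback.of_hasPullback X.hom T.hom
  have h4 : ∀ p : ↥(X ⊗ T).left, FlatMor.localDim ↥(X ⊗ T).left p =
      FlatMor.localDim ↥X.left ((fst X T).left.base p) := fun p =>
    Groth.Agent.H37.localDim_eq_of_isPullback_field (Iso.refl _) (W.residueField w) (Iso.refl _)
      X.hom T.hom (fst X T).left (snd X T).left sqXT p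
  have hxt : (fst X T).left.base xt = x := by
    have e1 : (fst X T).left.base xt = (ρ' ≫ snd G X).left.base pt :=
      congrArg (fun φ : T ⟶ X => φ.left.base pt) (lift_fst (ρ' ≫ snd G X) (𝟙 T))
    have e3 : (ρ' ≫ snd G X).left.base pt = (snd G X).left.base (ρ.base pt) := rfl
    exact e1.trans (e3.trans ((congrArg (fun t => (snd G X).left.base t) hρpt).trans hsnd))
  have hyt : (fst X T).left.base yt = y := by
    have e1 : (fst X T).left.base yt = (ρ' ≫ a.act).left.base pt :=
      congrArg (fun φ : T ⟶ X => φ.left.base pt) (lift_fst (ρ' ≫ a.act) (𝟙 T))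
    have e3 : (ρ' ≫ a.act).left.base pt = a.act.left.base (ρ.base pt) := rfl
    exact e1.trans (e3.trans ((congrArg (fun t => a.act.left.base t) hρpt).trans hact))
  calc FlatMor.localDim ↥X.left x
      = FlatMor.localDim ↥X.left ((fst X T).left.base xt) := by rw [hxt]
    _ = FlatMor.localDim ↥(X ⊗ T).left xt := (h4 xt).symm
    _ = FlatMor.localDim ↥(X ⊗ T).left yt := h3
    _ = FlatMor.localDim ↥X.left ((fst X T).left.base yt) := h4 yt
    _ = FlatMor.localDim ↥X.left y := by rw [hyt]

theorem dim_connectedComponent_eq_localDim {X : Scheme.{u}}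
    (s : X ⟶ Spec (CommRingCat.of k)) [LocallyOfFiniteType s]
    (hconst : ∀ x y : X, FlatMor.localDim ↥X x = FlatMor.localDim ↥X y) (z : X) :
    topologicalKrullDim ↥(connectedComponent z) = FlatMor.localDim ↥X z := by
  haveI : IsLocallyNoetherian X := LocallyOfFiniteType.isLocallyNoetherian s
  haveI : LocallyConnectedSpace X :=
    Groth.Agent.H12.locallyConnectedSpace_of_locally_noetherian X (fun x => by
      obtain ⟨V, hV, hxV, -⟩ := TopologicalSpace.Opens.isBasis_iff_nbhd.mp X.isBasis_affineOpens
        (show x ∈ (⊤ : X.Opens) from trivial)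
      haveI : IsNoetherianRing Γ(X, V) := IsLocallyNoetherian.component_noetherian ⟨V, hV⟩
      exact ⟨(V : Set X), V.2.mem_nhds hxV, noetherianSpace_of_isAffineOpen V hV⟩)
  have hopen : IsOpen (connectedComponent z) := isOpen_connectedComponent
  let U : X.Opens := ⟨connectedComponent z, hopen⟩
  have hzU : z ∈ connectedComponent z := mem_connectedComponent
  have hge : FlatMor.localDim ↥X z ≤ topologicalKrullDim ↥(connectedComponent z) := by
    have h1 : FlatMor.localDim ↥(connectedComponent z) ⟨z, hzU⟩ = FlatMor.localDim ↥X z :=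
      Groth.Agent.H9.FibDim.localDim_of_isOpenEmbedding hopen.isOpenEmbedding_subtypeVal
        (⟨z, hzU⟩ : ↥(connectedComponent z))
    rw [← h1]
    exact Groth.Agent.H9.FibDim.localDim_le_dim _ _
  refine le_antisymm ?_ hge
  rcases eq_top_or_nat (Groth.Agent.H9.FibDim.localDim_ne_bot ↥X z) with ht | ⟨n, hn⟩
  · rw [ht]; exact le_top
  · rw [hn]
    have key : ∀ x : X, x ∈ U → Groth.Agent.H54.tdeg s x ≤ n := by
      intro x _
      have h1 := Groth.Agent.H38.ProdLocalDim.tdeg_le_localDim s (specializes_rfl : x ⤳ x)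
      rw [hconst x z, hn] at h1
      exact_mod_cast h1
    exact Groth.Agent.H54.topologicalKrullDim_opens_le_of_forall_tdeg_le s U n key

theorem dim_connectedComponent_eq_field [LocallyOfFiniteType X.hom] (a : AlgGrp.Action G X)
    (hΦ : Surjective (lift a.act (snd G X)).left) (x y : X.left) :
    topologicalKrullDim ↥(connectedComponent x) = topologicalKrullDim ↥(connectedComponent y) := by
  have hconst := localDim_eq_of_homogeneous a hΦ
  rw [dim_connectedComponent_eq_localDim X.hom hconst x,
    dim_connectedComponent_eq_localDim X.hom hconst y]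
  exact hconst x y

end Field

section BaseChange

variable {S S' : Scheme.{u}} (f : S' ⟶ S)

/-- the base change of a morphism of `S`-schemes is a base change of the morphism itself -/
theorem isPullback_map_left {Y Z : Over S} (φ : Y ⟶ Z) :
    IsPullback ((Over.pullback f).map φ).left (pullback.fst Y.hom f) (pullback.fst Z.hom f)
      φ.left := by
  have hcomm : ((Over.pullback f).map φ).left ≫ pullback.fst Z.hom f =
      pullback.fst Y.hom f ≫ φ.left := ActBC.pullback_map_left_fst f φ
  have hw : φ.left ≫ Z.hom = Y.hom := Over.w φ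
  have hw' : ((Over.pullback f).map φ).left ≫ ((Over.pullback f).obj Z).hom =
      ((Over.pullback f).obj Y).hom := Over.w ((Over.pullback f).map φ)
  have sqZ : IsPullback (pullback.fst Z.hom f) ((Over.pullback f).obj Z).hom Z.hom f :=
    IsPullback.of_hasPullback Z.hom f
  have sqY : IsPullback (pullback.fst Y.hom f) ((Over.pullback f).obj Y).hom Y.hom f :=
    IsPullback.of_hasPullback Y.hom f
  refine IsPullback.of_right ?_ hcomm sqZ.flip
  rw [hw', hw]
  exact sqY.flip

theorem surjective_bc {G X : Over S} [GrpObj G] (a : AlgGrp.Action G X)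
    (hΦ : Surjective (lift a.act (snd G X)).left) :
    Surjective (lift (a.bc f).act (snd (Red.bc f G) (Red.bc f X))).left := by
  have h1 : lift (a.bc f).act (snd (Red.bc f G) (Red.bc f X)) ≫
        Functor.LaxMonoidal.μ (Over.pullback f) X X =
      Functor.LaxMonoidal.μ (Over.pullback f) G X ≫
        (Over.pullback f).map (lift a.act (snd G X)) := by
    have e1 : snd (Red.bc f G) (Red.bc f X) =
        Functor.LaxMonoidal.μ (Over.pullback f) G X ≫ (Over.pullback f).map (snd G X) :=
      (Functor.Monoidal.μ_snd (Over.pullback f) G X).symm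
    have e2 : (a.bc f).act =
        Functor.LaxMonoidal.μ (Over.pullback f) G X ≫ (Over.pullback f).map a.act := rfl
    rw [e1, e2, ← comp_lift, Category.assoc, Functor.Monoidal.lift_μ]
  have h2 : lift (a.bc f).act (snd (Red.bc f G) (Red.bc f X)) =
      Functor.LaxMonoidal.μ (Over.pullback f) G X ≫
        (Over.pullback f).map (lift a.act (snd G X)) ≫
          inv (Functor.LaxMonoidal.μ (Over.pullback f) X X) := by
    rw [← Category.assoc, ← h1, Category.assoc, IsIso.hom_inv_id, Category.comp_id]
  rw [h2]
  haveI : Surjective ((Over.pullback f).map (lift a.act (snd G X))).left :=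
    MorphismProperty.of_isPullback (P := @Surjective) (isPullback_map_left f _).flip hΦ
  haveI : IsIso (Functor.LaxMonoidal.μ (Over.pullback f) G X).left :=
    (Over.forget _).map_isIso _
  haveI : IsIso (inv (Functor.LaxMonoidal.μ (Over.pullback f) X X)).left :=
    (Over.forget _).map_isIso _
  show Surjective ((Functor.LaxMonoidal.μ (Over.pullback f) G X).left ≫
    ((Over.pullback f).map (lift a.act (snd G X))).left ≫
      (inv (Functor.LaxMonoidal.μ (Over.pullback f) X X)).left)
  infer_instance

end BaseChange

theorem image_connectedComponent_homeomorph {α β : Type*} [TopologicalSpace α]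
    [TopologicalSpace β] (e : α ≃ₜ β) (p : α) :
    e '' connectedComponent p = connectedComponent (e p) := by
  apply Set.Subset.antisymm
  · exact e.continuous.image_connectedComponent_subset p
  · intro z hz
    have h1 : e.symm z ∈ e.symm '' connectedComponent (e p) := ⟨z, hz, rfl⟩
    have h2 := e.symm.continuous.image_connectedComponent_subset (e p) h1
    rw [e.symm_apply_apply] at h2
    exact ⟨e.symm z, h2, e.apply_symm_apply z⟩

theorem main (A : Type u) [CommRing A] [IsArtinianRing A] [IsLocalRing A]
    (G X : Over (Spec (CommRingCat.of A))) [GrpObj G] [LocallyOfFiniteType X.hom]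
    (a : AlgGrp.Action G X) (hΦ : Surjective (lift a.act (snd G X)).left) (x y : X.left) :
    topologicalKrullDim ↥(connectedComponent x) = topologicalKrullDim ↥(connectedComponent y) := by
  have hΦ' := surjective_bc (clPt A) a hΦ
  haveI : LocallyOfFiniteType (Red.bc (clPt A) X).hom :=
    MorphismProperty.pullback_snd (P := @LocallyOfFiniteType) _ _ inferInstance
  have hhom : IsHomeomorph (pullback.fst X.hom (clPt A)).base :=
    isHomeomorph_of_isPullback X.hom _ (Red.bc (clPt A) X).hom
      (IsPullback.of_hasPullback X.hom (clPt A))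
  let e : ↥(Red.bc (clPt A) X).left ≃ₜ ↥X.left := hhom.homeomorph _
  obtain ⟨x', rfl⟩ := e.surjective x
  obtain ⟨y', rfl⟩ := e.surjective y
  have hfield := dim_connectedComponent_eq_field (a.bc (clPt A)) hΦ' x' y'
  have himg : ∀ p : ↥(Red.bc (clPt A) X).left, topologicalKrullDim ↥(connectedComponent p) =
      topologicalKrullDim ↥(connectedComponent (e p)) := by
    intro p
    have h1 : e '' connectedComponent p = connectedComponent (e p) :=
      image_connectedComponent_homeomorph e p
    have h2 := (e.image (connectedComponent p)).isHomeomorph.topologicalKrullDim_eq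
    rw [h1] at h2
    exact h2
  rw [← himg x', ← himg y']
  exact hfield

end Groth.Agent.H93.HomogDim
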