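import Mathlib
import Groth.Prelude.Def_ActBC
import Groth.Agent.H93.ArtinBC
import Groth.Agent.H93.HomogDim
import Groth.Agent.H37.AbIsogeny
import Groth.Agent.H40.FibreLocus

/-!
# Homomorphisms of abelian schemes, fibre by fibre (helper93)

* `field_finite_surj` : a finite surjective homomorphism of abelian varieties (proper, geometrically
  reduced and connected group schemes over a field) is flat and the dimensions agree.
* `field_lqf_iff_surj` : for abelian varieties of the same dimension, locally quasi-finite `↔`
  surjective.
* `surjective_iff_fibres`, `locallyQuasiFinite_iff_fibres` : both properties of a morphism of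
  `S`-schemes can be tested on the fibres over the points of `S`.
* `main_lqf_iff_surj` (S18385), `main_flat` (S7801).
-/

set_option autoImplicit false
set_option linter.style.haveILetI false
universe u
open CategoryTheory CategoryTheory.Limits AlgebraicGeometry MonoidalCategory
  CartesianMonoidalCategory MonObj

namespace Groth.Agent.H93.AbFibre

open Groth.Agent.H54 Groth.Agent.H93.OrbitStab Groth.Agent.H93.ArtinBC Groth.Agent.H93.HomogDim

theorem dim_zero_of_discrete (T : Type*) [TopologicalSpace T] [DiscreteTopology T] [Nonempty T] :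
    topologicalKrullDim T = 0 := by
  have h2 : topologicalKrullDim T ≤ 0 := topologicalKrullDim_zero_of_discreteTopology T
  obtain ⟨a, ha⟩ := exists_nat_eq (n := 0) (dim_ne_bot T) (by exact_mod_cast h2)
  rw [ha] at h2 ⊢
  have h3 : a ≤ 0 := by exact_mod_cast h2
  have h4 : a = 0 := by omega
  subst h4; rfl

section Field

variable (k : Type u) [Field k]

theorem field_finite_surj (X Y : Over (Spec (CommRingCat.of k)))
    [GrpObj X] [IsProper X.hom] [GeometricallyReduced X.hom] [GeometricallyConnected X.hom]
    [GrpObj Y] [IsProper Y.hom] [GeometricallyReduced Y.hom] [GeometricallyConnected Y.hom]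
    (f : X ⟶ Y) [IsMonHom f] [IsFinite f.left] [Surjective f.left] :
    topologicalKrullDim ↥X.left = topologicalKrullDim ↥Y.left ∧ Flat f.left := by
  obtain ⟨hint, hsubs⟩ :=
    Groth.Agent.H37.integral_subsingleton_of_iso_spec_field k (Iso.refl (Spec (CommRingCat.of k)))
  haveI := hint
  haveI := hsubs
  haveI : Nonempty ↥(Spec (CommRingCat.of k)) := ⟨IsLocalRing.closedPoint k⟩
  obtain ⟨p, hp⟩ : ∃ p : X.left ⟶ Spec (CommRingCat.of k), p = X.hom := ⟨_, rfl⟩
  obtain ⟨q, hq⟩ : ∃ q : Y.left ⟶ Spec (CommRingCat.of k), q = Y.hom := ⟨_, rfl⟩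
  haveI : GeometricallyConnected p := by rw [hp]; infer_instance
  haveI : GeometricallyConnected q := by rw [hq]; infer_instance
  haveI : ConnectedSpace ↥X.left := GeometricallyConnected.connectedSpace_of_subsingleton p
  haveI : ConnectedSpace ↥Y.left := GeometricallyConnected.connectedSpace_of_subsingleton q
  haveI : GeometricallyIntegral X.hom :=
    Groth.Agent.H74.AbGI.geometricallyIntegral_of_connected k X
  haveI : GeometricallyIntegral Y.hom :=
    Groth.Agent.H74.AbGI.geometricallyIntegral_of_connected k Y
  have hdim : topologicalKrullDim ↥X.left = topologicalKrullDim ↥Y.left := by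
    haveI : LocallyOfFiniteType X.hom := inferInstance
    haveI : LocallyOfFiniteType Y.hom := inferInstance
    haveI : QuasiCompact f.left := inferInstance
    obtain ⟨-, h⟩ := field_main f
    let e₀ : X.left := η[X].left.base (IsLocalRing.closedPoint k)
    have h1 := dim_fibre_eq (homAct f) η[Y] e₀
    rw [orbitMap_homAct] at h1
    haveI : LocallyQuasiFinite f.left := inferInstance
    have hdisc : _root_.IsDiscrete (f.left.base ⁻¹' {f.left.base e₀}) :=
      f.left.isDiscrete_preimage_singleton _
    haveI : DiscreteTopology ↥(f.left.base ⁻¹' {f.left.base e₀}) := hdisc.to_subtype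
    haveI : Nonempty ↥(f.left.base ⁻¹' {f.left.base e₀}) := ⟨⟨e₀, rfl⟩⟩
    have h3 : topologicalKrullDim ↥(f.left.base ⁻¹' {f.left.base e₀}) = 0 :=
      dim_zero_of_discrete _
    have hsurj : Set.range f.left.base = Set.univ := Set.range_eq_univ.mpr f.left.surjective
    rw [h, ← h1, h3, add_zero, hsurj]
    exact (Homeomorph.Set.univ ↥Y.left).isHomeomorph.topologicalKrullDim_eq
  exact ⟨hdim, (Groth.Agent.H37.AbIsogeny.finite_flat_of_surjective k X Y f hdim).2⟩

theorem field_lqf_iff_surj (A B : Over (Spec (CommRingCat.of k)))
    [GrpObj A] [Smooth A.hom] [IsProper A.hom] [GeometricallyConnected A.hom]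
    [GrpObj B] [Smooth B.hom] [IsProper B.hom] [GeometricallyConnected B.hom]
    (f : A ⟶ B) [IsMonHom f] (hdim : topologicalKrullDim A.left = topologicalKrullDim B.left) :
    LocallyQuasiFinite f.left ↔ Surjective f.left := by
  obtain ⟨hint, hsubs⟩ :=
    Groth.Agent.H37.integral_subsingleton_of_iso_spec_field k (Iso.refl (Spec (CommRingCat.of k)))
  haveI := hint
  haveI := hsubs
  haveI : Nonempty ↥(Spec (CommRingCat.of k)) := ⟨IsLocalRing.closedPoint k⟩
  obtain ⟨p, hp⟩ : ∃ p : A.left ⟶ Spec (CommRingCat.of k), p = A.hom := ⟨_, rfl⟩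
  obtain ⟨q, hq⟩ : ∃ q : B.left ⟶ Spec (CommRingCat.of k), q = B.hom := ⟨_, rfl⟩
  obtain ⟨φ, hφ⟩ : ∃ φ : A.left ⟶ B.left, φ = f.left := ⟨_, rfl⟩
  haveI : IsProper p := by rw [hp]; infer_instance
  haveI : IsProper q := by rw [hq]; infer_instance
  haveI : GeometricallyConnected p := by rw [hp]; infer_instance
  haveI : GeometricallyConnected q := by rw [hq]; infer_instance
  haveI : ConnectedSpace ↥A.left := GeometricallyConnected.connectedSpace_of_subsingleton p
  haveI : ConnectedSpace ↥B.left := GeometricallyConnected.connectedSpace_of_subsingleton q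
  haveI : GeometricallyReduced A.hom := Groth.Agent.H37.AbIsogeny.geometricallyReduced_of_smooth A.hom
  haveI : GeometricallyReduced B.hom := Groth.Agent.H37.AbIsogeny.geometricallyReduced_of_smooth B.hom
  haveI : GeometricallyIntegral A.hom :=
    Groth.Agent.H74.AbGI.geometricallyIntegral_of_connected k A
  haveI : GeometricallyIntegral B.hom :=
    Groth.Agent.H74.AbGI.geometricallyIntegral_of_connected k B
  haveI : GeometricallyIntegral p := by rw [hp]; infer_instance
  haveI : GeometricallyIntegral q := by rw [hq]; infer_instance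
  have hφq : φ ≫ q = p := by rw [hφ, hq, hp]; exact Over.w f
  haveI : IsIntegral A.left := GeometricallyIntegral.isIntegral_of_subsingleton p
  haveI : IsIntegral B.left := GeometricallyIntegral.isIntegral_of_subsingleton q
  haveI : IsProper (φ ≫ q) := by rw [hφq]; infer_instance
  haveI : IsProper φ := IsProper.of_comp φ q
  haveI : LocallyOfFiniteType φ := inferInstance
  haveI : IsLocallyNoetherian B.left := LocallyOfFiniteType.isLocallyNoetherian q
  have hclosed : IsClosed (Set.range ⇑φ) := φ.isClosedMap.isClosed_range
  constructor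
  · intro hlqf
    haveI : LocallyQuasiFinite φ := by rw [hφ]; exact hlqf
    obtain ⟨ξ, hξ⟩ : ∃ ξ : A.left, ξ = genericPoint A.left := ⟨_, rfl⟩
    have hξgen : ∀ x : A.left, ξ ⤳ x := fun x => by rw [hξ]; exact genericPoint_specializes x
    have h1 := topologicalKrullDim_eq_tdeg_of_generic p ξ hξgen
    have h2 := topologicalKrullDim_eq_tdeg_of_generic q (genericPoint B.left)
      genericPoint_specializes
    have h3 : tdeg p ξ = tdeg q (genericPoint B.left) := by
      rw [h1, h2] at hdim; exact_mod_cast hdim
    have h4 := tdeg_fibre_add p q φ hφq (φ ξ) (φ.asFiber ξ)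
    rw [φ.fiberι_asFiber ξ] at h4
    have h4' : tdeg p ξ = tdeg q (φ ξ) + tdeg (fiberQ φ (φ ξ)) (φ.asFiber ξ) := h4
    have h5 : tdeg (fiberQ φ (φ ξ)) (φ.asFiber ξ) = 0 := by
      have ha := topologicalKrullDim_closure_singleton (fiberQ φ (φ ξ)) (φ.asFiber ξ)
      have hb := topologicalKrullDim_subspace_le ↥(φ.fiber (φ ξ))
        (closure ({φ.asFiber ξ} : Set ↥(φ.fiber (φ ξ))))
      have hc := topologicalKrullDim_zero_of_discreteTopology ↥(φ.fiber (φ ξ))
      rw [ha] at hb
      have hd : ((tdeg (fiberQ φ (φ ξ)) (φ.asFiber ξ) : ℕ) : WithBot ℕ∞) ≤ 0 := hb.trans hc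
      have hd' : tdeg (fiberQ φ (φ ξ)) (φ.asFiber ξ) ≤ 0 := by exact_mod_cast hd
      omega
    have h6 : φ ξ = genericPoint B.left := by
      by_contra hne
      have := tdeg_lt_of_specializes q (genericPoint_specializes (φ ξ)) (Ne.symm hne)
      omega
    rw [← hφ]
    refine ⟨fun y => ?_⟩
    have hy : y ∈ closure ({genericPoint B.left} : Set ↥B.left) :=
      specializes_iff_mem_closure.mp (genericPoint_specializes y)
    exact hclosed.closure_subset_iff.mpr (Set.singleton_subset_iff.mpr ⟨ξ, h6⟩) hy
  · intro hsurj
    haveI := hsurj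
    haveI : IsFinite f.left :=
      (Groth.Agent.H37.AbIsogeny.finite_flat_of_surjective k A B f hdim).1
    infer_instance

theorem field_flat_iff_surj (A B : Over (Spec (CommRingCat.of k)))
    [GrpObj A] [IsProper A.hom] [Smooth A.hom] [GeometricallyConnected A.hom]
    [GrpObj B] [IsProper B.hom] [Smooth B.hom] [GeometricallyConnected B.hom]
    (f : A ⟶ B) [IsMonHom f] :
    Flat f.left ↔ Surjective f.left := by
  obtain ⟨hint, hsubs⟩ :=
    Groth.Agent.H37.integral_subsingleton_of_iso_spec_field k (Iso.refl (Spec (CommRingCat.of k)))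
  haveI := hint
  haveI := hsubs
  haveI : Nonempty ↥(Spec (CommRingCat.of k)) := ⟨IsLocalRing.closedPoint k⟩
  obtain ⟨p, hp⟩ : ∃ p : A.left ⟶ Spec (CommRingCat.of k), p = A.hom := ⟨_, rfl⟩
  obtain ⟨q, hq⟩ : ∃ q : B.left ⟶ Spec (CommRingCat.of k), q = B.hom := ⟨_, rfl⟩
  obtain ⟨φ, hφ⟩ : ∃ φ : A.left ⟶ B.left, φ = f.left := ⟨_, rfl⟩
  haveI : IsProper p := by rw [hp]; infer_instance
  haveI : IsProper q := by rw [hq]; infer_instance
  haveI : GeometricallyConnected p := by rw [hp]; infer_instance
  haveI : GeometricallyConnected q := by rw [hq]; infer_instance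
  haveI : ConnectedSpace ↥A.left := GeometricallyConnected.connectedSpace_of_subsingleton p
  haveI : ConnectedSpace ↥B.left := GeometricallyConnected.connectedSpace_of_subsingleton q
  haveI : GeometricallyReduced B.hom := Groth.Agent.H37.AbIsogeny.geometricallyReduced_of_smooth B.hom
  haveI : GeometricallyIntegral B.hom :=
    Groth.Agent.H74.AbGI.geometricallyIntegral_of_connected k B
  haveI : GeometricallyIntegral q := by rw [hq]; infer_instance
  have hφq : φ ≫ q = p := by rw [hφ, hq, hp]; exact Over.w f
  haveI : IsIntegral B.left := GeometricallyIntegral.isIntegral_of_subsingleton q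
  haveI : IsProper (φ ≫ q) := by rw [hφq]; infer_instance
  haveI : IsProper φ := IsProper.of_comp φ q
  haveI : LocallyOfFiniteType φ := inferInstance
  haveI : IsLocallyNoetherian B.left := LocallyOfFiniteType.isLocallyNoetherian q
  have hclosed : IsClosed (Set.range ⇑φ) := φ.isClosedMap.isClosed_range
  constructor
  · intro hflat
    haveI : Flat φ := by rw [hφ]; exact hflat
    haveI : LocallyOfFinitePresentation φ := inferInstance
    have hopen : IsOpen (Set.range ⇑φ) := φ.isOpenMap.isOpen_range
    haveI : Nonempty ↥A.left := ⟨η[A].left (IsLocalRing.closedPoint k)⟩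
    have huniv : Set.range ⇑φ = Set.univ :=
      IsClopen.eq_univ ⟨hclosed, hopen⟩ (Set.range_nonempty _)
    rw [← hφ]; exact ⟨Set.range_eq_univ.mp huniv⟩
  · intro hsurj
    haveI := hsurj
    haveI : IsReduced B.left := inferInstance
    exact Groth.Agent.H63.GrpHomFlat.flat_left_of_isReduced f

end Field

section Fibre

variable {S : Scheme.{u}} {A B : Over S} (f : A ⟶ B)

/-- points of the fibre of `A` over `s` -/
theorem exists_fibre_point (X : Over S) (x : X.left) :
    ∃ x' : ↥(Red.bc (S.fromSpecResidueField (X.hom.base x)) X).left,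
      (pullback.fst X.hom (S.fromSpecResidueField (X.hom.base x))).base x' = x :=
  (Groth.Agent.H40.FibreLocus.mem_range_fst_iff (G := X) (X.hom.base x) x).mpr rfl

theorem fibre_sq (s : S) (a' : ↥(Red.bc (S.fromSpecResidueField s) A).left) :
    (pullback.fst B.hom (S.fromSpecResidueField s)).base
        (((Over.pullback (S.fromSpecResidueField s)).map f).left.base a') =
      f.left.base ((pullback.fst A.hom (S.fromSpecResidueField s)).base a') :=
  congrArg (fun φ => φ.base a') (isPullback_map_left (S.fromSpecResidueField s) f).w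

theorem hom_base (a : A.left) : B.hom.base (f.left.base a) = A.hom.base a :=
  congrArg (fun φ => φ.base a) (Over.w f)

theorem surjective_iff_fibres :
    Surjective f.left ↔
      ∀ s : S, Surjective ((Over.pullback (S.fromSpecResidueField s)).map f).left := by
  constructor
  · intro h s
    exact MorphismProperty.of_isPullback (P := @Surjective)
      (isPullback_map_left (S.fromSpecResidueField s) f).flip h
  · intro h
    refine ⟨fun b => ?_⟩
    obtain ⟨b', hb'⟩ := exists_fibre_point B b
    haveI := h (B.hom.base b)
    obtain ⟨a', ha'⟩ :=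
      ((Over.pullback (S.fromSpecResidueField (B.hom.base b))).map f).left.surjective b'
    refine ⟨(pullback.fst A.hom (S.fromSpecResidueField (B.hom.base b))).base a', ?_⟩
    have h1 := fibre_sq f (B.hom.base b) a'
    exact h1.symm.trans ((congrArg
      (fun t => (pullback.fst B.hom (S.fromSpecResidueField (B.hom.base b))).base t) ha').trans hb')

theorem isDiscrete_preimage_of_fibre (s : S)
    (b' : ↥(Red.bc (S.fromSpecResidueField s) B).left)
    [LocallyQuasiFinite ((Over.pullback (S.fromSpecResidueField s)).map f).left] :
    _root_.IsDiscrete (f.left.base ⁻¹'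
      {(pullback.fst B.hom (S.fromSpecResidueField s)).base b'}) := by
  have hdisc : _root_.IsDiscrete
      (((Over.pullback (S.fromSpecResidueField s)).map f).left.base ⁻¹' {b'}) :=
    ((Over.pullback (S.fromSpecResidueField s)).map f).left.isDiscrete_preimage_singleton b'
  haveI : DiscreteTopology
      ↥(((Over.pullback (S.fromSpecResidueField s)).map f).left.base ⁻¹' {b'}) := hdisc.to_subtype
  have hAemb : Topology.IsEmbedding (pullback.fst A.hom (S.fromSpecResidueField s)).base :=
    (A.hom.fiberι s).isEmbedding
  have hBinj : Function.Injective (pullback.fst B.hom (S.fromSpecResidueField s)).base :=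
    (B.hom.fiberι s).isEmbedding.injective
  have hset : f.left.base ⁻¹' {(pullback.fst B.hom (S.fromSpecResidueField s)).base b'} =
      (pullback.fst A.hom (S.fromSpecResidueField s)).base ''
        (((Over.pullback (S.fromSpecResidueField s)).map f).left.base ⁻¹' {b'}) := by
    ext a
    constructor
    · intro ha
      have ha' : f.left.base a = (pullback.fst B.hom (S.fromSpecResidueField s)).base b' := ha
      have hBs : B.hom.base ((pullback.fst B.hom (S.fromSpecResidueField s)).base b') = s :=
        (Groth.Agent.H40.FibreLocus.mem_range_fst_iff (G := B) s _).mp ⟨b', rfl⟩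
      have hAs : A.hom.base a = s := by rw [← hom_base f a, ha', hBs]
      obtain ⟨a', rfl⟩ := (Groth.Agent.H40.FibreLocus.mem_range_fst_iff (G := A) s a).mpr hAs
      refine ⟨a', ?_, rfl⟩
      show ((Over.pullback (S.fromSpecResidueField s)).map f).left.base a' = b'
      apply hBinj
      rw [fibre_sq f s a']
      exact ha'
    · rintro ⟨a', ha', rfl⟩
      have ha'' : ((Over.pullback (S.fromSpecResidueField s)).map f).left.base a' = b' := ha'
      show f.left.base ((pullback.fst A.hom (S.fromSpecResidueField s)).base a') =
        (pullback.fst B.hom (S.fromSpecResidueField s)).base b'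
      rw [← fibre_sq f s a', ha'']
  have e := hAemb.homeomorphImage
    (((Over.pullback (S.fromSpecResidueField s)).map f).left.base ⁻¹' {b'})
  haveI : DiscreteTopology ↥((pullback.fst A.hom (S.fromSpecResidueField s)).base ''
      (((Over.pullback (S.fromSpecResidueField s)).map f).left.base ⁻¹' {b'})) :=
    e.symm.isEmbedding.discreteTopology
  rw [hset]; exact ⟨inferInstance⟩

theorem locallyQuasiFinite_iff_fibres [LocallyOfFiniteType f.left] :
    LocallyQuasiFinite f.left ↔
      ∀ s : S, LocallyQuasiFinite ((Over.pullback (S.fromSpecResidueField s)).map f).left := by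
  constructor
  · intro h s
    exact MorphismProperty.of_isPullback (P := @LocallyQuasiFinite)
      (isPullback_map_left (S.fromSpecResidueField s) f).flip h
  · intro h
    rw [locallyQuasiFinite_iff_isDiscrete_preimage_singleton]
    intro b
    obtain ⟨b', hb'⟩ := exists_fibre_point B b
    haveI := h (B.hom.base b)
    have h1 := isDiscrete_preimage_of_fibre f (B.hom.base b) b'
    rw [hb'] at h1
    exact h1

theorem flat_iff_fibres [Flat A.hom] [LocallyOfFinitePresentation A.hom]
    [LocallyOfFiniteType B.hom] :
    Flat f.left ↔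
      ∀ s : S, Flat ((Over.pullback (S.fromSpecResidueField s)).map f).left := by
  rw [Flat.iff_flat_stalkMap]
  constructor
  · intro h s
    exact (Groth.Agent.H40.FibreLocus.us_flat_iff f s).mpr (fun x _ => h x)
  · intro h x
    exact (Groth.Agent.H40.FibreLocus.us_flat_iff f (A.hom.base x)).mp (h (A.hom.base x)) x rfl

end Fibre

section Main

variable {S : Scheme.{u}}

theorem main_lqf_iff_surj (A B : Over S)
    [GrpObj A] [Smooth A.hom] [IsProper A.hom] [GeometricallyConnected A.hom]
    [GrpObj B] [Smooth B.hom] [IsProper B.hom] [GeometricallyConnected B.hom]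
    (f : A ⟶ B) [IsMonHom f]
    (hdim : ∀ s : S, topologicalKrullDim ↥(A.hom.fiber s) = topologicalKrullDim ↥(B.hom.fiber s)) :
    LocallyQuasiFinite f.left ↔ Surjective f.left := by
  haveI : LocallyOfFiniteType (f.left ≫ B.hom) := by rw [Over.w f]; infer_instance
  haveI : LocallyOfFiniteType f.left := locallyOfFiniteType_of_comp f.left B.hom
  rw [locallyQuasiFinite_iff_fibres f, surjective_iff_fibres f]
  refine forall_congr' fun s => ?_
  let As : Over (Spec (CommRingCat.of (S.residueField s))) := Red.bc (S.fromSpecResidueField s) A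
  let Bs : Over (Spec (CommRingCat.of (S.residueField s))) := Red.bc (S.fromSpecResidueField s) B
  letI : GrpObj As := Red.grpObj_bc (S.fromSpecResidueField s) A
  letI : GrpObj Bs := Red.grpObj_bc (S.fromSpecResidueField s) B
  let fs : As ⟶ Bs := (Over.pullback (S.fromSpecResidueField s)).map f
  haveI : IsMonHom fs := inferInstanceAs
    (IsMonHom ((Over.pullback (S.fromSpecResidueField s)).map f))
  haveI : Smooth As.hom := inferInstanceAs (Smooth (pullback.snd A.hom (S.fromSpecResidueField s)))
  haveI : Smooth Bs.hom := inferInstanceAs (Smooth (pullback.snd B.hom (S.fromSpecResidueField s)))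
  haveI : IsProper As.hom :=
    inferInstanceAs (IsProper (pullback.snd A.hom (S.fromSpecResidueField s)))
  haveI : IsProper Bs.hom :=
    inferInstanceAs (IsProper (pullback.snd B.hom (S.fromSpecResidueField s)))
  haveI : GeometricallyConnected As.hom :=
    inferInstanceAs (GeometricallyConnected (pullback.snd A.hom (S.fromSpecResidueField s)))
  haveI : GeometricallyConnected Bs.hom :=
    inferInstanceAs (GeometricallyConnected (pullback.snd B.hom (S.fromSpecResidueField s)))
  exact field_lqf_iff_surj (S.residueField s) As Bs fs (hdim s)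

theorem main_flat (X Y : Over S) [GrpObj X] [IsProper X.hom] [Flat X.hom]
    [LocallyOfFinitePresentation X.hom] [GeometricallyReduced X.hom]
    [GeometricallyConnected X.hom]
    [GrpObj Y] [IsProper Y.hom] [Flat Y.hom] [LocallyOfFinitePresentation Y.hom]
    [GeometricallyReduced Y.hom] [GeometricallyConnected Y.hom]
    (f : X ⟶ Y) [IsMonHom f] [IsFinite f.left] [Surjective f.left] :
    Flat f.left ∧
      ∀ s : S, topologicalKrullDim ↥(X.hom.fiber s) = topologicalKrullDim ↥(Y.hom.fiber s) := by
  have key : ∀ s : S, (topologicalKrullDim ↥(X.hom.fiber s) = topologicalKrullDim ↥(Y.hom.fiber s)) ∧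
      Flat ((Over.pullback (S.fromSpecResidueField s)).map f).left := by
    intro s
    let Xs : Over (Spec (CommRingCat.of (S.residueField s))) := Red.bc (S.fromSpecResidueField s) X
    let Ys : Over (Spec (CommRingCat.of (S.residueField s))) := Red.bc (S.fromSpecResidueField s) Y
    letI : GrpObj Xs := Red.grpObj_bc (S.fromSpecResidueField s) X
    letI : GrpObj Ys := Red.grpObj_bc (S.fromSpecResidueField s) Y
    let fs : Xs ⟶ Ys := (Over.pullback (S.fromSpecResidueField s)).map f
    haveI : IsMonHom fs := inferInstanceAs
      (IsMonHom ((Over.pullback (S.fromSpecResidueField s)).map f))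
    haveI : IsProper Xs.hom :=
      inferInstanceAs (IsProper (pullback.snd X.hom (S.fromSpecResidueField s)))
    haveI : IsProper Ys.hom :=
      inferInstanceAs (IsProper (pullback.snd Y.hom (S.fromSpecResidueField s)))
    haveI : GeometricallyReduced Xs.hom :=
      inferInstanceAs (GeometricallyReduced (pullback.snd X.hom (S.fromSpecResidueField s)))
    haveI : GeometricallyReduced Ys.hom :=
      inferInstanceAs (GeometricallyReduced (pullback.snd Y.hom (S.fromSpecResidueField s)))
    haveI : GeometricallyConnected Xs.hom :=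
      inferInstanceAs (GeometricallyConnected (pullback.snd X.hom (S.fromSpecResidueField s)))
    haveI : GeometricallyConnected Ys.hom :=
      inferInstanceAs (GeometricallyConnected (pullback.snd Y.hom (S.fromSpecResidueField s)))
    haveI : IsFinite fs.left := MorphismProperty.of_isPullback (P := @IsFinite)
      (isPullback_map_left (S.fromSpecResidueField s) f).flip inferInstance
    haveI : Surjective fs.left := MorphismProperty.of_isPullback (P := @Surjective)
      (isPullback_map_left (S.fromSpecResidueField s) f).flip inferInstance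
    exact field_finite_surj (S.residueField s) Xs Ys fs
  refine ⟨?_, fun s => (key s).1⟩
  rw [Flat.iff_flat_stalkMap]
  intro x
  exact (Groth.Agent.H40.FibreLocus.us_flat_iff f (X.hom.base x)).mp (key (X.hom.base x)).2 x rfl

theorem main_flat_iff_surj (A B : Over S) [GrpObj A] [IsProper A.hom] [Smooth A.hom]
    [GeometricallyConnected A.hom]
    [GrpObj B] [IsProper B.hom] [Smooth B.hom] [GeometricallyConnected B.hom]
    (f : A ⟶ B) [IsMonHom f] :
    Flat f.left ↔ Surjective f.left := by
  rw [flat_iff_fibres f, surjective_iff_fibres f]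
  refine forall_congr' fun s => ?_
  let As : Over (Spec (CommRingCat.of (S.residueField s))) := Red.bc (S.fromSpecResidueField s) A
  let Bs : Over (Spec (CommRingCat.of (S.residueField s))) := Red.bc (S.fromSpecResidueField s) B
  letI : GrpObj As := Red.grpObj_bc (S.fromSpecResidueField s) A
  letI : GrpObj Bs := Red.grpObj_bc (S.fromSpecResidueField s) B
  let fs : As ⟶ Bs := (Over.pullback (S.fromSpecResidueField s)).map f
  haveI : IsMonHom fs := inferInstanceAs
    (IsMonHom ((Over.pullback (S.fromSpecResidueField s)).map f))
  haveI : Smooth As.hom := inferInstanceAs (Smooth (pullback.snd A.hom (S.fromSpecResidueField s)))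
  haveI : Smooth Bs.hom := inferInstanceAs (Smooth (pullback.snd B.hom (S.fromSpecResidueField s)))
  haveI : IsProper As.hom :=
    inferInstanceAs (IsProper (pullback.snd A.hom (S.fromSpecResidueField s)))
  haveI : IsProper Bs.hom :=
    inferInstanceAs (IsProper (pullback.snd B.hom (S.fromSpecResidueField s)))
  haveI : GeometricallyConnected As.hom :=
    inferInstanceAs (GeometricallyConnected (pullback.snd A.hom (S.fromSpecResidueField s)))
  haveI : GeometricallyConnected Bs.hom :=
    inferInstanceAs (GeometricallyConnected (pullback.snd B.hom (S.fromSpecResidueField s)))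
  exact field_flat_iff_surj (S.residueField s) As Bs fs

end Main

end Groth.Agent.H93.AbFibre
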