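import Mathlib.CategoryTheory.Adjunction.Basic
import Mathlib.CategoryTheory.Adjunction.Mates

/-!
# Formal base-change compatibilities for adjunctions

Abstract versions of the compatibility of units/counits with base change maps.
-/

set_option autoImplicit false

namespace Groth.Agent.H93.AdjBC

open CategoryTheory

/-- Normalize `(𝟭 _).obj` and `(F ⋙ G).obj` everywhere. -/
macro "nrm" : tactic =>
  `(tactic| try dsimp only [Functor.id_obj, Functor.comp_obj] at *)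

universe v₁ v₂ v₃ v₄ u₁ u₂ u₃ u₄

variable {𝒳 : Type u₁} [Category.{v₁} 𝒳] {𝒴 : Type u₂} [Category.{v₂} 𝒴]
  {𝒳' : Type u₃} [Category.{v₃} 𝒳'] {𝒴' : Type u₄} [Category.{v₄} 𝒴']
  {F : 𝒳 ⥤ 𝒴} {F' : 𝒳' ⥤ 𝒴'} {G : 𝒴' ⥤ 𝒴} {G' : 𝒳' ⥤ 𝒳}
  {a : 𝒴 ⥤ 𝒳} {a' : 𝒴' ⥤ 𝒳'} {L : 𝒴 ⥤ 𝒴'} {L' : 𝒳 ⥤ 𝒳'}
  (adj : F ⊣ a) (adj' : F' ⊣ a') (adjg : L ⊣ G) (adjg' : L' ⊣ G') (e : G' ⋙ F ≅ F' ⋙ G)

/-- The comparison map `G' a' M ⟶ a G M`. -/
noncomputable def xi' (M : 𝒴') : G'.obj (a'.obj M) ⟶ a.obj (G.obj M) :=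
  (adj.homEquiv _ _) (e.hom.app (a'.obj M) ≫ G.map (adj'.counit.app M))

lemma xi'_naturality {N N' : 𝒴'} (m : N ⟶ N') :
    G'.map (a'.map m) ≫ xi' adj adj' e N' = xi' adj adj' e N ≫ a.map (G.map m) := by
  unfold xi'
  rw [← adj.homEquiv_naturality_left, ← adj.homEquiv_naturality_right]
  congr 1
  have n1 : F.map (G'.map (a'.map m)) ≫ e.hom.app (a'.obj N') =
      e.hom.app (a'.obj N) ≫ G.map (F'.map (a'.map m)) := e.hom.naturality _
  have n2 : F'.map (a'.map m) ≫ adj'.counit.app N' = adj'.counit.app N ≫ m :=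
    adj'.counit.naturality m
  calc F.map (G'.map (a'.map m)) ≫ e.hom.app (a'.obj N') ≫ G.map (adj'.counit.app N')
      = (F.map (G'.map (a'.map m)) ≫ e.hom.app (a'.obj N')) ≫ G.map (adj'.counit.app N') := by
        rw [Category.assoc]
    _ = e.hom.app (a'.obj N) ≫ G.map (F'.map (a'.map m) ≫ adj'.counit.app N') := by
        rw [n1, Category.assoc, ← G.map_comp]
    _ = (e.hom.app (a'.obj N) ≫ G.map (adj'.counit.app N)) ≫ G.map m := by
        rw [n2, G.map_comp, Category.assoc]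

lemma homEquiv_bc (K : 𝒴) (h : IsIso (xi' adj adj' e (L.obj K))) :
    adjg'.homEquiv _ _ (L'.map (a.map (adjg.unit.app K)) ≫
      L'.map (inv (xi' adj adj' e (L.obj K))) ≫ adjg'.counit.app (a'.obj (L.obj K))) =
      a.map (adjg.unit.app K) ≫ inv (xi' adj adj' e (L.obj K)) := by
  rw [← Category.assoc, ← L'.map_comp, adjg'.homEquiv_naturality_left, adjg'.homEquiv_unit,
    adjg'.right_triangle_components, Category.comp_id]

theorem trace_compat (K : 𝒴) (h : IsIso (xi' adj adj' e (L.obj K))) :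
    (adjg.homEquiv _ _).symm (F.map (adjg'.unit.app (a.obj K)) ≫ e.hom.app (L'.obj (a.obj K))) ≫
      F'.map (L'.map (a.map (adjg.unit.app K)) ≫ L'.map (inv (xi' adj adj' e (L.obj K))) ≫ adjg'.counit.app (a'.obj (L.obj K))) ≫ adj'.counit.app (L.obj K) =
      L.map (adj.counit.app K) := by
  have h1 : adjg'.unit.app (a.obj K) ≫ G'.map (L'.map (a.map (adjg.unit.app K)) ≫ L'.map (inv (xi' adj adj' e (L.obj K))) ≫ adjg'.counit.app (a'.obj (L.obj K))) = a.map (adjg.unit.app K) ≫ inv (xi' adj adj' e (L.obj K)) :=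
    homEquiv_bc adj adj' adjg adjg' e K h
  have h2 : e.hom.app (a'.obj (L.obj K)) ≫ G.map (adj'.counit.app (L.obj K)) =
      F.map (xi' adj adj' e (L.obj K)) ≫ adj.counit.app (G.obj (L.obj K)) :=
    ((adj.homEquiv _ _).symm_apply_apply _).symm
  have h3 : e.hom.app (L'.obj (a.obj K)) ≫ G.map (F'.map (L'.map (a.map (adjg.unit.app K)) ≫ L'.map (inv (xi' adj adj' e (L.obj K))) ≫ adjg'.counit.app (a'.obj (L.obj K)))) =
      F.map (G'.map (L'.map (a.map (adjg.unit.app K)) ≫ L'.map (inv (xi' adj adj' e (L.obj K))) ≫ adjg'.counit.app (a'.obj (L.obj K)))) ≫ e.hom.app (a'.obj (L.obj K)) := (e.hom.naturality _).symm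
  have h4 : adjg.unit.app (F.obj (a.obj K)) ≫ G.map (L.map (adj.counit.app K)) =
      adj.counit.app K ≫ adjg.unit.app K := (adjg.unit.naturality (adj.counit.app K)).symm
  have h5 : F.map (a.map (adjg.unit.app K)) ≫ adj.counit.app (G.obj (L.obj K)) =
      adj.counit.app K ≫ adjg.unit.app K := adj.counit.naturality (adjg.unit.app K)
  have hs : (F.map (adjg'.unit.app (a.obj K)) ≫ e.hom.app (L'.obj (a.obj K))) ≫
      G.map (F'.map (L'.map (a.map (adjg.unit.app K)) ≫ L'.map (inv (xi' adj adj' e (L.obj K))) ≫ adjg'.counit.app (a'.obj (L.obj K)))) ≫ G.map (adj'.counit.app (L.obj K)) =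
      adjg.unit.app (F.obj (a.obj K)) ≫ G.map (L.map (adj.counit.app K)) := by
    rw [h4]
    calc (F.map (adjg'.unit.app (a.obj K)) ≫ e.hom.app (L'.obj (a.obj K))) ≫
          G.map (F'.map (L'.map (a.map (adjg.unit.app K)) ≫ L'.map (inv (xi' adj adj' e (L.obj K))) ≫ adjg'.counit.app (a'.obj (L.obj K)))) ≫ G.map (adj'.counit.app (L.obj K))
        = F.map (adjg'.unit.app (a.obj K)) ≫ (e.hom.app (L'.obj (a.obj K)) ≫ G.map (F'.map (L'.map (a.map (adjg.unit.app K)) ≫ L'.map (inv (xi' adj adj' e (L.obj K))) ≫ adjg'.counit.app (a'.obj (L.obj K))))) ≫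
            G.map (adj'.counit.app (L.obj K)) := by simp only [Category.assoc]
      _ = F.map (adjg'.unit.app (a.obj K)) ≫ (F.map (G'.map (L'.map (a.map (adjg.unit.app K)) ≫ L'.map (inv (xi' adj adj' e (L.obj K))) ≫ adjg'.counit.app (a'.obj (L.obj K)))) ≫ e.hom.app (a'.obj (L.obj K))) ≫
            G.map (adj'.counit.app (L.obj K)) := by rw [h3]
      _ = F.map (adjg'.unit.app (a.obj K) ≫ G'.map (L'.map (a.map (adjg.unit.app K)) ≫ L'.map (inv (xi' adj adj' e (L.obj K))) ≫ adjg'.counit.app (a'.obj (L.obj K)))) ≫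
            (e.hom.app (a'.obj (L.obj K)) ≫ G.map (adj'.counit.app (L.obj K))) := by
          simp only [Category.assoc, Functor.map_comp]
      _ = F.map (a.map (adjg.unit.app K) ≫ inv (xi' adj adj' e (L.obj K))) ≫
            (F.map (xi' adj adj' e (L.obj K)) ≫ adj.counit.app (G.obj (L.obj K))) := by rw [h1, h2]
      _ = F.map (a.map (adjg.unit.app K)) ≫ adj.counit.app (G.obj (L.obj K)) := by
          rw [F.map_comp, Category.assoc, ← Category.assoc (F.map (inv (xi' adj adj' e (L.obj K)))), ← F.map_comp,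
            IsIso.inv_hom_id, F.map_id, Category.id_comp]
      _ = adj.counit.app K ≫ adjg.unit.app K := h5
  apply (adjg.homEquiv _ _).injective
  rw [adjg.homEquiv_naturality_right, Equiv.apply_symm_apply, G.map_comp]
  exact hs

theorem unit_compat (M : 𝒳) (h₁ : IsIso (xi' adj adj' e (L.obj (F.obj M))))
    (h₂ : IsIso (xi' adj adj' e (F'.obj (L'.obj M)))) :
    adj'.unit.app (L'.obj M) = L'.map (adj.unit.app M) ≫ (L'.map (a.map (adjg.unit.app (F.obj M))) ≫ L'.map (inv (xi' adj adj' e (L.obj (F.obj M)))) ≫ adjg'.counit.app (a'.obj (L.obj (F.obj M)))) ≫ a'.map ((adjg.homEquiv _ _).symm (F.map (adjg'.unit.app M) ≫ e.hom.app (L'.obj M))) := by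
  have hbcT : adjg'.homEquiv _ _ (L'.map (a.map (adjg.unit.app (F.obj M))) ≫ L'.map (inv (xi' adj adj' e (L.obj (F.obj M)))) ≫ adjg'.counit.app (a'.obj (L.obj (F.obj M)))) =
      a.map (adjg.unit.app (F.obj M)) ≫ inv (xi' adj adj' e (L.obj (F.obj M))) :=
    homEquiv_bc adj adj' adjg adjg' e (F.obj M) h₁
  have hR : adjg'.homEquiv _ _ (L'.map (adj.unit.app M) ≫ (L'.map (a.map (adjg.unit.app (F.obj M))) ≫ L'.map (inv (xi' adj adj' e (L.obj (F.obj M)))) ≫ adjg'.counit.app (a'.obj (L.obj (F.obj M)))) ≫ a'.map ((adjg.homEquiv _ _).symm (F.map (adjg'.unit.app M) ≫ e.hom.app (L'.obj M)))) =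
      adj.unit.app M ≫ (a.map (adjg.unit.app (F.obj M)) ≫ inv (xi' adj adj' e (L.obj (F.obj M)))) ≫
        G'.map (a'.map ((adjg.homEquiv _ _).symm (F.map (adjg'.unit.app M) ≫ e.hom.app (L'.obj M)))) := by
    rw [adjg'.homEquiv_naturality_left, adjg'.homEquiv_naturality_right]
    exact congrArg (fun z => adj.unit.app M ≫ z ≫ G'.map (a'.map ((adjg.homEquiv _ _).symm (F.map (adjg'.unit.app M) ≫ e.hom.app (L'.obj M))))) hbcT
  have hnat : G'.map (a'.map ((adjg.homEquiv _ _).symm (F.map (adjg'.unit.app M) ≫ e.hom.app (L'.obj M)))) ≫ xi' adj adj' e (F'.obj (L'.obj M)) = xi' adj adj' e (L.obj (F.obj M)) ≫ a.map (G.map ((adjg.homEquiv _ _).symm (F.map (adjg'.unit.app M) ≫ e.hom.app (L'.obj M)))) :=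
    xi'_naturality adj adj' e ((adjg.homEquiv _ _).symm (F.map (adjg'.unit.app M) ≫ e.hom.app (L'.obj M)))
  have hbpT : adjg.unit.app (F.obj M) ≫ G.map ((adjg.homEquiv _ _).symm (F.map (adjg'.unit.app M) ≫ e.hom.app (L'.obj M))) =
      F.map (adjg'.unit.app M) ≫ e.hom.app (L'.obj M) :=
    (adjg.homEquiv _ _).apply_symm_apply _
  have n1 : G'.map (adj'.unit.app (L'.obj M)) ≫ adj.unit.app (G'.obj (a'.obj (F'.obj (L'.obj M)))) =
      adj.unit.app (G'.obj (L'.obj M)) ≫ a.map (F.map (G'.map (adj'.unit.app (L'.obj M)))) :=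
    adj.unit.naturality _
  have n2 : adjg'.unit.app M ≫ adj.unit.app (G'.obj (L'.obj M)) =
      adj.unit.app M ≫ a.map (F.map (adjg'.unit.app M)) := adj.unit.naturality _
  have n3 : F.map (G'.map (adj'.unit.app (L'.obj M))) ≫ e.hom.app (a'.obj (F'.obj (L'.obj M))) =
      e.hom.app (L'.obj M) ≫ G.map (F'.map (adj'.unit.app (L'.obj M))) := e.hom.naturality _
  have n4 : F'.map (adj'.unit.app (L'.obj M)) ≫ adj'.counit.app (F'.obj (L'.obj M)) = 𝟙 _ :=
    adj'.left_triangle_components _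
  have hL : (adjg'.unit.app M ≫ G'.map (adj'.unit.app (L'.obj M))) ≫
      (adj.unit.app (G'.obj (a'.obj (F'.obj (L'.obj M)))) ≫ a.map (e.hom.app (a'.obj (F'.obj (L'.obj M))) ≫ G.map (adj'.counit.app (F'.obj (L'.obj M))))) =
      adj.unit.app M ≫ a.map (F.map (adjg'.unit.app M) ≫ e.hom.app (L'.obj M)) := by
    calc (adjg'.unit.app M ≫ G'.map (adj'.unit.app (L'.obj M))) ≫
          (adj.unit.app (G'.obj (a'.obj (F'.obj (L'.obj M)))) ≫ a.map (e.hom.app (a'.obj (F'.obj (L'.obj M))) ≫ G.map (adj'.counit.app (F'.obj (L'.obj M)))))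
        = adjg'.unit.app M ≫ (G'.map (adj'.unit.app (L'.obj M)) ≫
            adj.unit.app (G'.obj (a'.obj (F'.obj (L'.obj M))))) ≫ a.map (e.hom.app (a'.obj (F'.obj (L'.obj M))) ≫ G.map (adj'.counit.app (F'.obj (L'.obj M)))) := by
          nrm; simp only [Category.assoc]
      _ = adjg'.unit.app M ≫ (adj.unit.app (G'.obj (L'.obj M)) ≫
            a.map (F.map (G'.map (adj'.unit.app (L'.obj M))))) ≫ a.map (e.hom.app (a'.obj (F'.obj (L'.obj M))) ≫ G.map (adj'.counit.app (F'.obj (L'.obj M)))) := by nrm; rw [n1]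
      _ = (adjg'.unit.app M ≫ adj.unit.app (G'.obj (L'.obj M))) ≫
            a.map ((F.map (G'.map (adj'.unit.app (L'.obj M))) ≫ e.hom.app (a'.obj (F'.obj (L'.obj M)))) ≫
              G.map (adj'.counit.app (F'.obj (L'.obj M)))) := by
          nrm; simp only [Category.assoc, Functor.map_comp]
      _ = (adj.unit.app M ≫ a.map (F.map (adjg'.unit.app M))) ≫
            a.map ((e.hom.app (L'.obj M) ≫ G.map (F'.map (adj'.unit.app (L'.obj M)))) ≫
              G.map (adj'.counit.app (F'.obj (L'.obj M)))) := by nrm; rw [n2, n3]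
      _ = adj.unit.app M ≫ a.map (F.map (adjg'.unit.app M) ≫ e.hom.app (L'.obj M)) := by
          have hid : G.map (F'.map (adj'.unit.app (L'.obj M))) ≫
              G.map (adj'.counit.app (F'.obj (L'.obj M))) = 𝟙 _ := by
            nrm; rw [← G.map_comp, n4]
            exact G.map_id _
          nrm; rw [Category.assoc, Category.assoc, hid, Category.comp_id, ← a.map_comp]
  have hfin : (adj.unit.app M ≫ (a.map (adjg.unit.app (F.obj M)) ≫ inv (xi' adj adj' e (L.obj (F.obj M)))) ≫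
      G'.map (a'.map ((adjg.homEquiv _ _).symm (F.map (adjg'.unit.app M) ≫ e.hom.app (L'.obj M))))) ≫ xi' adj adj' e (F'.obj (L'.obj M)) =
      adj.unit.app M ≫ a.map (F.map (adjg'.unit.app M) ≫ e.hom.app (L'.obj M)) := by
    calc (adj.unit.app M ≫ (a.map (adjg.unit.app (F.obj M)) ≫ inv (xi' adj adj' e (L.obj (F.obj M)))) ≫
          G'.map (a'.map ((adjg.homEquiv _ _).symm (F.map (adjg'.unit.app M) ≫ e.hom.app (L'.obj M))))) ≫ xi' adj adj' e (F'.obj (L'.obj M))
        = adj.unit.app M ≫ a.map (adjg.unit.app (F.obj M)) ≫ inv (xi' adj adj' e (L.obj (F.obj M))) ≫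
            (G'.map (a'.map ((adjg.homEquiv _ _).symm (F.map (adjg'.unit.app M) ≫ e.hom.app (L'.obj M)))) ≫ xi' adj adj' e (F'.obj (L'.obj M))) := by nrm; simp only [Category.assoc]
      _ = adj.unit.app M ≫ a.map (adjg.unit.app (F.obj M)) ≫ inv (xi' adj adj' e (L.obj (F.obj M))) ≫
            (xi' adj adj' e (L.obj (F.obj M)) ≫ a.map (G.map ((adjg.homEquiv _ _).symm (F.map (adjg'.unit.app M) ≫ e.hom.app (L'.obj M))))) := by nrm; rw [hnat]
      _ = adj.unit.app M ≫ a.map (adjg.unit.app (F.obj M) ≫ G.map ((adjg.homEquiv _ _).symm (F.map (adjg'.unit.app M) ≫ e.hom.app (L'.obj M)))) := by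
          nrm; rw [IsIso.inv_hom_id_assoc, a.map_comp]
      _ = _ := by nrm; rw [hbpT]
  have key : adjg'.homEquiv _ _ (adj'.unit.app (L'.obj M)) ≫ xi' adj adj' e (F'.obj (L'.obj M)) =
      adjg'.homEquiv _ _ (L'.map (adj.unit.app M) ≫ (L'.map (a.map (adjg.unit.app (F.obj M))) ≫ L'.map (inv (xi' adj adj' e (L.obj (F.obj M)))) ≫ adjg'.counit.app (a'.obj (L.obj (F.obj M)))) ≫ a'.map ((adjg.homEquiv _ _).symm (F.map (adjg'.unit.app M) ≫ e.hom.app (L'.obj M)))) ≫ xi' adj adj' e (F'.obj (L'.obj M)) := by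
    nrm; rw [hR, hfin]
    exact hL
  exact (adjg'.homEquiv _ _).injective ((cancel_mono _).1 key)

end Groth.Agent.H93.AdjBC
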