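import Mathlib
import Groth.Agent.H93.GrpIrr

/-!
# Group schemes locally of finite type over an algebraically closed field:
finitely many closed points lie in an affine open
-/

set_option autoImplicit false
universe u
open CategoryTheory CategoryTheory.Limits AlgebraicGeometry MonoidalCategory
  CartesianMonoidalCategory MonObj GrpObj
open Groth.Agent.H93.GrpIrr

namespace Groth.Agent.H93.GrpAff

section Top

theorem preimage_mem_irreducibleComponents {X : Type*} [TopologicalSpace X] (φ : X ≃ₜ X)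
    {Z : Set X} (hZ : Z ∈ irreducibleComponents X) : φ ⁻¹' Z ∈ irreducibleComponents X := by
  have hZ' : Maximal IsIrreducible Z := hZ
  have himg : φ ⁻¹' Z = φ.symm '' Z := by
    ext x
    constructor
    · intro hx
      exact ⟨φ x, hx, φ.symm_apply_apply x⟩
    · rintro ⟨z, hz, rfl⟩
      show φ (φ.symm z) ∈ Z
      rw [φ.apply_symm_apply]; exact hz
  show Maximal IsIrreducible (φ ⁻¹' Z)
  refine ⟨?_, fun T hT hsub => ?_⟩
  · rw [himg]
    exact hZ'.prop.image φ.symm φ.symm.continuous.continuousOn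
  · have h1 : Z ⊆ φ '' T := by
      intro z hz
      refine ⟨φ.symm z, hsub ?_, φ.apply_symm_apply z⟩
      show φ (φ.symm z) ∈ Z
      rw [φ.apply_symm_apply]; exact hz
    have h2 : φ '' T ⊆ Z := hZ'.2 (hT.image φ φ.continuous.continuousOn) h1
    intro t ht
    exact h2 ⟨t, ht, rfl⟩

theorem isOpen_of_mem_irreducibleComponents {X : Scheme.{u}} [IsLocallyNoetherian X]
    (hU : ∀ x : X, UniqueComp X x) {Z : Set X} (hZ : Z ∈ irreducibleComponents X) :
    IsOpen Z := by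
  rw [isOpen_iff_forall_mem_open]
  intro x hxZ
  obtain ⟨_, ⟨U, hUaff, rfl⟩, hxU, -⟩ := X.isBasis_affineOpens.exists_subset_of_mem_open
    (Set.mem_univ x) isOpen_univ
  have hN : IsNoetherianRing Γ(X, U) := IsLocallyNoetherian.component_noetherian ⟨U, hUaff⟩
  have hNS : TopologicalSpace.NoetherianSpace ↥U := noetherianSpace_of_isAffineOpen U hUaff
  have hfin := TopologicalSpace.NoetherianSpace.finite_irreducibleComponents (α := ↥U)
  obtain ⟨F, hFdef⟩ : ∃ F : Set ↥U, F = ⋃ T ∈ {T ∈ irreducibleComponents ↥U |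
      (⟨x, hxU⟩ : ↥U) ∉ T}, T := ⟨_, rfl⟩
  have hFclosed : IsClosed F := by
    rw [hFdef]
    exact (hfin.subset (fun T hT => hT.1)).isClosed_biUnion
      (fun T hT => isClosed_of_mem_irreducibleComponents T hT.1)
  refine ⟨Subtype.val '' Fᶜ, ?_, U.2.isOpenMap_subtype_val _ hFclosed.isOpen_compl,
    ⟨⟨x, hxU⟩, ?_, rfl⟩⟩
  · rintro _ ⟨y, hy, rfl⟩
    obtain ⟨T, hT, hyT⟩ := exists_comp_mem y
    have hT' : Maximal IsIrreducible T := hT
    have hxT : (⟨x, hxU⟩ : ↥U) ∈ T := by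
      by_contra h
      apply hy
      rw [hFdef]
      exact Set.mem_biUnion (⟨hT, h⟩ : T ∈ {T ∈ irreducibleComponents ↥U |
        (⟨x, hxU⟩ : ↥U) ∉ T}) hyT
    have hirr : IsIrreducible (Subtype.val '' T) :=
      hT'.prop.image _ continuous_subtype_val.continuousOn
    obtain ⟨Z', hZ', hsub⟩ := exists_comp_of_irreducible hirr
    have : Z' = Z := hU x Z' hZ' Z hZ (hsub ⟨_, hxT, rfl⟩) hxZ
    rw [← this]; exact hsub ⟨_, hyT, rfl⟩
  · intro h
    rw [hFdef] at h
    obtain ⟨T, ⟨_, hxT⟩, hx'⟩ := Set.mem_iUnion₂.mp h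
    exact hxT hx'

end Top

variable {K : Type u} [Field K] (G : Over (Spec (CommRingCat.of K))) [GrpObj G]

/-- The point of a rational point. -/
noncomputable def pt (a : 𝟙_ (Over (Spec (CommRingCat.of K))) ⟶ G) : G.left :=
  a.left (IsLocalRing.closedPoint K)

theorem iso_pt (φ : G ⟶ G) (x : 𝟙_ (Over (Spec (CommRingCat.of K))) ⟶ G) :
    φ.left (pt G x) = pt G (x ≫ φ) := by
  unfold pt; rw [Over.comp_left, Scheme.Hom.comp_apply]

theorem comp_mulRight (x a : 𝟙_ (Over (Spec (CommRingCat.of K))) ⟶ G) :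
    x ≫ (GrpObj.mulRight a).hom = x * a := by
  rw [GrpObj.mulRight_hom, comp_lift_assoc, Category.comp_id, ← Category.assoc,
    toUnit_unique (x ≫ toUnit G) (𝟙 _), Category.id_comp]
  rfl

/-- Inversion as an isomorphism. -/
noncomputable def invIso : G ≅ G := ⟨ι[G], ι[G], GrpObj.inv_comp_inv G, GrpObj.inv_comp_inv G⟩

/-- Left translation by a rational point. -/
noncomputable def mulLeftIso (g : 𝟙_ (Over (Spec (CommRingCat.of K))) ⟶ G) : G ≅ G :=
  invIso G ≪≫ GrpObj.mulRight (g ≫ ι[G]) ≪≫ invIso G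

theorem comp_mulLeftIso (g x : 𝟙_ (Over (Spec (CommRingCat.of K))) ⟶ G) :
    x ≫ (mulLeftIso G g).hom = g * x := by
  have h1 : x ≫ (mulLeftIso G g).hom =
      ((x ≫ ι[G]) ≫ (GrpObj.mulRight (g ≫ ι[G])).hom) ≫ ι[G] := by
    simp [mulLeftIso, invIso]
  rw [h1, comp_mulRight]
  show ((x⁻¹ * g⁻¹ : 𝟙_ (Over (Spec (CommRingCat.of K))) ⟶ G))⁻¹ = g * x
  rw [_root_.mul_inv_rev, _root_.inv_inv, _root_.inv_inv]

theorem one_eq_eta : (1 : 𝟙_ (Over (Spec (CommRingCat.of K))) ⟶ G) = η[G] := by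
  rw [Hom.one_def, toUnit_unique (toUnit _) (𝟙 _), Category.id_comp]

variable [IsAlgClosed K] [LocallyOfFiniteType G.hom]

theorem exists_rational (x : G.left) (hx : IsClosed ({x} : Set G.left)) :
    ∃ r : 𝟙_ (Over (Spec (CommRingCat.of K))) ⟶ G, pt G r = x :=
  ⟨Over.homMk (pointOfClosedPoint G.hom x hx) (pointOfClosedPoint_comp G.hom x hx),
    pointOfClosedPoint_apply G.hom x hx _⟩

theorem exists_affine_in_comp {n : ℕ} (g : Fin n → G.left)
    (hg : ∀ i, IsClosed ({g i} : Set G.left)) (C : Set G.left)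
    (hC : C ∈ irreducibleComponents G.left) :
    ∃ U : G.left.Opens, IsAffineOpen U ∧ (U : Set G.left) ⊆ C ∧ ∀ i, g i ∈ C → g i ∈ U := by
  classical
  by_cases hne : ∃ i, g i ∈ C
  swap
  · exact ⟨⊥, isAffineOpen_bot _, by simp, fun i hi => (hne ⟨i, hi⟩).elim⟩
  obtain ⟨i₀, hi₀⟩ := hne
  have hLN : IsLocallyNoetherian G.left := LocallyOfFiniteType.isLocallyNoetherian G.hom
  have hJ : JacobsonSpace G.left := LocallyOfFiniteType.jacobsonSpace G.hom
  have hUC : ∀ x : G.left, UniqueComp G.left x := uniqueComp_point G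
  have hC' : Maximal IsIrreducible C := hC
  choose r hr using fun i => exists_rational G (g i) (hg i)
  obtain ⟨Z₀, hZ₀, heZ₀⟩ := exists_comp_mem (pt G η[G])
  have hZ₀open : IsOpen Z₀ := isOpen_of_mem_irreducibleComponents hUC hZ₀
  obtain ⟨_, ⟨U₀, hU₀, rfl⟩, heU₀, hU₀Z⟩ :=
    G.left.isBasis_affineOpens.exists_subset_of_mem_open heZ₀ hZ₀open
  obtain ⟨O, hOdef⟩ : ∃ O : Fin n → Set G.left,
      ∀ i, O i = (mulLeftIso G (r i)).hom.left ⁻¹' (U₀ : Set G.left) := ⟨_, fun _ => rfl⟩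
  have hOopen : ∀ i, IsOpen (O i) := fun i => by
    rw [hOdef]; exact U₀.2.preimage (mulLeftIso G (r i)).hom.left.continuous
  have hDirr : IsIrreducible (ι[G].left '' C) :=
    hC'.prop.image _ ι[G].left.continuous.continuousOn
  have hwit : ∀ i, g i ∈ C → ((ι[G].left '' C) ∩ O i).Nonempty := by
    intro i hi
    refine ⟨ι[G].left (g i), ⟨g i, hi, rfl⟩, ?_⟩
    rw [hOdef]
    show (mulLeftIso G (r i)).hom.left (ι[G].left (g i)) ∈ U₀
    rw [← hr i]
    have h1 : ι[G].left (pt G (r i)) = pt G ((r i)⁻¹) := by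
      rw [iso_pt]; rfl
    rw [h1, iso_pt, comp_mulLeftIso, mul_inv_cancel, one_eq_eta]
    exact heU₀
  obtain ⟨T, hTdef⟩ : ∃ T : Finset (Set G.left),
      T = (Finset.univ.filter (fun i => g i ∈ C)).image O := ⟨_, rfl⟩
  have hTopen : ∀ u ∈ T, IsOpen u := by
    intro u hu
    rw [hTdef] at hu
    obtain ⟨i, -, rfl⟩ := Finset.mem_image.mp hu
    exact hOopen i
  have hTne : ∀ u ∈ T, ((ι[G].left '' C) ∩ u).Nonempty := by
    intro u hu
    rw [hTdef] at hu
    obtain ⟨i, hi, rfl⟩ := Finset.mem_image.mp hu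
    exact hwit i (Finset.mem_filter.mp hi).2
  obtain ⟨w, -, hw⟩ := isIrreducible_iff_sInter.mp hDirr T hTopen hTne
  have hWopen : IsOpen (⋂₀ (T : Set (Set G.left))) := T.finite_toSet.isOpen_sInter hTopen
  obtain ⟨h, hhW, hhcl⟩ := nonempty_inter_closedPoints ⟨w, hw⟩ hWopen.isLocallyClosed
  obtain ⟨a, ha⟩ := exists_rational G h hhcl
  have hmem : ∀ i, g i ∈ C → (GrpObj.mulRight a).hom.left (g i) ∈ U₀ := by
    intro i hi
    have h1 : h ∈ O i := hhW (O i) (by
      rw [hTdef]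
      exact Finset.mem_coe.mpr (Finset.mem_image.mpr
        ⟨i, Finset.mem_filter.mpr ⟨Finset.mem_univ _, hi⟩, rfl⟩))
    rw [hOdef] at h1
    have h2 : (mulLeftIso G (r i)).hom.left h = (GrpObj.mulRight a).hom.left (g i) := by
      rw [← ha, ← hr i, iso_pt, iso_pt, comp_mulLeftIso, comp_mulRight]
    rw [← h2]; exact h1
  have hiso : IsIso (GrpObj.mulRight a).hom.left :=
    (Over.forget _).map_isIso (GrpObj.mulRight a).hom
  refine ⟨(GrpObj.mulRight a).hom.left ⁻¹ᵁ U₀, hU₀.preimage_of_isIso _, ?_, hmem⟩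
  have hCa : ⇑(GrpObj.mulRight a).hom.left ⁻¹' Z₀ ∈ irreducibleComponents G.left :=
    preimage_mem_irreducibleComponents (Scheme.Hom.homeomorph (GrpObj.mulRight a).hom.left) hZ₀
  have : ⇑(GrpObj.mulRight a).hom.left ⁻¹' Z₀ = C :=
    hUC (g i₀) _ hCa C hC (hU₀Z (hmem i₀ hi₀)) hi₀
  rw [← this]
  exact fun x hx => hU₀Z hx

theorem exists_affine_of_closedPoints (n : ℕ) (g : Fin n → G.left)
    (hg : ∀ i, IsClosed ({g i} : Set G.left)) :
    ∃ U : G.left.Opens, IsAffineOpen U ∧ ∀ i, g i ∈ U := by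
  classical
  have hUC := uniqueComp_point G
  have key := fun C hC => exists_affine_in_comp G g hg C hC
  obtain ⟨Uf, hUf⟩ : ∃ Uf : Set G.left → G.left.Opens,
      ∀ C (_ : C ∈ irreducibleComponents G.left), IsAffineOpen (Uf C) ∧
        ((Uf C : G.left.Opens) : Set G.left) ⊆ C ∧ ∀ i, g i ∈ C → g i ∈ Uf C := by
    refine ⟨fun C => if hC : C ∈ irreducibleComponents G.left then
      Classical.choose (key C hC) else ⊥, fun C hC => ?_⟩
    simp only [dif_pos hC]
    exact Classical.choose_spec (key C hC)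
  choose comp hcomp hmem using fun i => exists_comp_mem (g i)
  have hsfin : (Set.range comp).Finite := Set.finite_range comp
  refine ⟨⨆ C ∈ Set.range comp, Uf C,
    IsAffineOpen.biSup_of_disjoint hsfin (fun C hC => ?_) ?_, fun i => ?_⟩
  · obtain ⟨i, rfl⟩ := hC; exact (hUf _ (hcomp i)).1
  · rintro C ⟨i, rfl⟩ C' ⟨j, rfl⟩ hne
    show Disjoint (Uf (comp i)) (Uf (comp j))
    rw [← TopologicalSpace.Opens.coe_disjoint, Set.disjoint_left]
    intro x hx hx'
    exact hne (hUC x _ (hcomp i) _ (hcomp j) ((hUf _ (hcomp i)).2.1 hx)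
      ((hUf _ (hcomp j)).2.1 hx'))
  · have : g i ∈ Uf (comp i) := (hUf _ (hcomp i)).2.2 i (hmem i)
    exact TopologicalSpace.Opens.mem_iSup.mpr
      ⟨comp i, TopologicalSpace.Opens.mem_iSup.mpr ⟨⟨i, rfl⟩, this⟩⟩

end Groth.Agent.H93.GrpAff
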