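import Mathlib
import Groth.Agent.H93.GrpAff
import Groth.Agent.H63.RatPt

/-!
# Closed subsets of a proper scheme over a field contained in an affine open are finite (helper93)
-/

set_option autoImplicit false
set_option linter.style.haveILetI false
universe u
open CategoryTheory CategoryTheory.Limits AlgebraicGeometry MonoidalCategory
  CartesianMonoidalCategory MonObj

namespace Groth.Agent.H93.ClosedAffFin

theorem finite_of_isClosed_subset_affine {k : Type u} [Field k] {X : Scheme.{u}}
    (q : X ⟶ Spec (CommRingCat.of k)) [IsProper q]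
    (U : X.Opens) (hU : IsAffineOpen U) (C : Set X) (hC : IsClosed C)
    (hCU : C ⊆ (U : Set X)) : C.Finite := by
  obtain ⟨I, hI⟩ : ∃ I : X.IdealSheafData,
      I = Scheme.IdealSheafData.vanishingIdeal ⟨C, hC⟩ := ⟨_, rfl⟩
  obtain ⟨i, hi⟩ : ∃ i : I.subscheme ⟶ X, i = I.subschemeι := ⟨_, rfl⟩
  haveI : IsClosedImmersion i := by rw [hi]; infer_instance
  have hrange : Set.range i = C := by
    rw [hi, Scheme.IdealSheafData.range_subschemeι, hI,
      Scheme.IdealSheafData.coe_support_vanishingIdeal]
    rfl
  have hsub : Set.range i ⊆ Set.range U.ι := by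
    rw [hrange, Scheme.Opens.range_ι]; exact hCU
  obtain ⟨j, hj⟩ : ∃ j : I.subscheme ⟶ U.toScheme, j ≫ U.ι = i :=
    ⟨IsOpenImmersion.lift U.ι i hsub, IsOpenImmersion.lift_fac _ _ _⟩
  haveI : IsClosedImmersion (j ≫ U.ι) := by rw [hj]; infer_instance
  haveI : IsClosedImmersion j := IsClosedImmersion.of_comp j U.ι
  haveI : IsAffine U.toScheme := hU
  haveI : IsAffine I.subscheme := isAffine_of_isAffineHom j
  obtain ⟨p, hp⟩ : ∃ p : I.subscheme ⟶ Spec (CommRingCat.of k), p = i ≫ q := ⟨_, rfl⟩
  haveI : IsProper p := by rw [hp]; infer_instance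
  haveI : IsAffineHom p := inferInstance
  haveI : IsFinite p := IsFinite.iff_isProper_and_isAffineHom.mpr ⟨inferInstance, inferInstance⟩
  have hfin : (p ⁻¹' {IsLocalRing.closedPoint k}).Finite := p.finite_preimage_singleton _
  haveI : Subsingleton ↥(Spec (CommRingCat.of k)) :=
    inferInstanceAs (Subsingleton (PrimeSpectrum k))
  have huniv : (p ⁻¹' {IsLocalRing.closedPoint k}) = Set.univ := by
    ext y
    simp only [Set.mem_preimage, Set.mem_univ, iff_true]
    exact Subsingleton.elim _ _
  rw [huniv] at hfin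
  haveI : Finite ↥I.subscheme := Set.finite_univ_iff.mp hfin
  rw [← hrange]
  exact Set.finite_range _

end Groth.Agent.H93.ClosedAffFin
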