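import Groth.Agent.H93.Comod5
import Mathlib.LinearAlgebra.TensorProduct.Basis

/-! Coefficient spaces of comodules over a field (helper93): `coefMap φ = (φ ⊗ id) ∘ ρ : E → C` is
a comodule map to the regular comodule, `coeffSpace k C E = ⨆ φ, range (coefMap φ)` is the least
subspace `D` with `ρ(E) ⊆ E ⊗ D`, it is a subcoalgebra and a right subcomodule of `C`. -/

set_option autoImplicit false
universe u v w w'
open TensorProduct

namespace Groth.Agent.H93

section Lin

variable {k : Type u} [Field k] {V : Type w} [AddCommGroup V] [Module k V]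
  {C : Type v} [AddCommGroup C] [Module k C]

/-- over a field: `range (V ⊗ B → V ⊗ C) = ker (V ⊗ C → V ⊗ C/B)` -/
theorem range_subtype_lTensor_eq_ker (B : Submodule k C) :
    LinearMap.range (B.subtype.lTensor V) = LinearMap.ker (B.mkQ.lTensor V) := by
  have hex : Function.Exact B.subtype B.mkQ := by
    rw [LinearMap.exact_iff, Submodule.ker_mkQ, Submodule.range_subtype]
  exact (LinearMap.exact_iff.mp (Module.Flat.lTensor_exact V hex)).symm

/-- for injective `ι : V → V'`: `(ι ⊗ id) x ∈ V' ⊗ B → x ∈ V ⊗ B` -/
theorem mem_range_subtype_lTensor_of_rTensor {V' : Type w'} [AddCommGroup V'] [Module k V']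
    (ι : V →ₗ[k] V') (hι : Function.Injective ι) (B : Submodule k C) (x : V ⊗[k] C)
    (hx : ι.rTensor C x ∈ LinearMap.range (B.subtype.lTensor V')) :
    x ∈ LinearMap.range (B.subtype.lTensor V) := by
  rw [range_subtype_lTensor_eq_ker] at hx ⊢
  rw [LinearMap.mem_ker] at hx ⊢
  have hinj : Function.Injective (ι.rTensor (C ⧸ B)) :=
    Module.Flat.rTensor_preserves_injective_linearMap ι hι
  apply hinj
  rw [map_zero, ← hx]
  have h1 : (ι.rTensor (C ⧸ B)) ∘ₗ (B.mkQ.lTensor V) = (B.mkQ.lTensor V') ∘ₗ (ι.rTensor C) := by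
    rw [LinearMap.rTensor_comp_lTensor, LinearMap.lTensor_comp_rTensor]
  exact LinearMap.congr_fun h1 x

/-- left coefficient criterion -/
theorem mem_range_lTensor_iff_forall (B : Submodule k C) (x : V ⊗[k] C) :
    x ∈ LinearMap.range (B.subtype.lTensor V) ↔
      ∀ φ : V →ₗ[k] k, TensorProduct.lid k C (φ.rTensor C x) ∈ B := by
  classical
  constructor
  · rintro ⟨y, rfl⟩ φ
    induction y using TensorProduct.induction_on with
    | zero => simp
    | tmul v b =>
      simp only [LinearMap.lTensor_tmul, LinearMap.rTensor_tmul, TensorProduct.lid_tmul,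
        Submodule.subtype_apply]
      exact B.smul_mem _ b.2
    | add y y' hy hy' =>
      simp only [map_add]
      exact B.add_mem hy hy'
  · intro h
    let b := Module.Basis.ofVectorSpace k V
    have hx : x = (TensorProduct.equivFinsuppOfBasisLeft b x).sum (fun i c => b i ⊗ₜ[k] c) := by
      rw [← TensorProduct.equivFinsuppOfBasisLeft_symm_apply, LinearEquiv.symm_apply_apply]
    rw [hx]
    apply Submodule.sum_mem
    intro i _
    have hi : TensorProduct.equivFinsuppOfBasisLeft b x i ∈ B := by
      rw [TensorProduct.equivFinsuppOfBasisLeft_apply]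
      exact h _
    exact ⟨b i ⊗ₜ[k] ⟨_, hi⟩, by simp⟩

/-- `(W ⊗ C) ∩ (V ⊗ B) = W ⊗ B` inside `V ⊗ C`, over a field -/
theorem mem_range_map_subtype (W : Submodule k V) (B : Submodule k C) (x : V ⊗[k] C)
    (h1 : x ∈ LinearMap.range (W.subtype.rTensor C))
    (h2 : x ∈ LinearMap.range (B.subtype.lTensor V)) :
    x ∈ LinearMap.range (TensorProduct.map W.subtype B.subtype) := by
  obtain ⟨y, rfl⟩ := h1
  obtain ⟨z, rfl⟩ := mem_range_subtype_lTensor_of_rTensor W.subtype W.injective_subtype B y h2
  refine ⟨z, ?_⟩
  rw [← LinearMap.comp_apply, LinearMap.rTensor_comp_lTensor]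

end Lin

section Coeff

variable {k : Type u} [Field k] {C : Type v} [AddCommGroup C] [Module k C] [Coalgebra k C]
  {E : Type w} [AddCommGroup E] [Module k E] [HopfRep.Comod k C E]

/-- the coefficient map `(φ ⊗ id) ∘ ρ : E → C` -/
noncomputable def coefMap (φ : E →ₗ[k] k) : E →ₗ[k] C :=
  (TensorProduct.lid k C).toLinearMap ∘ₗ φ.rTensor C ∘ₗ HopfRep.Comod.coact (k := k) (A := C)

theorem coefMap_apply (φ : E →ₗ[k] k) (e : E) :
    coefMap (C := C) φ e =
      TensorProduct.lid k C (φ.rTensor C (HopfRep.Comod.coact (k := k) (A := C) e)) := rfl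

/-- the coefficient map is a comodule map to the regular comodule -/
theorem isComodHom_coefMap (φ : E →ₗ[k] k) : Hoch.IsComodHom C (coefMap (C := C) φ) := by
  unfold Hoch.IsComodHom
  ext e
  simp only [LinearMap.comp_apply]
  change CoalgebraStruct.comul (R := k) (coefMap (C := C) φ e) = _
  have key1 : ∀ x : E ⊗[k] C,
      CoalgebraStruct.comul (R := k) (TensorProduct.lid k C (φ.rTensor C x)) =
        TensorProduct.lid k (C ⊗[k] C) (φ.rTensor (C ⊗[k] C)
          ((CoalgebraStruct.comul (R := k) (A := C)).lTensor E x)) := by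
    intro x
    induction x using TensorProduct.induction_on with
    | zero => simp
    | tmul e' c => simp
    | add x y hx hy => simp only [map_add, hx, hy]
  have key2 : ∀ y : (E ⊗[k] C) ⊗[k] C,
      TensorProduct.lid k (C ⊗[k] C) (φ.rTensor (C ⊗[k] C) (TensorProduct.assoc k E C C y)) =
        ((TensorProduct.lid k C).toLinearMap ∘ₗ φ.rTensor C).rTensor C y := by
    intro y
    induction y using TensorProduct.induction_on with
    | zero => simp
    | tmul x c' =>
      induction x using TensorProduct.induction_on with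
      | zero => simp
      | tmul e' c => simp [TensorProduct.smul_tmul']
      | add x y hx hy => simp only [TensorProduct.add_tmul, map_add, hx, hy]
    | add x y hx hy => simp only [map_add, hx, hy]
  rw [coefMap_apply, key1, ← Groth.Agent.H40.coassoc_apply, key2]
  unfold coefMap
  simp only [LinearMap.rTensor_comp, LinearMap.comp_apply]

variable (k C E) in
/-- the coefficient space of a comodule -/
noncomputable def coeffSpace : Submodule k C :=
  ⨆ φ : E →ₗ[k] k, LinearMap.range (coefMap (C := C) φ)

theorem coact_mem_coeffSpace (e : E) :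
    HopfRep.Comod.coact (k := k) (A := C) e ∈
      LinearMap.range ((coeffSpace k C E).subtype.lTensor E) := by
  rw [mem_range_lTensor_iff_forall]
  intro φ
  exact (le_iSup (fun φ : E →ₗ[k] k => LinearMap.range (coefMap (C := C) φ)) φ) ⟨e, rfl⟩

theorem isLeast_coeffSpace :
    IsLeast {D' : Submodule k C | ∀ e : E, HopfRep.Comod.coact (k := k) (A := C) e ∈
      LinearMap.range (LinearMap.lTensor E D'.subtype)} (coeffSpace k C E) := by
  refine ⟨coact_mem_coeffSpace, ?_⟩
  intro D' hD'
  refine iSup_le fun φ => ?_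
  rintro _ ⟨e, rfl⟩
  exact (mem_range_lTensor_iff_forall D' _).mp (hD' e) φ

theorem eq_coeffSpace_of_isLeast {D : Submodule k C}
    (hD : IsLeast {D' : Submodule k C | ∀ e : E, HopfRep.Comod.coact (k := k) (A := C) e ∈
      LinearMap.range (LinearMap.lTensor E D'.subtype)} D) : D = coeffSpace k C E :=
  hD.unique isLeast_coeffSpace

/-- the coefficient space is a right subcomodule (right coideal) of `C` -/
theorem isSubcomod_coeffSpace :
    HopfRep.IsSubcomod (k := k) (A := C) (coeffSpace k C E) :=
  isSubcomod_iSup _ (fun φ => isSubcomod_range (isComodHom_coefMap φ))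

theorem comul_coefMap (φ : E →ₗ[k] k) (e : E) :
    CoalgebraStruct.comul (R := k) (coefMap (C := C) φ e) =
      (coefMap (C := C) φ).rTensor C (HopfRep.Comod.coact (k := k) (A := C) e) :=
  LinearMap.congr_fun (isComodHom_coefMap (C := C) φ) e

/-- the coefficient space is a subcoalgebra -/
theorem comul_mem_coeffSpace {b : C} (hb : b ∈ coeffSpace k C E) :
    CoalgebraStruct.comul (R := k) b ∈ LinearMap.range
      (TensorProduct.map (coeffSpace k C E).subtype (coeffSpace k C E).subtype) := by
  apply mem_range_map_subtype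
  · exact isSubcomod_coeffSpace (E := E) b hb
  · refine Submodule.iSup_induction _ (motive := fun b => CoalgebraStruct.comul (R := k) b ∈
      LinearMap.range ((coeffSpace k C E).subtype.lTensor C)) hb ?_ ?_ ?_
    · rintro φ _ ⟨e, rfl⟩
      obtain ⟨t, ht⟩ := coact_mem_coeffSpace (k := k) (C := C) e
      rw [comul_coefMap, ← ht, ← LinearMap.comp_apply, LinearMap.rTensor_comp_lTensor,
        ← LinearMap.lTensor_comp_rTensor, LinearMap.comp_apply]
      exact ⟨_, rfl⟩
    · rw [map_zero]; exact zero_mem _
    · intro x y hx hy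
      rw [map_add]; exact add_mem hx hy

theorem coeffSpace_ne_bot [Nontrivial E] : coeffSpace k C E ≠ ⊥ := by
  intro h
  obtain ⟨e, he⟩ := exists_ne (0 : E)
  apply he
  obtain ⟨t, ht⟩ := coact_mem_coeffSpace (k := k) (C := C) e
  have h0 : (coeffSpace k C E).subtype = 0 := by
    ext x
    have hx : (x : C) ∈ (⊥ : Submodule k C) := (le_of_eq h) x.2
    exact (Submodule.mem_bot k).mp hx
  have h1 : HopfRep.Comod.coact (k := k) (A := C) e = 0 := by
    rw [← ht, h0, LinearMap.lTensor_zero, LinearMap.zero_apply]
  rw [← Groth.Agent.H40.contr_counit_coact (k := k) (C := C) e]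
  show Groth.Agent.H40.contr E _ (HopfRep.Comod.coact (k := k) (A := C) e) = 0
  rw [h1, map_zero]

/-- `coefMap` as a linear map in `φ` -/
noncomputable def coefMapₗ : (E →ₗ[k] k) →ₗ[k] (E →ₗ[k] C) where
  toFun := coefMap (C := C)
  map_add' φ ψ := by
    ext e
    simp [coefMap, LinearMap.rTensor_add]
  map_smul' c φ := by
    ext e
    simp [coefMap, LinearMap.rTensor_smul]

theorem coeffSpace_eq_range_lift :
    coeffSpace k C E = LinearMap.range (TensorProduct.lift (coefMapₗ (k := k) (C := C) (E := E))) := by
  apply le_antisymm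
  · refine iSup_le fun φ => ?_
    rintro _ ⟨e, rfl⟩
    exact ⟨φ ⊗ₜ[k] e, by rw [TensorProduct.lift.tmul]; rfl⟩
  · rintro _ ⟨t, rfl⟩
    induction t using TensorProduct.induction_on with
    | zero => rw [map_zero]; exact zero_mem _
    | tmul φ e =>
      rw [TensorProduct.lift.tmul]
      exact (le_iSup (fun φ : E →ₗ[k] k => LinearMap.range (coefMap (C := C) φ)) φ) ⟨e, rfl⟩
    | add x y hx hy => rw [map_add]; exact add_mem hx hy

/-- the coefficient space of a finite-dimensional comodule is finite-dimensional -/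
theorem finite_coeffSpace [Module.Finite k E] : Module.Finite k (coeffSpace k C E) := by
  rw [coeffSpace_eq_range_lift]
  exact Module.Finite.range _

end Coeff

end Groth.Agent.H93
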