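import Groth.Agent.H93.Thick

/-!
# Finite generation of inverse image ideals on nested affine opens
-/

set_option autoImplicit false
universe u

namespace Groth.Agent.H93.ComapFG

open AlgebraicGeometry CategoryTheory CategoryTheory.Limits

lemma comap_inv_eq_map {P R : CommRingCat.{u}} (e : P ≅ R) (I : Ideal P) :
    I.comap e.inv.hom = I.map e.hom.hom := by
  have h := Ideal.comap_symm (I := I) e.commRingCatIsoToRingEquiv
  exact h

lemma fg_comap_iso_inv_iff {P R : CommRingCat.{u}} (e : P ≅ R) (I : Ideal P) :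
    (I.comap e.inv.hom).FG ↔ I.FG := by
  rw [comap_inv_eq_map]
  constructor
  · intro hfg
    have h2 := hfg.map e.inv.hom
    rwa [Ideal.map_map, ← CommRingCat.hom_comp, e.hom_inv_id, CommRingCat.hom_id,
      Ideal.map_id] at h2
  · intro hfg
    exact hfg.map _

lemma fg_ideal_iff_top {Z : Scheme.{u}} (J : Z.IdealSheafData) (W : Z.affineOpens)
    [IsAffine ↑W.1] :
    (J.ideal W).FG ↔ ((J.comap W.1.ι).ideal ⟨⊤, isAffineOpen_top _⟩).FG := by
  rw [Scheme.IdealSheafData.ideal_comap_of_isOpenImmersion, fg_comap_iso_inv_iff]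
  have e : ∀ hp, (⟨W.1.ι ''ᵁ ⊤, hp⟩ : Z.affineOpens) = W :=
    fun _ => Subtype.ext (Scheme.Opens.ι_image_top _)
  have key : ∀ W' : Z.affineOpens, W' = W → ((J.ideal W).FG ↔ (J.ideal W').FG) := by
    rintro W' rfl
    exact Iff.rfl
  exact key _ (e _)

/-- On nested affine opens the inverse image of a finitely generated ideal is finitely generated. -/
lemma fg_ideal_comap {X Y : Scheme.{u}} (f : X ⟶ Y) (K : Y.IdealSheafData) (U : Y.affineOpens)
    (V : X.affineOpens) (hVU : V.1 ≤ f ⁻¹ᵁ U.1) (hK : (K.ideal U).FG) :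
    ((K.comap f).ideal V).FG := by
  have : IsAffine ↑V.1 := V.2
  have : IsAffine ↑U.1 := U.2
  have hfac : V.1.ι ≫ f = f.resLE U.1 V.1 hVU ≫ U.1.ι := (Scheme.Hom.resLE_comp_ι f hVU).symm
  rw [fg_ideal_iff_top (K.comap f) V, ← Scheme.IdealSheafData.comap_comp, hfac,
    Scheme.IdealSheafData.comap_comp, IdealComap.ideal_top_comap]
  apply Ideal.FG.map
  rw [← fg_ideal_iff_top K U]
  exact hK

end Groth.Agent.H93.ComapFG
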