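import Groth.Agent.H93.Comod2
import Mathlib.RingTheory.Coalgebra.Hom

/-! Corestriction of comodules along a coalgebra map (helper93). -/

set_option autoImplicit false
universe u v v' w w'
open TensorProduct

namespace Groth.Agent.H93

section

variable {k : Type u} [Field k]
variable {C : Type v} [AddCommGroup C] [Module k C] [Coalgebra k C]
variable {D : Type v'} [AddCommGroup D] [Module k D] [Coalgebra k D]
variable (V : Type w) [AddCommGroup V] [Module k V]

theorem assoc_threefold (i : C →ₗ[k] D) :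
    (TensorProduct.assoc k V D D).toLinearMap ∘ₗ ((i.lTensor V).rTensor D) ∘ₗ (i.lTensor (V ⊗[k] C)) =
      (TensorProduct.map i i).lTensor V ∘ₗ (TensorProduct.assoc k V C C).toLinearMap := by
  apply TensorProduct.ext_threefold
  intro v c c'
  simp

/-- push a `C`-comodule structure forward along a coalgebra map `i : C → D` -/
@[reducible] noncomputable def comodOfCoalgHom (i : C →ₗc[k] D) [inst : HopfRep.Comod k C V] :
    HopfRep.Comod k D V where
  coact := (i : C →ₗ[k] D).lTensor V ∘ₗ HopfRep.Comod.coact (k := k) (A := C)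
  coassoc := by
    set ρ := HopfRep.Comod.coact (k := k) (A := C) (V := V) with hρ
    have h1 : (((i : C →ₗ[k] D).lTensor V ∘ₗ ρ).rTensor D) ∘ₗ ((i : C →ₗ[k] D).lTensor V) =
        (((i : C →ₗ[k] D).lTensor V).rTensor D) ∘ₗ ((i : C →ₗ[k] D).lTensor (V ⊗[k] C)) ∘ₗ ρ.rTensor C := by
      rw [LinearMap.rTensor_comp, LinearMap.comp_assoc, LinearMap.rTensor_comp_lTensor,
        LinearMap.lTensor_comp_rTensor]
    have h2 := HopfRep.Comod.coassoc (k := k) (A := C) (V := V)
    have h1' : ∀ x : V ⊗[k] C, (((i : C →ₗ[k] D).lTensor V ∘ₗ ρ).rTensor D) (((i : C →ₗ[k] D).lTensor V) x) =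
        (((i : C →ₗ[k] D).lTensor V).rTensor D) (((i : C →ₗ[k] D).lTensor (V ⊗[k] C)) (ρ.rTensor C x)) :=
      fun x => LinearMap.congr_fun h1 x
    have h3 : ∀ y : (V ⊗[k] C) ⊗[k] C, (TensorProduct.assoc k V D D)
        ((((i : C →ₗ[k] D).lTensor V).rTensor D) (((i : C →ₗ[k] D).lTensor (V ⊗[k] C)) y)) =
        (TensorProduct.map (i : C →ₗ[k] D) (i : C →ₗ[k] D)).lTensor V ((TensorProduct.assoc k V C C) y) :=
      fun y => LinearMap.congr_fun (assoc_threefold V (i : C →ₗ[k] D)) y
    have h2' : ∀ v : V, (TensorProduct.assoc k V C C) (ρ.rTensor C (ρ v)) =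
        (CoalgebraStruct.comul (R := k) (A := C)).lTensor V (ρ v) :=
      fun v => LinearMap.congr_fun h2 v
    have h4 : ∀ z : V ⊗[k] C, (TensorProduct.map (i : C →ₗ[k] D) (i : C →ₗ[k] D)).lTensor V
        ((CoalgebraStruct.comul (R := k) (A := C)).lTensor V z) =
        (CoalgebraStruct.comul (R := k) (A := D)).lTensor V (((i : C →ₗ[k] D).lTensor V) z) := by
      intro z
      rw [← LinearMap.comp_apply, ← LinearMap.lTensor_comp, CoalgHomClass.map_comp_comul,
        LinearMap.lTensor_comp, LinearMap.comp_apply]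
    ext v
    simp only [LinearMap.comp_apply, LinearEquiv.coe_coe]
    rw [h1', h3, h2', h4]
  counit_comp := by
    rw [← LinearMap.comp_assoc, ← LinearMap.lTensor_comp, CoalgHomClass.counit_comp]
    exact HopfRep.Comod.counit_comp (k := k) (A := C) (V := V)

theorem isSubcomod_comodOfCoalgHom (i : C →ₗc[k] D) [inst : HopfRep.Comod k C V]
    (W : Submodule k V) (hW : HopfRep.IsSubcomod (k := k) (A := C) W) :
    @HopfRep.IsSubcomod k D _ _ _ _ V _ _ (comodOfCoalgHom V i) W := by
  intro w hw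
  obtain ⟨y, hy⟩ := hW w hw
  change (i : C →ₗ[k] D).lTensor V (HopfRep.Comod.coact (k := k) (A := C) w) ∈ _
  rw [← hy]
  refine ⟨(i : C →ₗ[k] D).lTensor W y, ?_⟩
  have : (W.subtype.rTensor D) ∘ₗ ((i : C →ₗ[k] D).lTensor W) =
      ((i : C →ₗ[k] D).lTensor V) ∘ₗ (W.subtype.rTensor C) := by
    rw [LinearMap.rTensor_comp_lTensor, LinearMap.lTensor_comp_rTensor]
  exact LinearMap.congr_fun this y

end

end Groth.Agent.H93
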