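import Groth.Agent.H93.FlatColon
import Mathlib.RingTheory.Nakayama
import Mathlib.RingTheory.Artinian.Ring
import Mathlib.RingTheory.HopkinsLevitzki
import Mathlib.RingTheory.LocalRing.MaximalIdeal.Basic
import Mathlib.RingTheory.Flat.Basic

/-! Endomorphisms of a deformation of a module with only scalar endomorphisms (helper93). -/

set_option autoImplicit false
universe u v w w'

namespace Groth.Agent.H93

theorem endo_scalar
    {K : Type u} [Field K]
    {D : Type v} [Ring D] [Algebra K D]
    {E : Type w} [AddCommGroup E] [Module K E] [Module D E] [IsScalarTower K D E] [Nontrivial E]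
    (hE : ∀ ψ : E →ₗ[D] E, ∃ c : K, ∀ y : E, ψ y = c • y)
    {R : Type u} [CommRing R] [Algebra K R] [IsLocalRing R] [IsArtinianRing R]
    (res : R →ₐ[K] K) (hres : ∀ a : R, a ∈ IsLocalRing.maximalIdeal R ↔ res a = 0)
    {F : Type w'} [AddCommGroup F] [Module K F] [Module R F] [Module D F]
    [IsScalarTower K R F] [IsScalarTower K D F] [SMulCommClass R D F] [Module.Flat R F]
    (θ : F →ₗ[D] E) (hθ : ∀ (r : R) (x : F), θ (r • x) = res r • θ x)
    (hsurj : Function.Surjective θ)
    (hker : ∀ x : F, θ x = 0 ↔ x ∈ IsLocalRing.maximalIdeal R • (⊤ : Submodule R F))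
    (φ : F →ₗ[R] F) (hφ : ∀ (d : D) (x : F), φ (d • x) = d • φ x) :
    ∃! r : R, ∀ x : F, φ x = r • x := by
  classical
  haveI : SMulCommClass D R F := SMulCommClass.symm R D F
  set m := IsLocalRing.maximalIdeal R with hm
  have hFne : ∃ z : F, z ∉ m • (⊤ : Submodule R F) := by
    obtain ⟨e, he⟩ := exists_ne (0 : E)
    obtain ⟨z, rfl⟩ := hsurj e
    exact ⟨z, fun hz => he ((hker z).mpr hz)⟩
  have hDstable : ∀ (I : Ideal R) (d : D) (y : F), y ∈ I • (⊤ : Submodule R F) →
      d • y ∈ I • (⊤ : Submodule R F) := by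
    intro I d y hy
    induction hy using Submodule.smul_induction_on' with
    | smul r hr n _ => rw [smul_comm]; exact Submodule.smul_mem_smul hr Submodule.mem_top
    | add x _ y _ hx hy => rw [smul_add]; exact add_mem hx hy
  have step : ∀ I₀ : Ideal R, I₀ ≠ ⊥ → (∃ r : R, ∀ x, φ x - r • x ∈ I₀ • (⊤ : Submodule R F)) →
      ∃ I' : Ideal R, I' < I₀ ∧ ∃ r : R, ∀ x, φ x - r • x ∈ I' • (⊤ : Submodule R F) := by
    rintro I₀ hI₀ne ⟨r₀, hr₀⟩
    let s' : Set (Ideal R) := {I' | I' < I₀}
    have hs' : s'.Nonempty := ⟨⊥, bot_lt_iff_ne_bot.mpr hI₀ne⟩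
    obtain ⟨I', hI'mem, hmax⟩ :=
      (wellFounded_gt : WellFounded ((· > ·) : Ideal R → Ideal R → Prop)).has_min s' hs'
    have hI'lt : I' < I₀ := hI'mem
    obtain ⟨t, htI₀, htI'⟩ := SetLike.exists_of_lt hI'lt
    have hsup : I' ⊔ Ideal.span {t} = I₀ := by
      have hle : I' ⊔ Ideal.span {t} ≤ I₀ :=
        sup_le hI'lt.le ((Ideal.span_singleton_le_iff_mem _).mpr htI₀)
      by_contra hne
      have hlt : I' ⊔ Ideal.span {t} < I₀ := lt_of_le_of_ne hle hne
      apply hmax _ hlt
      refine lt_of_le_of_ne le_sup_left ?_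
      intro h
      apply htI'
      rw [h]
      exact Ideal.mem_sup_right (Ideal.mem_span_singleton_self t)
    have hmI₀ : m • I₀ ≤ I' := by
      have hle : I' ⊔ m • I₀ ≤ I₀ := sup_le hI'lt.le Submodule.smul_le_right
      rcases eq_or_lt_of_le hle with heq | hlt
      · exfalso
        have : I₀ ≤ I' := Submodule.le_of_le_smul_of_le_jacobson_bot (IsNoetherian.noetherian I₀)
          (IsLocalRing.maximalIdeal_le_jacobson ⊥) (by rw [heq])
        exact absurd hI'lt (not_lt_of_ge this)
      · by_contra hnot
        apply hmax _ hlt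
        refine lt_of_le_of_ne le_sup_left ?_
        intro h
        apply hnot
        rw [h]; exact le_sup_right
    have hmt : ∀ a ∈ m, a * t ∈ I' := fun a ha => hmI₀ (Submodule.smul_mem_smul ha htI₀)
    have hcolon : ∀ a : R, t * a ∈ I' → a ∈ m := by
      intro a ha
      by_contra hna
      have hunit : IsUnit a := by
        rw [hm, IsLocalRing.mem_maximalIdeal, mem_nonunits_iff, not_not] at hna
        exact hna
      obtain ⟨u, rfl⟩ := hunit
      apply htI'
      have := I'.mul_mem_right (↑u⁻¹ : R) ha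
      rwa [mul_assoc, Units.mul_inv, mul_one] at this
    have hdecomp : ∀ x : F, ∃ z : F, φ x - r₀ • x - t • z ∈ I' • (⊤ : Submodule R F) := by
      intro x
      have := hr₀ x
      rw [← hsup, Submodule.sup_smul, Submodule.mem_sup] at this
      obtain ⟨y', hy', y'', hy'', hsum⟩ := this
      rw [Submodule.ideal_span_singleton_smul, Submodule.mem_smul_pointwise_iff_exists] at hy''
      obtain ⟨z, -, rfl⟩ := hy''
      refine ⟨z, ?_⟩
      rw [← hsum, add_sub_cancel_right]
      exact hy'
    choose zf hzf using hdecomp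
    have hwd : ∀ (x z : F), φ x - r₀ • x - t • z ∈ I' • (⊤ : Submodule R F) → θ z = θ (zf x) := by
      intro x z hz
      have h1 : t • (zf x - z) ∈ I' • (⊤ : Submodule R F) := by
        have := sub_mem hz (hzf x)
        convert this using 1
        rw [smul_sub]; abel
      have h2 := mem_smul_top_of_smul_mem_of_flat I' m t hcolon h1
      have h3 := (hker _).mpr h2
      rw [map_sub, sub_eq_zero] at h3
      exact h3.symm
    have hg_add : ∀ x₁ x₂, θ (zf (x₁ + x₂)) = θ (zf x₁) + θ (zf x₂) := by
      intro x₁ x₂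
      rw [← map_add]
      symm
      apply hwd
      have := add_mem (hzf x₁) (hzf x₂)
      convert this using 1
      rw [map_add, smul_add, smul_add]; abel
    have hg_smulD : ∀ (d : D) x, θ (zf (d • x)) = d • θ (zf x) := by
      intro d x
      rw [← map_smul]
      symm
      apply hwd
      have := hDstable I' d _ (hzf x)
      convert this using 1
      rw [hφ, smul_sub, smul_sub, smul_comm d r₀ x, smul_comm d t (zf x)]
    have hg_m : ∀ x ∈ m • (⊤ : Submodule R F), θ (zf x) = 0 := by
      intro x hx
      induction hx using Submodule.smul_induction_on' with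
      | smul a ha n _ =>
        have : θ (a • zf n) = θ (zf (a • n)) := by
          apply hwd
          have := Submodule.smul_mem (I' • (⊤ : Submodule R F)) a (hzf n)
          convert this using 1
          rw [map_smul, smul_sub, smul_sub, smul_comm a r₀ n, smul_comm a t (zf n)]
        rw [← this, hθ, (hres a).mp ha, zero_smul]
      | add x _ y _ hx hy => rw [hg_add, hx, hy, add_zero]
    let σ : E → F := Function.surjInv hsurj
    have hσ : ∀ e, θ (σ e) = e := Function.surjInv_eq hsurj
    have hg_θ : ∀ x₁ x₂, θ x₁ = θ x₂ → θ (zf x₁) = θ (zf x₂) := by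
      intro x₁ x₂ h
      have h0 : θ (x₁ - x₂) = 0 := by rw [map_sub, h, sub_self]
      have h1 := hg_m _ ((hker _).mp h0)
      have : x₁ = (x₁ - x₂) + x₂ := by abel
      rw [this, hg_add, h1, zero_add]
    let ψbar : E →ₗ[D] E :=
      { toFun := fun e => θ (zf (σ e))
        map_add' := fun e₁ e₂ => by
          rw [← hg_add]
          apply hg_θ
          rw [hσ, map_add, hσ, hσ]
        map_smul' := fun d e => by
          simp only [RingHom.id_apply]
          rw [← hg_smulD]
          apply hg_θ
          rw [hσ, map_smul, hσ] }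
    obtain ⟨c, hc⟩ := hE ψbar
    have hgc : ∀ x, θ (zf x) = c • θ x := by
      intro x
      have := hc (θ x)
      rw [← this]
      show θ (zf x) = θ (zf (σ (θ x)))
      apply hg_θ
      rw [hσ]
    refine ⟨I', hI'lt, r₀ + algebraMap K R c * t, fun x => ?_⟩
    have h1 : zf x - (algebraMap K R c) • x ∈ m • (⊤ : Submodule R F) := by
      apply (hker _).mp
      rw [map_sub, hθ, hgc, AlgHom.commutes, Algebra.algebraMap_self, RingHom.id_apply, sub_self]
    have h2 : t • (zf x - (algebraMap K R c) • x) ∈ I' • (⊤ : Submodule R F) := by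
      generalize zf x - (algebraMap K R c) • x = y at h1
      induction h1 using Submodule.smul_induction_on' with
      | smul a ha n _ =>
        rw [smul_smul, mul_comm]; exact Submodule.smul_mem_smul (hmt a ha) Submodule.mem_top
      | add x _ y _ hx hy => rw [smul_add]; exact add_mem hx hy
    have := add_mem (hzf x) h2
    convert this using 1
    rw [add_smul, mul_smul, smul_sub, smul_comm t (algebraMap K R c) x]
    abel
  have hex : ∃ r : R, ∀ x, φ x - r • x ∈ (⊥ : Ideal R) • (⊤ : Submodule R F) := by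
    let s : Set (Ideal R) := {I | ∃ r : R, ∀ x, φ x - r • x ∈ I • (⊤ : Submodule R F)}
    have hs : s.Nonempty := ⟨⊤, 0, fun x => by simp⟩
    obtain ⟨I₀, hI₀, hmin⟩ :=
      (wellFounded_lt : WellFounded ((· < ·) : Ideal R → Ideal R → Prop)).has_min s hs
    by_contra hcon
    have hI₀ne : I₀ ≠ ⊥ := by rintro rfl; exact hcon hI₀
    obtain ⟨I', hlt, hI'⟩ := step I₀ hI₀ne hI₀
    exact hmin I' hI' hlt
  obtain ⟨r, hr⟩ := hex
  refine ⟨r, fun x => ?_, ?_⟩
  · have := hr x
    rw [Submodule.bot_smul, Submodule.mem_bot, sub_eq_zero] at this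
    exact this
  · intro r' hr'
    by_contra hne
    obtain ⟨z, hz⟩ := hFne
    apply hz
    have hr0 : ∀ x, φ x = r • x := fun x => by
      have := hr x
      rw [Submodule.bot_smul, Submodule.mem_bot, sub_eq_zero] at this
      exact this
    have h0 : (r' - r) • z ∈ (⊥ : Ideal R) • (⊤ : Submodule R F) := by
      rw [sub_smul, ← hr', ← hr0, sub_self]; exact zero_mem _
    refine mem_smul_top_of_smul_mem_of_flat ⊥ m (r' - r) ?_ h0
    intro a ha
    by_contra hna
    have hunit : IsUnit a := by
      rw [hm, IsLocalRing.mem_maximalIdeal, mem_nonunits_iff, not_not] at hna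
      exact hna
    obtain ⟨u, rfl⟩ := hunit
    rw [Ideal.mem_bot] at ha
    have : r' - r = 0 := by
      have := congrArg (· * (↑u⁻¹ : R)) ha
      simpa [mul_assoc] using this
    exact hne (sub_eq_zero.mp this)

end Groth.Agent.H93
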