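import Groth.Agent.H1.SplitTori.Full
import Groth.Agent.H22.MR_Pts

/-!
# H93/DiagDS: the Hopf-algebra group `Spec R[M]` is isomorphic, as a group, to `D_{Spec R}(M)`.
-/

set_option autoImplicit false
universe u
open CategoryTheory CategoryTheory.Limits MonoidalCategory CartesianMonoidalCategory MonObj GrpObj AlgebraicGeometry
open TensorProduct

namespace Groth.Agent.H93.DiagDS
open Groth.Agent.H1.SplitTori
open Groth.Agent.H27.DiagHom (cst)

variable (R : Type u) [CommRing R] (M : Type) [AddCommGroup M]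

/-- the isomorphism of `Spec R`-schemes `Spec R[M] ≅ D_{Spec R}(M)`. -/
noncomputable def eD : Red.diag R M ≅ Red.DS (Spec (CommRingCat.of R)) M :=
  Over.isoMk (eN R M) (eN_hom_snd R M)

variable {R M}

/-- the character `m` evaluated at a point of `Spec R[M]`. -/
noncomputable def cm {T : Over (Spec (CommRingCat.of R))} (x : T ⟶ Red.diag R M) (m : M) :
    Γ(T.left, ⊤) :=
  x.left.appTop ((Scheme.ΓSpecIso (CommRingCat.of (MonoidAlgebra R (Multiplicative M)))).inv
    (MonoidAlgebra.single (Multiplicative.ofAdd m) 1))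

theorem ev_comp_eD {T : Over (Spec (CommRingCat.of R))} (x : T ⟶ Red.diag R M) (m : M) :
    ev (x ≫ (eD R M).hom) m = cm x m := by
  unfold ev cm
  have h1 : (x ≫ (eD R M).hom).left ≫ pullback.fst _ _ =
      x.left ≫ Spec.map (CommRingCat.ofHom
        (MonoidAlgebra.mapRingHom (Multiplicative M) (cst R))) := by
    rw [Over.comp_left, Category.assoc]
    congr 1
    exact eN_hom_fst R M
  rw [h1]
  have h2 := Scheme.Hom.comp_appTop (X := T.left)
    (Y := Spec (CommRingCat.of (MonoidAlgebra R (Multiplicative M))))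
    (Z := Spec (CommRingCat.of (MonoidAlgebra (ULift.{u} ℤ) (Multiplicative M)))) x.left
    (Spec.map (CommRingCat.ofHom (MonoidAlgebra.mapRingHom (Multiplicative M) (cst R))))
  refine (congrArg (fun ψ => ψ.hom ((Scheme.ΓSpecIso (CommRingCat.of
    (MonoidAlgebra (ULift.{u} ℤ) (Multiplicative M)))).inv
      (MonoidAlgebra.single (Multiplicative.ofAdd m) 1))) h2).trans ?_
  show x.left.appTop ((Spec.map (CommRingCat.ofHom
    (MonoidAlgebra.mapRingHom (Multiplicative M) (cst R)))).appTop _) = _
  rw [specMap_appTop_inv]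
  congr 2
  simp

theorem appTop_comp_specMap {Z : Scheme.{u}} {A B : CommRingCat.{u}} (l : Z ⟶ Spec B) (φ : A ⟶ B)
    (a : A) : (l ≫ Spec.map φ).appTop ((Scheme.ΓSpecIso A).inv a) =
      l.appTop ((Scheme.ΓSpecIso B).inv (φ a)) := by
  rw [Scheme.Hom.comp_appTop, CommRingCat.comp_apply, specMap_appTop_inv]

theorem cm_mul {T : Over (Spec (CommRingCat.of R))} (p q : T ⟶ Red.diag R M) (m : M) :
    cm (p * q) m = cm p m * cm q m := by
  obtain ⟨l, hl⟩ : ∃ l : T.left ⟶ Spec (CommRingCat.of
      (MonoidAlgebra R (Multiplicative M) ⊗[R] MonoidAlgebra R (Multiplicative M))),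
      l = (lift p q).left ≫ (pullbackSpecIso R (MonoidAlgebra R (Multiplicative M))
        (MonoidAlgebra R (Multiplicative M))).hom := ⟨_, rfl⟩
  have hpq : (p * q).left = l ≫ Spec.map (CommRingCat.ofHom
      (Bialgebra.comulAlgHom R (MonoidAlgebra R (Multiplicative M))).toRingHom) := by
    rw [hl]
    rfl
  have hfst : l ≫ Spec.map (CommRingCat.ofHom (Algebra.TensorProduct.includeLeftRingHom :
      MonoidAlgebra R (Multiplicative M) →+*
        MonoidAlgebra R (Multiplicative M) ⊗[R] MonoidAlgebra R (Multiplicative M))) = p.left := by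
    rw [hl, Category.assoc]
    erw [pullbackSpecIso_hom_fst]
    exact congrArg (fun z => z.left) (lift_fst p q)
  have hsnd : l ≫ Spec.map (CommRingCat.ofHom (RingHomClass.toRingHom
      (Algebra.TensorProduct.includeRight : MonoidAlgebra R (Multiplicative M) →ₐ[R]
        MonoidAlgebra R (Multiplicative M) ⊗[R] MonoidAlgebra R (Multiplicative M)))) = q.left := by
    rw [hl, Category.assoc]
    erw [pullbackSpecIso_hom_snd]
    exact congrArg (fun z => z.left) (lift_snd p q)
  have e0 : cm (p * q) m = l.appTop ((Scheme.ΓSpecIso _).inv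
      ((Bialgebra.comulAlgHom R (MonoidAlgebra R (Multiplicative M)))
        (MonoidAlgebra.single (Multiplicative.ofAdd m) 1))) :=
    (congrArg (fun f : T.left ⟶ Spec (CommRingCat.of (MonoidAlgebra R (Multiplicative M))) =>
      f.appTop ((Scheme.ΓSpecIso (CommRingCat.of (MonoidAlgebra R (Multiplicative M)))).inv
        (MonoidAlgebra.single (Multiplicative.ofAdd m) 1))) hpq).trans
      (appTop_comp_specMap l _ _)
  have e1 : cm p m = l.appTop ((Scheme.ΓSpecIso _).inv
      ((Algebra.TensorProduct.includeLeftRingHom : MonoidAlgebra R (Multiplicative M) →+*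
        MonoidAlgebra R (Multiplicative M) ⊗[R] MonoidAlgebra R (Multiplicative M))
        (MonoidAlgebra.single (Multiplicative.ofAdd m) 1))) :=
    (congrArg (fun f : T.left ⟶ Spec (CommRingCat.of (MonoidAlgebra R (Multiplicative M))) =>
      f.appTop ((Scheme.ΓSpecIso (CommRingCat.of (MonoidAlgebra R (Multiplicative M)))).inv
        (MonoidAlgebra.single (Multiplicative.ofAdd m) 1))) hfst.symm).trans
      (appTop_comp_specMap l _ _)
  have e2 : cm q m = l.appTop ((Scheme.ΓSpecIso _).inv
      ((Algebra.TensorProduct.includeRight : MonoidAlgebra R (Multiplicative M) →ₐ[R]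
        MonoidAlgebra R (Multiplicative M) ⊗[R] MonoidAlgebra R (Multiplicative M))
        (MonoidAlgebra.single (Multiplicative.ofAdd m) 1))) :=
    (congrArg (fun f : T.left ⟶ Spec (CommRingCat.of (MonoidAlgebra R (Multiplicative M))) =>
      f.appTop ((Scheme.ΓSpecIso (CommRingCat.of (MonoidAlgebra R (Multiplicative M)))).inv
        (MonoidAlgebra.single (Multiplicative.ofAdd m) 1))) hsnd.symm).trans
      (appTop_comp_specMap l _ _)
  have hcomul : (Bialgebra.comulAlgHom R (MonoidAlgebra R (Multiplicative M)))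
      (MonoidAlgebra.single (Multiplicative.ofAdd m) 1) =
      (Algebra.TensorProduct.includeLeftRingHom : MonoidAlgebra R (Multiplicative M) →+*
        MonoidAlgebra R (Multiplicative M) ⊗[R] MonoidAlgebra R (Multiplicative M))
        (MonoidAlgebra.single (Multiplicative.ofAdd m) 1) *
      (Algebra.TensorProduct.includeRight : MonoidAlgebra R (Multiplicative M) →ₐ[R]
        MonoidAlgebra R (Multiplicative M) ⊗[R] MonoidAlgebra R (Multiplicative M))
        (MonoidAlgebra.single (Multiplicative.ofAdd m) 1) := by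
    simp
  rw [e0, e1, e2, hcomul, map_mul, map_mul]

theorem eD_mul {T : Over (Spec (CommRingCat.of R))} (p q : T ⟶ Red.diag R M) :
    (p * q) ≫ (eD R M).hom = (p ≫ (eD R M).hom) * (q ≫ (eD R M).hom) := by
  apply hom_ext_ev
  intro m
  rw [ev_comp_eD, cm_mul, ← evHom_apply, Groth.Agent.H22.MRPts.evHom_mul, MonoidHom.mul_apply,
    evHom_apply, evHom_apply, ev_comp_eD, ev_comp_eD]

variable (R M) in
/-- (GI) `D(M) = Spec R[M]` (Hopf-algebra group structure) is isomorphic AS A GROUP to `D_S(M)`,
`S = Spec R`. -/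
theorem diag_iso_DS :
    ∃ e : Red.diag R M ≅ Red.DS (Spec (CommRingCat.of R)) M, IsMonHom e.hom := by
  refine ⟨eD R M, ?_⟩
  constructor
  · have h1 := eD_mul (1 : 𝟙_ (Over (Spec (CommRingCat.of R))) ⟶ Red.diag R M) 1
    rw [_root_.mul_one] at h1
    have h2 : (1 : 𝟙_ (Over (Spec (CommRingCat.of R))) ⟶ Red.diag R M) ≫ (eD R M).hom = 1 := by
      have := congrArg (fun z =>
        ((1 : 𝟙_ (Over (Spec (CommRingCat.of R))) ⟶ Red.diag R M) ≫ (eD R M).hom)⁻¹ * z) h1
      simpa using this.symm
    have h3 : (1 : 𝟙_ (Over (Spec (CommRingCat.of R))) ⟶ Red.diag R M) = η[Red.diag R M] := by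
      rw [Hom.one_def]
      simp
    have h4 : (1 : 𝟙_ (Over (Spec (CommRingCat.of R))) ⟶ Red.DS (Spec (CommRingCat.of R)) M) =
        η[Red.DS (Spec (CommRingCat.of R)) M] := by
      rw [Hom.one_def]
      simp
    rw [h3, h4] at h2
    exact h2
  · have h1 := eD_mul (fst (Red.diag R M) (Red.diag R M)) (snd (Red.diag R M) (Red.diag R M))
    rw [Hom.mul_def, Hom.mul_def, lift_fst_snd, Category.id_comp] at h1
    rw [h1, ← lift_fst_comp_snd_comp]

end Groth.Agent.H93.DiagDS
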