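import Groth.Agent.H93.Avoid
import Mathlib.RingTheory.KrullDimension.Basic
import Mathlib.RingTheory.Ideal.MinimalPrime.Noetherian
import Mathlib.AlgebraicGeometry.Morphisms.QuasiCompact

/-!
# Quasi-compact opens of affine schemes with Noetherian local rings of dimension ≤ 1 are affine
-/

set_option autoImplicit false
universe u

namespace Groth.Agent.H93.DimOne

open AlgebraicGeometry CategoryTheory TopologicalSpace Opposite

/-- Near a prime `𝔭` whose local ring is Noetherian of dimension `≤ 1`, the open `⋃ D(f)`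
(`f ∈ F ⊆ 𝔭`) is cut out by a single function. -/
theorem exists_single_eq {A L : Type*} [CommRing A] [CommRing L] [Algebra A L] (𝔭 : Ideal A)
    [𝔭.IsPrime] [IsLocalization.AtPrime L 𝔭] [IsNoetherianRing L] (hdim : ringKrullDim L ≤ 1)
    (F : Finset A) (hF : ∀ f ∈ F, f ∈ 𝔭) :
    ∃ g ∈ Ideal.span (F : Set A), ∃ h : A, h ∉ 𝔭 ∧
      ∀ f ∈ F, ∃ (N : ℕ) (c : A), h * f ^ (N + 1) = c * g := by
  classical
  have hlocal : IsLocalRing L := IsLocalization.AtPrime.isLocalRing L 𝔭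
  have hdim' : Ring.KrullDimLE 1 L := Ring.krullDimLE_iff.mpr hdim
  obtain ⟨s, hs⟩ : ∃ s : Finset (Ideal L), s =
      (minimalPrimes.finite_of_isNoetherianRing L).toFinset.filter
        (fun q => ¬ (Ideal.span (F : Set A)).map (algebraMap A L) ≤ q) := ⟨_, rfl⟩
  have hsmem : ∀ q, q ∈ s ↔ q ∈ minimalPrimes L ∧
      ¬ (Ideal.span (F : Set A)).map (algebraMap A L) ≤ q := by
    intro q
    rw [hs, Finset.mem_filter, Set.Finite.mem_toFinset]
  obtain ⟨gL, hgL, hav⟩ := Avoid.coset_avoid ((Ideal.span (F : Set A)).map (algebraMap A L)) 0 _ s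
    rfl (fun q hq => ((hsmem q).mp hq).1.1.1) (fun q hq hh => ((hsmem q).mp hq).2 hh.2)
  obtain ⟨⟨⟨g, hg⟩, ⟨t, ht⟩⟩, hgt⟩ :=
    (IsLocalization.mem_map_algebraMap_iff 𝔭.primeCompl L).mp hgL
  have hgt' : gL * algebraMap A L t = algebraMap A L g := hgt
  have htu : IsUnit (algebraMap A L t) := IsLocalization.map_units L (⟨t, ht⟩ : 𝔭.primeCompl)
  refine ⟨g, hg, ?_⟩
  have hrad : ∀ f ∈ F, algebraMap A L f ∈ (Ideal.span {algebraMap A L g}).radical := by
    intro f hf
    rw [Ideal.radical_eq_sInf, Ideal.mem_sInf]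
    rintro q ⟨hq1, hq2⟩
    have hgq : algebraMap A L g ∈ q := hq1 (Ideal.subset_span rfl)
    rcases Ring.krullDimLE_one_iff.mp hdim' q hq2 with hmin | hmax
    · by_cases hqs : q ∈ s
      · exfalso
        have h1 := hav q hqs
        rw [zero_add] at h1
        rw [← hgt'] at hgq
        rcases hq2.mem_or_mem hgq with h2 | h2
        · exact h1 h2
        · exact hq2.ne_top (Ideal.eq_top_of_isUnit_mem _ h2 htu)
      · have h1 : (Ideal.span (F : Set A)).map (algebraMap A L) ≤ q := by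
          by_contra hcon
          exact hqs ((hsmem q).mpr ⟨hmin, hcon⟩)
        exact h1 (Ideal.mem_map_of_mem _ (Ideal.subset_span hf))
    · have h1 : q = IsLocalRing.maximalIdeal L := IsLocalRing.eq_maximalIdeal hmax
      rw [h1]
      exact (IsLocalization.AtPrime.to_map_mem_maximal_iff L 𝔭 f).mpr (hF f hf)
  have key : ∀ f ∈ F, ∃ h : A, h ∉ 𝔭 ∧ ∃ (N : ℕ) (c : A), h * f ^ (N + 1) = c * g := by
    intro f hf
    obtain ⟨n, hn⟩ := hrad f hf
    obtain ⟨cL, hcL⟩ := Ideal.mem_span_singleton'.mp hn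
    obtain ⟨⟨c₀, ⟨s', hs'⟩⟩, hc₀⟩ := IsLocalization.surj 𝔭.primeCompl cL
    have hc₀' : cL * algebraMap A L s' = algebraMap A L c₀ := hc₀
    have e1 : algebraMap A L (f ^ n * s') = algebraMap A L (c₀ * g) := by
      rw [map_mul, map_mul, map_pow, ← hcL, ← hc₀']
      ring
    obtain ⟨⟨s'', hs''⟩, e2⟩ := (IsLocalization.eq_iff_exists 𝔭.primeCompl L).mp e1
    have e2' : s'' * (f ^ n * s') = s'' * (c₀ * g) := e2
    refine ⟨s'' * s', ?_, n, s'' * c₀ * f, ?_⟩
    · intro hmem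
      rcases (‹𝔭.IsPrime›).mem_or_mem hmem with h | h
      · exact hs'' h
      · exact hs' h
    · have e3 : s'' * s' * f ^ (n + 1) = (s'' * (f ^ n * s')) * f := by ring
      rw [e3, e2']
      ring
  choose! hf hf1 hf2 using key
  refine ⟨∏ f ∈ F, hf f, ?_, ?_⟩
  · rw [Ideal.IsPrime.prod_mem_iff]
    rintro ⟨f, hfF, hmem⟩
    exact hf1 f hfF hmem
  · intro f hfF
    obtain ⟨N, c, hNc⟩ := hf2 f hfF
    obtain ⟨d, hd⟩ := Finset.dvd_prod_of_mem hf hfF
    refine ⟨N, d * c, ?_⟩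
    rw [hd]
    have e4 : hf f * d * f ^ (N + 1) = d * (hf f * f ^ (N + 1)) := by ring
    rw [e4, hNc]
    ring

theorem affine_of_compact (X : Scheme.{u}) [IsAffine X]
    (hX : ∀ x : X, IsNoetherianRing (X.presheaf.stalk x) ∧
      ringKrullDim (X.presheaf.stalk x) ≤ 1)
    (U : X.Opens) (hU : IsCompact (U : Set X)) : IsAffineOpen U := by
  obtain ⟨F, hFfin, hFU⟩ := (isCompact_and_isOpen_iff_finite_and_eq_biUnion_basicOpen
    (X := X) (U := (U : Set X))).mp ⟨hU, U.isOpen⟩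
  have hmemU : ∀ y : X, y ∈ U ↔ ∃ f ∈ F, y ∈ X.basicOpen f := by
    intro y
    have h1 : y ∈ (U : Set X) ↔ y ∈ ⋃ i ∈ F, (X.basicOpen i : Set X) := by rw [← hFU]
    rw [Set.mem_iUnion₂] at h1
    constructor
    · intro hy
      obtain ⟨f, hf, hyf⟩ := h1.mp hy
      exact ⟨f, hf, hyf⟩
    · rintro ⟨f, hf, hyf⟩
      exact h1.mpr ⟨f, hf, hyf⟩
  have key : ∀ x : X, ∃ h : Γ(X, ⊤), x ∈ X.basicOpen h ∧ IsAffineOpen (U ⊓ X.basicOpen h) := by
    intro x
    by_cases hxU : x ∈ U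
    · obtain ⟨h, hle, hx⟩ := (isAffineOpen_top X).exists_basicOpen_le (V := U) ⟨x, hxU⟩ trivial
      refine ⟨h, hx, ?_⟩
      rw [inf_eq_right.mpr hle]
      exact (isAffineOpen_top X).basicOpen h
    · let _ : Algebra Γ(X, ⊤) (X.presheaf.stalk x) :=
        X.presheaf.algebra_section_stalk (U := ⊤) ⟨x, trivial⟩
      have hloc : IsLocalization.AtPrime (X.presheaf.stalk x)
          ((isAffineOpen_top X).primeIdealOf ⟨x, trivial⟩).asIdeal :=
        (isAffineOpen_top X).isLocalization_stalk ⟨x, trivial⟩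
      have hprime := ((isAffineOpen_top X).primeIdealOf ⟨x, trivial⟩).isPrime
      have hN : IsNoetherianRing (X.presheaf.stalk x) := (hX x).1
      have hF𝔭 : ∀ f ∈ hFfin.toFinset,
          f ∈ ((isAffineOpen_top X).primeIdealOf ⟨x, trivial⟩).asIdeal := by
        intro f hf
        by_contra hcon
        exact hxU ((hmemU x).mpr ⟨f, hFfin.mem_toFinset.mp hf,
          (Avoid.mem_basicOpen_iff (isAffineOpen_top X) x trivial f).mpr hcon⟩)
      obtain ⟨g, hg, h, hh, hfs⟩ := exists_single_eq (L := X.presheaf.stalk x)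
        ((isAffineOpen_top X).primeIdealOf ⟨x, trivial⟩).asIdeal (hX x).2 hFfin.toFinset hF𝔭
      refine ⟨h, (Avoid.mem_basicOpen_iff (isAffineOpen_top X) x trivial h).mpr hh, ?_⟩
      have e : U ⊓ X.basicOpen h = X.basicOpen (g * h) := by
        rw [Scheme.basicOpen_mul]
        apply le_antisymm
        · rintro y ⟨hyU, hyh⟩
          refine ⟨?_, hyh⟩
          obtain ⟨f, hfF, hyf⟩ := (hmemU y).mp hyU
          obtain ⟨N, c, hNc⟩ := hfs f (hFfin.mem_toFinset.mpr hfF)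
          have h1 : y ∈ X.basicOpen (h * f ^ (N + 1)) := by
            rw [Scheme.basicOpen_mul, X.basicOpen_pow f (Nat.succ_pos N)]
            exact ⟨hyh, hyf⟩
          rw [hNc, Scheme.basicOpen_mul] at h1
          exact h1.2
        · rintro y ⟨hyg, hyh⟩
          refine ⟨?_, hyh⟩
          by_contra hyU
          have h1 : y ∈ X.zeroLocus (U := ⊤) (F : Set Γ(X, ⊤)) := by
            rw [Scheme.mem_zeroLocus_iff]
            intro f hfF hyf
            exact hyU ((hmemU y).mpr ⟨f, hfF, hyf⟩)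
          rw [← X.zeroLocus_span, Scheme.mem_zeroLocus_iff] at h1
          have hg' : g ∈ Ideal.span (F : Set Γ(X, ⊤)) := by
            have h2 : ((hFfin.toFinset : Finset Γ(X, ⊤)) : Set Γ(X, ⊤)) = F := hFfin.coe_toFinset
            rw [← h2]
            exact hg
          exact h1 g hg' hyg
      rw [e]
      exact (isAffineOpen_top X).basicOpen _
  obtain ⟨S, hS⟩ : ∃ S : Set Γ(X, ⊤), S = {h | IsAffineOpen (U ⊓ X.basicOpen h)} := ⟨_, rfl⟩
  have hspan : Ideal.span S = ⊤ := by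
    rw [← (isAffineOpen_top X).iSup_basicOpen_eq_self_iff, eq_top_iff]
    intro x _
    obtain ⟨h, hx, hh⟩ := key x
    exact Opens.mem_iSup.mpr ⟨⟨h, by rw [hS]; exact hh⟩, hx⟩
  apply isAffineOpen_of_isAffineOpen_basicOpen U
    ((X.presheaf.map (homOfLE (le_top : U ≤ ⊤)).op).hom '' S)
  · rw [← Ideal.map_span, hspan, Ideal.map_top]
  · rintro _ ⟨h, hh, rfl⟩
    have e : X.basicOpen ((X.presheaf.map (homOfLE (le_top : U ≤ ⊤)).op).hom h) =
        U ⊓ X.basicOpen h := Scheme.basicOpen_res _ _ _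
    rw [e]
    rw [hS] at hh
    exact hh

end Groth.Agent.H93.DimOne
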