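import Mathlib

/-!
# Fixed-point subschemes of finite group actions on separated schemes are closed

Lemma (P1) requested by helper63 for S16212.
-/

set_option autoImplicit false
universe u v
open CategoryTheory CategoryTheory.Limits AlgebraicGeometry

namespace Groth.Agent.H93.FixedClosed

/-- For a list `L` of group elements there is a closed subscheme `Z_L ⟶ X` (a mono which is a closed
immersion), fixed by all `g ∈ L`, through which every `t` fixed by all `g ∈ L` factors. -/
theorem exists_fixed_list (S : Scheme.{u}) (X : Over S) [IsSeparated X.hom] (G : Type v) [Group G]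
    (ρ : G →* Aut X) (L : List G) :
    ∃ (Z : Over S) (j : Z ⟶ X), IsClosedImmersion j.left ∧ Mono j ∧
      (∀ g ∈ L, j ≫ (ρ g).hom = j) ∧
      ∀ (T : Over S) (t : T ⟶ X), (∀ g ∈ L, t ≫ (ρ g).hom = t) → ∃ t' : T ⟶ Z, t' ≫ j = t := by
  induction L with
  | nil =>
    refine ⟨X, 𝟙 X, ?_, inferInstance, fun g hg => by simp at hg,
      fun T t _ => ⟨t, Category.comp_id t⟩⟩
    show IsClosedImmersion (𝟙 X.left)
    infer_instance
  | cons g L ih =>
    obtain ⟨Z, j, hj, hm, hfix, hu⟩ := ih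
    refine ⟨equalizer (j ≫ (ρ g).hom) j, equalizer.ι _ _ ≫ j, ?_, ?_, ?_, ?_⟩
    · show IsClosedImmersion ((equalizer.ι (j ≫ (ρ g).hom) j).left ≫ j.left)
      infer_instance
    · infer_instance
    · intro g' hg'
      rcases List.mem_cons.mp hg' with rfl | hg'
      · rw [Category.assoc, equalizer.condition]
      · rw [Category.assoc, hfix g' hg']
    · intro T t ht
      obtain ⟨t', ht'⟩ := hu T t (fun g' hg' => ht g' (List.mem_cons_of_mem _ hg'))
      have h1 : t' ≫ (j ≫ (ρ g).hom) = t' ≫ j := by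
        rw [← Category.assoc, ht', ht g List.mem_cons_self]
      exact ⟨equalizer.lift t' h1, by rw [← Category.assoc, equalizer.lift_ι, ht']⟩

theorem isClosedImmersion_fixed (S : Scheme.{u}) (X : Over S) [IsSeparated X.hom] (G : Type v)
    [Group G] [Finite G] (ρ : G →* Aut X) (Z : Over S) (ι : Z ⟶ X)
    (hι : ∀ g : G, ι ≫ (ρ g).hom = ι)
    (hZ : ∀ (T : Over S) (t : T ⟶ X), (∀ g : G, t ≫ (ρ g).hom = t) ↔ ∃! t' : T ⟶ Z, t' ≫ ι = t) :
    IsClosedImmersion ι.left := by
  classical
  haveI : Fintype G := Fintype.ofFinite G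
  obtain ⟨Z', j, hj, hm, hfix, hu⟩ := exists_fixed_list S X G ρ (Finset.univ : Finset G).toList
  have hfix' : ∀ g : G, j ≫ (ρ g).hom = j := fun g =>
    hfix g (Finset.mem_toList.mpr (Finset.mem_univ g))
  obtain ⟨a, ha, -⟩ := (hZ Z' j).mp hfix'
  obtain ⟨b, hb⟩ := hu Z ι (fun g _ => hι g)
  have hab : a ≫ b = 𝟙 Z' := by
    rw [← cancel_mono j, Category.assoc, hb, ha, Category.id_comp]
  have hba : b ≫ a = 𝟙 Z := by
    obtain ⟨c, -, hc⟩ := (hZ Z ι).mp hι
    have h1 : (b ≫ a) ≫ ι = ι := by rw [Category.assoc, ha, hb]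
    rw [hc (b ≫ a) h1, hc (𝟙 Z) (Category.id_comp ι)]
  let e : Z ≅ Z' := ⟨b, a, hba, hab⟩
  have hιeq : ι.left = ((Over.forget S).mapIso e).hom ≫ j.left := by
    show ι.left = b.left ≫ j.left
    rw [← Over.comp_left, hb]
  rw [hιeq]
  exact (MorphismProperty.cancel_left_of_respectsIso @IsClosedImmersion _ _).mpr hj

end Groth.Agent.H93.FixedClosed
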