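import Mathlib.RingTheory.Flat.EquationalCriterion
import Mathlib.RingTheory.Ideal.Operations

/-! Flatness and colon ideals: if `t • z ∈ J • F` for flat `F`, then `z ∈ (J : t) • F` (helper93). -/

set_option autoImplicit false
universe u v

namespace Groth.Agent.H93

variable {R : Type u} [CommRing R] {F : Type v} [AddCommGroup F] [Module R F]

theorem exists_fin_sum_of_mem_smul_top (I : Ideal R) {x : F} (hx : x ∈ I • (⊤ : Submodule R F)) :
    ∃ (s : ℕ) (b : Fin s → R) (w : Fin s → F), (∀ l, b l ∈ I) ∧ x = ∑ l, b l • w l := by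
  induction hx using Submodule.smul_induction_on' with
  | smul r hr n _ =>
    exact ⟨1, fun _ => r, fun _ => n, fun _ => hr, by simp⟩
  | add x _ y _ hx hy =>
    obtain ⟨s₁, b₁, w₁, hb₁, rfl⟩ := hx
    obtain ⟨s₂, b₂, w₂, hb₂, rfl⟩ := hy
    refine ⟨s₁ + s₂, Fin.append b₁ b₂, Fin.append w₁ w₂, ?_, ?_⟩
    · intro l
      refine Fin.addCases (fun i => ?_) (fun i => ?_) l
      · simpa using hb₁ i
      · simpa using hb₂ i
    · rw [Fin.sum_univ_add]
      simp

theorem mem_smul_top_of_smul_mem_of_flat [Module.Flat R F] (J Q : Ideal R) (t : R)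
    (hQ : ∀ a : R, t * a ∈ J → a ∈ Q) {z : F} (h : t • z ∈ J • (⊤ : Submodule R F)) :
    z ∈ Q • (⊤ : Submodule R F) := by
  obtain ⟨s, b, w, hb, hsum⟩ := exists_fin_sum_of_mem_smul_top J h
  -- relation indexed by `Option (Fin s)`
  let f : Option (Fin s) → R := fun o => o.elim t (fun l => - b l)
  let x : Option (Fin s) → F := fun o => o.elim z w
  have hrel : ∑ o, f o • x o = 0 := by
    rw [Fintype.sum_option]
    simp only [f, x, Option.elim_none, Option.elim_some, neg_smul, Finset.sum_neg_distrib]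
    rw [hsum, add_neg_cancel]
  obtain ⟨k, a, y, hxy, hfa⟩ := Module.Flat.isTrivialRelation_of_sum_smul_eq_zero hrel
  have hz : z = ∑ j, a none j • y j := hxy none
  rw [hz]
  refine Submodule.sum_mem _ fun j _ => Submodule.smul_mem_smul (hQ _ ?_) Submodule.mem_top
  have := hfa j
  rw [Fintype.sum_option] at this
  simp only [f, Option.elim_none, Option.elim_some, neg_mul, Finset.sum_neg_distrib] at this
  rw [add_neg_eq_zero] at this
  rw [this]
  exact Submodule.sum_mem _ fun l _ => Ideal.mul_mem_right _ _ (hb l)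

end Groth.Agent.H93
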