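import Mathlib

/-!
# Lifting through a flat closed immersion

A morphism `g : T ⟶ Y` whose set-theoretic image lies in the image of a flat closed immersion
`j : W ⟶ Y` factors through `j` (the ideal of `j` has vanishing stalks along `W`).
-/

set_option autoImplicit false
universe u

namespace Groth.Agent.H93.FlatLift

open CategoryTheory AlgebraicGeometry

lemma stalkMap_injective_of_flat {W Y : Scheme.{u}} (j : W ⟶ Y) [Flat j] (w : W) :
    Function.Injective (j.stalkMap w).hom := by
  have hflat : (j.stalkMap w).hom.Flat := Flat.stalkMap j w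
  algebraize [(j.stalkMap w).hom]
  have : IsLocalHom (algebraMap (Y.presheaf.stalk (j w)) (W.presheaf.stalk w)) :=
    inferInstanceAs (IsLocalHom (j.stalkMap w).hom)
  have := Module.FaithfullyFlat.of_flat_of_isLocalHom (A := Y.presheaf.stalk (j w))
    (B := W.presheaf.stalk w)
  exact FaithfulSMul.algebraMap_injective _ _

theorem exists_lift_of_flat_closedImmersion {W Y T : Scheme.{u}} (j : W ⟶ Y)
    [IsClosedImmersion j] [Flat j] (g : T ⟶ Y) (hg : ∀ t, g t ∈ Set.range j) :
    ∃ g' : T ⟶ W, g' ≫ j = g := by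
  have H : j.ker ≤ g.ker := by
    show j.ker ≤ Scheme.IdealSheafData.ofIdeals (fun U => RingHom.ker (g.app U.1).hom)
    rw [Scheme.IdealSheafData.le_ofIdeals_iff]
    intro U a ha
    rw [Scheme.Hom.ker_apply] at ha
    refine RingHom.mem_ker.mpr ?_
    have key : ∀ (y : Y) (hy : y ∈ U.1), y ∈ Set.range j → Y.presheaf.germ U.1 y hy a = 0 := by
      rintro _ hy ⟨w, rfl⟩
      apply stalkMap_injective_of_flat j w
      rw [map_zero]
      have h1 := Scheme.Hom.germ_stalkMap_apply j U.1 w hy a
      rw [RingHom.mem_ker.mp ha, map_zero] at h1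
      exact h1
    apply TopCat.Presheaf.section_ext T.sheaf (g ⁻¹ᵁ U.1)
    intro t ht
    change T.presheaf.germ (g ⁻¹ᵁ U.1) t ht ((g.app U.1).hom a) =
      T.presheaf.germ (g ⁻¹ᵁ U.1) t ht 0
    rw [map_zero, ← Scheme.Hom.germ_stalkMap_apply g U.1 t ht a, key (g t) ht (hg t), map_zero]
  exact ⟨IsClosedImmersion.lift j g H, IsClosedImmersion.lift_fac j g H⟩

end Groth.Agent.H93.FlatLift
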