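import Groth.Agent.H93.FreeDefs

/-!
# H93/FreeAlgF: freeness of an action of `D_S(M)` in terms of its coaction.
-/

set_option autoImplicit false
universe u
open CategoryTheory CategoryTheory.Limits MonoidalCategory CartesianMonoidalCategory MonObj GrpObj AlgebraicGeometry

namespace Groth.Agent.H93.FreeAlgF
open Groth.Agent.H1.SplitTori Groth.Agent.H93.MultRigid Groth.Agent.H93.FreeDefs

variable {S : Scheme.{u}} {G X : Over S} [GrpObj G] {M : Type} [AddCommGroup M]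

/-- (F) freeness in algebraic form -/
theorem free_alg (e : G ≅ Red.DS S M) [IsMonHom e.hom] (a : AlgGrp.Action G X)
    {U : X.left.Opens} (hU : IsAffineOpen U)
    (ρ : Γ(X.left, U) →+* MonoidAlgebra Γ(X.left, U) (Multiplicative M))
    (hρ : IsCoaction e a U ρ)
    (hfree : ∀ (Y : Over S) (g : Y ⟶ G) (x : Y ⟶ X), lift g x ≫ a.act = x → g = 1)
    (K : Type u) [CommRing K] (φ : Γ(X.left, U) →+* K) (κ : Multiplicative M →* K)
    (h : (MonoidAlgebra.liftNCRingHom φ κ (fun _ _ => Commute.all _ _)).comp ρ = φ) : κ = 1 := by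
  replace hρ : ∀ (T : Over S) (_ : IsAffine T.left) (g : T ⟶ G) (x : T ⟶ X)
      (hx : ⊤ ≤ x.left ⁻¹ᵁ U) (y : T ⟶ X) (_ : y = lift g x ≫ a.act),
      ∃ hy : ⊤ ≤ y.left ⁻¹ᵁ U, (y.left.appLE U ⊤ hy).hom =
        (MonoidAlgebra.liftNCRingHom (x.left.appLE U ⊤ hx).hom (evHom (g ≫ e.hom))
          (fun _ _ => Commute.all _ _)).comp ρ := hρ
  have hinj : Function.Injective (Scheme.ΓSpecIso (CommRingCat.of K)).inv.hom := by
    intro p q hpq
    have := congrArg (Scheme.ΓSpecIso (CommRingCat.of K)).hom.hom hpq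
    simpa using this
  obtain ⟨φc, hφc⟩ : ∃ φc : Γ(X.left, U) ⟶ CommRingCat.of K, φc = CommRingCat.ofHom φ := ⟨_, rfl⟩
  let κ' : Multiplicative M →* Γ((tObj hU φc).left, ⊤) :=
    (((Scheme.ΓSpecIso (CommRingCat.of K)).inv.hom :
      K →+* Γ(Spec (CommRingCat.of K), ⊤)) : K →* Γ(Spec (CommRingCat.of K), ⊤)).comp κ
  obtain ⟨g', hg'⟩ := Groth.Agent.H22.MRPts.exists_pt (S := S) (M := M) (T := tObj hU φc) κ'
  have hg : evHom ((g' ≫ e.inv) ≫ e.hom) = κ' := by
    rw [Category.assoc, Iso.inv_hom_id, Category.comp_id, hg']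
  generalize g' ≫ e.inv = g at hg
  obtain ⟨y, hydef⟩ : ∃ y : tObj hU φc ⟶ X, y = lift g (tPt hU φc) ≫ a.act := ⟨_, rfl⟩
  obtain ⟨hy, hyeq⟩ := hρ (tObj hU φc)
    (inferInstanceAs (IsAffine (Spec (CommRingCat.of K)))) g (tPt hU φc) (tPt_le hU _) y hydef
  rw [tPt_appLE, hg] at hyeq
  have hyx : y = tPt hU φc := by
    apply Over.OverMorphism.ext
    have : IsAffine (tObj hU φc).left := inferInstanceAs (IsAffine (Spec (CommRingCat.of K)))
    apply eq_of_appLE_eq _ _ hU hy (tPt_le hU _)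
    apply CommRingCat.hom_ext
    rw [hyeq, tPt_appLE]
    ext b
    rw [RingHom.comp_apply, liftNC_apply_eq (Scheme.ΓSpecIso (CommRingCat.of K)).inv.hom φ κ
      (φc ≫ (Scheme.ΓSpecIso (CommRingCat.of K)).inv).hom κ' (by rw [hφc]; rfl) rfl]
    have h2 := congrArg (fun ψ => ψ b) h
    simp only [RingHom.comp_apply] at h2
    rw [h2, hφc]
    rfl
  have hg1 : g = 1 := hfree _ g (tPt hU φc) (by rw [← hydef]; exact hyx)
  rw [hg1, MonObj.one_comp (X := tObj hU φc) e.hom, Groth.Agent.H22.MRPts.evHom_one] at hg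
  apply MonoidHom.ext
  intro m
  apply hinj
  have h3 := congrArg (fun ψ => ψ m) hg
  simp only [MonoidHom.one_apply] at h3
  rw [MonoidHom.one_apply, map_one]
  exact h3.symm

end Groth.Agent.H93.FreeAlgF
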