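import Groth.Agent.H93.FreeDefs

/-!
# H93/FreeCoact: existence and comodule axioms of the coaction attached to an action of `D_S(M)`.
-/

set_option autoImplicit false
universe u
open CategoryTheory CategoryTheory.Limits MonoidalCategory CartesianMonoidalCategory MonObj GrpObj AlgebraicGeometry

namespace Groth.Agent.H93.FreeCoact
open Groth.Agent.H1.SplitTori Groth.Agent.H93.MultRigid Groth.Agent.H93.FreeDefs

variable {S : Scheme.{u}} {G X : Over S} [GrpObj G] {M : Type} [AddCommGroup M]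

theorem exists_coaction (e : G ≅ Red.DS S M) (a : AlgGrp.Action G X) (V : S.Opens)
    (hU : IsAffineOpen (X.hom ⁻¹ᵁ V)) :
    ∃ ρ, IsCoaction e a (X.hom ⁻¹ᵁ V) ρ := by
  obtain ⟨g₁', hg₁'⟩ := Groth.Agent.H22.MRPts.exists_pt (S := S) (M := M) (T := T1 M hU)
    (kap hU (MonoidHom.id _))
  have hg₁ : evHom ((g₁' ≫ e.inv) ≫ e.hom) = kap hU (MonoidHom.id _) := by
    rw [Category.assoc, Iso.inv_hom_id, Category.comp_id, hg₁']
  generalize g₁' ≫ e.inv = g₁ at hg₁
  obtain ⟨y₁, hy₁def⟩ : ∃ y₁ : T1 M hU ⟶ X, y₁ = lift g₁ (x1 M hU) ≫ a.act := ⟨_, rfl⟩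
  have hy₁ : ⊤ ≤ y₁.left ⁻¹ᵁ (X.hom ⁻¹ᵁ V) := by
    intro z hz
    have h : (x1 M hU).left.base z ∈ X.hom ⁻¹ᵁ V :=
      tPt_le hU (inc (X.hom ⁻¹ᵁ V) (Multiplicative M)) hz
    have h3 : y₁.left ≫ X.hom = (x1 M hU).left ≫ X.hom :=
      (Over.w y₁).trans (Over.w (x1 M hU)).symm
    show (y₁.left ≫ X.hom).base z ∈ V
    rw [h3]
    exact h
  exact ⟨_, claimB' e a hU g₁ hg₁ y₁ hy₁def hy₁⟩

variable (e : G ≅ Red.DS S M) [hemon : IsMonHom e.hom] (a : AlgGrp.Action G X)
  {U : X.left.Opens} (hU : IsAffineOpen U)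
  (ρ : Γ(X.left, U) →+* MonoidAlgebra Γ(X.left, U) (Multiplicative M))

include hU hemon in
theorem coaction_unit (hB : IsCoaction e a U ρ) :
    (MonoidAlgebra.liftNCRingHom (RingHom.id Γ(X.left, U)) (1 : Multiplicative M →* Γ(X.left, U))
      (fun _ _ => Commute.all _ _)).comp ρ = RingHom.id Γ(X.left, U) := by
  replace hB : ∀ (T : Over S) (_ : IsAffine T.left) (g : T ⟶ G) (x : T ⟶ X)
      (hx : ⊤ ≤ x.left ⁻¹ᵁ U) (y : T ⟶ X) (_ : y = lift g x ≫ a.act),
      ∃ hy : ⊤ ≤ y.left ⁻¹ᵁ U, (y.left.appLE U ⊤ hy).hom =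
        (MonoidAlgebra.liftNCRingHom (x.left.appLE U ⊤ hx).hom (evHom (g ≫ e.hom))
          (fun _ _ => Commute.all _ _)).comp ρ := hB
  have hinj : Function.Injective (Scheme.ΓSpecIso Γ(X.left, U)).inv.hom := by
    intro p q hpq
    have := congrArg (Scheme.ΓSpecIso Γ(X.left, U)).hom.hom hpq
    simpa using this
  obtain ⟨y, hydef⟩ : ∃ y : tObj hU (𝟙 Γ(X.left, U)) ⟶ X,
    y = lift (1 : tObj hU (𝟙 Γ(X.left, U)) ⟶ G) (tPt hU (𝟙 _)) ≫ a.act := ⟨_, rfl⟩
  obtain ⟨hy, hyeq⟩ := hB (tObj hU (𝟙 Γ(X.left, U)))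
    (inferInstanceAs (IsAffine (Spec Γ(X.left, U))))
    (1 : tObj hU (𝟙 Γ(X.left, U)) ⟶ G) (tPt hU (𝟙 _)) (tPt_le hU _) y hydef
  have h1 : y = tPt hU (𝟙 _) := hydef.trans (one_act_pt a _)
  subst h1
  rw [tPt_appLE, MonObj.one_comp (X := tObj hU (𝟙 Γ(X.left, U))) e.hom, Groth.Agent.H22.MRPts.evHom_one] at hyeq
  refine RingHom.ext fun b => ?_
  apply hinj
  have h2 := congrArg (fun ψ => ψ b) hyeq
  rw [RingHom.comp_apply, RingHom.id_apply,
    ← liftNC_apply_eq (Scheme.ΓSpecIso Γ(X.left, U)).inv.hom (RingHom.id _)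
      (1 : Multiplicative M →* Γ(X.left, U))
      (𝟙 Γ(X.left, U) ≫ (Scheme.ΓSpecIso Γ(X.left, U)).inv).hom 1
      (by rw [Category.id_comp, RingHom.comp_id]) (by ext; simp)]
  exact h2.symm

include hU hemon in
theorem coaction_assoc (hB : IsCoaction e a U ρ) :
    (MonoidAlgebra.liftNCRingHom (MonoidAlgebra.singleOneRingHom (R := Γ(X.left, U))
        (M := Multiplicative M × Multiplicative M))
        (((MonoidAlgebra.of Γ(X.left, U) (Multiplicative M × Multiplicative M)).comp
            (MonoidHom.inl (Multiplicative M) (Multiplicative M))) *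
          ((MonoidAlgebra.of Γ(X.left, U) (Multiplicative M × Multiplicative M)).comp
            (MonoidHom.inr (Multiplicative M) (Multiplicative M))))
        (fun _ _ => Commute.all _ _)).comp ρ =
      (MonoidAlgebra.liftNCRingHom
        ((MonoidAlgebra.liftNCRingHom (MonoidAlgebra.singleOneRingHom (R := Γ(X.left, U))
            (M := Multiplicative M × Multiplicative M))
          ((MonoidAlgebra.of Γ(X.left, U) (Multiplicative M × Multiplicative M)).comp
            (MonoidHom.inr (Multiplicative M) (Multiplicative M)))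
          (fun _ _ => Commute.all _ _)).comp ρ)
        ((MonoidAlgebra.of Γ(X.left, U) (Multiplicative M × Multiplicative M)).comp
          (MonoidHom.inl (Multiplicative M) (Multiplicative M)))
        (fun _ _ => Commute.all _ _)).comp ρ := by
  replace hB : ∀ (T : Over S) (_ : IsAffine T.left) (g : T ⟶ G) (x : T ⟶ X)
      (hx : ⊤ ≤ x.left ⁻¹ᵁ U) (y : T ⟶ X) (_ : y = lift g x ≫ a.act),
      ∃ hy : ⊤ ≤ y.left ⁻¹ᵁ U, (y.left.appLE U ⊤ hy).hom =
        (MonoidAlgebra.liftNCRingHom (x.left.appLE U ⊤ hx).hom (evHom (g ≫ e.hom))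
          (fun _ _ => Commute.all _ _)).comp ρ := hB
  have hinj : Function.Injective
      (Scheme.ΓSpecIso (RG U (Multiplicative M × Multiplicative M))).inv.hom := by
    intro p q hpq
    have := congrArg (Scheme.ΓSpecIso (RG U (Multiplicative M × Multiplicative M))).hom.hom hpq
    simpa using this
  obtain ⟨ga', hga'⟩ := Groth.Agent.H22.MRPts.exists_pt (S := S) (M := M)
    (T := tObj hU (inc U (Multiplicative M × Multiplicative M)))
    (kap hU (MonoidHom.inl (Multiplicative M) (Multiplicative M)))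
  obtain ⟨gb', hgb'⟩ := Groth.Agent.H22.MRPts.exists_pt (S := S) (M := M)
    (T := tObj hU (inc U (Multiplicative M × Multiplicative M)))
    (kap hU (MonoidHom.inr (Multiplicative M) (Multiplicative M)))
  have hga : evHom ((ga' ≫ e.inv) ≫ e.hom) = kap hU (MonoidHom.inl _ _) := by
    rw [Category.assoc, Iso.inv_hom_id, Category.comp_id, hga']
  have hgb : evHom ((gb' ≫ e.inv) ≫ e.hom) = kap hU (MonoidHom.inr _ _) := by
    rw [Category.assoc, Iso.inv_hom_id, Category.comp_id, hgb']
  generalize ga' ≫ e.inv = ga at hga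
  generalize gb' ≫ e.inv = gb at hgb
  have haff : IsAffine (tObj hU (inc U (Multiplicative M × Multiplicative M))).left :=
    inferInstanceAs (IsAffine (Spec (RG U (Multiplicative M × Multiplicative M))))
  obtain ⟨w, hwdef⟩ : ∃ w : tObj hU (inc U (Multiplicative M × Multiplicative M)) ⟶ X,
    w = lift gb (tPt hU (inc U (Multiplicative M × Multiplicative M))) ≫ a.act := ⟨_, rfl⟩
  obtain ⟨z, hzdef⟩ : ∃ z : tObj hU (inc U (Multiplicative M × Multiplicative M)) ⟶ X,
    z = lift ga w ≫ a.act := ⟨_, rfl⟩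
  obtain ⟨z', hz'def⟩ : ∃ z' : tObj hU (inc U (Multiplicative M × Multiplicative M)) ⟶ X,
    z' = lift (ga * gb) (tPt hU (inc U (Multiplicative M × Multiplicative M))) ≫ a.act :=
    ⟨_, rfl⟩
  obtain ⟨hw, hweq⟩ := hB _ haff gb
    (tPt hU (inc U (Multiplicative M × Multiplicative M))) (tPt_le hU _) w hwdef
  obtain ⟨hz, hzeq⟩ := hB _ haff ga w hw z hzdef
  obtain ⟨hz', hz'eq⟩ := hB _ haff (ga * gb)
    (tPt hU (inc U (Multiplicative M × Multiplicative M))) (tPt_le hU _) z' hz'def
  have hzz : z' = z := by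
    rw [hz'def, hzdef, hwdef]
    exact mul_act_pt a ga gb _
  subst hzz
  rw [hzeq, hweq, MonObj.mul_comp ga gb e.hom, Groth.Agent.H22.MRPts.evHom_mul, hga, hgb, tPt_appLE] at hz'eq
  refine RingHom.ext fun b => ?_
  apply hinj
  have h2 := congrArg (fun ψ => ψ b) hz'eq
  simp only [RingHom.comp_apply] at h2 ⊢
  rw [← liftNC_apply_eq (Scheme.ΓSpecIso (RG U (Multiplicative M × Multiplicative M))).inv.hom
      MonoidAlgebra.singleOneRingHom
      (((MonoidAlgebra.of Γ(X.left, U) (Multiplicative M × Multiplicative M)).comp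
          (MonoidHom.inl (Multiplicative M) (Multiplicative M))) *
        ((MonoidAlgebra.of Γ(X.left, U) (Multiplicative M × Multiplicative M)).comp
          (MonoidHom.inr (Multiplicative M) (Multiplicative M))))
      (inc U (Multiplicative M × Multiplicative M) ≫
        (Scheme.ΓSpecIso (RG U (Multiplicative M × Multiplicative M))).inv).hom
      (kap hU (MonoidHom.inl (Multiplicative M) (Multiplicative M)) *
        kap hU (MonoidHom.inr (Multiplicative M) (Multiplicative M)))
      rfl (by rw [MonoidHom.comp_mul])]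
  rw [← liftNC_apply_eq (Scheme.ΓSpecIso (RG U (Multiplicative M × Multiplicative M))).inv.hom
      ((MonoidAlgebra.liftNCRingHom MonoidAlgebra.singleOneRingHom
        ((MonoidAlgebra.of Γ(X.left, U) (Multiplicative M × Multiplicative M)).comp
          (MonoidHom.inr (Multiplicative M) (Multiplicative M)))
        (fun _ _ => Commute.all _ _)).comp ρ)
      ((MonoidAlgebra.of Γ(X.left, U) (Multiplicative M × Multiplicative M)).comp
          (MonoidHom.inl (Multiplicative M) (Multiplicative M)))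
      ((MonoidAlgebra.liftNCRingHom (inc U (Multiplicative M × Multiplicative M) ≫
          (Scheme.ΓSpecIso (RG U (Multiplicative M × Multiplicative M))).inv).hom
        (kap hU (MonoidHom.inr (Multiplicative M) (Multiplicative M)))
        (fun _ _ => Commute.all _ _)).comp ρ)
      (kap hU (MonoidHom.inl (Multiplicative M) (Multiplicative M)))
      (by rw [← RingHom.comp_assoc, liftNC_comp]; rfl) rfl]
  exact h2.symm

end Groth.Agent.H93.FreeCoact
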