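import Groth.Agent.H93.FreeDefs

/-!
# H93/FreeRet: sections of `G × X` over the preimage of an affine open of `X` are generated by
the characters and the functions of `X` (retraction trick).
-/

set_option autoImplicit false
universe u
open CategoryTheory CategoryTheory.Limits MonoidalCategory CartesianMonoidalCategory MonObj GrpObj AlgebraicGeometry

namespace Groth.Agent.H93.FreeRet
open Groth.Agent.H1.SplitTori Groth.Agent.H93.MultRigid Groth.Agent.H93.FreeDefs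

variable {S : Scheme.{u}} {G X : Over S} [GrpObj G] {M : Type} [AddCommGroup M]

/-- (R) retraction trick -/
theorem ret (e : G ≅ Red.DS S M) {U : X.left.Opens} (hU : IsAffineOpen U)
    (W : (G ⊗ X).left.Opens) (hW : W = (snd G X).left ⁻¹ᵁ U) [IsAffine (qObj W).left]
    (hx : ⊤ ≤ (qPt W ≫ snd G X).left ⁻¹ᵁ U)
    (D' : Subring Γ((qObj W).left, ⊤))
    (h1 : ∀ b : Γ(X.left, U), ((qPt W ≫ snd G X).left.appLE U ⊤ hx).hom b ∈ D')
    (h2 : ∀ m : Multiplicative M, evHom ((qPt W ≫ fst G X) ≫ e.hom) m ∈ D') : D' = ⊤ := by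
  have hWset : ∀ p : (G ⊗ X).left, p ∈ W ↔ p ∈ (snd G X).left ⁻¹ᵁ U := fun p => by rw [hW]
  obtain ⟨DR, hDR⟩ : ∃ DR : CommRingCat.{u}, DR = CommRingCat.of D' := ⟨_, rfl⟩
  subst hDR
  obtain ⟨θ, hθ⟩ : ∃ θ : Γ(X.left, U) ⟶ CommRingCat.of D', θ = CommRingCat.ofHom
      (RingHom.codRestrict ((qPt W ≫ snd G X).left.appLE U ⊤ hx).hom D' h1) := ⟨_, rfl⟩
  obtain ⟨incl, hincl⟩ : ∃ incl : CommRingCat.of D' ⟶ Γ((qObj W).left, ⊤),
      incl = CommRingCat.ofHom D'.subtype := ⟨_, rfl⟩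
  let κZ : Multiplicative M →* Γ((tObj hU θ).left, ⊤) :=
    (((Scheme.ΓSpecIso (CommRingCat.of D')).inv.hom :
      (CommRingCat.of D') →+* Γ(Spec (CommRingCat.of D'), ⊤)) :
        (CommRingCat.of D') →* Γ(Spec (CommRingCat.of D'), ⊤)).comp
      (MonoidHom.codRestrict (evHom ((qPt W ≫ fst G X) ≫ e.hom)) D' h2)
  obtain ⟨gZ', hgZ'⟩ := Groth.Agent.H22.MRPts.exists_pt (S := S) (M := M) (T := tObj hU θ) κZ
  have hgZ : evHom ((gZ' ≫ e.inv) ≫ e.hom) = κZ := by
    rw [Category.assoc, Iso.inv_hom_id, Category.comp_id, hgZ']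
  generalize gZ' ≫ e.inv = gZ at hgZ
  obtain ⟨tl, htl⟩ := exists_toSpec (Z := (qObj W).left) (C := CommRingCat.of D') incl
  have hle1 : ⊤ ≤ (tl ≫ (tPt hU θ).left) ⁻¹ᵁ U := by
    rw [Scheme.Hom.comp_preimage]
    intro z _
    show tl.base z ∈ (tPt hU θ).left ⁻¹ᵁ U
    exact tPt_le hU θ trivial
  have hθincl : θ ≫ incl = (qPt W ≫ snd G X).left.appLE U ⊤ hx := by
    rw [hθ, hincl]
    rfl
  have h1' : tl ≫ (tPt hU θ).left = (qPt W ≫ snd G X).left := by
    apply eq_of_appLE_eq _ _ hU hle1 hx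
    rw [← Scheme.Hom.appLE_comp_appLE tl (tPt hU θ).left U ⊤ ⊤ (tPt_le hU _) le_top, tPt_appLE,
      ← UnivCat.appTop_eq_appLE, Category.assoc, htl, hθincl]
  let gam' : qObj W ⟶ tObj hU θ := Over.homMk tl (by
    show tl ≫ (Spec.map θ ≫ hU.fromSpec ≫ X.hom) = (qObj W).hom
    rw [← Over.w (qPt W ≫ snd G X), ← h1']
    simp only [Over.homMk_left, Category.assoc])
  have hgx : gam' ≫ tPt hU θ = qPt W ≫ snd G X := Over.OverMorphism.ext h1'
  have hgg : gam' ≫ gZ = qPt W ≫ fst G X := by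
    rw [← cancel_mono e.hom, Category.assoc]
    apply hom_ext_ev
    intro m
    rw [ev_comp, ← evHom_apply, ← evHom_apply, hgZ]
    have h3 := congrArg (fun ψ => ψ.hom ⟨_, h2 (Multiplicative.ofAdd m)⟩) htl
    rw [hincl] at h3
    refine Eq.trans ?_ h3
    rfl
  have hgr : gam' ≫ lift gZ (tPt hU θ) = qPt W := by
    rw [comp_lift, hgg, hgx, ← comp_lift, lift_fst_snd, Category.comp_id]
  have hrW : Set.range (lift gZ (tPt hU θ)).left.base ⊆ Set.range W.ι.base := by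
    rintro _ ⟨z, rfl⟩
    rw [Scheme.Opens.range_ι]
    refine (hWset _).mpr ?_
    show ((lift gZ (tPt hU θ)).left ≫ (snd G X).left).base z ∈ U
    rw [← Over.comp_left, lift_snd]
    exact tPt_le hU θ trivial
  have hgr' : tl ≫ IsOpenImmersion.lift W.ι (lift gZ (tPt hU θ)).left hrW = 𝟙 _ := by
    rw [← cancel_mono W.ι, Category.assoc, IsOpenImmersion.lift_fac, Category.id_comp]
    exact congrArg (fun z => z.left) hgr
  have e2 : tl.appTop = (Scheme.ΓSpecIso (CommRingCat.of D')).hom ≫ incl := by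
    rw [← htl, Iso.hom_inv_id_assoc]
  rw [eq_top_iff]
  intro c _
  have hc : tl.appTop.hom
      ((IsOpenImmersion.lift W.ι (lift gZ (tPt hU θ)).left hrW).appTop.hom c) = c := by
    have h3 : (tl ≫ IsOpenImmersion.lift W.ι (lift gZ (tPt hU θ)).left hrW).appTop = 𝟙 _ := by
      rw [hgr']
      rfl
    rw [Scheme.Hom.comp_appTop] at h3
    exact congrArg (fun ψ => ψ.hom c) h3
  rw [← hc, e2, hincl]
  exact ((Scheme.ΓSpecIso (CommRingCat.of D')).hom.hom
    ((IsOpenImmersion.lift W.ι (lift gZ (tPt hU θ)).left hrW).appTop.hom c)).2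

end Groth.Agent.H93.FreeRet
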