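import Groth.Agent.H93.FreeCoact
import Groth.Agent.H19.Free_AF
import Groth.Agent.H33.FreeAlg
import Groth.Agent.H93.FreeAlgF
import Groth.Agent.H93.FreeRet

/-!
# H93/FreeCore: a free action of `D_S(M)` on an `S`-affine scheme has a closed graph.
-/

set_option autoImplicit false
universe u
open CategoryTheory CategoryTheory.Limits MonoidalCategory CartesianMonoidalCategory MonObj GrpObj AlgebraicGeometry

namespace Groth.Agent.H93.FreeCore
open Groth.Agent.H1.SplitTori Groth.Agent.H93.MultRigid Groth.Agent.H93.FreeDefs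

variable {S : Scheme.{u}} {G X : Over S} [GrpObj G] {M : Type} [AddCommGroup M]

/-- homogeneous elements of any degree generate the unit ideal. -/
theorem span_top (e : G ≅ Red.DS S M) [IsMonHom e.hom] (a : AlgGrp.Action G X)
    {U : X.left.Opens} (hU : IsAffineOpen U)
    (ρ : Γ(X.left, U) →+* MonoidAlgebra Γ(X.left, U) (Multiplicative M))
    (hρ : IsCoaction e a U ρ)
    (hfree : ∀ (Y : Over S) (g : Y ⟶ G) (x : Y ⟶ X), lift g x ≫ a.act = x → g = 1)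
    (m : Multiplicative M) :
    Ideal.span {b : Γ(X.left, U) | ρ b = MonoidAlgebra.single m b} = ⊤ := by
  have hunit := FreeCoact.coaction_unit e a hU ρ hρ
  have hassoc := FreeCoact.coaction_assoc e a hU ρ hρ
  refine Groth.Agent.H33.FreeAlg.alg_span ρ hunit hassoc (fun q _ => ?_) m
  have h := Groth.Agent.H33.FreeAlg.alg_closure ρ hunit hassoc
    (fun K _ φ κ h => Groth.Agent.H93.FreeAlgF.free_alg e a hU ρ hρ hfree K φ κ h)
    (Γ(X.left, U) ⧸ q) (Ideal.Quotient.mk q)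
  have hset : {h : Multiplicative M | ∃ b : Γ(X.left, U),
      ρ b = MonoidAlgebra.single h b ∧ (Ideal.Quotient.mk q) b ≠ 0} =
      {h : Multiplicative M | ∃ b : Γ(X.left, U), ρ b = MonoidAlgebra.single h b ∧ b ∉ q} := by
    ext h
    simp only [Set.mem_ofPred_eq, ne_eq, Ideal.Quotient.eq_zero_iff_mem]
  rw [← hset]
  exact h

/-- the restriction of the graph over the preimage of an affine open of the base is a closed
immersion. -/
theorem core_aux (e : G ≅ Red.DS S M) [IsMonHom e.hom] (a : AlgGrp.Action G X)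
    (hX : IsAffineHom X.hom)
    (hfree : ∀ (Y : Over S) (g : Y ⟶ G) (x : Y ⟶ X), lift g x ≫ a.act = x → g = 1)
    (V : S.Opens) (hV : IsAffineOpen V) :
    IsClosedImmersion ((lift a.act (snd G X)).left ∣_ ((X ⊗ X).hom ⁻¹ᵁ V)) := by
  have := hX
  have hGaff : IsAffineHom G.hom := Groth.Agent.H19.Free_AF.affineHom_of_iso_DS e
  have hGX : IsAffineHom (G ⊗ X).hom := Groth.Agent.H19.Free_AF.affineHom_tensor G X hGaff hX
  have hXX : IsAffineHom (X ⊗ X).hom := Groth.Agent.H19.Free_AF.affineHom_tensor X X hX hX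
  have hU : IsAffineOpen (X.hom ⁻¹ᵁ V) := hV.preimage X.hom
  have hPV : IsAffineOpen ((X ⊗ X).hom ⁻¹ᵁ V) := hV.preimage (X ⊗ X).hom
  have hQeq : (lift a.act (snd G X)).left ⁻¹ᵁ ((X ⊗ X).hom ⁻¹ᵁ V) = (G ⊗ X).hom ⁻¹ᵁ V := by
    rw [← Scheme.Hom.comp_preimage, Over.w]
  have hQeq' : (lift a.act (snd G X)).left ⁻¹ᵁ ((X ⊗ X).hom ⁻¹ᵁ V) =
      (snd G X).left ⁻¹ᵁ (X.hom ⁻¹ᵁ V) := by
    rw [hQeq, ← Scheme.Hom.comp_preimage, Over.w]
  have hQV : IsAffineOpen ((lift a.act (snd G X)).left ⁻¹ᵁ ((X ⊗ X).hom ⁻¹ᵁ V)) := by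
    rw [hQeq]
    exact hV.preimage (G ⊗ X).hom
  obtain ⟨ρ, hρ⟩ := FreeCoact.exists_coaction e a V hU
  have hspan := span_top e a hU ρ hρ hfree
  -- notation
  obtain ⟨QV, hQVdef⟩ : ∃ QV : (G ⊗ X).left.Opens,
      QV = (lift a.act (snd G X)).left ⁻¹ᵁ ((X ⊗ X).hom ⁻¹ᵁ V) := ⟨_, rfl⟩
  obtain ⟨r, hrdef⟩ : ∃ r : (QV : Scheme.{u}) ⟶ (((X ⊗ X).hom ⁻¹ᵁ V : (X ⊗ X).left.Opens) : Scheme.{u}),
      r ≫ ((X ⊗ X).hom ⁻¹ᵁ V).ι = QV.ι ≫ (lift a.act (snd G X)).left := by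
    subst hQVdef
    exact ⟨_, morphismRestrict_ι _ _⟩
  haveI : IsAffine (qObj QV).left := by
    subst hQVdef
    exact hQV
  haveI : IsAffine (QV : Scheme.{u}) := ‹IsAffine (qObj QV).left›
  haveI : IsAffine (((X ⊗ X).hom ⁻¹ᵁ V : (X ⊗ X).left.Opens) : Scheme.{u}) := hPV
  suffices hsurj : Function.Surjective r.appTop by
    have hci : IsClosedImmersion r := IsClosedImmersion.of_surjective_of_isAffine r hsurj
    subst hQVdef
    have hreq : r = (lift a.act (snd G X)).left ∣_ ((X ⊗ X).hom ⁻¹ᵁ V) := by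
      rw [← cancel_mono ((X ⊗ X).hom ⁻¹ᵁ V).ι, hrdef, morphismRestrict_ι]
    rw [← hreq]
    exact hci
  -- the points
  have hyx : qPt QV ≫ a.act = lift (qPt QV ≫ fst G X) (qPt QV ≫ snd G X) ≫ a.act := by
    rw [← comp_lift, lift_fst_snd, Category.comp_id]
  have hpr : ∀ (pr : X ⊗ X ⟶ X), ⊤ ≤ (((X ⊗ X).hom ⁻¹ᵁ V).ι ≫ pr.left) ⁻¹ᵁ (X.hom ⁻¹ᵁ V) := by
    intro pr z _
    show ((((X ⊗ X).hom ⁻¹ᵁ V).ι ≫ pr.left) ≫ X.hom).base z ∈ V
    rw [Category.assoc, Over.w pr]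
    exact z.2
  have hw : ∀ (w : qObj QV ⟶ X) (pr : X ⊗ X ⟶ X)
      (_ : w.left = r ≫ ((X ⊗ X).hom ⁻¹ᵁ V).ι ≫ pr.left), ⊤ ≤ w.left ⁻¹ᵁ (X.hom ⁻¹ᵁ V) := by
    intro w pr hwl
    rw [hwl, Scheme.Hom.comp_preimage]
    intro z _
    exact hpr pr trivial
  -- range of `r` on global sections
  obtain ⟨D', hD'⟩ : ∃ D' : Subring Γ((qObj QV).left, ⊤), D' = r.appTop.hom.range := ⟨_, rfl⟩
  have hA : ∀ (w : qObj QV ⟶ X) (pr : X ⊗ X ⟶ X)
      (_ : w.left = r ≫ ((X ⊗ X).hom ⁻¹ᵁ V).ι ≫ pr.left)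
      (hwU : ⊤ ≤ w.left ⁻¹ᵁ (X.hom ⁻¹ᵁ V)) (b : Γ(X.left, X.hom ⁻¹ᵁ V)),
      (w.left.appLE (X.hom ⁻¹ᵁ V) ⊤ hwU).hom b ∈ D' := by
    intro w pr hwl hwU b
    have hle : ⊤ ≤ (r ≫ ((X ⊗ X).hom ⁻¹ᵁ V).ι ≫ pr.left) ⁻¹ᵁ (X.hom ⁻¹ᵁ V) := by
      rw [← hwl]; exact hwU
    have e1 : w.left.appLE (X.hom ⁻¹ᵁ V) ⊤ hwU =
        (r ≫ ((X ⊗ X).hom ⁻¹ᵁ V).ι ≫ pr.left).appLE (X.hom ⁻¹ᵁ V) ⊤ hle :=
      GeomCat.appLE_congr_hom _ _ hwl _ _ _ _
    rw [e1, ← Scheme.Hom.appLE_comp_appLE r _ (X.hom ⁻¹ᵁ V) ⊤ ⊤ (hpr pr) le_top,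
      ← UnivCat.appTop_eq_appLE, hD']
    exact ⟨_, rfl⟩
  have hxl : (qPt QV ≫ snd G X).left = r ≫ ((X ⊗ X).hom ⁻¹ᵁ V).ι ≫ (snd X X).left := by
    have h1 : (lift a.act (snd G X)).left ≫ (snd X X).left = (snd G X).left := by
      rw [← Over.comp_left, lift_snd]
    rw [← Category.assoc, hrdef, Category.assoc, h1]
    rfl
  have hyl : (qPt QV ≫ a.act).left = r ≫ ((X ⊗ X).hom ⁻¹ᵁ V).ι ≫ (fst X X).left := by
    have h1 : (lift a.act (snd G X)).left ≫ (fst X X).left = a.act.left := by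
      rw [← Over.comp_left, lift_fst]
    rw [← Category.assoc, hrdef, Category.assoc, h1]
    rfl
  have hx := hw _ _ hxl
  obtain ⟨hy, hyeq⟩ := hρ (qObj QV) inferInstance (qPt QV ≫ fst G X) (qPt QV ≫ snd G X) hx
    (qPt QV ≫ a.act) hyx
  have hB : ∀ m : Multiplicative M, evHom ((qPt QV ≫ fst G X) ≫ e.hom) m ∈ D' := by
    intro m
    let J' : Ideal Γ(X.left, X.hom ⁻¹ᵁ V) :=
      { carrier := {z | evHom ((qPt QV ≫ fst G X) ≫ e.hom) m *
          ((qPt QV ≫ snd G X).left.appLE (X.hom ⁻¹ᵁ V) ⊤ hx).hom z ∈ D'}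
        add_mem' := by
          intro z z' hz hz'
          show _ * _ ∈ D'
          rw [map_add, mul_add]
          exact D'.add_mem hz hz'
        zero_mem' := by
          show _ * _ ∈ D'
          rw [map_zero, mul_zero]
          exact D'.zero_mem
        smul_mem' := by
          intro c z hz
          show _ * _ ∈ D'
          rw [smul_eq_mul, map_mul, mul_left_comm]
          exact D'.mul_mem (hA _ _ hxl hx c) hz }
    have hle : Ideal.span {b : Γ(X.left, X.hom ⁻¹ᵁ V) | ρ b = MonoidAlgebra.single m b} ≤ J' := by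
      rw [Ideal.span_le]
      intro b hb
      show _ * _ ∈ D'
      have h1 := hA _ _ hyl hy b
      rw [hyeq, RingHom.comp_apply] at h1
      erw [hb] at h1
      rw [MonoidAlgebra.liftNCRingHom_single] at h1
      rw [mul_comm]
      exact h1
    have h1 : (1 : Γ(X.left, X.hom ⁻¹ᵁ V)) ∈ J' := by
      apply hle
      rw [hspan m]
      trivial
    have h2 : evHom ((qPt QV ≫ fst G X) ≫ e.hom) m *
        ((qPt QV ≫ snd G X).left.appLE (X.hom ⁻¹ᵁ V) ⊤ hx).hom 1 ∈ D' := h1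
    rw [map_one, _root_.mul_one] at h2
    exact h2
  have htop : D' = ⊤ := by
    refine Groth.Agent.H93.FreeRet.ret e hU QV ?_ hx D' (fun b => hA _ _ hxl hx b) hB
    rw [hQVdef]
    exact hQeq'
  intro c
  have hc : c ∈ D' := by rw [htop]; trivial
  rw [hD'] at hc
  obtain ⟨d, hd⟩ := hc
  exact ⟨d, hd⟩

/-- the graph of a free action of a diagonalisable group on a relatively affine scheme is a closed
immersion. -/
theorem core (e : G ≅ Red.DS S M) [IsMonHom e.hom] (a : AlgGrp.Action G X)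
    (hX : IsAffineHom X.hom)
    (hfree : ∀ (Y : Over S) (g : Y ⟶ G) (x : Y ⟶ X), lift g x ≫ a.act = x → g = 1) :
    IsClosedImmersion (lift a.act (snd G X)).left := by
  rw [IsZariskiLocalAtTarget.iff_of_iSup_eq_top (P := @IsClosedImmersion)
    (fun V : S.affineOpens => (X ⊗ X).hom ⁻¹ᵁ V.1)
    (Scheme.Hom.iSup_preimage_eq_top _ (iSup_affineOpens_eq_top S))]
  intro V
  exact core_aux e a hX hfree V.1 V.2

end Groth.Agent.H93.FreeCore
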