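import Mathlib
import Groth.Agent.S0083
import Groth.Agent.H26.QcCover

/-!
# H93/FreeD1: descent of closed immersions along a Prelude-style fpqc cover with Zariski charts.
-/

set_option autoImplicit false
universe u
open CategoryTheory CategoryTheory.Limits AlgebraicGeometry MorphismProperty

namespace Groth.Agent.H93.FreeD1

section
variable {Q P : Scheme.{u}} (gam : Q ⟶ P)

/-- the base change of `gam` along `t` is a closed immersion. -/
def CI {T : Scheme.{u}} (t : T ⟶ P) : Prop := IsClosedImmersion (pullback.fst t gam)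

theorem CI_comp_iff {T T' : Scheme.{u}} (t : T ⟶ P) (v : T' ⟶ T) :
    CI gam (v ≫ t) ↔ IsClosedImmersion (pullback.fst v (pullback.fst t gam)) := by
  unfold CI
  rw [← pullbackRightPullbackFstIso_inv_fst,
    MorphismProperty.cancel_left_of_respectsIso (P := @IsClosedImmersion)]

theorem CI_comp {T T' : Scheme.{u}} (t : T ⟶ P) (v : T' ⟶ T) (h : CI gam t) : CI gam (v ≫ t) := by
  rw [CI_comp_iff]
  exact MorphismProperty.pullback_fst (P := @IsClosedImmersion) _ _ h

theorem CI_descent {T T' : Scheme.{u}} (t : T ⟶ P) (v : T' ⟶ T) (hv1 : Surjective v)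
    (hv2 : Flat v) (hv3 : QuasiCompact v) (h : CI gam (v ≫ t)) : CI gam t := by
  rw [CI_comp_iff] at h
  haveI := Groth.Agent.S0083.result.{u}
  exact MorphismProperty.of_pullback_fst_of_descendsAlong (P := @IsClosedImmersion)
    (Q := (@Surjective ⊓ @Flat ⊓ @QuasiCompact : MorphismProperty Scheme.{u})) (f := v)
    ⟨⟨hv1, hv2⟩, hv3⟩ h

theorem CI_local {T : Scheme.{u}} (t : T ⟶ P) {ι : Type*} (U : ι → T.Opens) (hU : iSup U = ⊤)
    (h : ∀ i, CI gam ((U i).ι ≫ t)) : CI gam t := by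
  unfold CI
  refine IsZariskiLocalAtTarget.of_iSup_eq_top (P := @IsClosedImmersion) U hU (fun i => ?_)
  have h1 : IsClosedImmersion (pullback.fst (U i).ι (pullback.fst t gam)) :=
    (CI_comp_iff gam t (U i).ι).mp (h i)
  have h2 : IsClosedImmersion (pullback.snd (pullback.fst t gam) (U i).ι) := by
    rw [← pullbackSymmetry_hom_comp_fst,
      MorphismProperty.cancel_left_of_respectsIso (P := @IsClosedImmersion)]
    exact h1
  show IsClosedImmersion ((pullbackRestrictIsoRestrict (pullback.fst t gam) (U i)).inv ≫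
    pullback.snd (pullback.fst t gam) (U i).ι)
  rw [MorphismProperty.cancel_left_of_respectsIso (P := @IsClosedImmersion)]
  exact h2

theorem CI_of_isPullback {T Q' : Scheme.{u}} (t : T ⟶ P) (gam' : Q' ⟶ T) (q : Q' ⟶ Q)
    (hpb : IsPullback gam' q t gam) (hci : IsClosedImmersion gam') : CI gam t := by
  unfold CI
  rw [← hpb.isoPullback_inv_fst,
    MorphismProperty.cancel_left_of_respectsIso (P := @IsClosedImmersion)]
  exact hci

theorem of_CI_id (h : CI gam (𝟙 P)) : IsClosedImmersion gam := by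
  unfold CI at h
  have h1 : pullback.fst (𝟙 P) gam = pullback.snd (𝟙 P) gam ≫ gam := by
    rw [← pullback.condition, Category.comp_id]
  rw [h1, MorphismProperty.cancel_left_of_respectsIso (P := @IsClosedImmersion)] at h
  exact h

end

/-- (D1) descent of closed immersions along a Prelude-style fpqc cover with Zariski charts -/
theorem closedImm_of_locally {S S' : Scheme.{u}} (f : S' ⟶ S) (hflat : Flat f)
    (hsurj : Surjective f)
    (hqc : ∀ V : S.Opens, IsAffineOpen V →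
      ∃ W : S'.Opens, IsCompact (W : Set S') ∧ f.base '' (W : Set S') = (V : Set S))
    (W : S' → S'.Opens) (hW : ∀ s', s' ∈ W s') {Q P : Scheme.{u}} (gam : Q ⟶ P) (π : P ⟶ S)
    (h : ∀ s', ∃ (Q' : Scheme.{u}) (gam' : Q' ⟶ pullback π ((W s').ι ≫ f)) (q : Q' ⟶ Q),
      IsPullback gam' q (pullback.fst π ((W s').ι ≫ f)) gam ∧ IsClosedImmersion gam') :
    IsClosedImmersion gam := by
  haveI := hflat
  apply of_CI_id
  refine CI_local gam (𝟙 P) (fun V : S.affineOpens => π ⁻¹ᵁ V.1)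
    (Scheme.Hom.iSup_preimage_eq_top _ (iSup_affineOpens_eq_top S)) (fun V => ?_)
  obtain ⟨WV, hWVc, hWVim⟩ := hqc V.1 V.2
  obtain ⟨a, haf, has, haq, hafac⟩ := Groth.Agent.H26.QcCover.exists_piece f V.1 V.2 WV hWVc hWVim
  refine CI_descent gam _ (pullback.fst (π ∣_ V.1) a)
    (MorphismProperty.pullback_fst (P := @Surjective) _ _ has)
    (MorphismProperty.pullback_fst (P := @Flat) _ _ haf)
    (MorphismProperty.pullback_fst (P := @QuasiCompact) _ _ haq) ?_
  have hcov : (⨆ s' : S', W s') = ⊤ :=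
    eq_top_iff.mpr fun x _ => TopologicalSpace.Opens.mem_iSup.mpr ⟨x, hW x⟩
  refine CI_local gam _ (fun s' : S' => (pullback.snd (π ∣_ V.1) a) ⁻¹ᵁ (WV.ι ⁻¹ᵁ (W s')))
    (Scheme.Hom.iSup_preimage_eq_top _ (Scheme.Hom.iSup_preimage_eq_top _ hcov)) (fun s' => ?_)
  obtain ⟨Q', gam', q, hpb, hci⟩ := h s'
  have h4 := CI_of_isPullback gam _ gam' q hpb hci
  have hrange : Set.range (((pullback.snd (π ∣_ V.1) a) ⁻¹ᵁ (WV.ι ⁻¹ᵁ (W s'))).ι ≫
      pullback.snd (π ∣_ V.1) a ≫ WV.ι).base ⊆ Set.range (W s').ι.base := by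
    rintro _ ⟨z, rfl⟩
    rw [Scheme.Opens.range_ι]
    exact z.2
  have hcond : (((pullback.snd (π ∣_ V.1) a) ⁻¹ᵁ (WV.ι ⁻¹ᵁ (W s'))).ι ≫
      pullback.fst (π ∣_ V.1) a ≫ (π ⁻¹ᵁ V.1).ι) ≫ π =
      IsOpenImmersion.lift (W s').ι _ hrange ≫ (W s').ι ≫ f := by
    rw [IsOpenImmersion.lift_fac_assoc]
    simp only [Category.assoc]
    rw [← morphismRestrict_ι, ← hafac, pullback.condition_assoc]
  have hk : pullback.lift _ _ hcond ≫ pullback.fst π ((W s').ι ≫ f) =
      ((pullback.snd (π ∣_ V.1) a) ⁻¹ᵁ (WV.ι ⁻¹ᵁ (W s'))).ι ≫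
        pullback.fst (π ∣_ V.1) a ≫ (π ⁻¹ᵁ V.1).ι ≫ 𝟙 P := by
    rw [pullback.lift_fst, Category.comp_id]
  rw [← hk]
  exact CI_comp gam _ _ h4

end Groth.Agent.H93.FreeD1
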