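import Groth.Agent.H93.MultRigid

/-!
# H93/FreeDefs: definitions for the squad proof of S5284 (free action of a group of multiplicative
type on an affine scheme: the graph is a closed immersion).
-/

set_option autoImplicit false
universe u
open CategoryTheory CategoryTheory.Limits MonoidalCategory CartesianMonoidalCategory MonObj GrpObj AlgebraicGeometry

namespace Groth.Agent.H93.FreeDefs
open Groth.Agent.H1.SplitTori Groth.Agent.H93.MultRigid

variable {S : Scheme.{u}} {G X : Over S} [GrpObj G] {M : Type} [AddCommGroup M]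

/-- `ρ : B → B[M]` (with `B = Γ(X, U)`) is the coaction of the action `a` of `G ≅ D_S(M)` on `X`
over the affine open `U`: for every affine test object `T` and points `g`, `x` (with `x` landing
in `U`), `g • x` lands in `U` and is given on sections by `b ↦ ∑ₘ ev(g)(m) · x^♯(ρ(b)ₘ)`. -/
def IsCoaction (e : G ≅ Red.DS S M) (a : AlgGrp.Action G X) (U : X.left.Opens)
    (ρ : Γ(X.left, U) →+* MonoidAlgebra Γ(X.left, U) (Multiplicative M)) : Prop :=
  ∀ (T : Over S) (_ : IsAffine T.left) (g : T ⟶ G) (x : T ⟶ X) (hx : ⊤ ≤ x.left ⁻¹ᵁ U)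
    (y : T ⟶ X) (_ : y = lift g x ≫ a.act),
    ∃ hy : ⊤ ≤ y.left ⁻¹ᵁ U, (y.left.appLE U ⊤ hy).hom =
      (MonoidAlgebra.liftNCRingHom (x.left.appLE U ⊤ hx).hom (evHom (g ≫ e.hom))
        (fun _ _ => Commute.all _ _)).comp ρ

/-- an open `W` of `G × X`, as an object over `S`. -/
noncomputable abbrev qObj (W : (G ⊗ X).left.Opens) : Over S := Over.mk (W.ι ≫ (G ⊗ X).hom)

/-- the tautological point of `G × X` with values in `qObj W`. -/
noncomputable abbrev qPt (W : (G ⊗ X).left.Opens) : qObj W ⟶ G ⊗ X := Over.homMk W.ι rfl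

end Groth.Agent.H93.FreeDefs
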