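import Mathlib
import Groth.Agent.H86.RSQuot

/-!
# Quotient ringed spaces: descending morphisms (helper93; variant of H86/RSQuot without a group)

* `uniq`: a morphism of ringed spaces which is surjective on points and injective on sections is an epimorphism.
* `exists_desc`: if `π : X ⟶ Y` is a topological quotient map, injective on sections, `f : X ⟶ Z` is constant
  on the fibres of `π` and the sections `f^♯ s` lie in the image of `π^♯`, then `f` factors through `π`.
-/

set_option autoImplicit false
universe u
open CategoryTheory TopologicalSpace Opposite AlgebraicGeometry Topology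

namespace Groth.Agent.H93.RSQuot2

open Groth.Agent.H86.RSQuot

theorem uniq {X Y Z : SheafedSpace CommRingCat.{u}} (π : X ⟶ Y)
    (hsurj : Function.Surjective π.hom.base)
    (h3 : ∀ V : Opens Y, Function.Injective (π.hom.c.app (op V)))
    (g g' : Y ⟶ Z) (h : π ≫ g = π ≫ g') : g = g' := by
  have wb : g.hom.base = g'.hom.base := by
    apply TopCat.hom_ext
    apply ContinuousMap.ext
    intro y
    obtain ⟨x, rfl⟩ := hsurj y
    exact congrArg (fun φ : X ⟶ Z => φ.hom.base x) h
  apply hom_ext' g g' wb
  intro U
  have inj := h3 ((Opens.map g'.hom.base).obj U)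
  have e : (g.hom.c.app (op U) ≫ Y.presheaf.map (eqToHom (by rw [wb]) :
        op ((Opens.map g.hom.base).obj U) ⟶ op ((Opens.map g'.hom.base).obj U))) ≫
        π.hom.c.app (op ((Opens.map g'.hom.base).obj U)) =
      g'.hom.c.app (op U) ≫ π.hom.c.app (op ((Opens.map g'.hom.base).obj U)) := by
    have A3 := nat'' π (W := (Opens.map g.hom.base).obj U) (W' := (Opens.map g'.hom.base).obj U)
      (eqToHom (by rw [wb]))
    have e3 : op ((Opens.map (π ≫ g').hom.base).obj U) =
        op ((Opens.map (π ≫ g).hom.base).obj U) := by rw [h]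
    have c1 : g.hom.c.app (op U) ≫ π.hom.c.app (op ((Opens.map g.hom.base).obj U)) =
        (g'.hom.c.app (op U) ≫ π.hom.c.app (op ((Opens.map g'.hom.base).obj U))) ≫
          X.presheaf.map (eqToHom e3) :=
      SheafedSpace.congr_hom_app h (op U)
    calc (g.hom.c.app (op U) ≫ Y.presheaf.map (eqToHom (by rw [wb]) :
          op ((Opens.map g.hom.base).obj U) ⟶ op ((Opens.map g'.hom.base).obj U))) ≫
          π.hom.c.app (op ((Opens.map g'.hom.base).obj U))
        = g.hom.c.app (op U) ≫ (Y.presheaf.map (eqToHom (by rw [wb]) :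
          op ((Opens.map g.hom.base).obj U) ⟶ op ((Opens.map g'.hom.base).obj U)) ≫
          π.hom.c.app (op ((Opens.map g'.hom.base).obj U))) := Category.assoc _ _ _
      _ = g.hom.c.app (op U) ≫ (π.hom.c.app (op ((Opens.map g.hom.base).obj U)) ≫
          X.presheaf.map ((Opens.map π.hom.base).op.map (eqToHom (by rw [wb]) :
          op ((Opens.map g.hom.base).obj U) ⟶ op ((Opens.map g'.hom.base).obj U)))) :=
          congrArg (g.hom.c.app (op U) ≫ ·) A3
      _ = (g.hom.c.app (op U) ≫ π.hom.c.app (op ((Opens.map g.hom.base).obj U))) ≫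
          X.presheaf.map ((Opens.map π.hom.base).op.map (eqToHom (by rw [wb]) :
          op ((Opens.map g.hom.base).obj U) ⟶ op ((Opens.map g'.hom.base).obj U))) :=
          (Category.assoc _ _ _).symm
      _ = ((g'.hom.c.app (op U) ≫ π.hom.c.app (op ((Opens.map g'.hom.base).obj U))) ≫
          X.presheaf.map (eqToHom e3)) ≫
          X.presheaf.map ((Opens.map π.hom.base).op.map (eqToHom (by rw [wb]) :
          op ((Opens.map g.hom.base).obj U) ⟶ op ((Opens.map g'.hom.base).obj U))) :=
          congrArg (· ≫ X.presheaf.map ((Opens.map π.hom.base).op.map (eqToHom (by rw [wb]) :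
          op ((Opens.map g.hom.base).obj U) ⟶ op ((Opens.map g'.hom.base).obj U)))) c1
      _ = (g'.hom.c.app (op U) ≫ π.hom.c.app (op ((Opens.map g'.hom.base).obj U))) ≫
          (X.presheaf.map (eqToHom e3) ≫
          X.presheaf.map ((Opens.map π.hom.base).op.map (eqToHom (by rw [wb]) :
          op ((Opens.map g.hom.base).obj U) ⟶ op ((Opens.map g'.hom.base).obj U)))) :=
          Category.assoc _ _ _
      _ = (g'.hom.c.app (op U) ≫ π.hom.c.app (op ((Opens.map g'.hom.base).obj U))) ≫ 𝟙 _ :=
          congrArg ((g'.hom.c.app (op U) ≫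
            π.hom.c.app (op ((Opens.map g'.hom.base).obj U))) ≫ ·)
            (((X.presheaf.map_comp _ _).symm.trans (map_eq_map _ (𝟙 _))).trans
              (X.presheaf.map_id _))
      _ = g'.hom.c.app (op U) ≫ π.hom.c.app (op ((Opens.map g'.hom.base).obj U)) :=
          Category.comp_id _
  apply CommRingCat.hom_ext
  apply RingHom.ext
  intro s
  apply inj
  exact ConcreteCategory.congr_hom e s

theorem exists_desc {X Y : SheafedSpace CommRingCat.{u}} (π : X ⟶ Y)
    (h1 : IsQuotientMap π.hom.base)
    (h3 : ∀ V : Opens Y, Function.Injective (π.hom.c.app (op V)))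
    (Z : SheafedSpace CommRingCat.{u}) (f : X ⟶ Z)
    (hfac : Function.FactorsThrough f.hom.base.hom π.hom.base.hom)
    (hrange : ∀ (fb : Y.carrier ⟶ Z.carrier) (W : Opens Z)
      (e : op ((Opens.map f.hom.base).obj W) =
        op ((Opens.map π.hom.base).obj ((Opens.map fb).obj W)))
      (s : Z.presheaf.obj (op W)),
      (f.hom.c.app (op W) ≫ X.presheaf.map (eqToHom e)) s ∈
        Set.range (π.hom.c.app (op ((Opens.map fb).obj W)))) :
    ∃ fbar : Y ⟶ Z, π ≫ fbar = f := by
  obtain ⟨fb, hfb⟩ : ∃ fb : Y.carrier ⟶ Z.carrier, π.hom.base ≫ fb = f.hom.base := by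
    refine ⟨TopCat.ofHom (Topology.IsQuotientMap.lift (f := π.hom.base.hom) h1 f.hom.base.hom hfac), ?_⟩
    apply TopCat.hom_ext
    exact Topology.IsQuotientMap.lift_comp (f := π.hom.base.hom) h1 f.hom.base.hom hfac
  have hV : ∀ W : Opens Z, (Opens.map π.hom.base).obj ((Opens.map fb).obj W) =
      (Opens.map f.hom.base).obj W := by
    intro W
    exact congrArg (fun b => (Opens.map b).obj W) hfb
  have stepB : ∀ W : Opens Z, ∃ cW : Z.presheaf.obj (op W) ⟶
      Y.presheaf.obj (op ((Opens.map fb).obj W)),
      cW ≫ π.hom.c.app (op ((Opens.map fb).obj W)) =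
        f.hom.c.app (op W) ≫ X.presheaf.map (eqToHom (congrArg op (hV W).symm)) := by
    intro W
    have hmem : ∀ s : Z.presheaf.obj (op W), ∃ y : Y.presheaf.obj (op ((Opens.map fb).obj W)),
        π.hom.c.app (op ((Opens.map fb).obj W)) y =
          (f.hom.c.app (op W) ≫ X.presheaf.map (eqToHom (congrArg op (hV W).symm))) s := by
      intro s
      exact hrange fb W (congrArg op (hV W).symm) s
    choose y hy using hmem
    have inj := h3 ((Opens.map fb).obj W)
    refine ⟨CommRingCat.ofHom
      { toFun := y
        map_one' := inj (by rw [hy, map_one, map_one])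
        map_mul' := fun a b => inj (by rw [hy, map_mul, map_mul, hy, hy])
        map_zero' := inj (by rw [hy, map_zero, map_zero])
        map_add' := fun a b => inj (by rw [hy, map_add, map_add, hy, hy]) }, ?_⟩
    apply CommRingCat.hom_ext
    apply RingHom.ext
    intro s
    exact hy s
  choose cW hcW using stepB
  have hnat : ∀ {W W' : Opens Z} (i : op W ⟶ op W'),
      Z.presheaf.map i ≫ cW W' = cW W ≫ Y.presheaf.map ((Opens.map fb).op.map i) := by
    intro W W' i
    have inj := h3 ((Opens.map fb).obj W')
    have e : (Z.presheaf.map i ≫ cW W') ≫ π.hom.c.app (op ((Opens.map fb).obj W')) =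
        (cW W ≫ Y.presheaf.map ((Opens.map fb).op.map i)) ≫
          π.hom.c.app (op ((Opens.map fb).obj W')) := by
      have A3 := nat'' π (W := (Opens.map fb).obj W) (W' := (Opens.map fb).obj W')
        ((Opens.map fb).op.map i)
      have A4 := nat'' f i
      calc (Z.presheaf.map i ≫ cW W') ≫ π.hom.c.app (op ((Opens.map fb).obj W'))
          = Z.presheaf.map i ≫ (cW W' ≫ π.hom.c.app (op ((Opens.map fb).obj W'))) :=
            Category.assoc _ _ _
        _ = Z.presheaf.map i ≫ (f.hom.c.app (op W') ≫
            X.presheaf.map (eqToHom (congrArg op (hV W').symm))) :=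
            congrArg (Z.presheaf.map i ≫ ·) (hcW W')
        _ = (Z.presheaf.map i ≫ f.hom.c.app (op W')) ≫
            X.presheaf.map (eqToHom (congrArg op (hV W').symm)) := (Category.assoc _ _ _).symm
        _ = (f.hom.c.app (op W) ≫ X.presheaf.map ((Opens.map f.hom.base).op.map i)) ≫
            X.presheaf.map (eqToHom (congrArg op (hV W').symm)) :=
            congrArg (· ≫ X.presheaf.map (eqToHom (congrArg op (hV W').symm))) A4
        _ = f.hom.c.app (op W) ≫ X.presheaf.map ((Opens.map f.hom.base).op.map i ≫
            eqToHom (congrArg op (hV W').symm)) :=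
            (Category.assoc _ _ _).trans
              (congrArg (f.hom.c.app (op W) ≫ ·) (X.presheaf.map_comp _ _).symm)
        _ = f.hom.c.app (op W) ≫ X.presheaf.map (eqToHom (congrArg op (hV W).symm) ≫
            (Opens.map π.hom.base).op.map ((Opens.map fb).op.map i)) :=
            congrArg (f.hom.c.app (op W) ≫ ·) (map_eq_map _ _)
        _ = (f.hom.c.app (op W) ≫ X.presheaf.map (eqToHom (congrArg op (hV W).symm))) ≫
            X.presheaf.map ((Opens.map π.hom.base).op.map ((Opens.map fb).op.map i)) :=
            (congrArg (f.hom.c.app (op W) ≫ ·) (X.presheaf.map_comp _ _)).trans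
              (Category.assoc _ _ _).symm
        _ = (cW W ≫ π.hom.c.app (op ((Opens.map fb).obj W))) ≫
            X.presheaf.map ((Opens.map π.hom.base).op.map ((Opens.map fb).op.map i)) :=
            congrArg (· ≫ X.presheaf.map ((Opens.map π.hom.base).op.map
              ((Opens.map fb).op.map i))) (hcW W).symm
        _ = cW W ≫ (π.hom.c.app (op ((Opens.map fb).obj W)) ≫
            X.presheaf.map ((Opens.map π.hom.base).op.map ((Opens.map fb).op.map i))) :=
            Category.assoc _ _ _
        _ = cW W ≫ (Y.presheaf.map ((Opens.map fb).op.map i) ≫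
            π.hom.c.app (op ((Opens.map fb).obj W'))) :=
            congrArg (cW W ≫ ·) A3.symm
        _ = (cW W ≫ Y.presheaf.map ((Opens.map fb).op.map i)) ≫
            π.hom.c.app (op ((Opens.map fb).obj W')) := (Category.assoc _ _ _).symm
    apply CommRingCat.hom_ext
    apply RingHom.ext
    intro s
    apply inj
    exact ConcreteCategory.congr_hom e s
  let cNat : Z.presheaf ⟶ fb _* Y.presheaf :=
    { app := fun U => cW (unop U)
      naturality := fun U U' i => hnat (W := unop U) (W' := unop U') i }
  let fbar : Y ⟶ Z := InducedCategory.homMk ({ base := fb, c := cNat } : PresheafedSpace.Hom _ _)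
  refine ⟨fbar, ?_⟩
  apply hom_ext' (π ≫ fbar) f hfb
  intro U
  have e1 : (cW U ≫ π.hom.c.app (op ((Opens.map fb).obj U))) ≫
      X.presheaf.map (eqToHom (congrArg op (hV U)) :
        op ((Opens.map π.hom.base).obj ((Opens.map fb).obj U)) ⟶
          op ((Opens.map f.hom.base).obj U)) = f.hom.c.app (op U) := by
    calc (cW U ≫ π.hom.c.app (op ((Opens.map fb).obj U))) ≫
          X.presheaf.map (eqToHom (congrArg op (hV U)))
        = (f.hom.c.app (op U) ≫ X.presheaf.map (eqToHom (congrArg op (hV U).symm))) ≫
          X.presheaf.map (eqToHom (congrArg op (hV U))) :=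
          congrArg (· ≫ X.presheaf.map (eqToHom (congrArg op (hV U)))) (hcW U)
      _ = f.hom.c.app (op U) ≫ (X.presheaf.map (eqToHom (congrArg op (hV U).symm)) ≫
          X.presheaf.map (eqToHom (congrArg op (hV U)))) := Category.assoc _ _ _
      _ = f.hom.c.app (op U) ≫ 𝟙 _ :=
          congrArg (f.hom.c.app (op U) ≫ ·)
            (((X.presheaf.map_comp _ _).symm.trans (map_eq_map _ (𝟙 _))).trans
              (X.presheaf.map_id _))
      _ = f.hom.c.app (op U) := Category.comp_id _
  exact e1

end Groth.Agent.H93.RSQuot2
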