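import Mathlib
import Groth.Prelude.Def_AlgGrp
import Groth.Prelude.Def_W4bk4git07Quot
import Groth.Agent.H93.RSQuot2

/-!
# Geometric quotients are categorical quotients (helper93, for S11427 / S11445)
-/

set_option autoImplicit false
universe u
open CategoryTheory Limits MonoidalCategory CartesianMonoidalCategory MonObj AlgebraicGeometry
  TopologicalSpace Opposite Topology

namespace Groth.Agent.H93.GeomCat

/-- A morphism of schemes which is surjective and injective on sections is an epimorphism. -/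
theorem cancel_scheme {X Y Z : Scheme.{u}} (φ : X ⟶ Y) (hsurj : Function.Surjective φ.base)
    (hinj : ∀ U : Y.Opens, Function.Injective (φ.app U)) (g g' : Y ⟶ Z) (h : φ ≫ g = φ ≫ g') :
    g = g' := by
  apply Scheme.Hom.ext'
  apply LocallyRingedSpace.Hom.ext'
  have h' : φ.toLRSHom.toShHom ≫ g.toLRSHom.toShHom = φ.toLRSHom.toShHom ≫ g'.toLRSHom.toShHom := by
    rw [← LocallyRingedSpace.comp_toShHom, ← LocallyRingedSpace.comp_toShHom]
    exact congrArg (fun m : X ⟶ Z => m.toLRSHom.toShHom) h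
  have := Groth.Agent.H93.RSQuot2.uniq φ.toLRSHom.toShHom hsurj hinj _ _ h'
  exact congrArg InducedCategory.Hom.hom this

theorem appLE_congr_hom {X Z : Scheme.{u}} (f g : X ⟶ Z) (h : f = g) (W : Z.Opens) (O : X.Opens)
    (e1 : O ≤ f ⁻¹ᵁ W) (e2 : O ≤ g ⁻¹ᵁ W) : f.appLE W O e1 = g.appLE W O e2 := by
  subst h; rfl

theorem invSection_of_invariant {X Z GX : Scheme.{u}} (act p2 : GX ⟶ X) (ψ : X ⟶ Z)
    (hψ : act ≫ ψ = p2 ≫ ψ) (W : Z.Opens) (O : X.Opens) (e : op (ψ ⁻¹ᵁ W) = op O)
    (O' : GX.Opens) (h1 : O' ≤ act ⁻¹ᵁ O) (h2 : O' ≤ p2 ⁻¹ᵁ O) (s : Γ(Z, W)) :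
    act.appLE O O' h1 ((ψ.app W ≫ X.presheaf.map (eqToHom e)) s) =
      p2.appLE O O' h2 ((ψ.app W ≫ X.presheaf.map (eqToHom e)) s) := by
  have e' : ψ ⁻¹ᵁ W = O := Opposite.op_injective e
  subst e'
  have e0 : (ψ.app W ≫ X.presheaf.map (eqToHom e)) = ψ.app W := by
    rw [eqToHom_refl, X.presheaf.map_id, Category.comp_id]
  rw [e0]
  have a1 : act.appLE (ψ ⁻¹ᵁ W) O' h1 (ψ.app W s) = (act ≫ ψ).appLE W O' h1 s := by
    rw [Scheme.Hom.comp_appLE]; rfl
  have a2 : p2.appLE (ψ ⁻¹ᵁ W) O' h2 (ψ.app W s) = (p2 ≫ ψ).appLE W O' h2 s := by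
    rw [Scheme.Hom.comp_appLE]; rfl
  rw [a1, a2, appLE_congr_hom _ _ hψ W O' h1 h2]

variable {S : Scheme.{u}} {G X Y : Over S} [GrpObj G]

theorem isCatQuot_of (a : AlgGrp.Action G X) (φ : X ⟶ Y)
    (hi : GIT.IsInvariant a φ)
    (hii : ∀ U : Y.left.Opens, Function.Injective (φ.left.app U) ∧
      Set.range (φ.left.app U) = {f | GIT.IsInvSection a φ U f})
    (hq : IsQuotientMap φ.left.base)
    (hfib : ∀ (Z : Over S) (ψ : X ⟶ Z), GIT.IsInvariant a ψ → ∀ x x' : X.left,
      φ.left.base x = φ.left.base x' → ψ.left.base x = ψ.left.base x') :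
    GIT.IsCatQuot a φ := by
  refine ⟨hi, fun Z ψ hψ => ?_⟩
  have hinj : ∀ U : Y.left.Opens, Function.Injective (φ.left.app U) := fun U => (hii U).1
  obtain ⟨fbar, hfbar⟩ := Groth.Agent.H93.RSQuot2.exists_desc φ.left.toLRSHom.toShHom hq hinj
    Z.left.toSheafedSpace ψ.left.toLRSHom.toShHom
    (by
      intro x x' hxx'
      exact hfib Z ψ hψ x x' hxx')
    (by
      intro fb W e s
      have hmem : (ψ.left.app W ≫ X.left.presheaf.map (eqToHom e)) s ∈
          {f | GIT.IsInvSection a φ ((Opens.map fb).obj W) f} := by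
        exact invSection_of_invariant a.act.left (snd G X).left ψ.left hψ.left W _ e _ _ _ s
      rw [← (hii ((Opens.map fb).obj W)).2] at hmem
      exact hmem)
  -- upgrade to a morphism of schemes
  have hloc : ∀ y : Y.left, IsLocalHom (fbar.hom.stalkMap y).hom := by
    intro y
    obtain ⟨x, rfl⟩ := hq.surjective y
    have hl := LocallyRingedSpace.isLocalHom_stalkMap_congr ψ.left.toLRSHom.toShHom
      (φ.left.toLRSHom.toShHom ≫ fbar) hfbar.symm x (ψ.left.toLRSHom.prop x)
    have hc : (φ.left.toLRSHom.toShHom ≫ fbar).hom.stalkMap x =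
        fbar.hom.stalkMap (φ.left.base x) ≫ φ.left.toLRSHom.toShHom.hom.stalkMap x :=
      PresheafedSpace.stalkMap.comp _ _ x
    rw [hc] at hl
    have hl' : IsLocalHom ((φ.left.toLRSHom.toShHom.hom.stalkMap x).hom.comp
        (fbar.hom.stalkMap (φ.left.base x)).hom) := hl
    exact isLocalHom_of_comp _ (φ.left.toLRSHom.toShHom.hom.stalkMap x).hom
  let χ₀ : Y.left ⟶ Z.left := ⟨⟨fbar.hom, hloc⟩⟩
  have hχ₀ : φ.left ≫ χ₀ = ψ.left := by
    apply Scheme.Hom.ext'
    apply LocallyRingedSpace.Hom.ext'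
    exact congrArg InducedCategory.Hom.hom hfbar
  have hw : χ₀ ≫ Z.hom = Y.hom := by
    apply cancel_scheme φ.left hq.surjective hinj
    rw [← Category.assoc, hχ₀, Over.w, Over.w]
  refine ⟨Over.homMk χ₀ hw, ?_, ?_⟩
  · ext
    simp only [Over.comp_left, Over.homMk_left]
    exact hχ₀
  · intro χ' hχ'
    ext
    simp only [Over.homMk_left]
    apply cancel_scheme φ.left hq.surjective hinj
    rw [hχ₀, ← hχ', Over.comp_left]

theorem isCatQuot_of_isGeomQuot (a : AlgGrp.Action G X) (φ : X ⟶ Y) (h : GIT.IsGeomQuot a φ) :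
    GIT.IsCatQuot a φ := by
  apply isCatQuot_of a φ h.inv h.sections
  · exact MorphismProperty.universally_le _ _ h.subm
  · intro Z ψ hψ x x' hxx'
    obtain ⟨z, hz1, hz2⟩ := Scheme.Pullback.exists_preimage_pullback x x' hxx'
    obtain ⟨w, hw⟩ := h.orbit z
    have e1 : a.act.left.base w = x := by
      have := congrArg (fun m => m.base w) (pullback.lift_fst a.act.left (snd G X).left h.inv.left)
      simp only [Scheme.Hom.comp_base, TopCat.comp_app] at this
      rw [← this, ← hz1]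
      exact congrArg _ hw
    have e2 : (snd G X).left.base w = x' := by
      have := congrArg (fun m => m.base w) (pullback.lift_snd a.act.left (snd G X).left h.inv.left)
      simp only [Scheme.Hom.comp_base, TopCat.comp_app] at this
      rw [← this, ← hz2]
      exact congrArg _ hw
    have e3 := congrArg (fun m => m.base w) hψ.left
    simp only [Scheme.Hom.comp_base, TopCat.comp_app] at e3
    rw [← e1, ← e2]
    exact e3

end Groth.Agent.H93.GeomCat
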