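import Mathlib
import Groth.Prelude.Def_W4bk4git07Quot
import Groth.Agent.H93.GeomCat
import Groth.Agent.H93.ThickAff

/-!
# Descent of geometric quotients along fpqc base change

Algebraic core: a jointly faithfully flat family detects membership in the image of a ring map
(after flat base change of the target).  Scheme level: sections of `O_Y → φ_* O_X` descend along a
flat surjective `α : Y' → Y`; gluing from affine opens to all opens; topological parts.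
-/

set_option autoImplicit false
universe u

namespace Groth.Agent.H93.GeomDescent

open CategoryTheory CategoryTheory.Limits AlgebraicGeometry TopologicalSpace Opposite TensorProduct
open Topology

section algebra

theorem one_mem_map_ker {A A' M : Type u} [CommRing A] [CommRing A'] [Algebra A A']
    [Module.Flat A A'] [AddCommGroup M] [Module A M] (m : M) (hm : m ⊗ₜ[A] (1 : A') = 0) :
    (1 : A') ∈ Ideal.map (algebraMap A A') (LinearMap.ker (LinearMap.toSpanSingleton A M m)) := by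
  set c : A →ₗ[A] M := LinearMap.toSpanSingleton A M m with hc
  set J : Submodule A A := LinearMap.ker c with hJ
  let cbar : (A ⧸ J) →ₗ[A] M := Submodule.liftQ J c le_rfl
  have hinj : Function.Injective cbar := by
    rw [← LinearMap.ker_eq_bot]
    exact Submodule.ker_liftQ_eq_bot _ _ _ le_rfl
  have hinj' : Function.Injective (cbar.rTensor A') :=
    Module.Flat.rTensor_preserves_injective_linearMap cbar hinj
  have hz : (Submodule.Quotient.mk (1 : A) : A ⧸ J) ⊗ₜ[A] (1 : A') = 0 := by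
    apply hinj'
    rw [map_zero, LinearMap.rTensor_tmul]
    have h1 : cbar (Submodule.Quotient.mk (1 : A)) = m := by
      rw [Submodule.liftQ_apply, hc, LinearMap.toSpanSingleton_apply, one_smul]
    rw [h1, hm]
  let I' : Ideal A' := Ideal.map (algebraMap A A') J
  let π : A' →ₗ[A] (A' ⧸ I') := (Ideal.Quotient.mkₐ A I').toLinearMap
  let β₀ : A →ₗ[A] (A' →ₗ[A] (A' ⧸ I')) := LinearMap.toSpanSingleton A (A' →ₗ[A] (A' ⧸ I')) π
  have hβ : J ≤ LinearMap.ker β₀ := by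
    intro x hx
    rw [LinearMap.mem_ker]
    ext y
    rw [LinearMap.toSpanSingleton_apply, LinearMap.smul_apply, LinearMap.zero_apply,
      ← map_smul]
    show Ideal.Quotient.mk I' (x • y) = 0
    rw [Ideal.Quotient.eq_zero_iff_mem, Algebra.smul_def]
    exact Ideal.mul_mem_right _ _ (Ideal.mem_map_of_mem _ hx)
  let β : (A ⧸ J) →ₗ[A] (A' →ₗ[A] (A' ⧸ I')) := Submodule.liftQ J β₀ hβ
  let θ : (A ⧸ J) ⊗[A] A' →ₗ[A] (A' ⧸ I') := TensorProduct.lift β
  have h2 := congrArg θ hz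
  rw [map_zero, TensorProduct.lift.tmul, Submodule.liftQ_apply,
    LinearMap.toSpanSingleton_apply, one_smul] at h2
  have h3 : Ideal.Quotient.mk I' (1 : A') = 0 := h2
  exact Ideal.Quotient.eq_zero_iff_mem.mp h3

theorem one_mem_of_cover {A : CommRingCat.{u}} (J : Ideal A)
    (H : ∀ 𝔭 : PrimeSpectrum A, ∃ (A' : CommRingCat.{u}) (g : A ⟶ A'),
      (∃ 𝔮 : PrimeSpectrum A', PrimeSpectrum.comap g.hom 𝔮 = 𝔭) ∧ (1 : A') ∈ J.map g.hom) :
    (1 : A) ∈ J := by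
  by_contra h1
  have hJ : J ≠ ⊤ := fun h => h1 (h ▸ Submodule.mem_top)
  obtain ⟨𝔪, h𝔪, hle⟩ := Ideal.exists_le_maximal J hJ
  obtain ⟨A', g, ⟨𝔮, h𝔮⟩, hone⟩ := H ⟨𝔪, h𝔪.isPrime⟩
  have hle' : J.map g.hom ≤ 𝔮.asIdeal := by
    rw [Ideal.map_le_iff_le_comap]
    have h2 : Ideal.comap g.hom 𝔮.asIdeal = 𝔪 := congrArg PrimeSpectrum.asIdeal h𝔮
    rw [h2]; exact hle
  exact 𝔮.isPrime.ne_top ((Ideal.eq_top_iff_one _).mpr (hle' hone))

theorem eq_zero_of_cover {A : CommRingCat.{u}} (s : A)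
    (H : ∀ 𝔭 : PrimeSpectrum A, ∃ (A' : CommRingCat.{u}) (g : A ⟶ A'), g.hom.Flat ∧
      (∃ 𝔮 : PrimeSpectrum A', PrimeSpectrum.comap g.hom 𝔮 = 𝔭) ∧ g.hom s = 0) : s = 0 := by
  have h1 : (1 : A) ∈ (LinearMap.ker (LinearMap.toSpanSingleton A A s) : Ideal A) := by
    apply one_mem_of_cover
    intro 𝔭
    obtain ⟨A', g, hflat, h𝔮, hs⟩ := H 𝔭
    refine ⟨A', g, h𝔮, ?_⟩
    let _ : Algebra A A' := g.hom.toAlgebra
    have : Module.Flat A A' := hflat
    refine one_mem_map_ker (A := A) (A' := A') (M := A) s ?_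
    calc s ⊗ₜ[A] (1 : A') = (s • (1 : A)) ⊗ₜ[A] (1 : A') := by rw [smul_eq_mul, mul_one]
      _ = (1 : A) ⊗ₜ[A] (s • (1 : A')) := TensorProduct.smul_tmul _ _ _
      _ = (1 : A) ⊗ₜ[A] (g.hom s) := by rw [Algebra.smul_def, mul_one]; rfl
      _ = 0 := by rw [hs, TensorProduct.tmul_zero]
  have h2 := LinearMap.mem_ker.mp h1
  rw [LinearMap.toSpanSingleton_apply, one_smul] at h2
  exact h2

theorem exists_of_cover {A B : CommRingCat.{u}} (ι : A ⟶ B) (f : B)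
    (H : ∀ 𝔭 : PrimeSpectrum A, ∃ (A' B' : CommRingCat.{u}) (g : A ⟶ A') (b : B ⟶ B')
      (ι' : A' ⟶ B'), IsPushout ι g b ι' ∧ g.hom.Flat ∧
      (∃ 𝔮 : PrimeSpectrum A', PrimeSpectrum.comap g.hom 𝔮 = 𝔭) ∧
      ∃ t, b.hom f = ι'.hom t) : ∃ s, ι.hom s = f := by
  let _ : Algebra A B := ι.hom.toAlgebra
  let N : Submodule A B := LinearMap.range (Algebra.linearMap A B)
  let m : B ⧸ N := N.mkQ f
  have h1 : (1 : A) ∈ (LinearMap.ker (LinearMap.toSpanSingleton A (B ⧸ N) m) : Ideal A) := by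
    apply one_mem_of_cover
    intro 𝔭
    obtain ⟨A', B', g, b, ι', sq, hflat, h𝔮, t, ht⟩ := H 𝔭
    refine ⟨A', g, h𝔮, ?_⟩
    let _ : Algebra A A' := g.hom.toAlgebra
    have : Module.Flat A A' := hflat
    refine one_mem_map_ker (A := A) (A' := A') (M := B ⧸ N) m ?_
    have sq' : IsPushout ι g
        (CommRingCat.ofHom (S := B ⊗[A] A') Algebra.TensorProduct.includeLeftRingHom)
        (CommRingCat.ofHom (S := B ⊗[A] A') Algebra.TensorProduct.includeRight.toRingHom) :=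
      CommRingCat.isPushout_tensorProduct A B A'
    let e := sq.isoIsPushout _ _ sq'
    have e1 : b ≫ e.hom = _ := sq.inl_isoIsPushout_hom _ _ sq'
    have e2 : ι' ≫ e.hom = _ := sq.inr_isoIsPushout_hom _ _ sq'
    have hten : f ⊗ₜ[A] (1 : A') = (1 : B) ⊗ₜ[A] t := by
      have h3 := congrArg e.hom.hom ht
      have h4 : e.hom.hom (b.hom f) = f ⊗ₜ[A] (1 : A') := ConcreteCategory.congr_hom e1 f
      have h5 : e.hom.hom (ι'.hom t) = (1 : B) ⊗ₜ[A] t := ConcreteCategory.congr_hom e2 t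
      rw [← h4, ← h5, h3]
    have h6 := congrArg (N.mkQ.rTensor A') hten
    rw [LinearMap.rTensor_tmul, LinearMap.rTensor_tmul] at h6
    show N.mkQ f ⊗ₜ[A] (1 : A') = 0
    rw [h6]
    have h0 : N.mkQ (1 : B) = 0 := by
      rw [Submodule.mkQ_apply, Submodule.Quotient.mk_eq_zero]
      exact ⟨1, by simp⟩
    rw [h0, TensorProduct.zero_tmul]
  have h2 := LinearMap.mem_ker.mp h1
  rw [LinearMap.toSpanSingleton_apply, one_smul] at h2
  have h3 : f ∈ N := (Submodule.Quotient.mk_eq_zero N).mp h2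
  obtain ⟨s, hs⟩ := h3
  exact ⟨s, hs⟩

end algebra


section scheme

theorem exists_prime_over {Y Y' : Scheme.{u}} (α : Y' ⟶ Y) [Surjective α] {U : Y.Opens}
    (hU : IsAffineOpen U) (𝔭 : PrimeSpectrum Γ(Y, U)) :
    ∃ (U' : Y'.Opens) (_ : IsAffineOpen U') (hle : U' ≤ α ⁻¹ᵁ U) (𝔮 : PrimeSpectrum Γ(Y', U')),
      PrimeSpectrum.comap (α.appLE U U' hle).hom 𝔮 = 𝔭 := by
  have hyU : hU.fromSpec.base 𝔭 ∈ (U : Set Y) := by
    rw [← hU.range_fromSpec]; exact ⟨𝔭, rfl⟩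
  obtain ⟨y', hy'⟩ := α.surjective (hU.fromSpec.base 𝔭)
  have hy'U : y' ∈ α ⁻¹ᵁ U := by
    show α.base y' ∈ (U : Set Y)
    rw [hy']; exact hyU
  obtain ⟨U', hU', hy'U', hle⟩ := exists_isAffineOpen_mem_and_subset hy'U
  have hr : y' ∈ Set.range hU'.fromSpec.base := by
    rw [hU'.range_fromSpec]; exact hy'U'
  obtain ⟨𝔮, h𝔮⟩ := hr
  refine ⟨U', hU', hle, 𝔮, ?_⟩
  have key := IsAffineOpen.SpecMap_appLE_fromSpec α hU hU' hle
  have h1 : hU.fromSpec.base ((Spec.map (α.appLE U U' hle)).base 𝔮) = hU.fromSpec.base 𝔭 := by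
    have h2 := congrArg (fun t => t.base 𝔮) key
    simp only [Scheme.Hom.comp_base, TopCat.comp_app] at h2
    rw [h2, h𝔮, hy']
  exact hU.fromSpec.isOpenEmbedding.injective h1

variable {X Y X' Y' : Scheme.{u}} {φ : X ⟶ Y} {α : Y' ⟶ Y} {pr : X' ⟶ X} {φ' : X' ⟶ Y'}

theorem preimage_le (w : pr ≫ φ = φ' ≫ α) {U : Y.Opens} {U' : Y'.Opens} (hle : U' ≤ α ⁻¹ᵁ U) :
    φ' ⁻¹ᵁ U' ≤ pr ⁻¹ᵁ (φ ⁻¹ᵁ U) := by
  intro x hx
  have h1 : α.base (φ'.base x) ∈ U := hle hx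
  show φ.base (pr.base x) ∈ U
  have h2 := congrArg (fun t => t.base x) w
  simp only [Scheme.Hom.comp_base, TopCat.comp_app] at h2
  rw [h2]; exact h1

/-- A commutative square of schemes gives a commutative square of `appLE`s. -/
theorem appLE_comp_eq {P' P X' X : Scheme.{u}} (σ' : P' ⟶ X') (pr : X' ⟶ X) (J : P' ⟶ P)
    (σ : P ⟶ X) (hσ : σ' ≫ pr = J ≫ σ) (V : X.Opens) (V' : X'.Opens) (O : P.Opens)
    (O' : P'.Opens) (e1 : V' ≤ pr ⁻¹ᵁ V) (e2 : O' ≤ σ' ⁻¹ᵁ V') (e3 : O ≤ σ ⁻¹ᵁ V)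
    (e4 : O' ≤ J ⁻¹ᵁ O) :
    pr.appLE V V' e1 ≫ σ'.appLE V' O' e2 = σ.appLE V O e3 ≫ J.appLE O O' e4 := by
  rw [Scheme.Hom.appLE_comp_appLE, Scheme.Hom.appLE_comp_appLE]
  exact GeomCat.appLE_congr_hom _ _ hσ _ _ _ _

theorem app_injective_of_cover (w : pr ≫ φ = φ' ≫ α) [Flat α] [Surjective α] {U : Y.Opens}
    (hU : IsAffineOpen U)
    (hinj : ∀ U' : Y'.Opens, IsAffineOpen U' → U' ≤ α ⁻¹ᵁ U → Function.Injective (φ'.app U')) :
    Function.Injective (φ.app U) := by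
  rw [injective_iff_map_eq_zero]
  intro s hs
  apply eq_zero_of_cover
  intro 𝔭
  obtain ⟨U', hU', hle, 𝔮, h𝔮⟩ := exists_prime_over α hU 𝔭
  refine ⟨Γ(Y', U'), α.appLE U U' hle, α.flat_appLE hU hU' hle, ⟨𝔮, h𝔮⟩, ?_⟩
  apply hinj U' hU' hle
  rw [map_zero]
  have h1 := ConcreteCategory.congr_hom
    (appLE_comp_eq φ' α pr φ w.symm U U' (φ ⁻¹ᵁ U) (φ' ⁻¹ᵁ U') hle le_rfl le_rfl
      (preimage_le w hle)) s
  rw [CommRingCat.comp_apply, CommRingCat.comp_apply, ← Scheme.Hom.app_eq_appLE,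
    ← Scheme.Hom.app_eq_appLE, hs, map_zero] at h1
  exact h1

theorem exists_section_of_cover (hpb : IsPullback pr φ' φ α) [Flat α] [Surjective α]
    [QuasiCompact φ] [QuasiSeparated φ] {U : Y.Opens} (hU : IsAffineOpen U) (f : Γ(X, φ ⁻¹ᵁ U))
    (hf : ∀ (U' : Y'.Opens) (_ : IsAffineOpen U') (hle : U' ≤ α ⁻¹ᵁ U),
      ∃ t : Γ(Y', U'), φ'.app U' t =
        pr.appLE (φ ⁻¹ᵁ U) (φ' ⁻¹ᵁ U') (preimage_le hpb.w hle) f) :
    ∃ s : Γ(Y, U), φ.app U s = f := by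
  have H := exists_of_cover (φ.appLE U (φ ⁻¹ᵁ U) le_rfl) f ?_
  · obtain ⟨s, hs⟩ := H
    refine ⟨s, ?_⟩
    rw [Scheme.Hom.app_eq_appLE]; exact hs
  intro 𝔭
  obtain ⟨U', hU', hle, 𝔮, h𝔮⟩ := exists_prime_over α hU 𝔭
  obtain ⟨t, ht⟩ := hf U' hU' hle
  have hUY : φ' ⁻¹ᵁ U' = pr ⁻¹ᵁ (φ ⁻¹ᵁ U) ⊓ φ' ⁻¹ᵁ U' :=
    (inf_eq_right.mpr (preimage_le hpb.w hle)).symm
  have hiso := isIso_pushoutSection_of_isQuasiSeparated_of_flat_right hpb hle
    (le_refl (φ ⁻¹ᵁ U)) hUY hU hU' (φ.isCompact_preimage hU.isCompact)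
    (φ.isQuasiSeparated_preimage hU.isQuasiSeparated)
  have hpo := (isIso_pushoutSection_iff hpb hle (le_refl (φ ⁻¹ᵁ U)) hUY).mp hiso
  refine ⟨Γ(Y', U'), Γ(X', φ' ⁻¹ᵁ U'), α.appLE U U' hle, _, _, hpo,
    α.flat_appLE hU hU' hle, ⟨𝔮, h𝔮⟩, t, ?_⟩
  rw [Scheme.Hom.app_eq_appLE] at ht
  exact ht.symm

end scheme


section inv

/-- Scheme-level form of `GIT.IsInvSection`. -/
def Inv {P X Y : Scheme.{u}} (σ π : P ⟶ X) (φ : X ⟶ Y) (U : Y.Opens) (f : Γ(X, φ ⁻¹ᵁ U)) : Prop :=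
  σ.appLE (φ ⁻¹ᵁ U) (σ ⁻¹ᵁ (φ ⁻¹ᵁ U) ⊓ π ⁻¹ᵁ (φ ⁻¹ᵁ U)) inf_le_left f =
    π.appLE (φ ⁻¹ᵁ U) (σ ⁻¹ᵁ (φ ⁻¹ᵁ U) ⊓ π ⁻¹ᵁ (φ ⁻¹ᵁ U)) inf_le_right f

variable {P X Y : Scheme.{u}} (σ π : P ⟶ X) (φ : X ⟶ Y)

theorem inv_of_app (hi : σ ≫ φ = π ≫ φ) (U : Y.Opens) (s : Γ(Y, U)) :
    Inv σ π φ U (φ.app U s) := by
  unfold Inv
  rw [Scheme.Hom.app_eq_appLE, ← CommRingCat.comp_apply, ← CommRingCat.comp_apply,
    Scheme.Hom.appLE_comp_appLE, Scheme.Hom.appLE_comp_appLE]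
  exact ConcreteCategory.congr_hom (GeomCat.appLE_congr_hom _ _ hi _ _ _ _) s

theorem inv_restrict {U W : Y.Opens} (hWU : W ≤ U) (f : Γ(X, φ ⁻¹ᵁ U)) (h : Inv σ π φ U f) :
    Inv σ π φ W (X.presheaf.map (homOfLE (φ.preimage_mono hWU)).op f) := by
  unfold Inv at h ⊢
  have hO : σ ⁻¹ᵁ (φ ⁻¹ᵁ W) ⊓ π ⁻¹ᵁ (φ ⁻¹ᵁ W) ≤ σ ⁻¹ᵁ (φ ⁻¹ᵁ U) ⊓ π ⁻¹ᵁ (φ ⁻¹ᵁ U) :=
    inf_le_inf (σ.preimage_mono (φ.preimage_mono hWU)) (π.preimage_mono (φ.preimage_mono hWU))
  have h1 := congrArg (P.presheaf.map (homOfLE hO).op) h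
  rw [← CommRingCat.comp_apply, ← CommRingCat.comp_apply, Scheme.Hom.appLE_map,
    Scheme.Hom.appLE_map] at h1
  rw [← CommRingCat.comp_apply, ← CommRingCat.comp_apply, Scheme.Hom.map_appLE,
    Scheme.Hom.map_appLE]
  exact h1

theorem inv_baseChange {P' X' Y' : Scheme.{u}} {σ π φ} {σ' π' : P' ⟶ X'} {φ' : X' ⟶ Y'}
    {α : Y' ⟶ Y} {pr : X' ⟶ X} {J : P' ⟶ P} (w : pr ≫ φ = φ' ≫ α) (hσ : σ' ≫ pr = J ≫ σ)
    (hπ : π' ≫ pr = J ≫ π) {U : Y.Opens} {U' : Y'.Opens} (hle : U' ≤ α ⁻¹ᵁ U)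
    (f : Γ(X, φ ⁻¹ᵁ U)) (h : Inv σ π φ U f) :
    Inv σ' π' φ' U' (pr.appLE (φ ⁻¹ᵁ U) (φ' ⁻¹ᵁ U') (preimage_le w hle) f) := by
  unfold Inv at h ⊢
  have e0 := preimage_le w hle
  have hOO : σ' ⁻¹ᵁ (φ' ⁻¹ᵁ U') ⊓ π' ⁻¹ᵁ (φ' ⁻¹ᵁ U') ≤
      J ⁻¹ᵁ (σ ⁻¹ᵁ (φ ⁻¹ᵁ U) ⊓ π ⁻¹ᵁ (φ ⁻¹ᵁ U)) := by
    intro x hx
    refine ⟨?_, ?_⟩
    · have h1 : pr.base (σ'.base x) ∈ φ ⁻¹ᵁ U := e0 hx.1
      show σ.base (J.base x) ∈ φ ⁻¹ᵁ U
      have h2 := congrArg (fun t => t.base x) hσ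
      simp only [Scheme.Hom.comp_base, TopCat.comp_app] at h2
      rw [← h2]; exact h1
    · have h1 : pr.base (π'.base x) ∈ φ ⁻¹ᵁ U := e0 hx.2
      show π.base (J.base x) ∈ φ ⁻¹ᵁ U
      have h2 := congrArg (fun t => t.base x) hπ
      simp only [Scheme.Hom.comp_base, TopCat.comp_app] at h2
      rw [← h2]; exact h1
  have k1 := ConcreteCategory.congr_hom
    (appLE_comp_eq σ' pr J σ hσ (φ ⁻¹ᵁ U) (φ' ⁻¹ᵁ U') _ _ e0 inf_le_left inf_le_left hOO) f
  have k2 := ConcreteCategory.congr_hom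
    (appLE_comp_eq π' pr J π hπ (φ ⁻¹ᵁ U) (φ' ⁻¹ᵁ U') _ _ e0 inf_le_right inf_le_right hOO) f
  rw [CommRingCat.comp_apply, CommRingCat.comp_apply] at k1 k2
  rw [k1, k2, h]

/-- The sections condition of a geometric quotient can be checked on affine opens. -/
theorem sections_of_affine
    (haff : ∀ W : Y.Opens, IsAffineOpen W → Function.Injective (φ.app W) ∧
      ∀ f, Inv σ π φ W f → ∃ s, φ.app W s = f) (U : Y.Opens) :
    Function.Injective (φ.app U) ∧ ∀ f, Inv σ π φ U f → ∃ s, φ.app U s = f := by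
  have cover : ∀ V : Y.Opens, V ≤ ⨆ i : {W : Y.Opens // IsAffineOpen W ∧ W ≤ V}, i.1 := by
    intro V y hy
    obtain ⟨W, hW, hyW, hWV⟩ := exists_isAffineOpen_mem_and_subset hy
    exact Opens.mem_iSup.mpr ⟨⟨W, hW, hWV⟩, hyW⟩
  have inj : ∀ V : Y.Opens, Function.Injective (φ.app V) := by
    intro V s₁ s₂ h
    refine Y.sheaf.eq_of_locally_eq' (fun i : {W : Y.Opens // IsAffineOpen W ∧ W ≤ V} => i.1) V
      (fun i => homOfLE i.2.2) (cover V) s₁ s₂ ?_
    intro i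
    apply (haff i.1 i.2.1).1
    show φ.app i.1 (Y.presheaf.map (homOfLE i.2.2).op s₁) =
      φ.app i.1 (Y.presheaf.map (homOfLE i.2.2).op s₂)
    rw [ThickAff.app_res, ThickAff.app_res, h]
  refine ⟨inj U, ?_⟩
  intro f hf
  choose sf hsf using fun i : {W : Y.Opens // IsAffineOpen W ∧ W ≤ U} =>
    (haff i.1 i.2.1).2 _ (inv_restrict σ π φ i.2.2 f hf)
  have hres : ∀ (i : {W : Y.Opens // IsAffineOpen W ∧ W ≤ U}) (W : Y.Opens) (hW : W ≤ i.1),
      φ.app W (Y.presheaf.map (homOfLE hW).op (sf i)) =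
        X.presheaf.map (homOfLE (φ.preimage_mono (hW.trans i.2.2))).op f := by
    intro i W hW
    rw [ThickAff.app_res, hsf i, ThickAff.res_res]
  have compat : ∀ i j : {W : Y.Opens // IsAffineOpen W ∧ W ≤ U},
      Y.presheaf.map (homOfLE (inf_le_left : i.1 ⊓ j.1 ≤ i.1)).op (sf i) =
        Y.presheaf.map (homOfLE (inf_le_right : i.1 ⊓ j.1 ≤ j.1)).op (sf j) := by
    intro i j
    apply inj (i.1 ⊓ j.1)
    rw [hres i _ inf_le_left, hres j _ inf_le_right]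
  obtain ⟨s, hs, -⟩ := Y.sheaf.existsUnique_gluing'
    (fun i : {W : Y.Opens // IsAffineOpen W ∧ W ≤ U} => i.1) U (fun i => homOfLE i.2.2) (cover U)
    sf (fun i j => compat i j)
  have hs' : ∀ i : {W : Y.Opens // IsAffineOpen W ∧ W ≤ U},
      Y.presheaf.map (homOfLE i.2.2).op s = sf i := hs
  refine ⟨s, ?_⟩
  refine X.sheaf.eq_of_locally_eq'
    (fun i : {W : Y.Opens // IsAffineOpen W ∧ W ≤ U} => φ ⁻¹ᵁ i.1) (φ ⁻¹ᵁ U)
    (fun i => homOfLE (φ.preimage_mono i.2.2)) ?_ _ _ ?_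
  · intro x hx
    obtain ⟨W, hW, hyW, hWV⟩ := exists_isAffineOpen_mem_and_subset (x := φ.base x) (U := U) hx
    exact Opens.mem_iSup.mpr ⟨⟨W, hW, hWV⟩, hyW⟩
  · intro i
    show X.presheaf.map (homOfLE (φ.preimage_mono i.2.2)).op (φ.app U s) =
      X.presheaf.map (homOfLE (φ.preimage_mono i.2.2)).op f
    rw [← ThickAff.app_res φ i.2.2 s, hs' i, hsf i]

end inv

section topo

theorem orbit_descend {P X Y P' X' Y' : Scheme.{u}} {σ π : P ⟶ X} {φ : X ⟶ Y} {σ' π' : P' ⟶ X'}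
    {φ' : X' ⟶ Y'} {α : Y' ⟶ Y} {pr : X' ⟶ X} {J : P' ⟶ P} (hpb : IsPullback pr φ' φ α)
    [Surjective α] (hσ : σ' ≫ pr = J ≫ σ) (hπ : π' ≫ pr = J ≫ π)
    (hi : σ ≫ φ = π ≫ φ) (hi' : σ' ≫ φ' = π' ≫ φ')
    (hsurj : Function.Surjective (pullback.lift σ' π' hi').base) :
    Function.Surjective (pullback.lift σ π hi).base := by
  intro z
  let q : pullback φ φ ⟶ Y := pullback.fst φ φ ≫ φ
  obtain ⟨y', hy'⟩ := α.surjective (q.base z)
  obtain ⟨w, hw1, hw2⟩ := Scheme.Pullback.exists_preimage_pullback (f := q) (g := α) z y' hy'.symm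
  have c1 : (pullback.fst q α ≫ pullback.fst φ φ) ≫ φ = pullback.snd q α ≫ α := by
    rw [Category.assoc]; exact pullback.condition
  have c2 : (pullback.fst q α ≫ pullback.snd φ φ) ≫ φ = pullback.snd q α ≫ α := by
    rw [Category.assoc, ← pullback.condition (f := φ) (g := φ)]; exact pullback.condition
  let l1 : pullback q α ⟶ X' := hpb.lift _ _ c1
  let l2 : pullback q α ⟶ X' := hpb.lift _ _ c2
  have l1f : l1 ≫ pr = pullback.fst q α ≫ pullback.fst φ φ := hpb.lift_fst _ _ _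
  have l1s : l1 ≫ φ' = pullback.snd q α := hpb.lift_snd _ _ _
  have l2f : l2 ≫ pr = pullback.fst q α ≫ pullback.snd φ φ := hpb.lift_fst _ _ _
  have l2s : l2 ≫ φ' = pullback.snd q α := hpb.lift_snd _ _ _
  let ℓ : pullback q α ⟶ pullback φ' φ' := pullback.lift l1 l2 (by rw [l1s, l2s])
  let m : pullback φ' φ' ⟶ pullback φ φ :=
    pullback.map φ' φ' φ φ pr pr α hpb.w.symm hpb.w.symm
  have hℓm : ℓ ≫ m = pullback.fst q α := by
    apply pullback.hom_ext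
    · simp only [ℓ, m, Category.assoc, pullback.lift_fst, pullback.lift_fst_assoc, l1f,
        pullback.map]
    · simp only [ℓ, m, Category.assoc, pullback.lift_snd, pullback.lift_snd_assoc, l2f,
        pullback.map]
  have hJ : J ≫ pullback.lift σ π hi = pullback.lift σ' π' hi' ≫ m := by
    apply pullback.hom_ext
    · simp only [m, Category.assoc, pullback.lift_fst, pullback.lift_fst_assoc, hσ, pullback.map]
    · simp only [m, Category.assoc, pullback.lift_snd, pullback.lift_snd_assoc, hπ, pullback.map]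
  obtain ⟨p', hp'⟩ := hsurj (ℓ.base w)
  refine ⟨J.base p', ?_⟩
  have h1 := congrArg (fun t => t.base p') hJ
  have h2 := congrArg (fun t => t.base w) hℓm
  simp only [Scheme.Hom.comp_base, TopCat.comp_app] at h1 h2
  rw [h1, hp', h2]
  exact hw1

theorem subm_descend {X Y X' Y' : Scheme.{u}} {φ : X ⟶ Y} {φ' : X' ⟶ Y'} {α : Y' ⟶ Y}
    {pr : X' ⟶ X} (hpb : IsPullback pr φ' φ α) [Flat α] [Surjective α] [QuasiCompact α]
    (h : GIT.IsUnivSubmersive φ') : GIT.IsUnivSubmersive φ := by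
  intro XT T i₁ i₂ f' hT
  let q : pullback i₂ α ⟶ T := pullback.fst i₂ α
  let r : pullback i₂ α ⟶ Y' := pullback.snd i₂ α
  let u : pullback f' q ⟶ XT := pullback.fst f' q
  let v : pullback f' q ⟶ pullback i₂ α := pullback.snd f' q
  have big : IsPullback (u ≫ i₁) v φ (q ≫ i₂) :=
    (IsPullback.of_hasPullback f' q).paste_horiz hT.flip
  have hqr : q ≫ i₂ = r ≫ α := pullback.condition
  have c : (u ≫ i₁) ≫ φ = (v ≫ r) ≫ α := by
    rw [big.w, hqr, Category.assoc]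
  let L : pullback f' q ⟶ X' := hpb.lift _ _ c
  have L1 : L ≫ pr = u ≫ i₁ := hpb.lift_fst _ _ _
  have L2 : L ≫ φ' = v ≫ r := hpb.lift_snd _ _ _
  have big' : IsPullback (L ≫ pr) v φ (r ≫ α) := by
    rw [L1, ← hqr]; exact big
  have pbv : IsPullback L v φ' r := IsPullback.of_right big' L2 hpb
  have hv : IsQuotientMap v.base := h L r v pbv.flip
  have hq : IsQuotientMap q.base := Flat.isQuotientMap_of_surjective q
  have hcomp : IsQuotientMap (f'.base ∘ u.base) := by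
    have e : (f'.base : XT → T) ∘ (u.base : _ → XT) = (q.base : _ → T) ∘ (v.base : _ → _) := by
      funext x
      have h2 := congrArg (fun t => t.base x) (pullback.condition (f := f') (g := q))
      simp only [Scheme.Hom.comp_base, TopCat.comp_app] at h2
      exact h2
    rw [e]; exact hq.comp hv
  exact IsQuotientMap.of_comp u.continuous f'.continuous hcomp

end topo


section git

open MonoidalCategory CartesianMonoidalCategory MonObj GrpObj

variable {S : Scheme.{u}} {G X Y X' Y' : Over S} [GrpObj G]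

/-- A geometric quotient descends along a faithfully flat quasi-compact base change of the target
(for `φ` quasi-compact and quasi-separated). -/
theorem isGeomQuot_descend (a : AlgGrp.Action G X) (φ : X ⟶ Y) (hinv : GIT.IsInvariant a φ)
    [QuasiCompact φ.left] [QuasiSeparated φ.left]
    (α : Y' ⟶ Y) [Flat α.left] [Surjective α.left] [QuasiCompact α.left]
    (pr : X' ⟶ X) (φ' : X' ⟶ Y') (hpb : IsPullback pr φ' φ α)
    (a' : AlgGrp.Action G X') (heq : a'.act ≫ pr = (G ◁ pr) ≫ a.act)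
    (h : GIT.IsGeomQuot a' φ') : GIT.IsGeomQuot a φ := by
  have hpbL : IsPullback pr.left φ'.left φ.left α.left := hpb.map (Over.forget _)
  have hσ : a'.act.left ≫ pr.left = (G ◁ pr).left ≫ a.act.left := by
    rw [← Over.comp_left, ← Over.comp_left, heq]
  have hπ : (snd G X').left ≫ pr.left = (G ◁ pr).left ≫ (snd G X).left := by
    rw [← Over.comp_left, ← Over.comp_left, whiskerLeft_snd]
  refine ⟨hinv, ?_, ?_, ?_, ?_⟩
  · intro y
    obtain ⟨y', hy'⟩ := α.left.surjective y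
    obtain ⟨x', hx'⟩ := h.surj y'
    refine ⟨pr.left.base x', ?_⟩
    have h2 := congrArg (fun t => t.base x') hpbL.w
    simp only [Scheme.Hom.comp_base, TopCat.comp_app] at h2
    rw [h2, hx']; exact hy'
  · exact orbit_descend hpbL hσ hπ hinv.left h.inv.left h.orbit
  · exact subm_descend hpbL h.subm
  · intro U
    have haff : ∀ W : Y.left.Opens, IsAffineOpen W → Function.Injective (φ.left.app W) ∧
        ∀ f, Inv a.act.left (snd G X).left φ.left W f → ∃ s, φ.left.app W s = f := by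
      intro W hW
      refine ⟨app_injective_of_cover hpbL.w hW (fun U' _ _ => (h.sections U').1), ?_⟩
      intro f hf
      refine exists_section_of_cover hpbL hW f (fun U' hU' hle => ?_)
      have h1 : pr.left.appLE (φ.left ⁻¹ᵁ W) (φ'.left ⁻¹ᵁ U') (preimage_le hpbL.w hle) f ∈
          {f | GIT.IsInvSection a' φ' U' f} :=
        inv_baseChange hpbL.w hσ hπ hle f hf
      rw [← (h.sections U').2] at h1
      exact h1
    have key := sections_of_affine a.act.left (snd G X).left φ.left haff U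
    refine ⟨key.1, ?_⟩
    ext f
    constructor
    · rintro ⟨s, rfl⟩
      exact inv_of_app a.act.left (snd G X).left φ.left hinv.left U s
    · intro hf
      exact key.2 f hf

/-- The induced action on a base change of an invariant morphism. -/
theorem exists_induced_action (a : AlgGrp.Action G X) (φ : X ⟶ Y) (hinv : GIT.IsInvariant a φ)
    (α : Y' ⟶ Y) (pr : X' ⟶ X) (φ' : X' ⟶ Y') (hpb : IsPullback pr φ' φ α) :
    ∃ a' : AlgGrp.Action G X', a'.act ≫ pr = (G ◁ pr) ≫ a.act ∧ GIT.IsInvariant a' φ' := by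
  have hinv0 : a.act ≫ φ = snd G X ≫ φ := hinv
  have hc : ((G ◁ pr) ≫ a.act) ≫ φ = (snd G X' ≫ φ') ≫ α := by
    rw [Category.assoc, hinv0, ← Category.assoc, whiskerLeft_snd, Category.assoc, Category.assoc,
      hpb.w]
  let act' : G ⊗ X' ⟶ X' := hpb.lift _ _ hc
  have h1 : act' ≫ pr = (G ◁ pr) ≫ a.act := hpb.lift_fst _ _ _
  have h2 : act' ≫ φ' = snd G X' ≫ φ' := hpb.lift_snd _ _ _
  refine ⟨⟨act', ?_, ?_⟩, h1, h2⟩
  · apply hpb.hom_ext
    · rw [Category.assoc, h1, ← Category.assoc, ← whisker_exchange, Category.assoc, a.one_act]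
      exact leftUnitor_naturality pr
    · rw [Category.assoc, h2, ← Category.assoc, whiskerRight_snd, leftUnitor_hom]
  · apply hpb.hom_ext
    · have hL : ((μ[G] ▷ X') ≫ act') ≫ pr =
          ((G ⊗ G) ◁ pr) ≫ (α_ G G X).hom ≫ (G ◁ a.act) ≫ a.act := by
        rw [Category.assoc, h1, ← Category.assoc, ← whisker_exchange, Category.assoc, a.mul_act]
      have hR : ((α_ G G X').hom ≫ (G ◁ act') ≫ act') ≫ pr =
          ((G ⊗ G) ◁ pr) ≫ (α_ G G X).hom ≫ (G ◁ a.act) ≫ a.act := by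
        rw [Category.assoc, Category.assoc, h1, ← whiskerLeft_comp_assoc, h1,
          whiskerLeft_comp_assoc, ← associator_naturality_right_assoc]
      rw [hL, hR]
    · have hL : ((μ[G] ▷ X') ≫ act') ≫ φ' = snd (G ⊗ G) X' ≫ φ' := by
        rw [Category.assoc, h2, ← Category.assoc, whiskerRight_snd]
      have hR : ((α_ G G X').hom ≫ (G ◁ act') ≫ act') ≫ φ' = snd (G ⊗ G) X' ≫ φ' := by
        rw [Category.assoc, Category.assoc, h2, whiskerLeft_snd_assoc, h2,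
          associator_hom_snd_snd_assoc]
      rw [hL, hR]

theorem afterBaseChange_descend (a : AlgGrp.Action G X) (φ : X ⟶ Y)
    [QuasiCompact φ.left] [QuasiSeparated φ.left]
    (α : Y' ⟶ Y) [Flat α.left] [Surjective α.left] [QuasiCompact α.left]
    (pr : X' ⟶ X) (φ' : X' ⟶ Y') (hpb : IsPullback pr φ' φ α)
    (a' : AlgGrp.Action G X') (heq : a'.act ≫ pr = (G ◁ pr) ≫ a.act)
    (hinv' : GIT.IsInvariant a' φ')
    (h2 : GIT.AfterBaseChange (fun _ _ a' φ' => GIT.IsGeomQuot a' φ') (fun _ _ => True) a' φ') :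
    GIT.AfterBaseChange (fun _ _ a' φ' => GIT.IsGeomQuot a' φ') (fun _ _ => True) a φ := by
  intro XZ Z prZ φZ g _ hpbZ aZ heqZ hinvZ
  let αZ : pullback g α ⟶ Z := pullback.fst g α
  let gZ' : pullback g α ⟶ Y' := pullback.snd g α
  let prZ' : pullback φZ αZ ⟶ XZ := pullback.fst φZ αZ
  let φZ' : pullback φZ αZ ⟶ pullback g α := pullback.snd φZ αZ
  have hpbZ' : IsPullback prZ' φZ' φZ αZ := IsPullback.of_hasPullback _ _
  have hcond : αZ ≫ g = gZ' ≫ α := pullback.condition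
  obtain ⟨aZ', heqZ', hinvZ'⟩ := exists_induced_action aZ φZ hinvZ αZ prZ' φZ' hpbZ'
  have hinv0 : a'.act ≫ φ' = snd G X' ≫ φ' := hinv'
  have hinvZ0 : aZ'.act ≫ φZ' = snd G _ ≫ φZ' := hinvZ'
  have hc : (prZ' ≫ prZ) ≫ φ = (φZ' ≫ gZ') ≫ α := by
    rw [Category.assoc, hpbZ.w, ← Category.assoc, hpbZ'.w, Category.assoc, Category.assoc, hcond]
  let pr'' : pullback φZ αZ ⟶ X' := hpb.lift _ _ hc
  have p1 : pr'' ≫ pr = prZ' ≫ prZ := hpb.lift_fst _ _ _
  have p2 : pr'' ≫ φ' = φZ' ≫ gZ' := hpb.lift_snd _ _ _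
  have hpb'' : IsPullback pr'' φZ' φ' gZ' := by
    have big : IsPullback (prZ' ≫ prZ) φZ' φ (αZ ≫ g) := hpbZ'.paste_horiz hpbZ
    have big' : IsPullback (pr'' ≫ pr) φZ' φ (gZ' ≫ α) := by
      rw [p1, ← hcond]; exact big
    exact IsPullback.of_right big' p2 hpb
  have heq'' : aZ'.act ≫ pr'' = (G ◁ pr'') ≫ a'.act := by
    apply hpb.hom_ext
    · have hL : (aZ'.act ≫ pr'') ≫ pr = (G ◁ (prZ' ≫ prZ)) ≫ a.act := by
        rw [Category.assoc, p1, ← Category.assoc, heqZ', Category.assoc, heqZ,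
          ← whiskerLeft_comp_assoc]
      have hR : ((G ◁ pr'') ≫ a'.act) ≫ pr = (G ◁ (prZ' ≫ prZ)) ≫ a.act := by
        rw [Category.assoc, heq, ← whiskerLeft_comp_assoc, p1]
      rw [hL, hR]
    · have hL : (aZ'.act ≫ pr'') ≫ φ' = snd G _ ≫ φZ' ≫ gZ' := by
        rw [Category.assoc, p2, ← Category.assoc, hinvZ0, Category.assoc]
      have hR : ((G ◁ pr'') ≫ a'.act) ≫ φ' = snd G _ ≫ φZ' ≫ gZ' := by
        rw [Category.assoc, hinv0, whiskerLeft_snd_assoc, p2]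
      rw [hL, hR]
  have hgq' : GIT.IsGeomQuot aZ' φZ' := h2 pr'' φZ' gZ' trivial hpb'' aZ' heq'' hinvZ'
  have hpbZL : IsPullback prZ.left φZ.left φ.left g.left := hpbZ.map (Over.forget _)
  have : QuasiCompact φZ.left :=
    MorphismProperty.of_isPullback (P := @QuasiCompact) hpbZL inferInstance
  have : QuasiSeparated φZ.left :=
    MorphismProperty.of_isPullback (P := @QuasiSeparated) hpbZL inferInstance
  have hZ'L : IsPullback αZ.left gZ'.left g.left α.left :=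
    (IsPullback.of_hasPullback g α).map (Over.forget _)
  have : Flat αZ.left := MorphismProperty.of_isPullback (P := @Flat) hZ'L.flip inferInstance
  have : Surjective αZ.left :=
    MorphismProperty.of_isPullback (P := @Surjective) hZ'L.flip inferInstance
  have : QuasiCompact αZ.left :=
    MorphismProperty.of_isPullback (P := @QuasiCompact) hZ'L.flip inferInstance
  exact isGeomQuot_descend aZ φZ hinvZ αZ prZ' φZ' hpbZ' aZ' heqZ' hgq'

end git

end Groth.Agent.H93.GeomDescent
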