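import Mathlib
import Groth.Prelude.Def_Red
import Groth.Prelude.Def_Flat
import Groth.Agent.S5341
import Groth.Agent.H60.SectionComp
import Groth.Agent.H38.FibreDimLC
import Groth.Agent.H38.FibreDimLSC
import Groth.Agent.H38.FibreDimCons
import Groth.Agent.H50.Constructible
import Groth.Agent.H9.FibDimTop

/-!
# Dimension of the fibres of a group scheme (helper93)

For an `S`-group scheme `G` locally of finite type: every local fibre dimension equals the dimension
of the fibre (`fibreDimAt_eq_dim`), `s ↦ dim G_s` is upper semicontinuous and (lfp) locally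
constructible (S5329), and locally constant when `G` is flat lfp (S3022).
-/

set_option autoImplicit false
set_option linter.style.haveILetI false
universe u
open CategoryTheory CategoryTheory.Limits AlgebraicGeometry MonoidalCategory
  CartesianMonoidalCategory MonObj Topology

namespace Groth.Agent.H93.GrpFibDim

open Groth.Agent.H9.FibDim

theorem isLocallyConstructible_compl {X : Type*} [TopologicalSpace X] {s : Set X}
    (hs : IsLocallyConstructible s) : IsLocallyConstructible sᶜ := by
  intro x
  obtain ⟨U, hU, hUo, hc⟩ := hs x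
  refine ⟨U, hU, hUo, ?_⟩
  rw [Set.preimage_compl]
  exact hc.compl

variable {S : Scheme.{u}} (G : Over S) [GrpObj G]

/-- all local fibre dimensions of a group scheme equal the dimension of the fibre -/
theorem fibreDimAt_eq_dim [LocallyOfFiniteType G.hom] (x : G.left) :
    FlatMor.fibreDimAt G.hom x = topologicalKrullDim ↥(G.hom.base ⁻¹' {G.hom.base x}) := by
  set y := G.hom.base x with hy
  let G' : Over (Spec (CommRingCat.of (S.residueField y))) :=
    Red.bc (S.fromSpecResidueField y) G
  letI : GrpObj G' := Red.grpObj_bc (S.fromSpecResidueField y) G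
  haveI : LocallyOfFiniteType G'.hom :=
    MorphismProperty.pullback_snd (P := @LocallyOfFiniteType) _ _ inferInstance
  have h := (Groth.Agent.S5341.result (S.residueField y) G').2 (G.hom.asFiber x)
  have hC := (G.hom.fiberHomeo y).isHomeomorph.topologicalKrullDim_eq
  rw [← hC]
  exact h

theorem hom_unit (s : S) : G.hom.base (η[G].left.base s) = s :=
  congrArg (fun φ : S ⟶ S => φ.base s) (Over.w η[G])

theorem dim_fibre_eq [LocallyOfFiniteType G.hom] (s : S) :
    topologicalKrullDim ↥(G.hom.base ⁻¹' {s}) = FlatMor.fibreDimAt G.hom (η[G].left.base s) := by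
  rw [fibreDimAt_eq_dim G (η[G].left.base s), hom_unit G s]

theorem dim_fiber_eq [LocallyOfFiniteType G.hom] (s : S) :
    topologicalKrullDim ↥(G.hom.fiber s) = FlatMor.fibreDimAt G.hom (η[G].left.base s) := by
  rw [← dim_fibre_eq G s]
  exact (G.hom.fiberHomeo s).isHomeomorph.topologicalKrullDim_eq

theorem isOpen_setOf_le [LocallyOfFiniteType G.hom] (n : ℕ) :
    IsOpen {s : S | FlatMor.fibreDimAt G.hom (η[G].left.base s) ≤ (n : WithBot ℕ∞)} :=
  (isOpen_setOf_fibreDimAt_le G.hom n).preimage η[G].left.continuous

theorem exists_nat [LocallyOfFiniteType G.hom] (s : S) :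
    ∃ m : ℕ, FlatMor.fibreDimAt G.hom (η[G].left.base s) = (m : WithBot ℕ∞) :=
  Groth.Agent.H38.FibreDimCons.exists_fibreDimAt_eq G.hom _

/-- upper semicontinuity of `s ↦ dim G_s` -/
theorem upperSemicontinuous_dim [LocallyOfFiniteType G.hom] :
    UpperSemicontinuous (fun s : S => topologicalKrullDim ↥(G.hom.base ⁻¹' {s})) := by
  have key : (fun s : S => topologicalKrullDim ↥(G.hom.base ⁻¹' {s})) =
      fun s : S => FlatMor.fibreDimAt G.hom (η[G].left.base s) := funext (dim_fibre_eq G)
  rw [key]
  exact Groth.Agent.H60.SectionComp.upperSemicontinuous_fibreDimAt_section G.hom η[G].left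

theorem isLocallyConstructible_setOf_le [LocallyOfFinitePresentation G.hom] (n : ℕ) :
    IsLocallyConstructible
      {s : S | FlatMor.fibreDimAt G.hom (η[G].left.base s) ≤ (n : WithBot ℕ∞)} :=
  Groth.Agent.H50.isLocallyConstructible_preimage η[G].left
    (Groth.Agent.H38.FibreDimLC.isLocallyConstructible_setOf_fibreDimAt_le G.hom n)

/-- local constructibility of `s ↦ dim G_s` -/
theorem constructible_dim [LocallyOfFinitePresentation G.hom] (s : S) :
    ∃ V : S.Opens, s ∈ V ∧
      ((fun t : S => topologicalKrullDim ↥(G.hom.base ⁻¹' {t})) '' (V : Set S)).Finite ∧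
      ∀ d : WithBot ℕ∞, Topology.IsConstructible
        {t : V | topologicalKrullDim ↥(G.hom.base ⁻¹' {(t : S)}) = d} := by
  haveI : LocallyOfFiniteType G.hom := inferInstance
  obtain ⟨m, hm⟩ := exists_nat G s
  have hsN : s ∈ (⟨_, isOpen_setOf_le G m⟩ : S.Opens) := by
    show FlatMor.fibreDimAt G.hom (η[G].left.base s) ≤ (m : WithBot ℕ∞)
    rw [hm]
  obtain ⟨V, hVaff, hsV, hVN⟩ :=
    TopologicalSpace.Opens.isBasis_iff_nbhd.mp S.isBasis_affineOpens hsN
  have hle : ∀ t ∈ V, FlatMor.fibreDimAt G.hom (η[G].left.base t) ≤ (m : WithBot ℕ∞) :=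
    fun t ht => hVN ht
  refine ⟨V, hsV, ?_, ?_⟩
  · refine ((Finset.range (m + 1)).finite_toSet.image
      (fun n : ℕ => (n : WithBot ℕ∞))).subset ?_
    rintro _ ⟨t, ht, rfl⟩
    obtain ⟨n, hn⟩ := exists_nat G t
    have h1 := hle t ht
    rw [hn] at h1
    have h2 : n ≤ m := by exact_mod_cast h1
    refine ⟨n, ?_, ?_⟩
    · simp only [Finset.coe_range, Set.mem_Iio]; omega
    · show (n : WithBot ℕ∞) = topologicalKrullDim ↥(G.hom.base ⁻¹' {t})
      rw [dim_fibre_eq G t, hn]
  · intro d
    haveI : IsAffine (V : Scheme.{u}) := hVaff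
    -- constructibility of `{φ ≤ j}` on `V`
    have hcons : ∀ j : ℕ, Topology.IsConstructible
        {t : V | FlatMor.fibreDimAt G.hom (η[G].left.base (t : S)) ≤ (j : WithBot ℕ∞)} := by
      intro j
      have h1 : IsLocallyConstructible ((Scheme.Opens.ι (X := S) V ≫ η[G].left).base ⁻¹'
          {x : G.left | FlatMor.fibreDimAt G.hom x ≤ (j : WithBot ℕ∞)}) :=
        Groth.Agent.H50.isLocallyConstructible_preimage (Scheme.Opens.ι (X := S) V ≫ η[G].left)
          (Groth.Agent.H38.FibreDimLC.isLocallyConstructible_setOf_fibreDimAt_le G.hom j)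
      exact h1.isConstructible
    by_cases hd : ∃ j : ℕ, d = (j : WithBot ℕ∞)
    · obtain ⟨j, rfl⟩ := hd
      rcases Nat.eq_zero_or_pos j with rfl | hj
      · convert hcons 0 using 1
        ext t
        simp only [Set.mem_ofPred_eq]
        rw [dim_fibre_eq G (t : S)]
        obtain ⟨n, hn⟩ := exists_nat G (t : S)
        rw [hn]
        constructor
        · intro h; rw [h]
        · intro h
          have : n ≤ 0 := by exact_mod_cast h
          have : n = 0 := by omega
          rw [this]
      · convert (hcons j).sdiff (hcons (j - 1)) using 1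
        ext t
        simp only [Set.mem_ofPred_eq, Set.mem_sdiff]
        rw [dim_fibre_eq G (t : S)]
        obtain ⟨n, hn⟩ := exists_nat G (t : S)
        rw [hn]
        constructor
        · intro h
          have h' : n = j := by exact_mod_cast h
          subst h'
          refine ⟨le_refl _, fun h2 => ?_⟩
          have : n ≤ n - 1 := by exact_mod_cast h2
          omega
        · rintro ⟨h1, h2⟩
          have h1' : n ≤ j := by exact_mod_cast h1
          have h2' : ¬ n ≤ j - 1 := fun h => h2 (by exact_mod_cast h)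
          have : n = j := by omega
          rw [this]
    · convert Topology.IsConstructible.empty using 1
      ext t
      simp only [Set.mem_ofPred_eq, Set.mem_empty_iff_false, iff_false]
      rw [dim_fibre_eq G (t : S)]
      obtain ⟨n, hn⟩ := exists_nat G (t : S)
      rw [hn]
      exact fun h => hd ⟨n, h.symm⟩

/-- local constancy of `s ↦ dim G_s` for flat lfp group schemes -/
theorem isLocallyConstant_dim [Flat G.hom] [LocallyOfFinitePresentation G.hom] :
    IsLocallyConstant (fun s : S => topologicalKrullDim ↥(G.hom.base ⁻¹' {s})) := by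
  haveI : LocallyOfFiniteType G.hom := inferInstance
  haveI : UniversallyOpen G.hom := inferInstance
  rw [IsLocallyConstant.iff_exists_open]
  intro s
  obtain ⟨m, hm⟩ := exists_nat G s
  -- the lower bound is open
  have hlow : IsOpen {t : S | (m : WithBot ℕ∞) ≤ FlatMor.fibreDimAt G.hom (η[G].left.base t)} := by
    rcases Nat.eq_zero_or_pos m with rfl | hpos
    · convert isOpen_univ using 1
      ext t
      simp only [Set.mem_ofPred_eq, Set.mem_univ, iff_true]
      obtain ⟨n, hn⟩ := exists_nat G t
      rw [hn]
      exact_mod_cast Nat.zero_le n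
    · have hE : {t : S | (m : WithBot ℕ∞) ≤ FlatMor.fibreDimAt G.hom (η[G].left.base t)} =
          {t : S | ((m - 1 : ℕ) : WithBot ℕ∞) < topologicalKrullDim ↥(G.hom.fiber t)} := by
        ext t
        simp only [Set.mem_ofPred_eq]
        rw [dim_fiber_eq G t]
        obtain ⟨n, hn⟩ := exists_nat G t
        rw [hn]
        constructor
        · intro h
          have : m ≤ n := by exact_mod_cast h
          have : m - 1 < n := by omega
          exact_mod_cast this
        · intro h
          have : m - 1 < n := by exact_mod_cast h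
          have : m ≤ n := by omega
          exact_mod_cast this
      rw [hE]
      apply Groth.Agent.H38.FibreDimLSC.isOpen_of_isLocallyConstructible_of_stableUnderGeneralization
      · have hc : {t : S | ((m - 1 : ℕ) : WithBot ℕ∞) < topologicalKrullDim ↥(G.hom.fiber t)} =
            {t : S | FlatMor.fibreDimAt G.hom (η[G].left.base t) ≤ ((m - 1 : ℕ) : WithBot ℕ∞)}ᶜ := by
          ext t
          simp only [Set.mem_ofPred_eq, Set.mem_compl_iff, not_le]
          rw [dim_fiber_eq G t]
        rw [hc]
        exact isLocallyConstructible_compl (isLocallyConstructible_setOf_le G (m - 1))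
      · exact Groth.Agent.H38.FibreDimLSC.stableUnderGeneralization_setOf_lt_dim_fiber G.hom _
  refine ⟨{t : S | FlatMor.fibreDimAt G.hom (η[G].left.base t) ≤ (m : WithBot ℕ∞)} ∩
      {t : S | (m : WithBot ℕ∞) ≤ FlatMor.fibreDimAt G.hom (η[G].left.base t)},
    (isOpen_setOf_le G m).inter hlow, ⟨by simp only [Set.mem_ofPred_eq]; rw [hm],
      by simp only [Set.mem_ofPred_eq]; rw [hm]⟩, ?_⟩
  rintro t ⟨h1, h2⟩
  show topologicalKrullDim ↥(G.hom.base ⁻¹' {t}) = topologicalKrullDim ↥(G.hom.base ⁻¹' {s})
  rw [dim_fibre_eq G t, dim_fibre_eq G s, hm]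
  exact le_antisymm h1 h2

end Groth.Agent.H93.GrpFibDim
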