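import Groth.Agent.H93.QAff

/-!
# Ind-quasi-affine morphisms
-/

set_option autoImplicit false
universe u

namespace Groth.Agent.H93.QAff

open AlgebraicGeometry CategoryTheory CategoryTheory.Limits TopologicalSpace Opposite

/-- ind-quasi-affine morphism -/
def IndQAHom {X Y : Scheme.{u}} (f : X ⟶ Y) : Prop :=
  ∀ V : Y.Opens, IsAffineOpen V → IndQA (f ⁻¹ᵁ V : Scheme.{u})

lemma of_indQA_open {P X : Scheme.{u}} (k : P ⟶ X) [IsOpenImmersion k] [CompactSpace P]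
    (B : X.Opens) (hk : Set.range k ⊆ (B : Set X)) (hB : IndQA (B : Scheme.{u})) :
    P.IsQuasiAffine := by
  have hr : Set.range k ⊆ Set.range B.ι := by rwa [Scheme.Opens.range_ι]
  have h1 : IsOpenImmersion (IsOpenImmersion.lift B.ι k hr ≫ B.ι) := by
    rw [IsOpenImmersion.lift_fac]; infer_instance
  have h2 : IsOpenImmersion (IsOpenImmersion.lift B.ι k hr) := IsOpenImmersion.of_comp _ B.ι
  exact of_indQA (IsOpenImmersion.lift B.ι k hr) hB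

lemma ι_mem_preimage {P T : Scheme.{u}} (φ : P ⟶ T) (D : T.Opens) (z : (φ ⁻¹ᵁ D).toScheme) :
    φ ((φ ⁻¹ᵁ D).ι z) ∈ D := by
  have hz : (φ ⁻¹ᵁ D).ι z ∈ ((φ ⁻¹ᵁ D : P.Opens) : Set P) := by
    rw [← Scheme.Opens.range_ι]; exact ⟨z, rfl⟩
  exact hz

lemma ι_mem {P : Scheme.{u}} (U : P.Opens) (z : U.toScheme) : U.ι z ∈ U := by
  have hz : U.ι z ∈ Set.range U.ι := ⟨z, rfl⟩
  rwa [Scheme.Opens.range_ι] at hz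

lemma exists_compact_open_between {X : Scheme.{u}} (K : Set X) (hK : IsCompact K) (B : X.Opens)
    (hKB : K ⊆ (B : Set X)) :
    ∃ Uc : X.Opens, IsCompact (Uc : Set X) ∧ K ⊆ (Uc : Set X) ∧ Uc ≤ B := by
  classical
  have h : ∀ x : X, x ∈ B → ∃ A : X.Opens, A ∈ X.affineOpens ∧ x ∈ A ∧ A ≤ B := fun x hx =>
    Opens.isBasis_iff_nbhd.mp X.isBasis_affineOpens hx
  let A : X → X.Opens := fun x => if hx : x ∈ B then (h x hx).choose else ⊥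
  have hA1 : ∀ x, IsCompact (A x : Set X) := by
    intro x
    by_cases hx : x ∈ B
    · simp only [A, dif_pos hx]
      exact IsAffineOpen.isCompact (h x hx).choose_spec.1
    · simp only [A, dif_neg hx]
      simp
  have hA2 : ∀ x, A x ≤ B := by
    intro x
    by_cases hx : x ∈ B
    · simp only [A, dif_pos hx]
      exact (h x hx).choose_spec.2.2
    · simp only [A, dif_neg hx]
      exact bot_le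
  have hA3 : ∀ x ∈ K, (A x : Set X) ∈ nhds x := by
    intro x hx
    have hxB : x ∈ B := hKB hx
    simp only [A, dif_pos hxB]
    exact (h x hxB).choose.2.mem_nhds (h x hxB).choose_spec.2.1
  obtain ⟨t, -, ht⟩ := hK.elim_nhds_subcover (fun x => (A x : Set X)) hA3
  refine ⟨⨆ x ∈ t, A x, ?_, ?_, iSup₂_le fun x _ => hA2 x⟩
  · have e : ((⨆ x ∈ t, A x : X.Opens) : Set X) = ⋃ x ∈ t, (A x : Set X) := by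
      simp
    rw [e]
    exact t.isCompact_biUnion fun x _ => hA1 x
  · intro y hy
    have e : ((⨆ x ∈ t, A x : X.Opens) : Set X) = ⋃ x ∈ t, (A x : Set X) := by
      simp
    rw [e]
    exact ht hy

/-- If `g ∘ f` is ind-quasi-affine then so is `f`. -/
lemma indQAHom_of_comp {X Y Z : Scheme.{u}} (f : X ⟶ Y) (g : Y ⟶ Z) (h : IndQAHom (f ≫ g)) :
    IndQAHom f := by
  intro V hV U hU
  have hVa : IsAffine V.toScheme := hV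
  have hUc : CompactSpace U.toScheme := isCompact_iff_compactSpace.mp hU
  refine isQuasiAffine_of_cover_of_isAffine (U.ι ≫ (f ∣_ V))
    (ι := {D : V.toScheme.Opens // IsAffineOpen D ∧
      ∃ W : Z.Opens, IsAffineOpen W ∧ D ≤ (V.ι ≫ g) ⁻¹ᵁ W})
    (fun D => D.1) (iSup_affine_le_preimage_affine (V.ι ≫ g)) (fun D => D.2.1) (fun D => ?_)
  obtain ⟨D, hD, W, hW, hDW⟩ := D
  have hc : CompactSpace ((U.ι ≫ (f ∣_ V)) ⁻¹ᵁ D).toScheme :=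
    isCompact_iff_compactSpace.mp ((U.ι ≫ (f ∣_ V)).isCompact_preimage hD.isCompact)
  refine of_indQA_open (((U.ι ≫ (f ∣_ V)) ⁻¹ᵁ D).ι ≫ U.ι ≫ (f ⁻¹ᵁ V).ι) ((f ≫ g) ⁻¹ᵁ W) ?_
    (h W hW)
  rintro _ ⟨z, rfl⟩
  have hkf : (((U.ι ≫ (f ∣_ V)) ⁻¹ᵁ D).ι ≫ U.ι ≫ (f ⁻¹ᵁ V).ι) ≫ f =
      ((U.ι ≫ (f ∣_ V)) ⁻¹ᵁ D).ι ≫ (U.ι ≫ (f ∣_ V)) ≫ V.ι := by
    simp only [Category.assoc, morphismRestrict_ι]
  have h3 : f ((((U.ι ≫ (f ∣_ V)) ⁻¹ᵁ D).ι ≫ U.ι ≫ (f ⁻¹ᵁ V).ι) z) =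
      V.ι ((U.ι ≫ (f ∣_ V)) (((U.ι ≫ (f ∣_ V)) ⁻¹ᵁ D).ι z)) := by
    rw [← Scheme.Hom.comp_apply, hkf]; rfl
  show g (f ((((U.ι ≫ (f ∣_ V)) ⁻¹ᵁ D).ι ≫ U.ι ≫ (f ⁻¹ᵁ V).ι) z)) ∈ W
  rw [h3]
  exact hDW (ι_mem_preimage (U.ι ≫ (f ∣_ V)) D z)

/-- Ind-quasi-affine morphisms are stable under composition. -/
lemma indQAHom_comp {X Y Z : Scheme.{u}} (f : X ⟶ Y) (g : Y ⟶ Z) (hf : IndQAHom f)
    (hg : IndQAHom g) : IndQAHom (f ≫ g) := by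
  intro W hW
  change IndQA (f ⁻¹ᵁ (g ⁻¹ᵁ W) : Scheme.{u})
  intro U hU
  have hUc : CompactSpace U.toScheme := isCompact_iff_compactSpace.mp hU
  obtain ⟨Y', hY'c, hKY', -⟩ := exists_compact_open_between
    (Set.range (U.ι ≫ (f ∣_ (g ⁻¹ᵁ W)))) (isCompact_range (U.ι ≫ (f ∣_ (g ⁻¹ᵁ W))).continuous) ⊤
    (fun _ _ => trivial)
  have hY'q : Scheme.IsQuasiAffine (Y' : Scheme.{u}) := hg W hW Y' hY'c
  have hr : Set.range (U.ι ≫ (f ∣_ (g ⁻¹ᵁ W))) ⊆ Set.range Y'.ι := by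
    rwa [Scheme.Opens.range_ι]
  have hφ' : IsOpenImmersion.lift Y'.ι (U.ι ≫ (f ∣_ (g ⁻¹ᵁ W))) hr ≫ Y'.ι =
      U.ι ≫ (f ∣_ (g ⁻¹ᵁ W)) := IsOpenImmersion.lift_fac _ _ _
  generalize IsOpenImmersion.lift Y'.ι (U.ι ≫ (f ∣_ (g ⁻¹ᵁ W))) hr = φ' at hφ'
  have hqc : QuasiCompact φ' := inferInstance
  refine isQuasiAffine_of_qaHom φ' ⟨hqc, fun D hD => ?_⟩
  have hc : CompactSpace (φ' ⁻¹ᵁ D).toScheme :=
    isCompact_iff_compactSpace.mp (φ'.isCompact_preimage hD.isCompact)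
  have hDY : IsAffineOpen ((g ⁻¹ᵁ W).ι ''ᵁ (Y'.ι ''ᵁ D)) :=
    (hD.image_of_isOpenImmersion Y'.ι).image_of_isOpenImmersion (g ⁻¹ᵁ W).ι
  refine of_indQA_open ((φ' ⁻¹ᵁ D).ι ≫ U.ι ≫ (f ⁻¹ᵁ (g ⁻¹ᵁ W)).ι)
    (f ⁻¹ᵁ ((g ⁻¹ᵁ W).ι ''ᵁ (Y'.ι ''ᵁ D))) ?_ (hf _ hDY)
  rintro _ ⟨z, rfl⟩
  have hkf : ((φ' ⁻¹ᵁ D).ι ≫ U.ι ≫ (f ⁻¹ᵁ (g ⁻¹ᵁ W)).ι) ≫ f =
      (φ' ⁻¹ᵁ D).ι ≫ φ' ≫ Y'.ι ≫ (g ⁻¹ᵁ W).ι := by
    rw [← Category.assoc φ', hφ']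
    simp only [Category.assoc, morphismRestrict_ι]
  have h3 : f (((φ' ⁻¹ᵁ D).ι ≫ U.ι ≫ (f ⁻¹ᵁ (g ⁻¹ᵁ W)).ι) z) =
      (g ⁻¹ᵁ W).ι (Y'.ι (φ' ((φ' ⁻¹ᵁ D).ι z))) := by
    rw [← Scheme.Hom.comp_apply, hkf]; rfl
  show f (((φ' ⁻¹ᵁ D).ι ≫ U.ι ≫ (f ⁻¹ᵁ (g ⁻¹ᵁ W)).ι) z) ∈ (g ⁻¹ᵁ W).ι ''ᵁ (Y'.ι ''ᵁ D)
  rw [h3]
  exact Set.mem_image_of_mem _ (Set.mem_image_of_mem _ (ι_mem_preimage φ' D z))

/-- The base change of an ind-quasi-affine morphism is ind-quasi-affine. -/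
lemma indQAHom_baseChange {X S X' S' : Scheme.{u}} (f : X ⟶ S) (f' : X' ⟶ S') (g' : X' ⟶ X)
    (g : S' ⟶ S) (hc : IsPullback g' f' f g) (hf : IndQAHom f) : IndQAHom f' := by
  intro V' hV' U' hU'
  have hV'a : IsAffine V'.toScheme := hV'
  have hUc : CompactSpace U'.toScheme := isCompact_iff_compactSpace.mp hU'
  refine isQuasiAffine_of_cover_of_isAffine (U'.ι ≫ (f' ∣_ V'))
    (ι := {D : V'.toScheme.Opens // IsAffineOpen D ∧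
      ∃ V : S.Opens, IsAffineOpen V ∧ D ≤ (V'.ι ≫ g) ⁻¹ᵁ V})
    (fun D => D.1) (iSup_affine_le_preimage_affine (V'.ι ≫ g)) (fun D => D.2.1) (fun D => ?_)
  obtain ⟨D, hD, V, hV, hDV⟩ := D
  have hcP : CompactSpace ((U'.ι ≫ (f' ∣_ V')) ⁻¹ᵁ D).toScheme :=
    isCompact_iff_compactSpace.mp ((U'.ι ≫ (f' ∣_ V')).isCompact_preimage hD.isCompact)
  have hD1 : IsAffineOpen (V'.ι ''ᵁ D) := hD.image_of_isOpenImmersion V'.ι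
  have hD1V : V'.ι ''ᵁ D ≤ g ⁻¹ᵁ V := by
    rintro _ ⟨d, hd, rfl⟩
    exact hDV hd
  have hkf : (((U'.ι ≫ (f' ∣_ V')) ⁻¹ᵁ D).ι ≫ U'.ι ≫ (f' ⁻¹ᵁ V').ι) ≫ f' =
      ((U'.ι ≫ (f' ∣_ V')) ⁻¹ᵁ D).ι ≫ (U'.ι ≫ (f' ∣_ V')) ≫ V'.ι := by
    simp only [Category.assoc, morphismRestrict_ι]
  have hfk : ∀ z, f' ((((U'.ι ≫ (f' ∣_ V')) ⁻¹ᵁ D).ι ≫ U'.ι ≫ (f' ⁻¹ᵁ V').ι) z) ∈
      V'.ι ''ᵁ D := by
    intro z
    have h3 : f' ((((U'.ι ≫ (f' ∣_ V')) ⁻¹ᵁ D).ι ≫ U'.ι ≫ (f' ⁻¹ᵁ V').ι) z) =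
        V'.ι ((U'.ι ≫ (f' ∣_ V')) (((U'.ι ≫ (f' ∣_ V')) ⁻¹ᵁ D).ι z)) := by
      rw [← Scheme.Hom.comp_apply, hkf]; rfl
    rw [h3]
    exact Set.mem_image_of_mem _ (ι_mem_preimage (U'.ι ≫ (f' ∣_ V')) D z)
  have hKB : Set.range ((((U'.ι ≫ (f' ∣_ V')) ⁻¹ᵁ D).ι ≫ U'.ι ≫ (f' ⁻¹ᵁ V').ι) ≫ g') ⊆
      (f ⁻¹ᵁ V : Set X) := by
    rintro _ ⟨z, rfl⟩
    show f (((((U'.ι ≫ (f' ∣_ V')) ⁻¹ᵁ D).ι ≫ U'.ι ≫ (f' ⁻¹ᵁ V').ι) ≫ g') z) ∈ V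
    have h4 : f (((((U'.ι ≫ (f' ∣_ V')) ⁻¹ᵁ D).ι ≫ U'.ι ≫ (f' ⁻¹ᵁ V').ι) ≫ g') z) =
        g (f' ((((U'.ι ≫ (f' ∣_ V')) ⁻¹ᵁ D).ι ≫ U'.ι ≫ (f' ⁻¹ᵁ V').ι) z)) := by
      rw [← Scheme.Hom.comp_apply, ← Scheme.Hom.comp_apply, Category.assoc, hc.w, Category.assoc]
      rfl
    rw [h4]
    exact hD1V (hfk z)
  obtain ⟨Uc, hUcc, hKUc, hUcV⟩ := exists_compact_open_between _
    (isCompact_range ((((U'.ι ≫ (f' ∣_ V')) ⁻¹ᵁ D).ι ≫ U'.ι ≫ (f' ⁻¹ᵁ V').ι) ≫ g').continuous)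
    (f ⁻¹ᵁ V) hKB
  have hUcs : CompactSpace Uc.toScheme := isCompact_iff_compactSpace.mp hUcc
  have hUcq : Scheme.IsQuasiAffine (Uc : Scheme.{u}) :=
    of_indQA_open Uc.ι (f ⁻¹ᵁ V) (by rw [Scheme.Opens.range_ι]; exact hUcV) (hf V hV)
  have sq := Scheme.Hom.isPullback_resLE hc (US := V) (UT := V'.ι ''ᵁ D) (UX := Uc) hD1V hUcV
    (UY := g' ⁻¹ᵁ Uc ⊓ f' ⁻¹ᵁ (V'.ι ''ᵁ D)) rfl
  have : IsAffine V.toScheme := hV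
  have : IsAffine (V'.ι ''ᵁ D).toScheme := hD1
  have haff := MorphismProperty.of_isPullback (P := @IsAffineHom) sq.flip
    (inferInstance : IsAffineHom (g.resLE V (V'.ι ''ᵁ D) hD1V))
  have hUYq : Scheme.IsQuasiAffine ((g' ⁻¹ᵁ Uc ⊓ f' ⁻¹ᵁ (V'.ι ''ᵁ D) : X'.Opens) : Scheme.{u}) :=
    @Scheme.IsQuasiAffine.of_isAffineHom _ _ _ haff hUcq
  refine of_openImmersion_le (((U'.ι ≫ (f' ∣_ V')) ⁻¹ᵁ D).ι ≫ U'.ι ≫ (f' ⁻¹ᵁ V').ι) _ ?_ hUYq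
  rintro _ ⟨z, rfl⟩
  exact ⟨hKUc ⟨z, rfl⟩, hfk z⟩

/-- characterisation via qcqs opens -/
lemma indQAHom_iff {X Y : Scheme.{u}} (f : X ⟶ Y) :
    IndQAHom f ↔ ∀ (V : Y.Opens), IsCompact (V : Set ↑Y) → IsQuasiSeparated (V : Set ↑Y) →
      ∀ (U : X.Opens) (hUV : U ≤ f ⁻¹ᵁ V), IsCompact (U : Set ↑X) →
        QAHom (f.resLE V U hUV) := by
  constructor
  · intro hf V hVc hVqs U hUV hUc
    have h1 : CompactSpace U.toScheme := isCompact_iff_compactSpace.mp hUc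
    have h2 : QuasiSeparatedSpace V.toScheme :=
      (isQuasiSeparated_iff_quasiSeparatedSpace _ V.2).mp hVqs
    have hqc : QuasiCompact (f.resLE V U hUV) := inferInstance
    refine ⟨hqc, fun D hD => ?_⟩
    have hc : CompactSpace ((f.resLE V U hUV) ⁻¹ᵁ D).toScheme :=
      isCompact_iff_compactSpace.mp ((f.resLE V U hUV).isCompact_preimage hD.isCompact)
    refine of_indQA_open (((f.resLE V U hUV) ⁻¹ᵁ D).ι ≫ U.ι) (f ⁻¹ᵁ (V.ι ''ᵁ D)) ?_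
      (hf _ (hD.image_of_isOpenImmersion V.ι))
    rintro _ ⟨z, rfl⟩
    have hkf : ((((f.resLE V U hUV) ⁻¹ᵁ D).ι ≫ U.ι) ≫ f) =
        ((f.resLE V U hUV) ⁻¹ᵁ D).ι ≫ (f.resLE V U hUV) ≫ V.ι := by
      rw [Category.assoc, Scheme.Hom.resLE_comp_ι]
    have h3 : f ((((f.resLE V U hUV) ⁻¹ᵁ D).ι ≫ U.ι) z) =
        V.ι ((f.resLE V U hUV) (((f.resLE V U hUV) ⁻¹ᵁ D).ι z)) := by
      rw [← Scheme.Hom.comp_apply, hkf]; rfl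
    show f ((((f.resLE V U hUV) ⁻¹ᵁ D).ι ≫ U.ι) z) ∈ V.ι ''ᵁ D
    rw [h3]
    exact Set.mem_image_of_mem _ (ι_mem_preimage _ D z)
  · intro h V hV U' hU'
    have hVa : IsAffine V.toScheme := hV
    have hU'c : CompactSpace U'.toScheme := isCompact_iff_compactSpace.mp hU'
    have hUV : (f ⁻¹ᵁ V).ι ''ᵁ U' ≤ f ⁻¹ᵁ V := by
      rintro _ ⟨u, -, rfl⟩
      exact ι_mem (f ⁻¹ᵁ V) u
    have hUc : IsCompact (((f ⁻¹ᵁ V).ι ''ᵁ U' : X.Opens) : Set X) :=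
      hU'.image (f ⁻¹ᵁ V).ι.continuous
    have hQ := h V hV.isCompact hV.isQuasiSeparated _ hUV hUc
    have hUs : CompactSpace ((f ⁻¹ᵁ V).ι ''ᵁ U').toScheme := isCompact_iff_compactSpace.mp hUc
    have hq1 := hQ.2 ⊤ (isAffineOpen_top _)
    have hq2 : Scheme.IsQuasiAffine (((f ⁻¹ᵁ V).ι ''ᵁ U' : X.Opens) : Scheme.{u}) :=
      of_openImmersion_le (𝟙 _) ((f.resLE V ((f ⁻¹ᵁ V).ι ''ᵁ U') hUV) ⁻¹ᵁ ⊤)
        (fun _ _ => trivial) hq1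
    refine of_openImmersion_le (U'.ι ≫ (f ⁻¹ᵁ V).ι) ((f ⁻¹ᵁ V).ι ''ᵁ U') ?_ hq2
    rintro _ ⟨z, rfl⟩
    exact Set.mem_image_of_mem _ (ι_mem U' z)

end Groth.Agent.H93.QAff
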