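import Groth.Prelude.Def_Grpd
import Groth.Agent.H93.IndQAff
import Groth.Agent.S2488
import Mathlib.AlgebraicGeometry.Morphisms.UniversallyOpen
import Mathlib.AlgebraicGeometry.PullbackCarrier

/-!
# Groupoid schemes: saturations of subsets of the objects
-/

set_option autoImplicit false
universe u

namespace Groth.Agent.H93.GrpdAux

open AlgebraicGeometry CategoryTheory CategoryTheory.Limits TopologicalSpace
open Groth.Agent.H93.QAff

variable {S : Scheme.{u}} (G : Grpd.GroupoidScheme S)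

lemma c_s : G.c ≫ G.s = pullback.snd G.s G.t ≫ G.s := by
  have h := G.comp_s (pullback.fst G.s G.t) (pullback.snd G.s G.t) pullback.condition
  have e : pullback.lift (pullback.fst G.s G.t) (pullback.snd G.s G.t) pullback.condition =
      𝟙 _ := by
    apply pullback.hom_ext <;> simp
  rw [e, Category.id_comp] at h
  exact h

lemma c_t : G.c ≫ G.t = pullback.fst G.s G.t ≫ G.t := by
  have h := G.comp_t (pullback.fst G.s G.t) (pullback.snd G.s G.t) pullback.condition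
  have e : pullback.lift (pullback.fst G.s G.t) (pullback.snd G.s G.t) pullback.condition =
      𝟙 _ := by
    apply pullback.hom_ext <;> simp
  rw [e, Category.id_comp] at h
  exact h

lemma exists_comp (r₁ r₂ : G.R) (h : G.s r₁ = G.t r₂) :
    ∃ q : G.R, G.s q = G.s r₂ ∧ G.t q = G.t r₁ := by
  obtain ⟨p, hp1, hp2⟩ := Scheme.Pullback.exists_preimage_pullback (f := G.s) (g := G.t) r₁ r₂ h
  refine ⟨G.c p, ?_, ?_⟩
  · rw [← Scheme.Hom.comp_apply, c_s, Scheme.Hom.comp_apply, hp2]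
  · rw [← Scheme.Hom.comp_apply, c_t, Scheme.Hom.comp_apply, hp1]

lemma i_s_apply (r : G.R) : G.s (G.i r) = G.t r := by
  rw [← Scheme.Hom.comp_apply, G.i_s]

lemma i_t_apply (r : G.R) : G.t (G.i r) = G.s r := by
  rw [← Scheme.Hom.comp_apply, G.i_t]

lemma e_s_apply (x : G.U) : G.s (G.e x) = x := by
  rw [← Scheme.Hom.comp_apply, G.e_s]; rfl

lemma e_t_apply (x : G.U) : G.t (G.e x) = x := by
  rw [← Scheme.Hom.comp_apply, G.e_t]; rfl

/-- the saturation `t(s⁻¹(Z))` of a set of objects -/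
def sat (Z : Set G.U) : Set G.U := G.t '' (G.s ⁻¹' Z)

lemma subset_sat (Z : Set G.U) : Z ⊆ sat G Z := fun z hz =>
  ⟨G.e z, by show G.s (G.e z) ∈ Z; rw [e_s_apply]; exact hz, e_t_apply G z⟩

lemma sat_invariant (Z : Set G.U) (r : G.R) : G.s r ∈ sat G Z ↔ G.t r ∈ sat G Z := by
  constructor
  · rintro ⟨r₁, hr₁, h⟩
    obtain ⟨q, hq1, hq2⟩ := exists_comp G r r₁ h.symm
    exact ⟨q, by show G.s q ∈ Z; rw [hq1]; exact hr₁, hq2⟩
  · rintro ⟨r₁, hr₁, h⟩
    obtain ⟨q, hq1, hq2⟩ := exists_comp G (G.i r) r₁ (by rw [i_s_apply, h])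
    exact ⟨q, by show G.s q ∈ Z; rw [hq1]; exact hr₁, by rw [hq2, i_t_apply]⟩

lemma sat_disjoint (W Z : Set G.U) (h : sat G W ∩ Z = ∅) : sat G W ∩ sat G Z = ∅ := by
  ext x
  simp only [Set.mem_inter_iff, Set.mem_empty_iff_false, iff_false]
  rintro ⟨⟨r₁, hr₁, h1⟩, ⟨r₂, hr₂, h2⟩⟩
  obtain ⟨q, hq1, hq2⟩ := exists_comp G (G.i r₂) r₁ (by rw [i_s_apply, h2, h1])
  have h3 : G.s r₂ ∈ sat G W := ⟨q, by show G.s q ∈ W; rw [hq1]; exact hr₁, by
    rw [hq2, i_t_apply]⟩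
  have h4 : G.s r₂ ∈ sat G W ∩ Z := ⟨h3, hr₂⟩
  rw [h] at h4
  exact h4

lemma sat_stableUnderGeneralization [Flat G.t] (W : Set G.U) (hW : IsOpen W) :
    StableUnderGeneralization (sat G W) := by
  intro x y hxy hx
  obtain ⟨r, hr, rfl⟩ := hx
  obtain ⟨r', hr', hy⟩ := Flat.generalizingMap G.t hxy
  exact ⟨r', (hr'.map G.s.continuous).mem_open hW hr, hy⟩

lemma sat_isCompact [QuasiCompact G.s] (W : G.U.Opens) (hW : IsCompact (W : Set G.U)) :
    IsCompact (sat G (W : Set G.U)) :=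
  (QuasiCompact.isCompact_preimage (f := G.s) _ W.2 hW).image G.t.continuous

lemma sat_eq_iInter [QuasiCompact G.s] [Flat G.t] (W : G.U.Opens)
    (hW : IsCompact (W : Set G.U)) :
    ∃ (ι : Type u) (_ : Nonempty ι) (V : ι → G.U.Opens), (∀ i, IsCompact (V i : Set G.U)) ∧
      sat G (W : Set G.U) = ⋂ i, (V i : Set G.U) := by
  have hEc := sat_isCompact G W hW
  have hEg := sat_stableUnderGeneralization G (W : Set G.U) W.2
  refine ⟨{V : G.U.Opens // IsCompact (V : Set G.U) ∧ sat G (W : Set G.U) ⊆ V}, ?_,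
    fun V => V.1, fun V => V.2.1, ?_⟩
  · obtain ⟨Uc, h1, h2, -⟩ := exists_compact_open_between (sat G (W : Set G.U)) hEc ⊤
      (fun _ _ => trivial)
    exact ⟨⟨Uc, h1, h2⟩⟩
  · apply Set.Subset.antisymm
    · exact Set.subset_iInter fun V => V.2.2
    · intro x hx
      by_contra hxE
      have hB : sat G (W : Set G.U) ⊆
          ((⟨(closure {x})ᶜ, isClosed_closure.isOpen_compl⟩ : G.U.Opens) : Set G.U) := by
        intro y hy hyx
        exact hxE (hEg (specializes_iff_mem_closure.mpr hyx) hy)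
      obtain ⟨Uc, h1, h2, h3⟩ := exists_compact_open_between (sat G (W : Set G.U)) hEc _ hB
      have hxU : x ∈ (Uc : Set G.U) := Set.mem_iInter.mp hx ⟨Uc, h1, h2⟩
      exact h3 hxU (subset_closure rfl)

lemma exists_invariant_between [QuasiCompact G.s] [Flat G.s] [QuasiCompact G.t] [Flat G.t]
    (W : G.U.Opens) (hW : IsCompact (W : Set G.U)) :
    ∃ V W' : G.U.Opens, G.s ⁻¹ᵁ V = G.t ⁻¹ᵁ V ∧ IsCompact (W' : Set G.U) ∧ W ≤ V ∧ V ≤ W' := by
  have hEc := sat_isCompact G W hW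
  have hEg := sat_stableUnderGeneralization G (W : Set G.U) W.2
  obtain ⟨W', hW'c, hEW', -⟩ := exists_compact_open_between (sat G (W : Set G.U)) hEc ⊤
    (fun _ _ => trivial)
  have hZ : IsClosed ((W' : Set G.U)ᶜ) := W'.2.isClosed_compl
  have hZpre : IsClosed (G.s ⁻¹' (W' : Set G.U)ᶜ) := hZ.preimage G.s.continuous
  have hET : sat G (W : Set G.U) ∩ sat G ((W' : Set G.U)ᶜ) = ∅ := by
    apply sat_disjoint
    ext x
    simp only [Set.mem_inter_iff, Set.mem_compl_iff, Set.mem_empty_iff_false, iff_false, not_and,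
      not_not]
    exact fun hx => hEW' hx
  have hTE : ∀ ξ ∈ closure (sat G ((W' : Set G.U)ᶜ)), ξ ∉ sat G (W : Set G.U) := by
    intro ξ hξ hξE
    obtain ⟨r, hr, hrξ⟩ := Groth.Agent.S2488.exists_specializes_of_mem_closure_image G.t
      (G.s ⁻¹' (W' : Set G.U)ᶜ) hZpre ξ hξ
    have h1 : G.t r ∈ sat G (W : Set G.U) := hEg hrξ hξE
    have h2 : G.t r ∈ sat G ((W' : Set G.U)ᶜ) := ⟨r, hr, rfl⟩
    have h3 : G.t r ∈ sat G (W : Set G.U) ∩ sat G ((W' : Set G.U)ᶜ) := ⟨h1, h2⟩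
    rw [hET] at h3
    exact h3
  have hinv1 : ∀ r : G.R, G.s r ∈ closure (sat G ((W' : Set G.U)ᶜ)) →
      G.t r ∈ closure (sat G ((W' : Set G.U)ᶜ)) := by
    intro r hr
    obtain ⟨r₁, hr₁, hspec⟩ := Groth.Agent.S2488.exists_specializes_of_mem_closure_image G.t
      (G.s ⁻¹' (W' : Set G.U)ᶜ) hZpre (G.s r) hr
    obtain ⟨r', hr'r, hsr'⟩ := Flat.generalizingMap G.s hspec
    have h1 : G.s r' ∈ sat G ((W' : Set G.U)ᶜ) := hsr' ▸ ⟨r₁, hr₁, rfl⟩
    have h2 : G.t r' ∈ sat G ((W' : Set G.U)ᶜ) := (sat_invariant G _ r').mp h1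
    exact (hr'r.map G.t.continuous).mem_closed isClosed_closure (subset_closure h2)
  have hinv2 : ∀ r : G.R, G.t r ∈ closure (sat G ((W' : Set G.U)ᶜ)) →
      G.s r ∈ closure (sat G ((W' : Set G.U)ᶜ)) := by
    intro r hr
    have h := hinv1 (G.i r) (by rw [i_s_apply]; exact hr)
    rwa [i_t_apply] at h
  refine ⟨⟨(closure (sat G ((W' : Set G.U)ᶜ)))ᶜ, isClosed_closure.isOpen_compl⟩, W', ?_, hW'c,
    ?_, ?_⟩
  · ext r
    exact not_congr ⟨hinv1 r, hinv2 r⟩
  · intro w hw hwT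
    exact hTE w hwT (subset_sat G _ hw)
  · intro v hv
    by_contra hvW
    exact hv (subset_closure (subset_sat G _ hvW))

end Groth.Agent.H93.GrpdAux
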