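import Groth.Agent.H93.IdealComap
import Mathlib.AlgebraicGeometry.Morphisms.Finite
import Mathlib.AlgebraicGeometry.Noetherian

/-!
# Inclusions of closed subschemes: kernels, surjectivity
-/

set_option autoImplicit false
universe u

namespace Groth.Agent.H93.IdealSub

open AlgebraicGeometry CategoryTheory CategoryTheory.Limits

lemma isClosedImmersion_inclusion {X : Scheme.{u}} {I J : X.IdealSheafData} (h : I ≤ J) :
    IsClosedImmersion (Scheme.IdealSheafData.inclusion h) := by
  have : IsClosedImmersion (Scheme.IdealSheafData.inclusion h ≫ I.subschemeι) := by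
    rw [Scheme.IdealSheafData.inclusion_subschemeι]
    infer_instance
  exact IsClosedImmersion.of_comp_isClosedImmersion _ I.subschemeι

lemma inclusion_surjective {X : Scheme.{u}} {I J : X.IdealSheafData} (h : I ≤ J)
    (hs : I.support = J.support) :
    Function.Surjective (Scheme.IdealSheafData.inclusion h).base := by
  intro y
  have hy : I.subschemeι y ∈ Set.range J.subschemeι := by
    rw [Scheme.IdealSheafData.range_subschemeι, ← hs, ← Scheme.IdealSheafData.range_subschemeι]
    exact ⟨y, rfl⟩
  obtain ⟨x, hx⟩ := hy
  refine ⟨x, ?_⟩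
  have inj : Function.Injective I.subschemeι := I.subschemeι.isEmbedding.injective
  apply inj
  rw [← hx, ← Scheme.Hom.comp_apply, Scheme.IdealSheafData.inclusion_subschemeι]

lemma ker_inclusion {X : Scheme.{u}} {I J : X.IdealSheafData} (h : I ≤ J) :
    (Scheme.IdealSheafData.inclusion h).ker = J.comap I.subschemeι := by
  let l : J.subscheme ⟶ pullback I.subschemeι J.subschemeι :=
    pullback.lift (Scheme.IdealSheafData.inclusion h) (𝟙 _) (by simp)
  have hl1 : l ≫ pullback.snd _ _ = 𝟙 _ := pullback.lift_snd _ _ _
  have hl2 : pullback.snd _ _ ≫ l = 𝟙 _ := by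
    apply pullback.hom_ext
    · rw [Category.assoc, pullback.lift_fst, Category.id_comp, ← cancel_mono I.subschemeι,
        Category.assoc, Scheme.IdealSheafData.inclusion_subschemeι, pullback.condition]
    · rw [Category.assoc, pullback.lift_snd, Category.comp_id, Category.id_comp]
  have : IsIso l := ⟨pullback.snd _ _, hl1, hl2⟩
  have e : Scheme.IdealSheafData.inclusion h = l ≫ pullback.fst _ _ :=
    (pullback.lift_fst _ _ _).symm
  rw [e, Scheme.Hom.ker_comp_of_isIso, Scheme.IdealSheafData.ker_fst_of_isClosedImmersion,
    Scheme.IdealSheafData.ker_subschemeι]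

end Groth.Agent.H93.IdealSub
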