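import Mathlib
import Groth.Prelude.Def_AlgGrp
import Groth.Prelude.Def_W4bk4git07Quot
import Groth.Agent.H63.ActionTranslate

/-!
# Locally isotrivial bundles are principal (helper93, for S14877)

* `isIso_pullback_fst_of_existsUnique`, `existsUnique_lift_of_isPullback`: categorical lemmas.
* `isIso_of_local_fpqc`: a morphism `Ψ : A ⟶ T₀` over `X` is an isomorphism if Zariski-locally on `X`
  there are fpqc covers `U' ⟶ U` such that every point of `T₀` lying over a point of `U'` lifts uniquely.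
* `smooth_of_local_fpqc`: smoothness descends along local fpqc covers.
* `key`: for an action `a` of `G` on `P`, an invariant `π : P ⟶ X`, and a trivialisation
  `U' × G ≅ U' ×_X P`, `(u,g) ↦ g • s u`: points of `P ×_X P` over `U'` lift uniquely along `PsiY`.
-/

set_option autoImplicit false
universe u
open CategoryTheory Limits MonoidalCategory CartesianMonoidalCategory MonObj AlgebraicGeometry

namespace Groth.Agent.H93.IsoTriv

section Cat

variable {C : Type*} [Category C]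

theorem isIso_pullback_fst_of_existsUnique [HasPullbacks C] {V' V A' : C} (c : V' ⟶ V) (g : A' ⟶ V)
    (h : ∀ (T : C) (y : T ⟶ V'), ∃! z : T ⟶ A', z ≫ g = y ≫ c) :
    IsIso (pullback.fst c g) := by
  obtain ⟨z₀, hz₀, -⟩ := h V' (𝟙 _)
  rw [Category.id_comp] at hz₀
  refine ⟨⟨pullback.lift (𝟙 _) z₀ (by rw [Category.id_comp, hz₀]), ?_, pullback.lift_fst _ _ _⟩⟩
  apply pullback.hom_ext
  · rw [Category.assoc, pullback.lift_fst, Category.comp_id, Category.id_comp]
  · rw [Category.assoc, pullback.lift_snd, Category.id_comp]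
    obtain ⟨z₁, -, huniq⟩ := h (pullback c g) (pullback.fst c g)
    rw [huniq (pullback.fst c g ≫ z₀)
        (by change (pullback.fst c g ≫ z₀) ≫ g = _; rw [Category.assoc, hz₀]),
      huniq (pullback.snd c g) pullback.condition.symm]

theorem existsUnique_lift_of_isPullback {A' V A T₀ : C} {g' : A' ⟶ V} {i : A' ⟶ A} {j : V ⟶ T₀}
    {Ψ : A ⟶ T₀} (sq : IsPullback g' i j Ψ) {T : C} (q : T ⟶ V)
    (h : ∃! z' : T ⟶ A, z' ≫ Ψ = q ≫ j) :
    ∃! z : T ⟶ A', z ≫ g' = q := by
  obtain ⟨z', hz', huniq⟩ := h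
  refine ⟨sq.lift q z' hz'.symm, sq.lift_fst _ _ _, ?_⟩
  intro z hz
  apply sq.hom_ext
  · rw [sq.lift_fst, hz]
  · rw [sq.lift_snd]
    apply huniq
    rw [Category.assoc, ← sq.w, ← Category.assoc, hz]

end Cat

section Descent

theorem isIso_of_local_fpqc {A T₀ X : Scheme.{u}} (Ψ : A ⟶ T₀) (t : T₀ ⟶ X)
    (H : ∀ x : X, ∃ (U : X.Opens) (_ : x ∈ U) (U' : Scheme.{u}) (φ : U' ⟶ ↑U),
      Surjective φ ∧ Flat φ ∧ QuasiCompact φ ∧
      ∀ (T : Scheme.{u}) (q : T ⟶ T₀) (u : T ⟶ U'), u ≫ φ ≫ U.ι = q ≫ t →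
        ∃! z : T ⟶ A, z ≫ Ψ = q) :
    IsIso Ψ := by
  change MorphismProperty.isomorphisms Scheme Ψ
  apply IsZariskiLocalAtTarget.of_forall_exists_morphismRestrict
  intro y
  obtain ⟨U, hxU, U', φ, hs, hf, hqc, hK⟩ := H (t.base y)
  refine ⟨t ⁻¹ᵁ U, hxU, ?_⟩
  have hc : (@Surjective ⊓ @Flat ⊓ @QuasiCompact : MorphismProperty Scheme)
      (pullback.fst (t ∣_ U) φ) := ⟨⟨inferInstance, inferInstance⟩, inferInstance⟩
  apply MorphismProperty.of_pullback_fst_of_descendsAlong
    (P := MorphismProperty.isomorphisms Scheme) (Q := @Surjective ⊓ @Flat ⊓ @QuasiCompact)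
    (f := pullback.fst (t ∣_ U) φ) hc
  change IsIso (pullback.fst (pullback.fst (t ∣_ U) φ) (Ψ ∣_ (t ⁻¹ᵁ U)))
  apply isIso_pullback_fst_of_existsUnique
  intro T y'
  apply existsUnique_lift_of_isPullback (isPullback_morphismRestrict Ψ (t ⁻¹ᵁ U))
  apply hK T _ (y' ≫ pullback.snd (t ∣_ U) φ)
  rw [Category.assoc, ← Category.assoc (pullback.snd (t ∣_ U) φ), ← pullback.condition,
    Category.assoc, morphismRestrict_ι]
  simp only [Category.assoc]

theorem smooth_of_local_fpqc {P X : Scheme.{u}} (π : P ⟶ X)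
    (H : ∀ x : X, ∃ (U : X.Opens) (_ : x ∈ U) (U' W : Scheme.{u}) (φ : U' ⟶ ↑U) (p₁ : W ⟶ U')
      (m : W ⟶ P), Surjective φ ∧ Flat φ ∧ QuasiCompact φ ∧ Smooth p₁ ∧
        IsPullback p₁ m (φ ≫ U.ι) π) :
    Smooth π := by
  apply IsZariskiLocalAtTarget.of_forall_exists_morphismRestrict (P := @Smooth)
  intro x
  obtain ⟨U, hxU, U', W, φ, p₁, m, hs, hf, hqc, hsm, sq⟩ := H x
  refine ⟨U, hxU, ?_⟩
  have sqR := isPullback_morphismRestrict π U
  have hw : (p₁ ≫ φ) ≫ U.ι = m ≫ π := by rw [Category.assoc]; exact sq.w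
  have sqL : IsPullback p₁ (sqR.lift (p₁ ≫ φ) m hw) φ (π ∣_ U) := by
    refine (IsPullback.of_right ?_ (sqR.lift_fst _ _ _) sqR.flip).flip
    rw [sqR.lift_snd]
    exact sq.flip
  exact MorphismProperty.of_isPullback_of_descendsAlong (P := @Smooth)
    (Q := @Surjective ⊓ @Flat ⊓ @QuasiCompact) sqL ⟨⟨hs, hf⟩, hqc⟩ hsm

end Descent

section Key

open Groth.Agent.H63.ActionTranslate

variable {S : Scheme.{u}} {G P X U' : Over S} [GrpObj G] (a : AlgGrp.Action G P) (π : P ⟶ X)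
  (hinv : GIT.IsInvariant a π) (f₀ : U'.left ⟶ X.left) (s : U' ⟶ P)
  (hs : s.left ≫ π.left = f₀)
  (hpb : IsPullback (fst U' G).left (lift (snd U' G) (fst U' G ≫ s) ≫ a.act).left f₀ π.left)

include hpb in
theorem repr {Tk : Over S} (uo : Tk ⟶ U') (p : Tk ⟶ P) (hcomm : uo.left ≫ f₀ = p.left ≫ π.left) :
    ∃ h : Tk ⟶ G, p = lift h (uo ≫ s) ≫ a.act := by
  have hw : hpb.lift uo.left p.left hcomm ≫ (U' ⊗ G).hom = Tk.hom := by
    rw [← Over.w (fst U' G), ← Category.assoc, hpb.lift_fst, Over.w]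
  let wo : Tk ⟶ U' ⊗ G := Over.homMk (hpb.lift uo.left p.left hcomm) hw
  have h1 : wo ≫ fst U' G = uo := by
    ext
    simp only [Over.comp_left]
    exact hpb.lift_fst _ _ _
  have h2 : wo ≫ (lift (snd U' G) (fst U' G ≫ s) ≫ a.act) = p := by
    ext
    simp only [Over.comp_left]
    exact hpb.lift_snd _ _ _
  refine ⟨wo ≫ snd U' G, ?_⟩
  rw [← h2, ← Category.assoc, comp_lift, ← Category.assoc, h1]

include hpb in
theorem inj {Tk : Over S} (uo : Tk ⟶ U') (h h' : Tk ⟶ G)
    (he : lift h (uo ≫ s) ≫ a.act = lift h' (uo ≫ s) ≫ a.act) : h = h' := by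
  have e1 : ∀ k : Tk ⟶ G, lift uo k ≫ (lift (snd U' G) (fst U' G ≫ s) ≫ a.act) =
      lift k (uo ≫ s) ≫ a.act := by
    intro k
    rw [← Category.assoc, comp_lift, lift_snd, ← Category.assoc, lift_fst]
  have e2 : (lift uo h).left = (lift uo h').left := by
    apply hpb.hom_ext
    · rw [← Over.comp_left, ← Over.comp_left, lift_fst, lift_fst]
    · rw [← Over.comp_left, ← Over.comp_left, e1, e1, he]
  have e3 : lift uo h = lift uo h' := Over.OverMorphism.ext e2
  have := congrArg (· ≫ snd U' G) e3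
  simpa using this

include hs hpb in
theorem key {T : Scheme.{u}} (q : T ⟶ pullback π.left π.left) (u : T ⟶ U'.left)
    (hu : u ≫ f₀ = q ≫ pullback.fst _ _ ≫ π.left) :
    ∃! z : T ⟶ (G ⊗ P).left, z ≫ GIT.PsiY a π hinv = q := by
  have hU' : f₀ ≫ X.hom = U'.hom := by
    rw [← hs, Category.assoc, Over.w, Over.w]
  have hp1 : (q ≫ pullback.fst π.left π.left) ≫ P.hom = u ≫ U'.hom := by
    calc (q ≫ pullback.fst π.left π.left) ≫ P.hom
        = (q ≫ pullback.fst π.left π.left ≫ π.left) ≫ X.hom := by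
          rw [← Over.w π]; simp only [Category.assoc]
      _ = (u ≫ f₀) ≫ X.hom := by rw [hu]
      _ = u ≫ U'.hom := by rw [Category.assoc, hU']
  have hp2 : (q ≫ pullback.snd π.left π.left) ≫ P.hom = u ≫ U'.hom := by
    calc (q ≫ pullback.snd π.left π.left) ≫ P.hom
        = (q ≫ pullback.snd π.left π.left ≫ π.left) ≫ X.hom := by
          rw [← Over.w π]; simp only [Category.assoc]
      _ = (q ≫ pullback.fst π.left π.left ≫ π.left) ≫ X.hom := by rw [pullback.condition]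
      _ = (u ≫ f₀) ≫ X.hom := by rw [hu]
      _ = u ≫ U'.hom := by rw [Category.assoc, hU']
  let Tk : Over S := Over.mk (u ≫ U'.hom)
  let uo : Tk ⟶ U' := Over.homMk u rfl
  let p1 : Tk ⟶ P := Over.homMk (q ≫ pullback.fst π.left π.left) hp1
  let p2 : Tk ⟶ P := Over.homMk (q ≫ pullback.snd π.left π.left) hp2
  have hc1 : uo.left ≫ f₀ = p1.left ≫ π.left := by
    simp only [uo, p1, Over.homMk_left, Category.assoc]
    exact hu
  have hc2 : uo.left ≫ f₀ = p2.left ≫ π.left := by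
    simp only [uo, p2, Over.homMk_left, Category.assoc]
    rw [← pullback.condition]
    exact hu
  obtain ⟨h1, hh1⟩ := repr a π f₀ s hpb uo p1 hc1
  obtain ⟨h2, hh2⟩ := repr a π f₀ s hpb uo p2 hc2
  have hact : lift (h1 * h2⁻¹) p2 ≫ a.act = p1 := by
    rw [hh2, ← act_mul, _root_.inv_mul_cancel_right, ← hh1]
  refine ⟨(lift (h1 * h2⁻¹) p2).left, ?_, ?_⟩
  · apply pullback.hom_ext
    · rw [Category.assoc, GIT.PsiY, pullback.lift_fst, ← Over.comp_left, hact]
      rfl
    · rw [Category.assoc, GIT.PsiY, pullback.lift_snd, ← Over.comp_left, lift_snd]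
      rfl
  · intro z' hz'
    have hz2 : z' ≫ (snd G P).left = q ≫ pullback.snd π.left π.left := by
      rw [← hz', Category.assoc, GIT.PsiY, pullback.lift_snd]
    have hz1 : z' ≫ a.act.left = q ≫ pullback.fst π.left π.left := by
      rw [← hz', Category.assoc, GIT.PsiY, pullback.lift_fst]
    have hw : z' ≫ (G ⊗ P).hom = Tk.hom := by
      rw [← Over.w (snd G P), ← Category.assoc, hz2]
      exact hp2
    let zo : Tk ⟶ G ⊗ P := Over.homMk z' hw
    have hzo2 : zo ≫ snd G P = p2 := by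
      ext
      simp only [Over.comp_left]
      exact hz2
    have hzo1 : zo ≫ a.act = p1 := by
      ext
      simp only [Over.comp_left]
      exact hz1
    have hzo : zo = lift (zo ≫ fst G P) p2 := by
      apply CartesianMonoidalCategory.hom_ext
      · rw [lift_fst]
      · rw [lift_snd, hzo2]
    have hg : zo ≫ fst G P = h1 * h2⁻¹ := by
      have e : lift ((zo ≫ fst G P) * h2) (uo ≫ s) ≫ a.act = lift h1 (uo ≫ s) ≫ a.act := by
        rw [act_mul, ← hh2, ← hzo, hzo1, hh1]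
      have := inj a π f₀ s hpb uo _ _ e
      rw [← this, _root_.mul_inv_cancel_right]
    have : zo = lift (h1 * h2⁻¹) p2 := by rw [hzo, hg]
    rw [← this]
    rfl

end Key

end Groth.Agent.H93.IsoTriv
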