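import Mathlib
import Groth.Prelude.Def_ActBC
import Groth.Agent.H93.AbFibre
import Groth.Agent.H63.GrpHomFlat

/-!
# Isogenies of smooth group schemes, fibre by fibre (helper93)

* `univClosed_orbitMap` : over a field, an orbit map which is flat, surjective, quasi-compact and
  locally quasi-finite is universally closed (fpqc descent from `G × N ⟶ G`, `N` the finite
  stabilizer).
* `field_isog` : over a field, a flat locally quasi-finite homomorphism `G ⟶ H` (`G` separated
  quasi-compact, `H` connected) is finite and surjective.
* `fibre_prop_iff` : the fibre `G ×_H H_s ⟶ H_s` and the base change `G_s ⟶ H_s` agree up to iso.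
* `main` : S7815.
-/

set_option autoImplicit false
set_option linter.style.haveILetI false
set_option linter.unusedSectionVars false
universe u
open CategoryTheory CategoryTheory.Limits AlgebraicGeometry MonoidalCategory
  CartesianMonoidalCategory MonObj

namespace Groth.Agent.H93.IsogFibre

open Groth.Agent.H93.OrbitStab Groth.Agent.H93.ArtinBC Groth.Agent.H93.HomogDim
  Groth.Agent.H93.AbFibre

section Field

variable {k : Type u} [Field k]

theorem univClosed_orbitMap {G X : Over (Spec (CommRingCat.of k))} [GrpObj G]
    (a : AlgGrp.Action G X) (x : 𝟙_ (Over (Spec (CommRingCat.of k))) ⟶ X)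
    [Flat (a.orbitMap x).left] [Surjective (a.orbitMap x).left]
    [QuasiCompact (a.orbitMap x).left] [LocallyQuasiFinite (a.orbitMap x).left] :
    UniversallyClosed (a.orbitMap x).left := by
  set N := stabO a x with hNdef
  have hlqfN : LocallyQuasiFinite N.hom :=
    MorphismProperty.pullback_snd (P := @LocallyQuasiFinite) _ _ inferInstance
  have hqcN : QuasiCompact N.hom :=
    MorphismProperty.pullback_snd (P := @QuasiCompact) _ _ inferInstance
  obtain ⟨n, hn⟩ : ∃ n : N.left ⟶ Spec (CommRingCat.of k), n = N.hom := ⟨_, rfl⟩
  haveI : LocallyQuasiFinite n := by rw [hn]; exact hlqfN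
  haveI : QuasiCompact n := by rw [hn]; exact hqcN
  haveI : IsLocallyArtinian (Spec (CommRingCat.of k)) :=
    Scheme.isLocallyArtinianScheme_Spec.mpr (show IsArtinianRing k from inferInstance)
  haveI : IsFinite n := IsFinite.of_locallyQuasiFinite n
  have hUCN : UniversallyClosed N.hom := by rw [← hn]; infer_instance
  have prodSq : IsPullback (fst G N).left (snd G N).left G.hom N.hom :=
    IsPullback.of_hasPullback G.hom N.hom
  have hUC1 : UniversallyClosed (fst G N).left :=
    MorphismProperty.of_isPullback (P := @UniversallyClosed) prodSq.flip hUCN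
  have sq1 : IsPullback (fst G N).left (fst G N * (snd G N ≫ stabι a x)).left
      (a.orbitMap x).left (a.orbitMap x).left := isPullback_left a x
  exact MorphismProperty.of_isPullback_of_descendsAlong (P := @UniversallyClosed)
    (Q := @Surjective ⊓ @Flat ⊓ @QuasiCompact) sq1
    ⟨⟨inferInstance, inferInstance⟩, inferInstance⟩ hUC1

theorem field_isog {G H : Over (Spec (CommRingCat.of k))} [GrpObj G] [GrpObj H]
    [LocallyOfFiniteType G.hom] [IsSeparated G.hom] [QuasiCompact G.hom]
    [LocallyOfFiniteType H.hom] [QuasiSeparated H.hom] [ConnectedSpace H.left]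
    (u : G ⟶ H) [IsMonHom u] [Flat u.left] [LocallyQuasiFinite u.left]
    [LocallyOfFinitePresentation u.left] :
    IsFinite u.left ∧ Surjective u.left := by
  have hw : u.left ≫ H.hom = G.hom := Over.w u
  haveI : QuasiCompact (u.left ≫ H.hom) := by rw [hw]; infer_instance
  haveI : IsSeparated (u.left ≫ H.hom) := by rw [hw]; infer_instance
  haveI : QuasiCompact u.left := QuasiCompact.of_comp u.left H.hom
  haveI : IsSeparated u.left := IsSeparated.of_comp u.left H.hom
  haveI : LocallyOfFiniteType u.left := inferInstance
  have hclosed : IsClosed (Set.range u.left.base) := (field_main u).1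
  have hopen : IsOpen (Set.range u.left.base) := u.left.isOpenMap.isOpen_range
  haveI : Nonempty ↥G.left := ⟨η[G].left (IsLocalRing.closedPoint k)⟩
  have huniv : Set.range u.left.base = Set.univ :=
    IsClopen.eq_univ ⟨hclosed, hopen⟩ (Set.range_nonempty _)
  haveI hsurj : Surjective u.left := ⟨Set.range_eq_univ.mp huniv⟩
  have ho : (homAct u).orbitMap η[H] = u := orbitMap_homAct u
  haveI : Flat ((homAct u).orbitMap η[H]).left := by rw [ho]; infer_instance
  haveI : Surjective ((homAct u).orbitMap η[H]).left := by rw [ho]; infer_instance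
  haveI : QuasiCompact ((homAct u).orbitMap η[H]).left := by rw [ho]; infer_instance
  haveI : LocallyQuasiFinite ((homAct u).orbitMap η[H]).left := by rw [ho]; infer_instance
  have hUC := univClosed_orbitMap (homAct u) η[H]
  rw [ho] at hUC
  haveI : UniversallyClosed u.left := hUC
  haveI : IsProper u.left := {}
  exact ⟨IsFinite.of_isProper_of_locallyQuasiFinite u.left, hsurj⟩

end Field

section Fibre

variable {S : Scheme.{u}} {A B : Over S} (f : A ⟶ B)

/-- the morphism of fibres `A ×_B B_s ⟶ B_s` is isomorphic to the base change `A_s ⟶ B_s` -/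
theorem fibre_prop_iff (P : MorphismProperty Scheme.{u}) [P.RespectsIso] (s : S) :
    P (pullback.snd f.left (B.hom.fiberι s)) ↔
      P ((Over.pullback (S.fromSpecResidueField s)).map f).left := by
  have sq := (isPullback_map_left (S.fromSpecResidueField s) f).flip
  have h1 : sq.isoPullback.hom ≫
      pullback.snd f.left (pullback.fst B.hom (S.fromSpecResidueField s)) =
      ((Over.pullback (S.fromSpecResidueField s)).map f).left := sq.isoPullback_hom_snd
  have h2 : P (sq.isoPullback.hom ≫
      pullback.snd f.left (pullback.fst B.hom (S.fromSpecResidueField s))) ↔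
      P (pullback.snd f.left (pullback.fst B.hom (S.fromSpecResidueField s))) :=
    MorphismProperty.cancel_left_of_respectsIso P _ _
  rw [h1] at h2
  exact h2.symm

end Fibre

section Main

variable {S : Scheme.{u}} (G H : Over S) [GrpObj G] [GrpObj H]
  [Smooth G.hom] [IsSeparated G.hom] [QuasiCompact G.hom] [GeometricallyConnected G.hom]
  [Smooth H.hom] [IsSeparated H.hom] [QuasiCompact H.hom] [GeometricallyConnected H.hom]
  (f : G ⟶ H) [IsMonHom f]

theorem fibre_iff (s : S) :
    (Flat ((Over.pullback (S.fromSpecResidueField s)).map f).left ∧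
      LocallyQuasiFinite ((Over.pullback (S.fromSpecResidueField s)).map f).left) ↔
    (IsFinite ((Over.pullback (S.fromSpecResidueField s)).map f).left ∧
      Surjective ((Over.pullback (S.fromSpecResidueField s)).map f).left) := by
  let Gs : Over (Spec (CommRingCat.of (S.residueField s))) := Red.bc (S.fromSpecResidueField s) G
  let Hs : Over (Spec (CommRingCat.of (S.residueField s))) := Red.bc (S.fromSpecResidueField s) H
  letI : GrpObj Gs := Red.grpObj_bc (S.fromSpecResidueField s) G
  letI : GrpObj Hs := Red.grpObj_bc (S.fromSpecResidueField s) H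
  let fs : Gs ⟶ Hs := (Over.pullback (S.fromSpecResidueField s)).map f
  haveI : IsMonHom fs := inferInstanceAs
    (IsMonHom ((Over.pullback (S.fromSpecResidueField s)).map f))
  haveI : Smooth Gs.hom := inferInstanceAs (Smooth (pullback.snd G.hom (S.fromSpecResidueField s)))
  haveI : Smooth Hs.hom := inferInstanceAs (Smooth (pullback.snd H.hom (S.fromSpecResidueField s)))
  haveI : IsSeparated Gs.hom :=
    inferInstanceAs (IsSeparated (pullback.snd G.hom (S.fromSpecResidueField s)))
  haveI : IsSeparated Hs.hom :=
    inferInstanceAs (IsSeparated (pullback.snd H.hom (S.fromSpecResidueField s)))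
  haveI : QuasiCompact Gs.hom :=
    inferInstanceAs (QuasiCompact (pullback.snd G.hom (S.fromSpecResidueField s)))
  haveI : GeometricallyConnected Hs.hom :=
    inferInstanceAs (GeometricallyConnected (pullback.snd H.hom (S.fromSpecResidueField s)))
  obtain ⟨hint, hsubs⟩ :=
    Groth.Agent.H37.integral_subsingleton_of_iso_spec_field (S.residueField s)
      (Iso.refl (Spec (CommRingCat.of (S.residueField s))))
  haveI := hint
  haveI := hsubs
  haveI : Nonempty ↥(Spec (CommRingCat.of (S.residueField s))) :=
    ⟨IsLocalRing.closedPoint (S.residueField s)⟩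
  obtain ⟨q, hq⟩ : ∃ q : Hs.left ⟶ Spec (CommRingCat.of (S.residueField s)), q = Hs.hom :=
    ⟨_, rfl⟩
  haveI : GeometricallyConnected q := by rw [hq]; infer_instance
  haveI : Smooth q := by rw [hq]; infer_instance
  haveI : ConnectedSpace ↥Hs.left := GeometricallyConnected.connectedSpace_of_subsingleton q
  haveI : IsReduced Hs.left := Groth.Agent.H51.isReduced_of_smooth q
  haveI : LocallyOfFinitePresentation fs.left :=
    MorphismProperty.of_isPullback (P := @LocallyOfFinitePresentation)
      (isPullback_map_left (S.fromSpecResidueField s) f).flip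
      (Groth.Agent.H40.FibreLocus.lfp_hom f)
  show (Flat fs.left ∧ LocallyQuasiFinite fs.left) ↔ (IsFinite fs.left ∧ Surjective fs.left)
  constructor
  · rintro ⟨hfl, hlqf⟩
    haveI := hfl
    haveI := hlqf
    exact field_isog fs
  · rintro ⟨hfin, hsurj⟩
    haveI := hfin
    haveI := hsurj
    exact ⟨Groth.Agent.H63.GrpHomFlat.flat_left_of_isReduced fs, inferInstance⟩

theorem main :
    (Flat f.left ∧ LocallyQuasiFinite f.left ∧ LocallyOfFinitePresentation f.left) ↔
      ∀ s : S, IsFinite (pullback.snd f.left (H.hom.fiberι s)) ∧
        Surjective (pullback.snd f.left (H.hom.fiberι s)) := by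
  have hlfp : LocallyOfFinitePresentation f.left := Groth.Agent.H40.FibreLocus.lfp_hom f
  haveI := hlfp
  haveI : LocallyOfFiniteType f.left := inferInstance
  constructor
  · rintro ⟨hfl, hlqf, -⟩ s
    have h1 : Flat ((Over.pullback (S.fromSpecResidueField s)).map f).left :=
      MorphismProperty.of_isPullback (P := @Flat)
        (isPullback_map_left (S.fromSpecResidueField s) f).flip hfl
    have h2 : LocallyQuasiFinite ((Over.pullback (S.fromSpecResidueField s)).map f).left :=
      MorphismProperty.of_isPullback (P := @LocallyQuasiFinite)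
        (isPullback_map_left (S.fromSpecResidueField s) f).flip hlqf
    obtain ⟨h3, h4⟩ := (fibre_iff G H f s).mp ⟨h1, h2⟩
    exact ⟨(fibre_prop_iff f @IsFinite s).mpr h3, (fibre_prop_iff f @Surjective s).mpr h4⟩
  · intro h
    have h' : ∀ s : S, Flat ((Over.pullback (S.fromSpecResidueField s)).map f).left ∧
        LocallyQuasiFinite ((Over.pullback (S.fromSpecResidueField s)).map f).left := fun s =>
      (fibre_iff G H f s).mpr ⟨(fibre_prop_iff f @IsFinite s).mp (h s).1,
        (fibre_prop_iff f @Surjective s).mp (h s).2⟩
    exact ⟨(flat_iff_fibres f).mpr (fun s => (h' s).1),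
      (locallyQuasiFinite_iff_fibres f).mpr (fun s => (h' s).2), hlfp⟩

end Main

end Groth.Agent.H93.IsogFibre
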