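import Mathlib
import Groth.Prelude.Def_W4bk4git07Quot
import Groth.Agent.H93.GeomDescent
import Groth.Agent.S19425
import Groth.Agent.H63.EquivFlat

/-!
# Universal categorical quotients: surjectivity, invariant functions, and the geometric criterion
-/

set_option autoImplicit false
universe u

namespace Groth.Agent.H93.UnivCat

open CategoryTheory CategoryTheory.Limits AlgebraicGeometry TopologicalSpace Opposite
open MonoidalCategory CartesianMonoidalCategory MonObj GrpObj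
open Groth.Agent.H93.GeomDescent

section affineLine

variable {S : Scheme.{u}}

/-- The affine line over `S` as an object of `Over S`. -/
noncomputable def Zo (S : Scheme.{u}) : Over S := Over.mk (𝔸(PUnit.{u+1}; S) ↘ S)

noncomputable def toZ {T : Over S} (v : Γ(T.left, ⊤)) : T ⟶ Zo S :=
  Over.homMk (AffineSpace.homOfVector T.hom (fun _ => v)) (AffineSpace.homOfVector_over _ _)

noncomputable def secOf {T : Over S} (m : T ⟶ Zo S) : Γ(T.left, ⊤) :=
  m.left.appTop (AffineSpace.coord S PUnit.unit)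

theorem secOf_toZ {T : Over S} (v : Γ(T.left, ⊤)) : secOf (toZ v) = v :=
  AffineSpace.homOfVector_appTop_coord _ _ _

theorem secOf_comp {T T' : Over S} (f : T' ⟶ T) (m : T ⟶ Zo S) :
    secOf (f ≫ m) = f.left.appTop (secOf m) := by
  unfold secOf
  rw [Over.comp_left, Scheme.Hom.comp_appTop]
  rfl

theorem toZ_ext {T : Over S} {m₁ m₂ : T ⟶ Zo S} (h : secOf m₁ = secOf m₂) : m₁ = m₂ := by
  apply Over.OverMorphism.ext
  apply AffineSpace.hom_ext
  · exact (Over.w m₁).trans (Over.w m₂).symm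
  · intro i; cases i; exact h

theorem appTop_eq_appLE {X Y : Scheme.{u}} (f : X ⟶ Y) : f.appTop = f.appLE ⊤ ⊤ le_top := by
  have := Scheme.Hom.app_eq_appLE (f := f) (U := ⊤)
  exact this

end affineLine

section topo

theorem orbit_baseChange {P X Y P' X' Y' : Scheme.{u}} {σ π : P ⟶ X} {φ : X ⟶ Y}
    {σ' π' : P' ⟶ X'} {φ' : X' ⟶ Y'} {α : Y' ⟶ Y} {pr : X' ⟶ X} {J : P' ⟶ P}
    (hpb : IsPullback pr φ' φ α) (hP : IsPullback π' J pr π)
    (hσ : σ' ≫ pr = J ≫ σ) (hi : σ ≫ φ = π ≫ φ) (hi' : σ' ≫ φ' = π' ≫ φ')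
    (hsurj : Function.Surjective (pullback.lift σ π hi).base) :
    Function.Surjective (pullback.lift σ' π' hi').base := by
  let m : pullback φ' φ' ⟶ pullback φ φ :=
    pullback.map φ' φ' φ φ pr pr α hpb.w.symm hpb.w.symm
  have m1 : m ≫ pullback.fst φ φ = pullback.fst φ' φ' ≫ pr := by
    simp only [m, pullback.map, pullback.lift_fst]
  have m2 : m ≫ pullback.snd φ φ = pullback.snd φ' φ' ≫ pr := by
    simp only [m, pullback.map, pullback.lift_snd]
  have s1 : IsPullback (pullback.fst φ' φ' ≫ pr) (pullback.snd φ' φ') φ (φ' ≫ α) :=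
    (IsPullback.of_hasPullback φ' φ').paste_horiz hpb
  have s2 : IsPullback (m ≫ pullback.fst φ φ) (pullback.snd φ' φ') φ (pr ≫ φ) := by
    rw [m1, hpb.w]; exact s1
  have s3 : IsPullback m (pullback.snd φ' φ') (pullback.snd φ φ) pr :=
    IsPullback.of_right s2 m2 (IsPullback.of_hasPullback φ φ)
  have Ψ1 : pullback.lift σ' π' hi' ≫ pullback.snd φ' φ' = π' := pullback.lift_snd _ _ _
  have Ψ2 : pullback.lift σ π hi ≫ pullback.snd φ φ = π := pullback.lift_snd _ _ _
  have Ψ3 : pullback.lift σ' π' hi' ≫ m = J ≫ pullback.lift σ π hi := by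
    apply pullback.hom_ext
    · simp only [Category.assoc, m1, pullback.lift_fst, pullback.lift_fst_assoc, hσ]
    · simp only [Category.assoc, m2, pullback.lift_snd, pullback.lift_snd_assoc, hP.w]
  have big : IsPullback (pullback.lift σ' π' hi' ≫ pullback.snd φ' φ') J pr
      (pullback.lift σ π hi ≫ pullback.snd φ φ) := by
    rw [Ψ1, Ψ2]; exact hP
  have sq : IsPullback (pullback.lift σ' π' hi') J m (pullback.lift σ π hi) :=
    IsPullback.of_right big Ψ3 s3.flip
  intro z'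
  obtain ⟨p, hp⟩ := hsurj (m.base z')
  obtain ⟨p', hp', -⟩ := Groth.Agent.H63.EquivFlat.exists_preimage_of_isPullback sq z' p hp.symm
  exact ⟨p', hp'⟩

end topo

section univcat

variable {S : Scheme.{u}} {G X Y : Over S} [GrpObj G]

theorem isUnivCatQuot_baseChange (a : AlgGrp.Action G X) (φ : X ⟶ Y) (h : GIT.IsUnivCatQuot a φ)
    {X' Y' : Over S} (pr : X' ⟶ X) (φ' : X' ⟶ Y') (g : Y' ⟶ Y) (hpb : IsPullback pr φ' φ g)
    (a' : AlgGrp.Action G X') (heq : a'.act ≫ pr = (G ◁ pr) ≫ a.act)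
    (hinv' : GIT.IsInvariant a' φ') : GIT.IsUnivCatQuot a' φ' := by
  refine ⟨h.2 pr φ' g trivial hpb a' heq hinv', ?_⟩
  intro X'' Y'' pr' φ'' g' _ hpb' a'' heq' hinv''
  refine h.2 (pr' ≫ pr) φ'' (g' ≫ g) trivial (hpb'.paste_horiz hpb) a'' ?_ hinv''
  rw [← Category.assoc, heq', Category.assoc, heq, ← whiskerLeft_comp_assoc]

theorem surjective_of_isUnivCatQuot (a : AlgGrp.Action G X) (φ : X ⟶ Y)
    (h : GIT.IsUnivCatQuot a φ) : Function.Surjective φ.left.base := by
  intro y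
  let iy : Spec (Y.left.residueField y) ⟶ Y.left := Y.left.fromSpecResidueField y
  let Y' : Over S := Over.mk (iy ≫ Y.hom)
  let g : Y' ⟶ Y := Over.homMk iy rfl
  let pr : pullback φ g ⟶ X := pullback.fst φ g
  let φ' : pullback φ g ⟶ Y' := pullback.snd φ g
  have hpb : IsPullback pr φ' φ g := IsPullback.of_hasPullback φ g
  obtain ⟨a', heq, hinv'⟩ := exists_induced_action a φ h.1.1 g pr φ' hpb
  have hcq : GIT.IsCatQuot a' φ' := h.2 pr φ' g trivial hpb a' heq hinv'
  have hinv0 : a'.act ≫ φ' = snd G _ ≫ φ' := hinv'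
  by_contra hne
  have hempty : IsEmpty (pullback φ g).left := by
    constructor
    intro x'
    apply hne
    refine ⟨pr.left.base x', ?_⟩
    have h2 := congrArg (fun t => t.left.base x') hpb.w
    simp only [Over.comp_left, Scheme.Hom.comp_base, TopCat.comp_app] at h2
    rw [h2]
    exact Scheme.fromSpecResidueField_apply y _
  let Z : Over S := Over.mk (coprod.desc Y'.hom Y'.hom : Y'.left ⨿ Y'.left ⟶ S)
  let i₁ : Y' ⟶ Z := Over.homMk coprod.inl (coprod.inl_desc _ _)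
  let i₂ : Y' ⟶ Z := Over.homMk coprod.inr (coprod.inr_desc _ _)
  have hext : ∀ m₁ m₂ : pullback φ g ⟶ Z, m₁ = m₂ := by
    intro m₁ m₂
    apply Over.OverMorphism.ext
    exact (isInitialOfIsEmpty : IsInitial (pullback φ g).left).hom_ext _ _
  have hψ : GIT.IsInvariant a' (φ' ≫ i₁) := by
    show a'.act ≫ φ' ≫ i₁ = snd G _ ≫ φ' ≫ i₁
    rw [← Category.assoc, hinv0, Category.assoc]
  obtain ⟨χ, -, huniq⟩ := hcq.2 Z (φ' ≫ i₁) hψ
  have e1 : i₁ = χ := huniq i₁ rfl
  have e2 : i₂ = χ := huniq i₂ (hext _ _)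
  have e3 : i₁.left = i₂.left := congrArg CommaMorphism.left (e1.trans e2.symm)
  have pt : Spec (Y.left.residueField y) := IsLocalRing.closedPoint (Y.left.residueField y)
  exact AlgebraicGeometry.inl_ne_inr _ _ pt pt (congrArg (fun t => t.base pt) e3)

theorem sections_of_isUnivCatQuot (a : AlgGrp.Action G X) (φ : X ⟶ Y)
    (h : GIT.IsUnivCatQuot a φ) (U : Y.left.Opens) :
    Function.Injective (φ.left.app U) ∧
      Set.range (φ.left.app U) = {f | GIT.IsInvSection a φ U f} := by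
  let jY : (U : Scheme.{u}) ⟶ Y.left := U.ι
  let jX : ((φ.left ⁻¹ᵁ U : X.left.Opens) : Scheme.{u}) ⟶ X.left := (φ.left ⁻¹ᵁ U).ι
  let φU : ((φ.left ⁻¹ᵁ U : X.left.Opens) : Scheme.{u}) ⟶ (U : Scheme.{u}) := φ.left ∣_ U
  have hw : φU ≫ jY = jX ≫ φ.left := morphismRestrict_ι φ.left U
  let YU : Over S := Over.mk (jY ≫ Y.hom)
  let XU : Over S := Over.mk (jX ≫ X.hom)
  let gU : YU ⟶ Y := Over.homMk jY rfl
  let prU : XU ⟶ X := Over.homMk jX rfl
  let φU' : XU ⟶ YU := Over.homMk φU (by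
    show φU ≫ jY ≫ Y.hom = jX ≫ X.hom
    rw [← Category.assoc, hw, Category.assoc, Over.w φ])
  have hcomm : prU ≫ φ = φU' ≫ gU := by
    apply Over.OverMorphism.ext
    exact hw.symm
  have hpbU : IsPullback prU φU' φ gU :=
    IsPullback.of_map (Over.forget S) hcomm (isPullback_morphismRestrict φ.left U).flip
  obtain ⟨aU, heqU, hinvU⟩ := exists_induced_action a φ h.1.1 gU prU φU' hpbU
  have hcq : GIT.IsCatQuot aU φU' := h.2 prU φU' gU trivial hpbU aU heqU hinvU
  have hinvU0 : aU.act ≫ φU' = snd G XU ≫ φU' := hinvU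
  have eY : (⊤ : (U : Scheme.{u}).Opens) ≤ jY ⁻¹ᵁ U := by
    rw [Scheme.Opens.ι_preimage_self]
  have eX : (⊤ : ((φ.left ⁻¹ᵁ U : X.left.Opens) : Scheme.{u}).Opens) ≤
      jX ⁻¹ᵁ (φ.left ⁻¹ᵁ U) := by
    rw [Scheme.Opens.ι_preimage_self]
  have bY : Function.Bijective (jY.appLE U ⊤ eY) :=
    Groth.Agent.S19425.appLE_bijective_of_image_eq jY U ⊤ (Scheme.Opens.ι_image_top U) eY
  have bX : Function.Bijective (jX.appLE (φ.left ⁻¹ᵁ U) ⊤ eX) :=
    Groth.Agent.S19425.appLE_bijective_of_image_eq jX _ ⊤ (Scheme.Opens.ι_image_top _) eX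
  have sq : jY.appLE U ⊤ eY ≫ φU.appLE ⊤ ⊤ le_top =
      φ.left.appLE U (φ.left ⁻¹ᵁ U) le_rfl ≫ jX.appLE (φ.left ⁻¹ᵁ U) ⊤ eX :=
    appLE_comp_eq φU jY jX φ.left hw U ⊤ (φ.left ⁻¹ᵁ U) ⊤ eY le_top le_rfl eX
  have sqe : ∀ s : Γ(Y.left, U), φU.appTop (jY.appLE U ⊤ eY s) =
      jX.appLE (φ.left ⁻¹ᵁ U) ⊤ eX (φ.left.app U s) := by
    intro s
    have h1 := ConcreteCategory.congr_hom sq s
    rw [CommRingCat.comp_apply, CommRingCat.comp_apply, ← appTop_eq_appLE,
      ← Scheme.Hom.app_eq_appLE] at h1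
    exact h1
  have injU : Function.Injective (φU.appTop) := by
    intro v₁ v₂ hv
    have hm : φU' ≫ toZ (T := YU) v₁ = φU' ≫ toZ (T := YU) v₂ := by
      apply toZ_ext
      rw [secOf_comp, secOf_comp, secOf_toZ, secOf_toZ]
      exact hv
    have hψ : GIT.IsInvariant aU (φU' ≫ toZ (T := YU) v₁) := by
      show aU.act ≫ φU' ≫ _ = snd G XU ≫ φU' ≫ _
      rw [← Category.assoc, hinvU0, Category.assoc]
    obtain ⟨χ, -, huniq⟩ := hcq.2 (Zo S) _ hψ
    have e1 := huniq (toZ v₁) rfl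
    have e2 := huniq (toZ v₂) hm.symm
    have h3 := congrArg secOf (e1.trans e2.symm)
    rwa [secOf_toZ, secOf_toZ] at h3
  refine ⟨?_, ?_⟩
  · intro s₁ s₂ hs
    apply bY.1
    apply injU
    rw [sqe, sqe, hs]
  · ext f
    constructor
    · rintro ⟨s, rfl⟩
      exact inv_of_app a.act.left (snd G X).left φ.left h.1.1.left U s
    · intro hf
      have hf' : a.act.left.appLE (φ.left ⁻¹ᵁ U)
          (a.act.left ⁻¹ᵁ (φ.left ⁻¹ᵁ U) ⊓ (snd G X).left ⁻¹ᵁ (φ.left ⁻¹ᵁ U)) inf_le_left f =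
          (snd G X).left.appLE (φ.left ⁻¹ᵁ U)
          (a.act.left ⁻¹ᵁ (φ.left ⁻¹ᵁ U) ⊓ (snd G X).left ⁻¹ᵁ (φ.left ⁻¹ᵁ U)) inf_le_right f := hf
      have hσ : aU.act.left ≫ jX = (G ◁ prU).left ≫ a.act.left := by
        have h1 := congrArg CommaMorphism.left heqU
        simp only [Over.comp_left] at h1
        exact h1
      have hπ : (snd G XU).left ≫ jX = (G ◁ prU).left ≫ (snd G X).left := by
        have h1 := congrArg CommaMorphism.left (whiskerLeft_snd G prU)
        simp only [Over.comp_left] at h1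
        exact h1.symm
      have hO : (⊤ : (G ⊗ XU).left.Opens) ≤ (G ◁ prU).left ⁻¹ᵁ
          (a.act.left ⁻¹ᵁ (φ.left ⁻¹ᵁ U) ⊓ (snd G X).left ⁻¹ᵁ (φ.left ⁻¹ᵁ U)) := by
        intro x _
        refine ⟨?_, ?_⟩
        · have h1 : jX.base (aU.act.left.base x) ∈ φ.left ⁻¹ᵁ U := eX trivial
          show a.act.left.base ((G ◁ prU).left.base x) ∈ φ.left ⁻¹ᵁ U
          have h2 := congrArg (fun t => t.base x) hσ
          simp only [Scheme.Hom.comp_base, TopCat.comp_app] at h2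
          rw [← h2]; exact h1
        · have h1 : jX.base ((snd G XU).left.base x) ∈ φ.left ⁻¹ᵁ U := eX trivial
          show (snd G X).left.base ((G ◁ prU).left.base x) ∈ φ.left ⁻¹ᵁ U
          have h2 := congrArg (fun t => t.base x) hπ
          simp only [Scheme.Hom.comp_base, TopCat.comp_app] at h2
          rw [← h2]; exact h1
      have k1 := ConcreteCategory.congr_hom
        (appLE_comp_eq aU.act.left jX (G ◁ prU).left a.act.left hσ (φ.left ⁻¹ᵁ U) ⊤ _ ⊤ eX
          le_top inf_le_left hO) f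
      have k2 := ConcreteCategory.congr_hom
        (appLE_comp_eq (snd G XU).left jX (G ◁ prU).left (snd G X).left hπ (φ.left ⁻¹ᵁ U) ⊤ _ ⊤
          eX le_top inf_le_right hO) f
      rw [CommRingCat.comp_apply, CommRingCat.comp_apply] at k1 k2
      have hinvw : aU.act.left.appTop (jX.appLE (φ.left ⁻¹ᵁ U) ⊤ eX f) =
          (snd G XU).left.appTop (jX.appLE (φ.left ⁻¹ᵁ U) ⊤ eX f) := by
        rw [appTop_eq_appLE, appTop_eq_appLE, k1, k2, hf']
      have hF : GIT.IsInvariant aU (toZ (T := XU) (jX.appLE (φ.left ⁻¹ᵁ U) ⊤ eX f)) := by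
        show aU.act ≫ toZ (T := XU) _ = snd G XU ≫ toZ (T := XU) _
        apply toZ_ext
        rw [secOf_comp, secOf_comp, secOf_toZ]
        exact hinvw
      obtain ⟨χ, hχ, -⟩ := hcq.2 (Zo S) _ hF
      obtain ⟨s, hs⟩ := bY.2 (secOf χ)
      refine ⟨s, ?_⟩
      apply bX.1
      rw [← sqe, hs]
      have h3 := congrArg secOf hχ
      rw [secOf_comp, secOf_toZ] at h3
      exact h3

theorem main (a : AlgGrp.Action G X) (φ : X ⟶ Y) (h : GIT.IsUnivCatQuot a φ) :
    Function.Surjective φ.left.base ∧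
      (∀ U : Y.left.Opens, Function.Injective (φ.left.app U) ∧
        Set.range (φ.left.app U) = {f | GIT.IsInvSection a φ U f}) ∧
      (GIT.IsUnivGeomQuot a φ ↔
        GIT.IsUnivSubmersive φ.left ∧ Function.Surjective (GIT.PsiY a φ h.1.1).base) := by
  refine ⟨surjective_of_isUnivCatQuot a φ h, sections_of_isUnivCatQuot a φ h, ?_, ?_⟩
  · intro hg
    exact ⟨hg.1.subm, hg.1.orbit⟩
  · rintro ⟨hsub, horb⟩
    refine ⟨⟨h.1.1, surjective_of_isUnivCatQuot a φ h, horb, hsub,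
      sections_of_isUnivCatQuot a φ h⟩, ?_⟩
    intro X' Y' pr φ' g _ hpb a' heq hinv'
    have h' := isUnivCatQuot_baseChange a φ h pr φ' g hpb a' heq hinv'
    have hpbL : IsPullback pr.left φ'.left φ.left g.left := hpb.map (Over.forget _)
    have hP : IsPullback (snd G X').left (G ◁ pr).left pr.left (snd G X).left :=
      (Groth.Agent.H63.EquivFlat.sq_snd' G pr).map (Over.forget _)
    have hσ : a'.act.left ≫ pr.left = (G ◁ pr).left ≫ a.act.left := by
      rw [← Over.comp_left, ← Over.comp_left, heq]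
    refine ⟨hinv', surjective_of_isUnivCatQuot a' φ' h', ?_, ?_, sections_of_isUnivCatQuot a' φ' h'⟩
    · exact orbit_baseChange hpbL hP hσ h.1.1.left hinv'.left horb
    · exact MorphismProperty.of_isPullback
        (P := MorphismProperty.universally (topologically @Topology.IsQuotientMap)) hpbL hsub

end univcat

end Groth.Agent.H93.UnivCat
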