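import Mathlib
import Groth.Prelude.Def_Red
import Groth.Prelude.Def_AlgGrp
import Groth.Prelude.Def_ActBC
import Groth.Prelude.Def_TwC
import Groth.Agent.H1.SplitTori.Basic
import Groth.Agent.H93.GeomCat
import Groth.Agent.H93.UnivCat
import Groth.Agent.Lead.MR_PA
import Groth.Agent.H22.MR_Pts
import Groth.Agent.H60.MR_TOP
import Groth.Agent.H60.MR_EPI
import Groth.Agent.H77.MR_KER
import Groth.Agent.H77.MR_NIL

/-!
# H93/MultRigid: an action of a diagonalisable group that is trivial modulo a locally nilpotent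
ideal is trivial (SGA3 IX).
-/

set_option autoImplicit false
universe u
open CategoryTheory CategoryTheory.Limits MonoidalCategory CartesianMonoidalCategory MonObj GrpObj AlgebraicGeometry

namespace Groth.Agent.H93.MultRigid
open Groth.Agent.H1.SplitTori

section act
variable {S : Scheme.{u}} {G X : Over S} [GrpObj G] (a : AlgGrp.Action G X)

theorem one_act_pt {T : Over S} (x : T ⟶ X) : lift (1 : T ⟶ G) x ≫ a.act = x := by
  rw [Hom.one_def]
  have h : lift (toUnit T ≫ η[G]) x = lift (toUnit T) x ≫ (η[G] ▷ X) := by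
    rw [lift_whiskerRight]
  rw [h, Category.assoc, a.one_act, lift_leftUnitor_hom]

theorem mul_act_pt {T : Over S} (g h : T ⟶ G) (x : T ⟶ X) :
    lift (g * h) x ≫ a.act = lift g (lift h x ≫ a.act) ≫ a.act := by
  rw [Hom.mul_def]
  have h1 : lift (lift g h ≫ μ[G]) x = lift (lift g h) x ≫ (μ[G] ▷ X) := by
    rw [lift_whiskerRight]
  rw [h1, Category.assoc, a.mul_act, lift_lift_associator_hom_assoc, lift_whiskerLeft_assoc]

end act

section affine

theorem exists_toSpec {Z : Scheme.{u}} {C : CommRingCat.{u}} (Φ : C ⟶ Γ(Z, ⊤)) :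
    ∃ t : Z ⟶ Spec C, (Scheme.ΓSpecIso C).inv ≫ t.appTop = Φ := by
  refine ⟨Z.toSpecΓ ≫ Spec.map Φ, ?_⟩
  rw [Scheme.Hom.comp_appTop, ← Category.assoc, ← Scheme.ΓSpecIso_inv_naturality, Category.assoc,
    Scheme.toSpecΓ_appTop, Iso.inv_hom_id, Category.comp_id]

theorem eq_of_appLE_eq {Z Y : Scheme.{u}} [IsAffine Z] (x x' : Z ⟶ Y) {U : Y.Opens}
    (hU : IsAffineOpen U) (hx : ⊤ ≤ x ⁻¹ᵁ U) (hx' : ⊤ ≤ x' ⁻¹ᵁ U)
    (h : x.appLE U ⊤ hx = x'.appLE U ⊤ hx') : x = x' := by
  have h1 := IsAffineOpen.SpecMap_appLE_fromSpec x hU (isAffineOpen_top Z) hx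
  have h2 := IsAffineOpen.SpecMap_appLE_fromSpec x' hU (isAffineOpen_top Z) hx'
  rw [h] at h1
  have h3 := h1.symm.trans h2
  rw [IsAffineOpen.fromSpec_top] at h3
  exact (cancel_epi _).1 h3

theorem appLE_specMap_fromSpec {Y : Scheme.{u}} {U : Y.Opens} (hU : IsAffineOpen U)
    {C : CommRingCat.{u}} (φ : Γ(Y, U) ⟶ C) (hle : ⊤ ≤ (Spec.map φ ≫ hU.fromSpec) ⁻¹ᵁ U) :
    (Spec.map φ ≫ hU.fromSpec).appLE U ⊤ hle = φ ≫ (Scheme.ΓSpecIso C).inv := by
  have h1 := IsAffineOpen.SpecMap_appLE_fromSpec (Spec.map φ ≫ hU.fromSpec) hU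
    (isAffineOpen_top (Spec C)) hle
  rw [IsAffineOpen.fromSpec_top, Scheme.isoSpec_Spec_inv, ← Category.assoc, ← Spec.map_comp,
    cancel_mono] at h1
  exact Spec.map_injective h1

theorem liftNC_comp {B R R' : Type u} [CommRing B] [CommRing R] [CommRing R'] {H : Type} [Monoid H]
    (θ : R →+* R') (f : B →+* R) (k : H →* R) :
    θ.comp (MonoidAlgebra.liftNCRingHom f k (fun _ _ => Commute.all _ _)) =
      MonoidAlgebra.liftNCRingHom (θ.comp f) ((θ : R →* R').comp k) (fun _ _ => Commute.all _ _) := by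
  refine MonoidAlgebra.ringHom_ext (fun b => ?_) (fun g => ?_)
  · simp [MonoidAlgebra.liftNCRingHom_single]
  · simp [MonoidAlgebra.liftNCRingHom_single]

end affine

section core

variable {S S₀ : Scheme.{u}} (i₀ : S₀ ⟶ S) [IsClosedImmersion i₀]
  {G X : Over S} [GrpObj G] {M : Type} [AddCommGroup M] (e : G ≅ Red.DS S M) [hemon : IsMonHom e.hom]
  (a : AlgGrp.Action G X) {U : X.left.Opens} (hU : IsAffineOpen U)

/-- the test object `Spec C` over `S` attached to `φ : Γ(X, U) ⟶ C`. -/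
noncomputable abbrev tObj {C : CommRingCat.{u}} (φ : Γ(X.left, U) ⟶ C) : Over S :=
  Over.mk (Spec.map φ ≫ hU.fromSpec ≫ X.hom)

/-- the tautological point of `X` with values in `tObj φ`. -/
noncomputable abbrev tPt {C : CommRingCat.{u}} (φ : Γ(X.left, U) ⟶ C) : tObj hU φ ⟶ X :=
  Over.homMk (Spec.map φ ≫ hU.fromSpec) (Category.assoc _ _ _)

theorem tPt_le {C : CommRingCat.{u}} (φ : Γ(X.left, U) ⟶ C) : ⊤ ≤ (tPt hU φ).left ⁻¹ᵁ U := by
  show ⊤ ≤ (Spec.map φ ≫ hU.fromSpec) ⁻¹ᵁ U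
  rw [Scheme.Hom.comp_preimage, hU.fromSpec_preimage_self]
  exact le_rfl

theorem tPt_appLE {C : CommRingCat.{u}} (φ : Γ(X.left, U) ⟶ C) :
    (tPt hU φ).left.appLE U ⊤ (tPt_le hU φ) = φ ≫ (Scheme.ΓSpecIso C).inv :=
  appLE_specMap_fromSpec hU φ (tPt_le hU φ)

variable (U) in
/-- the ring `Γ(X, U)[H]`. -/
noncomputable abbrev RG (H : Type) [CommMonoid H] : CommRingCat.{u} :=
  CommRingCat.of (MonoidAlgebra Γ(X.left, U) H)

variable (U) in
/-- the inclusion `Γ(X, U) ⟶ Γ(X, U)[H]`. -/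
noncomputable abbrev inc (H : Type) [CommMonoid H] : Γ(X.left, U) ⟶ RG U H :=
  CommRingCat.ofHom MonoidAlgebra.singleOneRingHom

/-- the character of the test object `Spec Γ(X, U)[H]` attached to `j : Multiplicative M →* H`. -/
noncomputable abbrev kap {H : Type} [CommMonoid H] (j : Multiplicative M →* H) :
    Multiplicative M →* Γ((tObj hU (inc U H)).left, ⊤) :=
  (((Scheme.ΓSpecIso (RG U H)).inv.hom : RG U H →+* Γ(Spec (RG U H), ⊤)) :
    RG U H →* Γ(Spec (RG U H), ⊤)).comp ((MonoidAlgebra.of Γ(X.left, U) H).comp j)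

theorem liftNC_apply_eq {B R R' : Type u} [CommRing B] [CommRing R] [CommRing R'] {H : Type}
    [Monoid H] (θ : R →+* R') (f : B →+* R) (k : H →* R) (f' : B →+* R') (k' : H →* R')
    (hf : f' = θ.comp f) (hk : k' = (θ : R →* R').comp k) (z : MonoidAlgebra B H) :
    MonoidAlgebra.liftNCRingHom f' k' (fun _ _ => Commute.all _ _) z =
      θ (MonoidAlgebra.liftNCRingHom f k (fun _ _ => Commute.all _ _) z) := by
  subst hf hk
  rw [← liftNC_comp]
  rfl

variable (M) in
/-- the universal test object `Spec Γ(X, U)[M]`. -/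
noncomputable abbrev T1 : Over S := tObj hU (inc U (Multiplicative M))

variable (M) in
/-- its tautological point of `X`. -/
noncomputable abbrev x1 : T1 M hU ⟶ X := tPt hU (inc U (Multiplicative M))

omit hemon in
include e in
theorem claimB (g₁ : T1 M hU ⟶ G)
    (hg₁ : evHom (g₁ ≫ e.hom) = kap hU (MonoidHom.id _))
    (hy₁ : ⊤ ≤ (lift g₁ (x1 M hU) ≫ a.act).left ⁻¹ᵁ U)
    {T : Over S} [IsAffine T.left] (g : T ⟶ G) (x : T ⟶ X) (hx : ⊤ ≤ x.left ⁻¹ᵁ U) :
    ∃ hy : ⊤ ≤ (lift g x ≫ a.act).left ⁻¹ᵁ U,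
      ((lift g x ≫ a.act).left.appLE U ⊤ hy).hom =
        (MonoidAlgebra.liftNCRingHom (x.left.appLE U ⊤ hx).hom (evHom (g ≫ e.hom))
          (fun _ _ => Commute.all _ _)).comp
          ((lift g₁ (x1 M hU) ≫ a.act).left.appLE U ⊤ hy₁ ≫
            (Scheme.ΓSpecIso (RG U (Multiplicative M))).hom).hom := by
  set Φr := MonoidAlgebra.liftNCRingHom (x.left.appLE U ⊤ hx).hom (evHom (g ≫ e.hom))
    (fun _ _ => Commute.all _ _) with hΦr
  obtain ⟨tl, htl⟩ := exists_toSpec (Z := T.left) (C := RG U (Multiplicative M))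
    (CommRingCat.ofHom Φr)
  have hle1 : ⊤ ≤ (tl ≫ (x1 M hU).left) ⁻¹ᵁ U := by
    rw [Scheme.Hom.comp_preimage]
    intro z _
    show tl.base z ∈ (x1 M hU).left ⁻¹ᵁ U
    exact tPt_le hU (inc U (Multiplicative M)) trivial
  have h1 : tl ≫ (x1 M hU).left = x.left := by
    apply eq_of_appLE_eq _ _ hU hle1 hx
    rw [← Scheme.Hom.appLE_comp_appLE tl (x1 M hU).left U ⊤ ⊤ (tPt_le hU _) le_top, tPt_appLE,
      ← UnivCat.appTop_eq_appLE, Category.assoc, htl]
    ext b
    simp [Φr, MonoidAlgebra.liftNCRingHom_single]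
  let t : T ⟶ T1 M hU := Over.homMk tl (by
    show tl ≫ (Spec.map (inc U (Multiplicative M)) ≫ hU.fromSpec ≫ X.hom) = T.hom
    rw [← Over.w x, ← h1]
    simp only [Over.homMk_left, Category.assoc])
  have ht_x : t ≫ x1 M hU = x := Over.OverMorphism.ext h1
  have ht_g : t ≫ g₁ = g := by
    rw [← cancel_mono e.hom, Category.assoc]
    apply hom_ext_ev
    intro m
    rw [ev_comp, ← evHom_apply, ← evHom_apply, hg₁]
    have h2 := congrArg (fun ψ => ψ.hom (MonoidAlgebra.single (Multiplicative.ofAdd m) 1)) htl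
    simp only [CommRingCat.hom_comp, CommRingCat.hom_ofHom, RingHom.comp_apply, Φr,
      MonoidAlgebra.liftNCRingHom_single, map_one, _root_.one_mul] at h2
    refine Eq.trans ?_ h2
    rfl
  have hyy : lift g x ≫ a.act = t ≫ (lift g₁ (x1 M hU) ≫ a.act) := by
    rw [← Category.assoc, comp_lift, ht_g, ht_x]
  have hy : ⊤ ≤ (lift g x ≫ a.act).left ⁻¹ᵁ U := by
    rw [hyy]
    show ⊤ ≤ (t.left ≫ (lift g₁ (x1 M hU) ≫ a.act).left) ⁻¹ᵁ U
    rw [Scheme.Hom.comp_preimage]
    intro z _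
    show t.left.base z ∈ (lift g₁ (x1 M hU) ≫ a.act).left ⁻¹ᵁ U
    exact hy₁ trivial
  refine ⟨hy, ?_⟩
  have hy' : ⊤ ≤ (t.left ≫ (lift g₁ (x1 M hU) ≫ a.act).left) ⁻¹ᵁ U := by
    rw [Scheme.Hom.comp_preimage]
    intro z _
    show t.left.base z ∈ (lift g₁ (x1 M hU) ≫ a.act).left ⁻¹ᵁ U
    exact hy₁ trivial
  have hyyl : (lift g x ≫ a.act).left = t.left ≫ (lift g₁ (x1 M hU) ≫ a.act).left := by
    rw [hyy, Over.comp_left]
  have e1 : (lift g x ≫ a.act).left.appLE U ⊤ hy =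
      (t.left ≫ (lift g₁ (x1 M hU) ≫ a.act).left).appLE U ⊤ hy' :=
    GeomCat.appLE_congr_hom _ _ hyyl U ⊤ hy hy'
  have e2 : t.left.appTop = (Scheme.ΓSpecIso (RG U (Multiplicative M))).hom ≫
      CommRingCat.ofHom Φr := by
    rw [← htl, Iso.hom_inv_id_assoc]
    exact congrArg Scheme.Hom.appTop (Over.homMk_left _ _)
  rw [e1, ← Scheme.Hom.appLE_comp_appLE t.left _ U ⊤ ⊤ hy₁ le_top, ← UnivCat.appTop_eq_appLE, e2]
  simp only [CommRingCat.hom_comp, CommRingCat.hom_ofHom, RingHom.comp_assoc]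

omit hemon in
include e in
theorem claimB' (g₁ : T1 M hU ⟶ G)
    (hg₁ : evHom (g₁ ≫ e.hom) = kap hU (MonoidHom.id _))
    (y₁ : T1 M hU ⟶ X) (hy₁def : y₁ = lift g₁ (x1 M hU) ≫ a.act)
    (hy₁ : ⊤ ≤ y₁.left ⁻¹ᵁ U)
    (T : Over S) (_ : IsAffine T.left) (g : T ⟶ G) (x : T ⟶ X) (hx : ⊤ ≤ x.left ⁻¹ᵁ U)
    (y : T ⟶ X) (hydef : y = lift g x ≫ a.act) :
    ∃ hy : ⊤ ≤ y.left ⁻¹ᵁ U,
      (y.left.appLE U ⊤ hy).hom =
        (MonoidAlgebra.liftNCRingHom (x.left.appLE U ⊤ hx).hom (evHom (g ≫ e.hom))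
          (fun _ _ => Commute.all _ _)).comp
          (y₁.left.appLE U ⊤ hy₁ ≫ (Scheme.ΓSpecIso (RG U (Multiplicative M))).hom).hom := by
  subst hy₁def hydef
  exact claimB e a hU g₁ hg₁ hy₁ g x hx

include e hU hemon in
theorem coreU
    (hnil : ∀ x : S, ∃ U : S.affineOpens, x ∈ (U : S.Opens) ∧ IsNilpotent (i₀.ker.ideal U))
    (h0 : ∀ (Y : Over S) (p : Y ⟶ Over.mk i₀) (g : Y ⟶ G) (x : Y ⟶ X), lift g x ≫ a.act = x)
    (V : S.Opens) (hV : IsAffineOpen V) (hUV : U ≤ X.hom ⁻¹ᵁ V)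
    (hI : IsNilpotent (i₀.ker.ideal ⟨V, hV⟩))
    {T : Over S} [IsAffine T.left] (g : T ⟶ G) (x : T ⟶ X) (hx : ⊤ ≤ x.left ⁻¹ᵁ U) :
    lift g x ≫ a.act = x := by
  obtain ⟨g₁', hg₁'⟩ := Groth.Agent.H22.MRPts.exists_pt (S := S) (M := M) (T := T1 M hU)
    (kap hU (MonoidHom.id _))
  have hg₁ : evHom ((g₁' ≫ e.inv) ≫ e.hom) = kap hU (MonoidHom.id _) := by
    rw [Category.assoc, Iso.inv_hom_id, Category.comp_id, hg₁']
  generalize g₁' ≫ e.inv = g₁ at hg₁
  obtain ⟨y₁, hy₁def⟩ : ∃ y₁ : T1 M hU ⟶ X, y₁ = lift g₁ (x1 M hU) ≫ a.act := ⟨_, rfl⟩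
  -- agreement on the thickening
  have hfst : pullback.fst (T1 M hU).hom i₀ ≫ y₁.left =
      pullback.fst (T1 M hU).hom i₀ ≫ (x1 M hU).left := by
    let Y : Over S := Over.mk (pullback.fst (T1 M hU).hom i₀ ≫ (T1 M hU).hom)
    let p : Y ⟶ Over.mk i₀ := Over.homMk (pullback.snd (T1 M hU).hom i₀) (by
      show pullback.snd (T1 M hU).hom i₀ ≫ i₀ = pullback.fst (T1 M hU).hom i₀ ≫ (T1 M hU).hom
      exact pullback.condition.symm)
    let j : Y ⟶ T1 M hU := Over.homMk (pullback.fst (T1 M hU).hom i₀) rfl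
    have h := h0 Y p (j ≫ g₁) (j ≫ x1 M hU)
    rw [← comp_lift, Category.assoc, ← hy₁def] at h
    have h' := congrArg (fun z => z.left) h
    simp only [Over.comp_left] at h'
    exact h'
  have hy₁ : ⊤ ≤ y₁.left ⁻¹ᵁ U := by
    rw [Groth.Agent.H60.MRTOP.preimage_eq_of_nil i₀ hnil (T1 M hU).hom _ _ hfst U]
    exact tPt_le hU _
  have hleV : ⊤ ≤ (T1 M hU).hom ⁻¹ᵁ V := by
    intro z _
    have h1 : (x1 M hU).left.base z ∈ U := tPt_le hU (inc U (Multiplicative M)) trivial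
    have h2 := hUV h1
    have h3 : (T1 M hU).hom = (x1 M hU).left ≫ X.hom := (Over.w (x1 M hU)).symm
    rw [h3]
    exact h2
  have hτ : (T1 M hU).hom.appLE V ⊤ hleV =
      X.hom.appLE V U hUV ≫ (x1 M hU).left.appLE U ⊤ (tPt_le hU _) := by
    rw [Scheme.Hom.appLE_comp_appLE]
    exact GeomCat.appLE_congr_hom _ _ (Over.w (x1 M hU)).symm _ _ _ _
  -- the coaction
  set ρ : Γ(X.left, U) →+* MonoidAlgebra Γ(X.left, U) (Multiplicative M) :=
    (y₁.left.appLE U ⊤ hy₁ ≫ (Scheme.ΓSpecIso (RG U (Multiplicative M))).hom).hom with hρ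
  have hB := claimB' e a hU g₁ hg₁ y₁ hy₁def hy₁
  have hρtriv : ∀ b, ρ b = MonoidAlgebra.single 1 b := by
    refine Groth.Agent.Lead.MR_PA.coaction_trivial (X.hom.appLE V U hUV).hom (Multiplicative M)
      (i₀.ker.ideal ⟨V, hV⟩) hI ρ ?_ ?_ ?_ ?_
    · -- linearity over the base
      intro s
      have e1 : X.hom.appLE V U hUV ≫ y₁.left.appLE U ⊤ hy₁ =
          X.hom.appLE V U hUV ≫ (x1 M hU).left.appLE U ⊤ (tPt_le hU _) := by
        rw [Scheme.Hom.appLE_comp_appLE, Scheme.Hom.appLE_comp_appLE]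
        exact GeomCat.appLE_congr_hom _ _ ((Over.w y₁).trans (Over.w (x1 M hU)).symm) _ _ _ _
      rw [tPt_appLE] at e1
      have e2 := congrArg (fun ψ => ψ ≫ (Scheme.ΓSpecIso (RG U (Multiplicative M))).hom) e1
      simp only [Category.assoc, Iso.inv_hom_id, Category.comp_id] at e2
      exact congrArg (fun ψ => ψ.hom s) e2
    · -- unit
      have hinj : Function.Injective (Scheme.ΓSpecIso Γ(X.left, U)).inv.hom := by
        intro p q hpq
        have := congrArg (Scheme.ΓSpecIso Γ(X.left, U)).hom.hom hpq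
        simpa using this
      obtain ⟨y, hydef⟩ : ∃ y : tObj hU (𝟙 Γ(X.left, U)) ⟶ X,
        y = lift (1 : tObj hU (𝟙 Γ(X.left, U)) ⟶ G) (tPt hU (𝟙 _)) ≫ a.act := ⟨_, rfl⟩
      obtain ⟨hy, hyeq⟩ := hB (tObj hU (𝟙 Γ(X.left, U)))
        (inferInstanceAs (IsAffine (Spec Γ(X.left, U))))
        (1 : tObj hU (𝟙 Γ(X.left, U)) ⟶ G) (tPt hU (𝟙 _)) (tPt_le hU _) y hydef
      have h1 : y = tPt hU (𝟙 _) := hydef.trans (one_act_pt a _)
      subst h1
      rw [tPt_appLE, MonObj.one_comp (X := tObj hU (𝟙 Γ(X.left, U))) e.hom, Groth.Agent.H22.MRPts.evHom_one] at hyeq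
      refine RingHom.ext fun b => ?_
      apply hinj
      have h2 := congrArg (fun ψ => ψ b) hyeq
      rw [RingHom.comp_apply, RingHom.id_apply,
        ← liftNC_apply_eq (Scheme.ΓSpecIso Γ(X.left, U)).inv.hom (RingHom.id _)
          (1 : Multiplicative M →* Γ(X.left, U))
          (𝟙 Γ(X.left, U) ≫ (Scheme.ΓSpecIso Γ(X.left, U)).inv).hom 1
          (by rw [Category.id_comp, RingHom.comp_id]) (by ext; simp)]
      exact h2.symm
    · -- associativity
      have hinj : Function.Injective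
          (Scheme.ΓSpecIso (RG U (Multiplicative M × Multiplicative M))).inv.hom := by
        intro p q hpq
        have := congrArg (Scheme.ΓSpecIso (RG U (Multiplicative M × Multiplicative M))).hom.hom hpq
        simpa using this
      obtain ⟨ga', hga'⟩ := Groth.Agent.H22.MRPts.exists_pt (S := S) (M := M)
        (T := tObj hU (inc U (Multiplicative M × Multiplicative M)))
        (kap hU (MonoidHom.inl (Multiplicative M) (Multiplicative M)))
      obtain ⟨gb', hgb'⟩ := Groth.Agent.H22.MRPts.exists_pt (S := S) (M := M)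
        (T := tObj hU (inc U (Multiplicative M × Multiplicative M)))
        (kap hU (MonoidHom.inr (Multiplicative M) (Multiplicative M)))
      have hga : evHom ((ga' ≫ e.inv) ≫ e.hom) = kap hU (MonoidHom.inl _ _) := by
        rw [Category.assoc, Iso.inv_hom_id, Category.comp_id, hga']
      have hgb : evHom ((gb' ≫ e.inv) ≫ e.hom) = kap hU (MonoidHom.inr _ _) := by
        rw [Category.assoc, Iso.inv_hom_id, Category.comp_id, hgb']
      generalize ga' ≫ e.inv = ga at hga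
      generalize gb' ≫ e.inv = gb at hgb
      have haff : IsAffine (tObj hU (inc U (Multiplicative M × Multiplicative M))).left :=
        inferInstanceAs (IsAffine (Spec (RG U (Multiplicative M × Multiplicative M))))
      obtain ⟨w, hwdef⟩ : ∃ w : tObj hU (inc U (Multiplicative M × Multiplicative M)) ⟶ X,
        w = lift gb (tPt hU (inc U (Multiplicative M × Multiplicative M))) ≫ a.act := ⟨_, rfl⟩
      obtain ⟨z, hzdef⟩ : ∃ z : tObj hU (inc U (Multiplicative M × Multiplicative M)) ⟶ X,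
        z = lift ga w ≫ a.act := ⟨_, rfl⟩
      obtain ⟨z', hz'def⟩ : ∃ z' : tObj hU (inc U (Multiplicative M × Multiplicative M)) ⟶ X,
        z' = lift (ga * gb) (tPt hU (inc U (Multiplicative M × Multiplicative M))) ≫ a.act :=
        ⟨_, rfl⟩
      obtain ⟨hw, hweq⟩ := hB _ haff gb
        (tPt hU (inc U (Multiplicative M × Multiplicative M))) (tPt_le hU _) w hwdef
      obtain ⟨hz, hzeq⟩ := hB _ haff ga w hw z hzdef
      obtain ⟨hz', hz'eq⟩ := hB _ haff (ga * gb)
        (tPt hU (inc U (Multiplicative M × Multiplicative M))) (tPt_le hU _) z' hz'def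
      have hzz : z' = z := by
        rw [hz'def, hzdef, hwdef]
        exact mul_act_pt a ga gb _
      subst hzz
      rw [hzeq, hweq, MonObj.mul_comp ga gb e.hom, Groth.Agent.H22.MRPts.evHom_mul, hga, hgb, tPt_appLE] at hz'eq
      refine RingHom.ext fun b => ?_
      apply hinj
      have h2 := congrArg (fun ψ => ψ b) hz'eq
      simp only [RingHom.comp_apply] at h2 ⊢
      rw [← liftNC_apply_eq (Scheme.ΓSpecIso (RG U (Multiplicative M × Multiplicative M))).inv.hom
          MonoidAlgebra.singleOneRingHom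
          (((MonoidAlgebra.of Γ(X.left, U) (Multiplicative M × Multiplicative M)).comp
              (MonoidHom.inl (Multiplicative M) (Multiplicative M))) *
            ((MonoidAlgebra.of Γ(X.left, U) (Multiplicative M × Multiplicative M)).comp
              (MonoidHom.inr (Multiplicative M) (Multiplicative M))))
          (inc U (Multiplicative M × Multiplicative M) ≫
            (Scheme.ΓSpecIso (RG U (Multiplicative M × Multiplicative M))).inv).hom
          (kap hU (MonoidHom.inl (Multiplicative M) (Multiplicative M)) *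
            kap hU (MonoidHom.inr (Multiplicative M) (Multiplicative M)))
          rfl (by rw [MonoidHom.comp_mul])]
      rw [← liftNC_apply_eq (Scheme.ΓSpecIso (RG U (Multiplicative M × Multiplicative M))).inv.hom
          ((MonoidAlgebra.liftNCRingHom MonoidAlgebra.singleOneRingHom
            ((MonoidAlgebra.of Γ(X.left, U) (Multiplicative M × Multiplicative M)).comp
              (MonoidHom.inr (Multiplicative M) (Multiplicative M)))
            (fun _ _ => Commute.all _ _)).comp ρ)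
          ((MonoidAlgebra.of Γ(X.left, U) (Multiplicative M × Multiplicative M)).comp
              (MonoidHom.inl (Multiplicative M) (Multiplicative M)))
          ((MonoidAlgebra.liftNCRingHom (inc U (Multiplicative M × Multiplicative M) ≫
              (Scheme.ΓSpecIso (RG U (Multiplicative M × Multiplicative M))).inv).hom
            (kap hU (MonoidHom.inr (Multiplicative M) (Multiplicative M)))
            (fun _ _ => Commute.all _ _)).comp ρ)
          (kap hU (MonoidHom.inl (Multiplicative M) (Multiplicative M)))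
          (by rw [← RingHom.comp_assoc, liftNC_comp]; rfl) rfl]
      exact h2.symm
    · -- triviality modulo the ideal
      intro b
      have e1 : y₁.left.appLE U ⊤ hy₁ ≫ (pullback.fst (T1 M hU).hom i₀).appTop =
          (x1 M hU).left.appLE U ⊤ (tPt_le hU _) ≫ (pullback.fst (T1 M hU).hom i₀).appTop := by
        rw [UnivCat.appTop_eq_appLE, Scheme.Hom.appLE_comp_appLE _ _ U ⊤ ⊤ hy₁ le_top,
          Scheme.Hom.appLE_comp_appLE _ _ U ⊤ ⊤ (tPt_le hU _) le_top]
        exact GeomCat.appLE_congr_hom _ _ hfst _ _ _ _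
      have e2 : (pullback.fst (T1 M hU).hom i₀).appTop
          (y₁.left.appLE U ⊤ hy₁ b - (x1 M hU).left.appLE U ⊤ (tPt_le hU _) b) = 0 := by
        rw [map_sub, sub_eq_zero]
        exact congrArg (fun ψ => ψ.hom b) e1
      haveI : IsAffine (T1 M hU).left :=
        inferInstanceAs (IsAffine (Spec (RG U (Multiplicative M))))
      have e3 := Groth.Agent.H77.MR_KER.mem_map_of_pullback_fst_appTop_eq_zero i₀ (T1 M hU).hom V hV hleV _ e2
      have e4 := Ideal.mem_map_of_mem (Scheme.ΓSpecIso (RG U (Multiplicative M))).hom.hom e3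
      rw [Ideal.map_map] at e4
      have e5 : (Scheme.ΓSpecIso (RG U (Multiplicative M))).hom.hom.comp
          ((T1 M hU).hom.appLE V ⊤ hleV).hom =
          (MonoidAlgebra.singleOneRingHom).comp (X.hom.appLE V U hUV).hom := by
        rw [hτ, tPt_appLE]
        refine RingHom.ext fun s => ?_
        have := congrArg (fun ψ => ψ.hom ((inc U (Multiplicative M)).hom
          ((X.hom.appLE V U hUV).hom s))) (Scheme.ΓSpecIso (RG U (Multiplicative M))).inv_hom_id
        exact this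
      rw [e5, map_sub] at e4
      have e6 : (Scheme.ΓSpecIso (RG U (Multiplicative M))).hom.hom
          ((x1 M hU).left.appLE U ⊤ (tPt_le hU _) b) = MonoidAlgebra.single 1 b := by
        rw [tPt_appLE]
        have := congrArg (fun ψ => ψ.hom ((inc U (Multiplicative M)).hom b))
          (Scheme.ΓSpecIso (RG U (Multiplicative M))).inv_hom_id
        exact this
      rw [e6] at e4
      exact e4
  obtain ⟨hy, hyeq⟩ := hB T inferInstance g x hx _ rfl
  apply Over.OverMorphism.ext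
  apply eq_of_appLE_eq _ _ hU hy hx
  apply CommRingCat.hom_ext
  rw [hyeq]
  ext b
  rw [RingHom.comp_apply]
  erw [hρtriv b]
  rw [MonoidAlgebra.liftNCRingHom_single, map_one, _root_.mul_one]

include e hemon in
theorem core
    (hnil : ∀ x : S, ∃ U : S.affineOpens, x ∈ (U : S.Opens) ∧ IsNilpotent (i₀.ker.ideal U))
    (h0 : ∀ (Y : Over S) (p : Y ⟶ Over.mk i₀) (g : Y ⟶ G) (x : Y ⟶ X), lift g x ≫ a.act = x) :
    a.act = snd G X := by
  apply Over.OverMorphism.ext
  apply Scheme.hom_ext_of_forall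
  intro z
  obtain ⟨V, hzV, hVnil⟩ := hnil (X.hom.base ((snd G X).left.base z))
  obtain ⟨U, hU, hzU, hUV⟩ := exists_isAffineOpen_mem_and_subset (X := X.left)
    (x := (snd G X).left.base z) (U := X.hom ⁻¹ᵁ V.1) hzV
  obtain ⟨W, hW, hzW, hWU⟩ := exists_isAffineOpen_mem_and_subset (X := (G ⊗ X).left)
    (x := z) (U := (snd G X).left ⁻¹ᵁ U) hzU
  refine ⟨W, hzW, ?_⟩
  let T : Over S := Over.mk (W.ι ≫ (G ⊗ X).hom)
  let jW : T ⟶ G ⊗ X := Over.homMk W.ι rfl
  haveI : IsAffine T.left := hW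
  have hx : ⊤ ≤ (jW ≫ snd G X).left ⁻¹ᵁ U := by
    show ⊤ ≤ (W.ι ≫ (snd G X).left) ⁻¹ᵁ U
    rw [Scheme.Hom.comp_preimage]
    intro w _
    exact hWU w.2
  have h := coreU i₀ e a hU hnil h0 V.1 V.2 hUV hVnil (jW ≫ fst G X) (jW ≫ snd G X) hx
  rw [← comp_lift, lift_fst_snd, Category.comp_id] at h
  exact congrArg (fun z => z.left) h

end core

/-- The main theorem: the action is trivial. -/
theorem main {S S₀ : Scheme.{u}} (i₀ : S₀ ⟶ S) [IsClosedImmersion i₀]
    (hnil : ∀ x : S, ∃ U : S.affineOpens, x ∈ (U : S.Opens) ∧ IsNilpotent (i₀.ker.ideal U))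
    (G X : Over S) [GrpObj G]
    (hG : TwC.Locally S TwC.Topology.fpqc (fun S' f => ∃ (M : Type) (_ : AddCommGroup M),
      Nonempty (Grp.mk (Red.bc f G) ≅ Grp.mk (Red.DS S' M))))
    (a : AlgGrp.Action G X)
    (h0 : ∀ (Y : Over S) (p : Y ⟶ Over.mk i₀) (g : Y ⟶ G) (x : Y ⟶ X), lift g x ≫ a.act = x) :
    a.act = snd G X := by
  obtain ⟨S', f, hflat, hsurj, -, hloc⟩ := hG
  choose W hW hP using hloc
  apply Over.OverMorphism.ext
  refine Groth.Agent.H60.MREPI.hom_ext_of_flat_cover f W hW (G ⊗ X).hom a.act.left (snd G X).left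
    (fun s' => ?_)
  obtain ⟨M, instM, ⟨E⟩⟩ := hP s'
  let e : Red.bc ((W s').ι ≫ f) G ≅ Red.DS (W s') M := (Grp.forget _).mapIso E
  haveI : IsMonHom e.hom := (inferInstance : IsMonHom E.hom.hom.hom)
  have hcore := core (pullback.snd i₀ ((W s').ι ≫ f)) e (a.bc ((W s').ι ≫ f))
    (Groth.Agent.H77.MR_NIL.nil_pullback i₀ hnil _) ?h0'
  case h0' =>
    intro Y' p' g' x'
    obtain ⟨g, rfl⟩ := ((Over.mapPullbackAdj ((W s').ι ≫ f)).homEquiv Y' G).surjective g'
    obtain ⟨x, rfl⟩ := ((Over.mapPullbackAdj ((W s').ι ≫ f)).homEquiv Y' X).surjective x'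
    rw [AlgGrp.Action.lift_homEquiv_bc_act]
    congr 1
    refine h0 ((Over.map ((W s').ι ≫ f)).obj Y')
      (Over.homMk (p'.left ≫ pullback.fst i₀ ((W s').ι ≫ f)) ?_) g x
    show (p'.left ≫ pullback.fst i₀ ((W s').ι ≫ f)) ≫ i₀ = Y'.hom ≫ ((W s').ι ≫ f)
    rw [Category.assoc, pullback.condition, ← Category.assoc]
    congr 1
    exact Over.w p'
  rw [AlgGrp.Action.bc_act, ← Functor.Monoidal.μ_snd (Over.pullback ((W s').ι ≫ f)) G X,
    cancel_epi] at hcore
  have h2 := congrArg (fun z => z.left ≫ pullback.fst _ _) hcore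
  simp only [ActBC.pullback_map_left_fst] at h2
  exact h2

end Groth.Agent.H93.MultRigid
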