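import Groth.Agent.H93.NilPull
import Mathlib.AlgebraicGeometry.Morphisms.FinitePresentation
import Mathlib.AlgebraicGeometry.Noetherian
import Mathlib.RingTheory.FinitePresentation

/-!
# Finite type through a nilpotent thickening of the source (non-cartesian squares)
-/

set_option autoImplicit false
universe u

namespace Groth.Agent.H93.NilComp

open AlgebraicGeometry CategoryTheory CategoryTheory.Limits TopologicalSpace Opposite

theorem ring_ft' {A B B₀ : Type u} [CommRing A] [CommRing B] [CommRing B₀]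
    (φ : A →+* B) (β : B →+* B₀) (hβ : Function.Surjective β)
    (hfg : (RingHom.ker β).FG) (hnil : IsNilpotent (RingHom.ker β))
    (h : (β.comp φ).FiniteType) : φ.FiniteType := by
  classical
  letI := φ.toAlgebra
  letI : Algebra A B₀ := (β.comp φ).toAlgebra
  let β' : B →ₐ[A] B₀ := ⟨β, fun a => rfl⟩
  have hft : Algebra.FiniteType A B₀ := h
  obtain ⟨s, hs⟩ := hft.out
  obtain ⟨T, hT⟩ := hfg
  obtain ⟨m, hm⟩ := hnil
  choose g hg using hβ
  set B' : Subalgebra A B := Algebra.adjoin A (g '' (s : Set B₀) ∪ (T : Set B)) with hB'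
  -- every element is in `B' + ker β`
  have hdec : ∀ b : B, ∃ b' ∈ B', b - b' ∈ RingHom.ker β := by
    intro b
    have h1 : (Algebra.adjoin A (g '' (s : Set B₀))).map β' = ⊤ := by
      rw [AlgHom.map_adjoin, Set.image_image]
      have : (fun x => β' (g x)) '' (s : Set B₀) = s := by
        ext y
        simp only [Set.mem_image]
        constructor
        · rintro ⟨x, hx, rfl⟩
          have : β' (g x) = x := hg x
          rwa [this]
        · intro hy
          exact ⟨y, hy, hg y⟩
      rw [this, hs]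
    have h2 : β' b ∈ (Algebra.adjoin A (g '' (s : Set B₀))).map β' := by rw [h1]; trivial
    obtain ⟨b', hb', hbb⟩ := h2
    refine ⟨b', Algebra.adjoin_mono Set.subset_union_left hb', ?_⟩
    rw [RingHom.mem_ker, map_sub, sub_eq_zero]
    exact hbb.symm
  -- the ideal of `B'` generated by `T`
  have hTB' : ∀ t ∈ T, t ∈ B' := fun t ht =>
    Algebra.subset_adjoin (Set.mem_union_right _ ht)
  set J : Ideal B' := Ideal.span {x : B' | (x : B) ∈ T} with hJ
  have hJmap : J.map (algebraMap B' B) = RingHom.ker β := by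
    rw [hJ, Ideal.map_span, ← hT]
    congr 1
    ext x
    constructor
    · rintro ⟨y, hy, rfl⟩
      exact hy
    · intro hx
      exact ⟨⟨x, hTB' x hx⟩, hx, rfl⟩
  have hJnil : J ^ m = ⊥ := by
    rw [eq_bot_iff]
    intro x hx
    have h1 : algebraMap B' B x ∈ (J ^ m).map (algebraMap B' B) := Ideal.mem_map_of_mem _ hx
    rw [Ideal.map_pow, hJmap, hm] at h1
    rw [Ideal.mem_bot]
    exact Subtype.ext h1
  have hN : LinearMap.range (Algebra.linearMap B' B) ⊔ J • (⊤ : Submodule B' B) = ⊤ := by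
    rw [eq_top_iff]
    intro b _
    obtain ⟨b', hb', hk⟩ := hdec b
    have h1 : b' ∈ LinearMap.range (Algebra.linearMap B' B) := ⟨⟨b', hb'⟩, rfl⟩
    have h2 : b - b' ∈ J • (⊤ : Submodule B' B) := by
      rw [Ideal.smul_top_eq_map, hJmap]
      exact hk
    have := Submodule.add_mem_sup h1 h2
    rwa [add_sub_cancel] at this
  have htop := NilPull.eq_top_of_sup_smul_top J m hJnil _ hN
  refine ⟨⟨s.image g ∪ T, ?_⟩⟩
  rw [Finset.coe_union, Finset.coe_image, eq_top_iff]
  intro b _
  have hb : b ∈ LinearMap.range (Algebra.linearMap B' B) := by rw [htop]; trivial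
  obtain ⟨⟨b', hb'⟩, rfl⟩ := hb
  exact hb'

theorem lft_of_comp_nil {Y₀ Y X : Scheme.{u}} (i : Y₀ ⟶ Y) (F : Y ⟶ X) [IsClosedImmersion i]
    (hnil : ∀ U : Y.affineOpens, IsNilpotent (i.ker.ideal U))
    (hfg : ∀ U : Y.affineOpens, (i.ker.ideal U).FG) [LocallyOfFiniteType (i ≫ F)] :
    LocallyOfFiniteType F := by
  rw [HasRingHomProperty.iff_appLE (P := @LocallyOfFiniteType)]
  intro U V e
  have h := HasRingHomProperty.appLE (P := @LocallyOfFiniteType) (f := i ≫ F) inferInstance U
    ⟨i ⁻¹ᵁ V.1, V.2.preimage i⟩ (le_rfl.trans ((Opens.map i.base).map (homOfLE e)).le)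
  have hfac := Scheme.Hom.appLE_comp_appLE i F U.1 V.1 (i ⁻¹ᵁ V.1) e le_rfl
  rw [Scheme.Hom.appLE_eq_app] at hfac
  rw [← hfac, CommRingCat.hom_comp] at h
  refine ring_ft' _ (i.app V.1).hom (i.app_surjective V.1 V.2) ?_ ?_ h
  · rw [← Scheme.Hom.ker_apply]
    exact hfg V
  · rw [← Scheme.Hom.ker_apply]
    exact hnil V

theorem lfp_of_lft_noeth {Y X : Scheme.{u}} (F : Y ⟶ X) [IsLocallyNoetherian X]
    [LocallyOfFiniteType F] : LocallyOfFinitePresentation F := by
  rw [HasRingHomProperty.iff_appLE (P := @LocallyOfFinitePresentation)]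
  intro U V e
  have : IsNoetherianRing Γ(X, U.1) := IsLocallyNoetherian.component_noetherian U
  exact RingHom.FinitePresentation.of_finiteType.mp
    (HasRingHomProperty.appLE (P := @LocallyOfFiniteType) (f := F) inferInstance U V e)

theorem isLocallyNoetherian_of_closedImm {X₀ X : Scheme.{u}} (j : X₀ ⟶ X) [IsClosedImmersion j]
    [IsLocallyNoetherian X] : IsLocallyNoetherian X₀ := by
  refine isLocallyNoetherian_of_affine_cover
    (S := fun U : X.affineOpens => (⟨j ⁻¹ᵁ U.1, U.2.preimage j⟩ : X₀.affineOpens)) ?_ ?_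
  · rw [eq_top_iff]
    intro x _
    obtain ⟨W, hW, hxW, -⟩ := exists_isAffineOpen_mem_and_subset (x := j.base x) (U := ⊤) trivial
    exact Opens.mem_iSup.mpr ⟨⟨W, hW⟩, hxW⟩
  · intro U
    have : IsNoetherianRing Γ(X, U.1) := IsLocallyNoetherian.component_noetherian U
    exact isNoetherianRing_of_surjective _ _ (j.app U.1).hom (j.app_surjective U.1 U.2)

end Groth.Agent.H93.NilComp
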