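import Groth.Statements.S8366
import Groth.Agent.H93.NilPull

/-! P2a of the S8366 squad: affine case of the iso lemma for nilpotent thickenings. -/

set_option autoImplicit false
universe u
open CategoryTheory MonoidalCategory CartesianMonoidalCategory MonObj AlgebraicGeometry Limits

namespace Groth.Agent.H93.NilGrpAff

theorem nil_ker_thk (R : Type u) [CommRing R] (I : Ideal R) (hI : IsNilpotent I) :
    IsNilpotent (RingHom.ker
      (Spec.map (CommRingCat.ofHom (Ideal.Quotient.mk I))).appTop.hom) := by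
  obtain ⟨n, hn⟩ := hI
  refine ⟨n, ?_⟩
  have hle : RingHom.ker (Spec.map (CommRingCat.ofHom (Ideal.Quotient.mk I))).appTop.hom ≤
      I.comap (Scheme.ΓSpecIso (CommRingCat.of R)).hom.hom := by
    intro z hz
    rw [RingHom.mem_ker] at hz
    rw [Ideal.mem_comap]
    have hnat := Scheme.ΓSpecIso_naturality (CommRingCat.ofHom (Ideal.Quotient.mk I))
    have h1 := congrArg (fun ψ => ψ.hom z) hnat
    simp only [CommRingCat.hom_comp, RingHom.comp_apply] at h1
    rw [hz, map_zero] at h1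
    exact Ideal.Quotient.eq_zero_iff_mem.mp h1.symm
  have h2 : (I.comap (Scheme.ΓSpecIso (CommRingCat.of R)).hom.hom) ^ n ≤ ⊥ := by
    refine (Ideal.le_comap_pow _ n).trans ?_
    rw [hn]
    intro z hz
    rw [Ideal.mem_comap] at hz
    have hz' : (Scheme.ΓSpecIso (CommRingCat.of R)).hom.hom z = 0 := hz
    have h3 := congrArg (Scheme.ΓSpecIso (CommRingCat.of R)).inv.hom hz'
    rw [map_zero] at h3
    rw [Ideal.mem_bot, ← h3]
    simp
  exact le_bot_iff.mp ((Ideal.pow_right_mono hle n).trans h2)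

theorem affine_case (R : Type u) [CommRing R] (I : Ideal R) (hI : IsNilpotent I)
    (hring : ∀ {R' B A B₀ A₀ : Type u} [CommRing R'] [CommRing B] [CommRing A] [CommRing B₀]
      [CommRing A₀] (J : Ideal R') (_ : IsNilpotent J)
      (r : R' →+* B) (φ : B →+* A) (_ : (φ.comp r).Flat)
      (q : B →+* B₀) (p : A →+* A₀) (φ₀ : B₀ →+* A₀) (_ : φ₀.comp q = p.comp φ)
      (_ : Function.Surjective q)
      (_ : RingHom.ker q = J.map r) (_ : RingHom.ker p = J.map (φ.comp r))
      (_ : Function.Bijective φ₀), Function.Bijective φ)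
    {Y Z Y₀ Z₀ : Scheme.{u}} [IsAffine Y] [IsAffine Z]
    (f : Y ⟶ Z) (g : Z ⟶ Spec (CommRingCat.of R)) (jZ : Z₀ ⟶ Z)
    (g₀ : Z₀ ⟶ Spec (CommRingCat.of (R ⧸ I))) (jY : Y₀ ⟶ Y)
    (h₀ : Y₀ ⟶ Spec (CommRingCat.of (R ⧸ I))) (f₀ : Y₀ ⟶ Z₀)
    (hZ : IsPullback jZ g₀ g (Spec.map (CommRingCat.ofHom (Ideal.Quotient.mk I))))
    (hY : IsPullback jY h₀ (f ≫ g) (Spec.map (CommRingCat.ofHom (Ideal.Quotient.mk I))))
    (hw : jY ≫ f = f₀ ≫ jZ) (hfl : Flat (f ≫ g)) (hiso : IsIso f₀) : IsIso f := by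
  haveI : IsClosedImmersion (Spec.map (CommRingCat.ofHom (Ideal.Quotient.mk I))) :=
    IsClosedImmersion.spec_of_surjective _ Ideal.Quotient.mk_surjective
  haveI hjZ : IsClosedImmersion jZ := NilPull.closedImm_top hZ
  have hq : Function.Surjective jZ.appTop.hom :=
    (IsClosedImmersion.isAffine_surjective_of_isAffine jZ).2
  have hkq := NilPull.affine_ker hZ
  have hkp := NilPull.affine_ker hY
  have hcomp : (f ≫ g).appTop.hom = f.appTop.hom.comp g.appTop.hom := by
    rw [Scheme.Hom.comp_appTop, CommRingCat.hom_comp]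
  rw [hcomp] at hkp
  have hflat : (f.appTop.hom.comp g.appTop.hom).Flat := by
    rw [← hcomp]
    exact (HasRingHomProperty.iff_of_isAffine (P := @Flat)).mp hfl
  have hcomm : f₀.appTop.hom.comp jZ.appTop.hom = jY.appTop.hom.comp f.appTop.hom := by
    have := congrArg (fun h => h.appTop.hom) hw
    simpa [Scheme.Hom.comp_appTop] using this.symm
  haveI : IsIso f₀ := hiso
  haveI : IsIso f₀.appTop := inferInstanceAs (IsIso (f₀.app ⊤))
  have hφ₀ : Function.Bijective f₀.appTop.hom :=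
    ConcreteCategory.bijective_of_isIso f₀.appTop
  have hb : Function.Bijective f.appTop.hom :=
    hring _ (nil_ker_thk R I hI) g.appTop.hom f.appTop.hom hflat jZ.appTop.hom jY.appTop.hom
      f₀.appTop.hom hcomm hq hkq hkp hφ₀
  have hI' : IsIso f.appTop := (ConcreteCategory.isIso_iff_bijective _).mpr hb
  exact (HasAffineProperty.iff_of_isAffine (P := MorphismProperty.isomorphisms Scheme)).mpr
    ⟨inferInstance, hI'⟩

end Groth.Agent.H93.NilGrpAff
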