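import Groth.Statements.S8366
import Mathlib

/-! P7 of the S8366 squad: `X ⟶ Spec R` is surjective when its reduction mod a nilpotent ideal has
a section. -/

set_option autoImplicit false
universe u
open CategoryTheory MonoidalCategory CartesianMonoidalCategory MonObj AlgebraicGeometry Limits

namespace Groth.Agent.H93.NilGrpSurj

theorem thk_surjective (R : Type u) [CommRing R] (I : Ideal R) (hI : IsNilpotent I) :
    Function.Surjective (Spec.map (CommRingCat.ofHom (Ideal.Quotient.mk I))).base := by
  have hle : I ≤ nilradical R := by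
    obtain ⟨n, hn⟩ := hI
    intro a ha
    refine ⟨n, ?_⟩
    have : a ^ n ∈ I ^ n := Ideal.pow_mem_pow ha n
    rw [hn] at this
    simpa using this
  exact (PrimeSpectrum.comap_quotientMk_bijective_of_le_nilradical hle).2

theorem surjective_hom (R : Type u) [CommRing R] (I : Ideal R) (hI : IsNilpotent I)
    (X : Over (Spec (CommRingCat.of R)))
    (s : 𝟙_ (Over (Spec (CommRingCat.of (R ⧸ I)))) ⟶
      (Over.pullback (Spec.map (CommRingCat.ofHom (Ideal.Quotient.mk I)))).obj X) :
    Surjective X.hom := by
  refine ⟨fun x => ?_⟩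
  obtain ⟨x0, hx0⟩ := thk_surjective R I hI x
  have h1 : s.left ≫ pullback.snd X.hom (Spec.map (CommRingCat.ofHom (Ideal.Quotient.mk I))) =
      𝟙 _ := Over.w s
  refine ⟨(pullback.fst X.hom (Spec.map (CommRingCat.ofHom (Ideal.Quotient.mk I)))).base
    (s.left.base x0), ?_⟩
  have h2 : (s.left ≫ pullback.fst X.hom (Spec.map (CommRingCat.ofHom (Ideal.Quotient.mk I))) ≫
      X.hom) = Spec.map (CommRingCat.ofHom (Ideal.Quotient.mk I)) := by
    rw [pullback.condition, ← Category.assoc, h1, Category.id_comp]
  have h3 := congrArg (fun m => m.base x0) h2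
  simp only [Scheme.Hom.comp_base, TopCat.comp_app] at h3
  rw [← hx0]
  exact h3

end Groth.Agent.H93.NilGrpSurj
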