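import Groth.Statements.S8366
import Groth.Agent.H93.ThickHom
import Groth.Agent.H93.NilPull
import Groth.Agent.H93.NilGrpSurj

/-! P2b of the S8366 squad: the iso lemma for nilpotent thickenings, general case from the affine
case. -/

set_option autoImplicit false
universe u
open CategoryTheory MonoidalCategory CartesianMonoidalCategory MonObj AlgebraicGeometry Limits

namespace Groth.Agent.H93.NilGrpGen

theorem general_case (R : Type u) [CommRing R] (I : Ideal R) (hI : IsNilpotent I)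
    (haff : ∀ {Y Z Y₀ Z₀ : Scheme.{u}} [IsAffine Y] [IsAffine Z]
      (f : Y ⟶ Z) (g : Z ⟶ Spec (CommRingCat.of R)) (jZ : Z₀ ⟶ Z)
      (g₀ : Z₀ ⟶ Spec (CommRingCat.of (R ⧸ I))) (jY : Y₀ ⟶ Y)
      (h₀ : Y₀ ⟶ Spec (CommRingCat.of (R ⧸ I))) (f₀ : Y₀ ⟶ Z₀),
      IsPullback jZ g₀ g (Spec.map (CommRingCat.ofHom (Ideal.Quotient.mk I))) →
      IsPullback jY h₀ (f ≫ g) (Spec.map (CommRingCat.ofHom (Ideal.Quotient.mk I))) →
      jY ≫ f = f₀ ≫ jZ → Flat (f ≫ g) → IsIso f₀ → IsIso f)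
    {Y Z Y₀ Z₀ : Scheme.{u}}
    (f : Y ⟶ Z) (g : Z ⟶ Spec (CommRingCat.of R)) (jZ : Z₀ ⟶ Z)
    (g₀ : Z₀ ⟶ Spec (CommRingCat.of (R ⧸ I))) (jY : Y₀ ⟶ Y)
    (h₀ : Y₀ ⟶ Spec (CommRingCat.of (R ⧸ I))) (f₀ : Y₀ ⟶ Z₀)
    (hZ : IsPullback jZ g₀ g (Spec.map (CommRingCat.ofHom (Ideal.Quotient.mk I))))
    (hY : IsPullback jY h₀ (f ≫ g) (Spec.map (CommRingCat.ofHom (Ideal.Quotient.mk I))))
    (hw : jY ≫ f = f₀ ≫ jZ) (hfl : Flat (f ≫ g)) (hiso : IsIso f₀) : IsIso f := by
  haveI hci : IsClosedImmersion (Spec.map (CommRingCat.ofHom (Ideal.Quotient.mk I))) :=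
    IsClosedImmersion.spec_of_surjective _ Ideal.Quotient.mk_surjective
  have hthk := NilGrpSurj.thk_surjective R I hI
  haveI hjZ : IsClosedImmersion jZ := NilPull.closedImm_top hZ
  haveI hjY : IsClosedImmersion jY := NilPull.closedImm_top hY
  have hsY : Function.Surjective jY.base := NilPull.surj_top hY hthk
  haveI := hiso
  haveI := hfl
  have hh₀ : h₀ = f₀ ≫ g₀ := by
    rw [← cancel_mono (Spec.map (CommRingCat.ofHom (Ideal.Quotient.mk I))), Category.assoc,
      ← hZ.w, ← Category.assoc, ← hw, Category.assoc, hY.w]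
  have sq : IsPullback jY f₀ f jZ := IsPullback.of_bot (by rw [← hh₀]; exact hY) hw hZ
  have hfa : IsAffineHom f := (ThickHom.affineHom_iff jY jZ f₀ f hsY hw).mp inferInstance
  change MorphismProperty.isomorphisms Scheme f
  rw [IsZariskiLocalAtTarget.iff_of_openCover (P := MorphismProperty.isomorphisms Scheme)
    Z.affineCover]
  intro k
  change IsIso (pullback.snd f (Z.affineCover.f k))
  obtain ⟨c, a, hca, hfa'⟩ := NilPull.cube sq (Z.affineCover.f k)
  have ha : IsIso a := MorphismProperty.of_isPullback (P := MorphismProperty.isomorphisms Scheme)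
    hfa' (MorphismProperty.isomorphisms.infer_property f₀)
  have hZ' : IsPullback (pullback.snd jZ (Z.affineCover.f k))
      (pullback.fst jZ (Z.affineCover.f k) ≫ g₀) (Z.affineCover.f k ≫ g)
      (Spec.map (CommRingCat.ofHom (Ideal.Quotient.mk I))) :=
    (IsPullback.of_hasPullback jZ (Z.affineCover.f k)).flip.paste_vert hZ
  have hY' := hca.paste_vert hZ'
  have hfl' : Flat (pullback.snd f (Z.affineCover.f k) ≫ Z.affineCover.f k ≫ g) := by
    have e : pullback.snd f (Z.affineCover.f k) ≫ Z.affineCover.f k ≫ g =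
        pullback.fst f (Z.affineCover.f k) ≫ f ≫ g := by
      rw [← Category.assoc, ← pullback.condition, Category.assoc]
    rw [e]; infer_instance
  haveI : IsAffineHom (pullback.snd f (Z.affineCover.f k)) :=
    MorphismProperty.pullback_snd (P := @IsAffineHom) f (Z.affineCover.f k) hfa
  haveI : IsAffine (pullback f (Z.affineCover.f k)) :=
    isAffine_of_isAffineHom (pullback.snd f (Z.affineCover.f k))
  exact haff (pullback.snd f (Z.affineCover.f k)) (Z.affineCover.f k ≫ g)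
    (pullback.snd jZ (Z.affineCover.f k)) (pullback.fst jZ (Z.affineCover.f k) ≫ g₀) c
    (a ≫ pullback.fst jZ (Z.affineCover.f k) ≫ g₀) a hZ' hY' hca.w hfl' ha

end Groth.Agent.H93.NilGrpGen
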