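import Groth.Statements.S8366
import Groth.Agent.H40.FpqcDesc

/-! P4 of the S8366 squad: a unit from bijective translations, by descent along an effective epi. -/

set_option autoImplicit false
universe v w u
open CategoryTheory MonoidalCategory CartesianMonoidalCategory MonObj AlgebraicGeometry Limits

namespace Groth.Agent.H93.NilGrpUnit

section gen

variable {C : Type w} [Category.{v} C] [CartesianMonoidalCategory C] {X : C} (P : X ⊗ X ⟶ X)

theorem assoc_pts (hassoc : (P ▷ X) ≫ P = (α_ X X X).hom ≫ (X ◁ P) ≫ P) {T : C}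
    (x y z : T ⟶ X) : lift (lift x y ≫ P) z ≫ P = lift x (lift y z ≫ P) ≫ P := by
  have := congrArg (fun k => lift (lift x y) z ≫ k) hassoc
  simp only [lift_whiskerRight_assoc, lift_lift_associator_hom_assoc, lift_whiskerLeft_assoc] at this
  exact this

theorem cancel_right (hσ : Mono (lift P (snd X X))) {T : C} (a b g : T ⟶ X)
    (h : lift a g ≫ P = lift b g ≫ P) : a = b := by
  have h1 : lift a g ≫ lift P (snd X X) = lift b g ≫ lift P (snd X X) := by
    rw [comp_lift, comp_lift, lift_snd, lift_snd, h]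
  have h2 := (cancel_mono _).mp h1
  have := congrArg (fun k => k ≫ fst X X) h2
  simpa using this

theorem cancel_left (hτ : Mono (lift (fst X X) P)) {T : C} (a b g : T ⟶ X)
    (h : lift g a ≫ P = lift g b ≫ P) : a = b := by
  have h1 : lift g a ≫ lift (fst X X) P = lift g b ≫ lift (fst X X) P := by
    rw [comp_lift, comp_lift, lift_fst, lift_fst, h]
  have h2 := (cancel_mono _).mp h1
  have := congrArg (fun k => k ≫ snd X X) h2
  simpa using this

/-- `x ↦ x x⁻¹`. -/
noncomputable def eX [IsIso (lift P (snd X X))] : X ⟶ X :=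
  lift (𝟙 X) (𝟙 X) ≫ inv (lift P (snd X X)) ≫ fst X X

theorem eX_mul [IsIso (lift P (snd X X))] : lift (eX P) (𝟙 X) ≫ P = 𝟙 X := by
  set z : X ⟶ X ⊗ X := lift (𝟙 X) (𝟙 X) ≫ inv (lift P (snd X X)) with hz
  have hzσ : z ≫ lift P (snd X X) = lift (𝟙 X) (𝟙 X) := by
    rw [hz, Category.assoc, IsIso.inv_hom_id, Category.comp_id]
  have h1 : z ≫ snd X X = 𝟙 X := by
    have := congrArg (fun k => k ≫ snd X X) hzσ
    simpa using this
  have h2 : z ≫ P = 𝟙 X := by
    have := congrArg (fun k => k ≫ fst X X) hzσ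
    simpa using this
  have h3 : z = lift (eX P) (𝟙 X) := by
    apply CartesianMonoidalCategory.hom_ext
    · rw [lift_fst]; simp only [eX, hz, Category.assoc]
    · rw [lift_snd, h1]
  rw [← h3, h2]

theorem eX_const (hassoc : (P ▷ X) ≫ P = (α_ X X X).hom ≫ (X ◁ P) ≫ P)
    [IsIso (lift P (snd X X))] [IsIso (lift (fst X X) P)] {W : C} (g₁ g₂ : W ⟶ X) :
    g₁ ≫ eX P = g₂ ≫ eX P := by
  have hσ : Mono (lift P (snd X X)) := inferInstance
  have hτ : Mono (lift (fst X X) P) := inferInstance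
  -- `u g * g = g`
  have hug : ∀ g : W ⟶ X, lift (g ≫ eX P) g ≫ P = g := by
    intro g
    have := congrArg (fun k => g ≫ k) (eX_mul P)
    simpa [comp_lift_assoc] using this
  -- right identity
  have hr : ∀ g h : W ⟶ X, lift h (g ≫ eX P) ≫ P = h := by
    intro g h
    apply cancel_right P hσ _ _ g
    rw [assoc_pts P hassoc, hug]
  -- left identity
  have hl : ∀ g h : W ⟶ X, lift (g ≫ eX P) h ≫ P = h := by
    intro g h
    apply cancel_left P hτ _ _ (g ≫ eX P)
    rw [← assoc_pts P hassoc, hr]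
  calc g₁ ≫ eX P = lift (g₁ ≫ eX P) (g₂ ≫ eX P) ≫ P := (hr g₂ _).symm
    _ = g₂ ≫ eX P := hl g₁ _

end gen

theorem exists_unit {S : Scheme.{u}} (X : Over S) (P : X ⊗ X ⟶ X)
    (hassoc : (P ▷ X) ≫ P = (α_ X X X).hom ≫ (X ◁ P) ≫ P)
    (hσ : IsIso (lift P (snd X X))) (hτ : IsIso (lift (fst X X) P))
    (hepi : EffectiveEpi X.hom) :
    ∃ e : 𝟙_ (Over S) ⟶ X, ∀ {T : Over S} (x : T ⟶ X), lift (toUnit T ≫ e) x ≫ P = x := by
  haveI : EffectiveEpi (toUnit X).left := hepi
  obtain ⟨e, he⟩ := Groth.Agent.H40.FpqcDesc.exists_desc (toUnit X) (eX P)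
    (fun W g₁ g₂ _ => eX_const P hassoc g₁ g₂)
  refine ⟨e, fun {T} x => ?_⟩
  have h1 : toUnit T ≫ e = x ≫ eX P := by
    rw [← he, ← Category.assoc]
    congr 1
    exact (toUnit_unique _ _)
  rw [h1]
  have := congrArg (fun k => x ≫ k) (eX_mul P)
  simpa [comp_lift_assoc] using this

end Groth.Agent.H93.NilGrpUnit
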