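import Groth.Statements.S8366
import Groth.Agent.H93.NilGrpUnit
import Mathlib.Algebra.Group.MinimalAxioms

/-! P5 of the S8366 squad: group object from associativity + left unit on points + shear iso. -/

set_option autoImplicit false
universe v w u
open CategoryTheory MonoidalCategory CartesianMonoidalCategory MonObj AlgebraicGeometry Limits

namespace Groth.Agent.H93.NilGrpObj

variable {C : Type w} [Category.{v} C] [CartesianMonoidalCategory C]

theorem grp_of_unit_shear (X : C) (P : X ⊗ X ⟶ X)
    (hassoc : (P ▷ X) ≫ P = (α_ X X X).hom ≫ (X ◁ P) ≫ P)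
    (e : 𝟙_ C ⟶ X) (he : ∀ {T : C} (x : T ⟶ X), lift (toUnit T ≫ e) x ≫ P = x)
    (hσ : IsIso (lift P (snd X X))) :
    ∃ _ : GrpObj X, μ[X] = P := by
  -- the inverse
  set z : X ⟶ X ⊗ X := lift (toUnit X ≫ e) (𝟙 X) ≫ inv (lift P (snd X X)) with hz
  have hzσ : z ≫ lift P (snd X X) = lift (toUnit X ≫ e) (𝟙 X) := by
    rw [hz, Category.assoc, IsIso.inv_hom_id, Category.comp_id]
  have h1 : z ≫ snd X X = 𝟙 X := by
    have := congrArg (fun k => k ≫ snd X X) hzσ
    simpa using this
  have h2 : z ≫ P = toUnit X ≫ e := by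
    have := congrArg (fun k => k ≫ fst X X) hzσ
    simpa using this
  set i : X ⟶ X := z ≫ fst X X with hi
  have h3 : z = lift i (𝟙 X) := by
    apply CartesianMonoidalCategory.hom_ext
    · rw [lift_fst]
    · rw [lift_snd, h1]
  have hinv0 : lift i (𝟙 X) ≫ P = toUnit X ≫ e := by rw [← h3, h2]
  have hinv : ∀ {T : C} (x : T ⟶ X), lift (x ≫ i) x ≫ P = toUnit T ≫ e := by
    intro T x
    have := congrArg (fun k => x ≫ k) hinv0
    simp only [comp_lift_assoc, Category.comp_id] at this
    rw [this, ← Category.assoc]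
    congr 1
    exact toUnit_unique _ _
  -- right unit and right inverse on points
  have key : ∀ (T : C) (x : T ⟶ X),
      lift x (toUnit T ≫ e) ≫ P = x ∧ lift x (x ≫ i) ≫ P = toUnit T ≫ e := by
    intro T x
    letI : Mul (T ⟶ X) := ⟨fun a b => lift a b ≫ P⟩
    letI : One (T ⟶ X) := ⟨toUnit T ≫ e⟩
    letI : Inv (T ⟶ X) := ⟨fun a => a ≫ i⟩
    letI G : Group (T ⟶ X) := Group.ofLeftAxioms
      (fun a b c => NilGrpUnit.assoc_pts P hassoc a b c) (fun a => he a) (fun a => hinv a)
    exact ⟨_root_.mul_one x, mul_inv_cancel x⟩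
  refine ⟨{ one := e
            mul := P
            inv := i
            one_mul := ?_
            mul_one := ?_
            mul_assoc := hassoc
            left_inv := ?_
            right_inv := ?_ }, rfl⟩
  · -- (e ▷ X) ≫ P = (λ_ X).hom
    have h : e ▷ X = lift (toUnit (𝟙_ C ⊗ X) ≫ e) (snd (𝟙_ C) X) := by
      apply CartesianMonoidalCategory.hom_ext
      · rw [whiskerRight_fst, lift_fst]
        congr 1
        exact toUnit_unique _ _
      · rw [whiskerRight_snd, lift_snd]
    rw [h, he, leftUnitor_hom]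
  · have h : X ◁ e = lift (fst X (𝟙_ C)) (toUnit (X ⊗ 𝟙_ C) ≫ e) := by
      apply CartesianMonoidalCategory.hom_ext
      · rw [whiskerLeft_fst, lift_fst]
      · rw [whiskerLeft_snd, lift_snd]
        congr 1
        exact toUnit_unique _ _
    rw [h, (key _ _).1, rightUnitor_hom]
  · exact hinv0
  · have := (key X (𝟙 X)).2
    rwa [Category.id_comp] at this

end Groth.Agent.H93.NilGrpObj
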