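import Groth.Agent.H96.NilGrp_P1
import Groth.Agent.H93.NilGrpAff
import Groth.Agent.H93.NilGrpGen
import Groth.Agent.H93.NilGrpUnit
import Groth.Agent.H93.NilGrpObj
import Groth.Agent.H93.NilGrpSurj

/-! Assembly for S8366: an associative law on a flat `X/Spec R` which is a group law modulo a
nilpotent ideal is a group law. -/

set_option autoImplicit false
universe v w v' w' u
open CategoryTheory MonoidalCategory CartesianMonoidalCategory MonObj AlgebraicGeometry Limits

namespace Groth.Agent.H93.NilGrpMain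

open Groth.Agent.H96.NilGrp_P1 Groth.Agent.H93.NilGrpAff Groth.Agent.H93.NilGrpGen
  Groth.Agent.H93.NilGrpUnit Groth.Agent.H93.NilGrpObj Groth.Agent.H93.NilGrpSurj

/-- the thickening `Spec (R/I) ⟶ Spec R`. -/
noncomputable abbrev thk (R : Type u) [CommRing R] (I : Ideal R) :
    Spec (CommRingCat.of (R ⧸ I)) ⟶ Spec (CommRingCat.of R) :=
  Spec.map (CommRingCat.ofHom (Ideal.Quotient.mk I))

section gen

variable {C : Type w} [Category.{v} C] [CartesianMonoidalCategory C]

/-- the two shear maps of a group object are isomorphisms. -/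
theorem shear_isIso (G : C) [GrpObj G] :
    IsIso (lift μ[G] (snd G G)) ∧ IsIso (lift (fst G G) μ[G]) := by
  have hμ : μ[G] = (fst G G : G ⊗ G ⟶ G) * snd G G := by
    rw [Hom.mul_def, lift_fst_snd, Category.id_comp]
  constructor
  · refine ⟨⟨lift ((fst G G : G ⊗ G ⟶ G) * (snd G G)⁻¹) (snd G G), ?_, ?_⟩⟩
    · apply CartesianMonoidalCategory.hom_ext
      · rw [Category.assoc, lift_fst, Category.id_comp, MonObj.comp_mul, GrpObj.comp_inv,
          lift_fst, lift_snd, hμ, mul_inv_cancel_right]
      · rw [Category.assoc, lift_snd, lift_snd, Category.id_comp]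
    · apply CartesianMonoidalCategory.hom_ext
      · rw [Category.assoc, lift_fst, Category.id_comp, hμ, MonObj.comp_mul, lift_fst, lift_snd,
          inv_mul_cancel_right]
      · rw [Category.assoc, lift_snd, lift_snd, Category.id_comp]
  · refine ⟨⟨lift (fst G G) ((fst G G : G ⊗ G ⟶ G)⁻¹ * snd G G), ?_, ?_⟩⟩
    · apply CartesianMonoidalCategory.hom_ext
      · rw [Category.assoc, lift_fst, lift_fst, Category.id_comp]
      · rw [Category.assoc, lift_snd, Category.id_comp, MonObj.comp_mul, GrpObj.comp_inv,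
          lift_fst, lift_snd, hμ, inv_mul_cancel_left]
    · apply CartesianMonoidalCategory.hom_ext
      · rw [Category.assoc, lift_fst, lift_fst, Category.id_comp]
      · rw [Category.assoc, lift_snd, Category.id_comp, hμ, MonObj.comp_mul, lift_fst, lift_snd,
          mul_inv_cancel_left]

variable {D : Type w'} [Category.{v'} D] [CartesianMonoidalCategory D]

/-- a monoidal functor carries the shear maps of a law `P` whose image is a group law to isos. -/
theorem map_shear_isIso (F : C ⥤ D) [F.Monoidal] (X : C) (P : X ⊗ X ⟶ X) [GrpObj (F.obj X)]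
    (hμ : μ[F.obj X] = Functor.LaxMonoidal.μ F X X ≫ F.map P) :
    IsIso (F.map (lift P (snd X X))) ∧ IsIso (F.map (lift (fst X X) P)) := by
  obtain ⟨h1, h2⟩ := shear_isIso (F.obj X)
  constructor
  · have e : F.map (lift P (snd X X)) = inv (Functor.LaxMonoidal.μ F X X) ≫
        lift μ[F.obj X] (snd _ _) ≫ Functor.LaxMonoidal.μ F X X := by
      rw [IsIso.eq_inv_comp, ← Functor.Monoidal.lift_μ, comp_lift_assoc, Functor.Monoidal.μ_snd,
        ← hμ]
    rw [e]; infer_instance
  · have e : F.map (lift (fst X X) P) = inv (Functor.LaxMonoidal.μ F X X) ≫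
        lift (fst _ _) μ[F.obj X] ≫ Functor.LaxMonoidal.μ F X X := by
      rw [IsIso.eq_inv_comp, ← Functor.Monoidal.lift_μ, comp_lift_assoc, Functor.Monoidal.μ_fst,
        ← hμ]
    rw [e]; infer_instance

end gen

/-- the iso lemma in `Over (Spec R)`. -/
theorem over_case (R : Type u) [CommRing R] (I : Ideal R) (hI : IsNilpotent I)
    {Y Z : Over (Spec (CommRingCat.of R))} [Flat Y.hom] (f : Y ⟶ Z)
    (h : IsIso ((Over.pullback (thk R I)).map f)) : IsIso f := by
  have hfl : Flat (f.left ≫ Z.hom) := by rw [Over.w f]; infer_instance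
  have hiso : IsIso ((Over.pullback (thk R I)).map f).left :=
    inferInstanceAs (IsIso ((Over.forget _).map ((Over.pullback (thk R I)).map f)))
  have hY : IsPullback (pullback.fst Y.hom (thk R I)) (pullback.snd Y.hom (thk R I))
      (f.left ≫ Z.hom) (thk R I) := by
    rw [Over.w f]; exact IsPullback.of_hasPullback _ _
  have hw : pullback.fst Y.hom (thk R I) ≫ f.left =
      ((Over.pullback (thk R I)).map f).left ≫ pullback.fst Z.hom (thk R I) := by
    dsimp only [Over.pullback]; exact (pullback.lift_fst _ _ _).symm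
  have key : IsIso f.left := general_case R I hI
    (fun f g jZ g₀ jY h₀ f₀ a b c d e => affine_case R I hI
      (fun J hJ r φ hfl q p φ₀ h1 h2 h3 h4 h5 => ring_bij J hJ r φ hfl q p φ₀ h1 h2 h3 h4 h5)
      f g jZ g₀ jY h₀ f₀ a b c d e)
    f.left Z.hom (pullback.fst Z.hom (thk R I)) (pullback.snd Z.hom (thk R I))
    (pullback.fst Y.hom (thk R I)) (pullback.snd Y.hom (thk R I))
    ((Over.pullback (thk R I)).map f).left (IsPullback.of_hasPullback _ _) hY hw hfl hiso
  have : IsIso ((Over.forget _).map f) := key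
  exact isIso_of_reflects_iso f (Over.forget _)

theorem main (R : Type u) [CommRing R] (I : Ideal R)
    (hI : IsNilpotent I) (X : Over (Spec (CommRingCat.of R))) [Flat X.hom]
    (hX : QuasiCompact X.hom ∨ LocallyOfFinitePresentation X.hom) (P : X ⊗ X ⟶ X)
    (hassoc : (P ▷ X) ≫ P = (α_ X X X).hom ≫ (X ◁ P) ≫ P)
    (h0 : ∃ _ : GrpObj ((Over.pullback (Spec.map (CommRingCat.ofHom (Ideal.Quotient.mk I)))).obj X),
      μ[(Over.pullback (Spec.map (CommRingCat.ofHom (Ideal.Quotient.mk I)))).obj X] =
        Functor.LaxMonoidal.μ (Over.pullback (Spec.map (CommRingCat.ofHom (Ideal.Quotient.mk I)))) X X ≫ (Over.pullback (Spec.map (CommRingCat.ofHom (Ideal.Quotient.mk I)))).map P) :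
    ∃ _ : GrpObj X, μ[X] = P := by
  obtain ⟨inst, hμ⟩ := h0
  have hsurj : Surjective X.hom := surjective_hom R I hI X η[(Over.pullback (thk R I)).obj X]
  have hepi : EffectiveEpi X.hom := by
    rcases hX with h | h <;> infer_instance
  haveI : Flat (X ⊗ X).hom := by
    rw [Over.tensorObj_hom]; infer_instance
  obtain ⟨m1, m2⟩ := map_shear_isIso (Over.pullback (thk R I)) X P hμ
  have hσ := over_case R I hI (lift P (snd X X)) m1
  have hτ := over_case R I hI (lift (fst X X) P) m2
  obtain ⟨e, he⟩ := exists_unit X P hassoc hσ hτ hepi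
  exact grp_of_unit_shear X P hassoc e he hσ

end Groth.Agent.H93.NilGrpMain
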