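import Mathlib
import Groth.Prelude.Def_FlatCA
import Groth.Agent.H11.NilLim_P1
import Groth.Agent.H64.NilLim_P2
import Groth.Agent.H11.NilLim_P3
import Groth.Agent.H9.NilLim_P4

set_option autoImplicit false
set_option linter.style.haveILetI false
universe u
open CategoryTheory AlgebraicGeometry

namespace Groth.Agent.H93.NilLimMain

open Groth.Agent.H11.NilLim_P1 Groth.Agent.H64.NilLim_P2 Groth.Agent.H11.NilLim_P3 Groth.Agent.H9.NilLim

variable {A : Type u} [CommRing A] {A' : ℕ → Type u} [∀ n, CommRing (A' n)]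
  {φ : ∀ n, A' (n + 1) →+* A' n} {π : ∀ n, A →+* A' n}

/-- the `Spec π_n` are jointly epi for affine targets. -/
theorem spec_hom_ext (hlim : FlatCA.IsRingLimit A A' φ π) {N : Scheme.{u}} [IsAffine N]
    (a b : Spec (CommRingCat.of A) ⟶ N)
    (hab : ∀ n, Spec.map (CommRingCat.ofHom (π n)) ≫ a = Spec.map (CommRingCat.ofHom (π n)) ≫ b) :
    a = b := by
  rw [← cancel_mono N.isoSpec.hom]
  obtain ⟨α, hα⟩ := Spec.map_surjective (a ≫ N.isoSpec.hom)
  obtain ⟨β, hβ⟩ := Spec.map_surjective (b ≫ N.isoSpec.hom)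
  rw [← hα, ← hβ]
  congr 1
  ext x
  apply hlim.2.1
  intro n
  have h2 : Spec.map (CommRingCat.ofHom (π n)) ≫ Spec.map α =
      Spec.map (CommRingCat.ofHom (π n)) ≫ Spec.map β := by
    rw [hα, hβ, ← Category.assoc, ← Category.assoc, hab n]
  rw [← Spec.map_comp, ← Spec.map_comp] at h2
  have h3 := Spec.map_injective h2
  exact congrArg (fun f => f.hom x) h3

/-- morphisms `Spec A_n → N` into an affine scheme glue to `Spec A → N`. -/
theorem exists_spec_lift (hlim : FlatCA.IsRingLimit A A' φ π) {N : Scheme.{u}} [IsAffine N]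
    (e : ∀ n, Spec (CommRingCat.of (A' n)) ⟶ N)
    (he : ∀ n, Spec.map (CommRingCat.ofHom (φ n)) ≫ e (n + 1) = e n) :
    ∃ σ : Spec (CommRingCat.of A) ⟶ N, ∀ n, Spec.map (CommRingCat.ofHom (π n)) ≫ σ = e n := by
  have hs := fun n => Spec.map_surjective (e n ≫ N.isoSpec.hom)
  choose c hc using hs
  have hcomp : ∀ n, (φ n).comp (c (n + 1)).hom = (c n).hom := by
    intro n
    have h1 : Spec.map (CommRingCat.ofHom (φ n)) ≫ Spec.map (c (n + 1)) = Spec.map (c n) := by
      rw [hc, hc, ← Category.assoc, he]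
    rw [← Spec.map_comp] at h1
    have h2 := Spec.map_injective h1
    rw [← h2]
    rfl
  obtain ⟨γ, hγ⟩ := exists_lift hlim (fun n => (c n).hom) hcomp
  refine ⟨Spec.map (CommRingCat.ofHom γ) ≫ N.isoSpec.inv, fun n => ?_⟩
  rw [← Category.assoc, ← Spec.map_comp]
  have h3 : CommRingCat.ofHom γ ≫ CommRingCat.ofHom (π n) = c n := by
    ext x
    exact congrArg (fun f => f x) (hγ n)
  rw [h3, hc, Category.assoc, Iso.hom_inv_id, Category.comp_id]

theorem main (hlim : FlatCA.IsRingLimit A A' φ π)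
    (hsurj : ∀ n, Function.Surjective (φ n)) (hnil : ∀ n, ∀ x ∈ RingHom.ker (φ n), IsNilpotent x)
    {T : Scheme.{u}} (h : T ⟶ Spec (CommRingCat.of A)) [Mono h] [LocallyOfFiniteType h]
    (hsec : ∀ n, ∃ g : Spec (CommRingCat.of (A' n)) ⟶ T,
      g ≫ h = Spec.map (CommRingCat.ofHom (π n))) :
    IsIso h := by
  choose g hg using hsec
  have hgφ : ∀ n, Spec.map (CommRingCat.ofHom (φ n)) ≫ g (n + 1) = g n := by
    intro n
    rw [← cancel_mono h, Category.assoc, hg, hg, ← Spec.map_comp, ← CommRingCat.ofHom_comp,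
      hlim.1 n]
  have hrange : ∀ n, Set.range (g n).base ⊆ Set.range (g 0).base := by
    intro n
    obtain ⟨ψ, hψ, hψs⟩ := exists_psi hlim hsurj hnil n
    have h1 : Spec.map (CommRingCat.ofHom ψ) ≫ g n = g 0 := by
      rw [← cancel_mono h, Category.assoc, hg, hg, ← Spec.map_comp, ← CommRingCat.ofHom_comp, hψ]
    rintro _ ⟨x, rfl⟩
    obtain ⟨y, rfl⟩ := hψs x
    refine ⟨y, ?_⟩
    rw [← h1]
    rfl
  obtain ⟨T', hT'c, hT'⟩ := exists_compact_open T (Set.range (g 0).base)
    (isCompact_range (g 0).continuous)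
  have hgT : ∀ n, Set.range (g n).base ⊆ Set.range T'.ι.base := by
    intro n
    rw [Scheme.Opens.range_ι]
    exact (hrange n).trans hT'
  let g' : ∀ n, Spec (CommRingCat.of (A' n)) ⟶ (T' : Scheme.{u}) :=
    fun n => IsOpenImmersion.lift T'.ι (g n) (hgT n)
  have hg' : ∀ n, g' n ≫ T'.ι = g n := fun n => IsOpenImmersion.lift_fac _ _ _
  set h' : (T' : Scheme.{u}) ⟶ Spec (CommRingCat.of A) := T'.ι ≫ h with hh'
  haveI : Mono h' := mono_comp _ _
  haveI : CompactSpace (T' : Scheme.{u}) := isCompact_iff_compactSpace.mp hT'c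
  haveI : QuasiCompact h' := inferInstance
  haveI : IsSeparated h' := inferInstance
  haveI : UniversallyInjective h' := inferInstance
  haveI : LocallyOfFiniteType h' := inferInstance
  haveI : LocallyQuasiFinite h' := inferInstance
  let N := h'.normalization
  let j : (T' : Scheme.{u}) ⟶ N := h'.toNormalization
  let q : N ⟶ Spec (CommRingCat.of A) := h'.fromNormalization
  haveI : IsOpenImmersion j := inferInstance
  haveI : IsAffine N := isAffine_of_isAffineHom q
  have hjq : j ≫ q = h' := h'.toNormalization_fromNormalization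
  let e : ∀ n, Spec (CommRingCat.of (A' n)) ⟶ N := fun n => g' n ≫ j
  have he : ∀ n, Spec.map (CommRingCat.ofHom (φ n)) ≫ e (n + 1) = e n := by
    intro n
    show Spec.map _ ≫ g' (n + 1) ≫ j = g' n ≫ j
    rw [← Category.assoc]
    congr 1
    rw [← cancel_mono T'.ι, Category.assoc, hg', hg', hgφ]
  obtain ⟨σ, hσ⟩ := exists_spec_lift hlim e he
  have hσq : σ ≫ q = 𝟙 _ := by
    apply spec_hom_ext hlim
    intro n
    rw [← Category.assoc, hσ, Category.comp_id]
    show (g' n ≫ j) ≫ q = _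
    rw [Category.assoc, hjq, hh', ← Category.assoc, hg', hg]
  have hW : (σ.base ⁻¹' Set.range j.base) = Set.univ := by
    apply eq_univ_of_open hlim hsurj hnil
    · exact j.isOpenEmbedding.isOpen_range.preimage σ.continuous
    · intro x
      show σ.base ((Spec.map (CommRingCat.ofHom (π 0))).base x) ∈ Set.range j.base
      have h5 : σ.base ((Spec.map (CommRingCat.ofHom (π 0))).base x) =
          (Spec.map (CommRingCat.ofHom (π 0)) ≫ σ).base x := rfl
      rw [h5, hσ]
      exact ⟨(g' 0).base x, rfl⟩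
  have hσj : Set.range σ.base ⊆ Set.range j.base := by
    rintro _ ⟨x, rfl⟩
    have h6 : x ∈ σ.base ⁻¹' Set.range j.base := by
      rw [hW]; trivial
    exact h6
  let s : Spec (CommRingCat.of A) ⟶ (T' : Scheme.{u}) := IsOpenImmersion.lift j σ hσj
  have hs : s ≫ j = σ := IsOpenImmersion.lift_fac _ _ _
  have hsh : (s ≫ T'.ι) ≫ h = 𝟙 _ := by
    rw [Category.assoc, ← hh', ← hjq, ← Category.assoc, hs, hσq]
  haveI : IsSplitEpi h := ⟨⟨⟨s ≫ T'.ι, hsh⟩⟩⟩
  exact isIso_of_mono_of_isSplitEpi h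

end Groth.Agent.H93.NilLimMain
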