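import Mathlib
import Groth.Agent.H93.NormExt1
import Groth.Agent.H93.ZR
import Groth.Agent.S9799

/-!
# Extending rational sections over normal bases

A separated, unramified, formally proper morphism onto a locally Noetherian normal scheme which
admits a schematically dominant rational section is an isomorphism.
-/

set_option autoImplicit false
universe u
open CategoryTheory CategoryTheory.Limits AlgebraicGeometry TopologicalSpace

namespace Groth.Agent.H93.NormExt

/-- Sections of the scheme-theoretic image inject into sections of the source (over any open). -/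
theorem toImage_app_injective' {X Y : Scheme.{u}} (f : X ⟶ Y) [QuasiCompact f]
    (W : f.image.Opens) : Function.Injective (f.toImage.app W) := by
  rw [injective_iff_map_eq_zero]
  intro s hs
  refine f.image.IsSheaf.section_ext fun x hx ↦ ?_
  obtain ⟨_, ⟨_, ⟨V, hV, rfl⟩, rfl⟩, hxV, hVW⟩ :=
    (Y.isBasis_affineOpens.of_isInducing
      f.imageι.isEmbedding.isInducing).exists_subset_of_mem_open hx W.isOpen
  refine ⟨f.imageι ⁻¹ᵁ V, hVW, hxV, ?_⟩
  apply f.toImage_app_injective ⟨V, hV⟩
  simp only [map_zero]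
  exact (app_res' f.toImage hVW s).trans (by rw [hs, map_zero]; rfl)

theorem injective_of_eq_comp {A B C : CommRingCat.{u}} {f : A ⟶ C} {g : A ⟶ B} {h : B ⟶ C}
    (e : f = g ≫ h) (hg : Function.Injective g) (hh : Function.Injective h) :
    Function.Injective f := by
  subst e
  intro a b hab
  rw [CommRingCat.comp_apply, CommRingCat.comp_apply] at hab
  exact hg (hh hab)

theorem map_eqToHom_injective {X : Scheme.{u}} {A B : X.Opens} (e : A = B) :
    Function.Injective (X.presheaf.map (eqToHom e).op) := by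
  subst e
  intro a b hab
  simpa using hab

/-- The existence part of the valuative criterion is stable under composition. -/
theorem existence_comp {X Y Z : Scheme.{u}} (f : X ⟶ Y) (g : Y ⟶ Z)
    (hf : ValuativeCriterion.Existence f) (hg : ValuativeCriterion.Existence g) :
    ValuativeCriterion.Existence (f ≫ g) := by
  intro S
  let S₂ : ValuativeCommSq g :=
    { R := S.R
      K := S.K
      i₁ := S.i₁ ≫ f
      i₂ := S.i₂
      commSq := ⟨by rw [Category.assoc]; exact S.commSq.w⟩ }
  obtain ⟨l₂⟩ := (hg S₂).exists_lift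
  let S₁ : ValuativeCommSq f :=
    { R := S.R
      K := S.K
      i₁ := S.i₁
      i₂ := l₂.l
      commSq := ⟨l₂.fac_left.symm⟩ }
  obtain ⟨l₁⟩ := (hf S₁).exists_lift
  exact ⟨⟨⟨l₁.l, l₁.fac_left, by rw [← Category.assoc, l₁.fac_right]; exact l₂.fac_right⟩⟩⟩

/-- An unramified morphism is locally quasi-finite. -/
theorem locallyQuasiFinite_of_unramified' {X Y : Scheme.{u}} (f : X ⟶ Y)
    [LocallyOfFiniteType f] [FormallyUnramified f] : LocallyQuasiFinite f := by
  refine ⟨fun {U} hU {V} hV e => ?_⟩
  have h1 : (f.appLE U V e).hom.FiniteType := f.finiteType_appLE hU hV e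
  have h2 : (f.appLE U V e).hom.FormallyUnramified := f.formallyUnramified_appLE hU hV e
  algebraize [(f.appLE U V e).hom]
  show (algebraMap _ _).QuasiFinite
  rw [RingHom.quasiFinite_algebraMap]
  infer_instance

set_option maxHeartbeats 1600000 in
/-- A separated unramified formally proper morphism onto a locally Noetherian normal scheme
with a schematically dominant rational section is an isomorphism. -/
theorem isIso_of_birational_section {Z₁ S : Scheme.{u}} [IsLocallyNoetherian S]
    (hS : Pi1.IsNormalScheme S) (p : Z₁ ⟶ S) [IsSeparated p] [LocallyOfFiniteType p]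
    [FormallyUnramified p] (hex : ValuativeCriterion.Existence p) (U : S.Opens)
    (hU : Dense (U : Set S)) (t : (U : Scheme.{u}) ⟶ Z₁) (htp : t ≫ p = U.ι) (hdom : DenseRange t)
    (hinj : ∀ W : Z₁.Opens, Function.Injective (t.app W)) : IsIso p := by
  have hfin : ∀ O : S.Opens, IsCompact (O : Set S) → (irreducibleComponents ↥O).Finite := by
    intro O hO
    have h1 : CompactSpace ↥O := isCompact_iff_compactSpace.mp hO
    have h2 : CompactSpace ↥(O : Scheme) := h1
    have h3 : IsNoetherian (O : Scheme) := { }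
    exact finite_irreducibleComponents_of_isNoetherian (X := (O : Scheme))
  obtain ⟨hopen, -⟩ := Groth.Agent.S9799.result S hfin hS
  have hcov : ∀ s : S, ∃ V : S.Opens, IsAffineOpen V ∧ s ∈ V ∧ IsIrreducible (V : Set S) := by
    intro s
    have hC := hopen _ (irreducibleComponent_mem_irreducibleComponents s)
    obtain ⟨_, ⟨V, hV, rfl⟩, hsV, hVC⟩ :=
      S.isBasis_affineOpens.exists_subset_of_mem_open (mem_irreducibleComponent (x := s)) hC
    exact ⟨V, hV, hsV, ⟨s, hsV⟩,
      isIrreducible_irreducibleComponent.isPreirreducible.open_subset V.isOpen hVC⟩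
  choose V hVaff hsV hVirr using hcov
  have hVtop : iSup V = ⊤ := eq_top_iff.mpr fun s _ => Opens.mem_iSup.mpr ⟨s, hsV s⟩
  have hpt : ∀ a : ↥U, p (t a) = U.ι a := fun a => by
    have : (t ≫ p) a = U.ι a := by rw [htp]
    exact this
  have hne : ∀ s, ∃ a : ↥U, U.ι a ∈ V s := by
    intro s
    obtain ⟨x, hxV, hxU⟩ := hU.inter_open_nonempty (V s) (V s).isOpen ⟨s, hsV s⟩
    exact ⟨⟨x, hxU⟩, hxV⟩
  have hWirr : ∀ s, IsIrreducible ((p ⁻¹ᵁ V s : Z₁.Opens) : Set Z₁) := by
    intro s
    have hA₀irr : IsIrreducible (U.ι ⁻¹' (V s : Set S)) := by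
      obtain ⟨a, ha⟩ := hne s
      exact ⟨⟨a, ha⟩, (hVirr s).isPreirreducible.preimage U.ι.isOpenEmbedding⟩
    have himg : IsIrreducible (t '' (U.ι ⁻¹' (V s : Set S))) :=
      hA₀irr.image t t.continuous.continuousOn
    have hsub1 : t '' (U.ι ⁻¹' (V s : Set S)) ⊆ ((p ⁻¹ᵁ V s : Z₁.Opens) : Set Z₁) := by
      rintro _ ⟨a, ha, rfl⟩
      show p (t a) ∈ V s
      rw [hpt a]
      exact ha
    have hsub2 : ((p ⁻¹ᵁ V s : Z₁.Opens) : Set Z₁) ⊆ closure (t '' (U.ι ⁻¹' (V s : Set S))) := by
      intro z hz
      rw [mem_closure_iff]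
      intro N hN hzN
      obtain ⟨a, ha⟩ := hdom.exists_mem_open (hN.inter (p ⁻¹ᵁ V s).isOpen) ⟨z, hzN, hz⟩
      refine ⟨t a, ha.1, a, ?_, rfl⟩
      show U.ι a ∈ V s
      rw [← hpt a]
      exact ha.2
    obtain ⟨z, hz⟩ := himg.nonempty
    exact ⟨⟨z, hsub1 hz⟩, himg.closure.isPreirreducible.open_subset (p ⁻¹ᵁ V s).isOpen hsub2⟩
  have hqc : QuasiCompact p := by
    refine (IsZariskiLocalAtTarget.iff_of_iSup_eq_top (P := @QuasiCompact) V hVtop).mpr
      fun s => ?_
    have hirrsp : IrreducibleSpace ↥(p ⁻¹ᵁ V s) := Subtype.irreducibleSpace (hWirr s)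
    have hfinW : (irreducibleComponents ↥((p ⁻¹ᵁ V s : Z₁.Opens) : Scheme.{u})).Finite := by
      have : irreducibleComponents ↥(p ⁻¹ᵁ V s) = {Set.univ} :=
        irreducibleComponents_eq_singleton
      show (irreducibleComponents ↥(p ⁻¹ᵁ V s)).Finite
      rw [this]
      exact Set.finite_singleton _
    have hex' : ValuativeCriterion.Existence (p ∣_ V s) :=
      MorphismProperty.of_isPullback (P := ValuativeCriterion.Existence)
        (isPullback_morphismRestrict p (V s)).flip hex
    have hsep : IsSeparated (p ∣_ V s) :=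
      IsZariskiLocalAtTarget.restrict (P := @IsSeparated) inferInstance (V s)
    have hlft : LocallyOfFiniteType (p ∣_ V s) :=
      IsZariskiLocalAtTarget.restrict (P := @LocallyOfFiniteType) inferInstance (V s)
    exact Groth.Agent.H93.ZR.quasiCompact_of_valuativeCriterion (p ∣_ V s)
      (ValuativeCriterion.iff.mpr ⟨hex', IsSeparated.valuativeCriterion _⟩) hfinW
  have huc : UniversallyClosed p := UniversallyClosed.of_valuativeCriterion p hex
  have hproper : IsProper p := { }
  have hlqf : LocallyQuasiFinite p := locallyQuasiFinite_of_unramified' p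
  have hfinite : IsFinite p := IsFinite.of_isProper_of_locallyQuasiFinite p
  refine (IsZariskiLocalAtTarget.iff_of_iSup_eq_top
    (P := MorphismProperty.isomorphisms Scheme) V hVtop).mpr fun s => ?_
  show IsIso (p ∣_ V s)
  have hXaff : IsAffine ((V s : S.Opens) : Scheme.{u}) := hVaff s
  have hXnorm : Pi1.IsNormalScheme ((V s : S.Opens) : Scheme.{u}) := isNormalScheme_opens hS (V s)
  have hXred : IsReduced ((V s : S.Opens) : Scheme.{u}) := isReduced_of_isNormalScheme hXnorm
  have hXirr : IrreducibleSpace ↥(V s) := Subtype.irreducibleSpace (hVirr s)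
  have hXirr' : IrreducibleSpace ↥((V s : S.Opens) : Scheme.{u}) := hXirr
  have hXint : IsIntegral ((V s : S.Opens) : Scheme.{u}) :=
    isIntegral_of_irreducibleSpace_of_isReduced _
  have hq : IsFinite (p ∣_ V s) := IsZariskiLocalAtTarget.restrict (P := @IsFinite) hfinite (V s)
  have hqint : IsIntegralHom (p ∣_ V s) := inferInstance
  have hO'ne₀ : Nonempty ↥(t ⁻¹ᵁ (p ⁻¹ᵁ V s)) := by
    obtain ⟨a, ha⟩ := hne s
    refine ⟨⟨a, ?_⟩⟩
    show p (t a) ∈ V s
    rw [hpt a]
    exact ha
  have hO'ne : Nonempty ↥((t ⁻¹ᵁ (p ⁻¹ᵁ V s) : (U : Scheme.{u}).Opens) : Scheme.{u}) := hO'ne₀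
  have hoi : IsOpenImmersion (t ≫ p) := by rw [htp]; infer_instance
  have hoi₂ : IsOpenImmersion ((t ≫ p) ∣_ V s) :=
    IsZariskiLocalAtTarget.restrict (P := @IsOpenImmersion) hoi (V s)
  have hoi' : IsOpenImmersion (t ∣_ (p ⁻¹ᵁ V s) ≫ p ∣_ V s) := by
    rw [← morphismRestrict_comp]
    exact hoi₂
  have hτinj : Function.Injective (t ∣_ (p ⁻¹ᵁ V s)).appTop := by
    exact injective_of_eq_comp (morphismRestrict_appTop t _) (hinj _)
      (map_eqToHom_injective _)
  exact isIso_of_integral_of_section hXnorm (p ∣_ V s) (t ∣_ (p ⁻¹ᵁ V s)) hτinj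

/-- Rational sections of separated unramified formally proper morphisms over a locally Noetherian
normal base extend to global sections. -/
theorem exists_section_extending {Z S : Scheme.{u}} (f : Z ⟶ S)
    [IsLocallyNoetherian S] (hS : Pi1.IsNormalScheme S) [IsSeparated f] [FormallyUnramified f]
    [LocallyOfFiniteType f] (hfp : ValuativeCriterion.Existence f) (U : S.Opens)
    (hU : Dense (U : Set S)) (v : (U : Scheme.{u}) ⟶ Z) (hv : v ≫ f = U.ι) :
    ∃ w : S ⟶ Z, w ≫ f = 𝟙 S ∧ U.ι ≫ w = v := by
  have hqcι : QuasiCompact (v ≫ f) := by rw [hv]; infer_instance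
  have hqcv : QuasiCompact v := QuasiCompact.of_comp v f
  have hsep : IsSeparated (v.imageι ≫ f) := inferInstance
  have hlft : LocallyOfFiniteType (v.imageι ≫ f) := inferInstance
  have hunr₁ : FormallyUnramified v.imageι := inferInstance
  have hunr : FormallyUnramified (v.imageι ≫ f) :=
    MorphismProperty.comp_mem _ _ _ hunr₁ inferInstance
  have hexι : ValuativeCriterion.Existence v.imageι := by
    have h : UniversallyClosed v.imageι := inferInstance
    rw [UniversallyClosed.eq_valuativeCriterion] at h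
    exact h.1
  have hex : ValuativeCriterion.Existence (v.imageι ≫ f) := existence_comp _ _ hexι hfp
  have htp : v.toImage ≫ (v.imageι ≫ f) = U.ι := by
    rw [← Category.assoc, v.toImage_imageι, hv]
  have hiso : IsIso (v.imageι ≫ f) :=
    isIso_of_birational_section hS (v.imageι ≫ f) hex U hU v.toImage htp v.toImage.denseRange
      (toImage_app_injective' v)
  have h1 : U.ι ≫ inv (v.imageι ≫ f) = v.toImage := (IsIso.comp_inv_eq _).mpr htp.symm
  refine ⟨inv (v.imageι ≫ f) ≫ v.imageι, by rw [Category.assoc, IsIso.inv_hom_id], ?_⟩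
  rw [← Category.assoc, h1, v.toImage_imageι]

end Groth.Agent.H93.NormExt
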