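import Mathlib
import Groth.Prelude.Def_W4bk4git07Quot
import Groth.Prelude.Def_Pi1
import Groth.Agent.H93.GeomDescent
import Groth.Agent.H93.ThickAff
import Groth.Agent.H25.NormalAffine
import Groth.Agent.S6278

/-!
# A geometric quotient of a normal integral scheme is normal
-/

set_option autoImplicit false
universe u

namespace Groth.Agent.H93.NormalQuot

open CategoryTheory CategoryTheory.Limits AlgebraicGeometry TopologicalSpace Opposite
open Groth.Agent.H93.GeomDescent

theorem exists_mul_eq_of_isIntegral {A B : Type u} [CommRing A] [IsDomain A] [CommRing B]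
    [IsDomain B] [IsIntegrallyClosed B] (ι : A →+* B) (hι : Function.Injective ι) (a b : A)
    (hb : b ≠ 0)
    (hint : IsIntegral A (algebraMap A (FractionRing A) a / algebraMap A (FractionRing A) b)) :
    ∃ c : B, c * ι b = ι a := by
  have hg : Function.Injective ((algebraMap B (FractionRing B)).comp ι) :=
    (IsFractionRing.injective B (FractionRing B)).comp hι
  let j : FractionRing A →+* FractionRing B := IsFractionRing.lift hg
  have hj : ∀ r : A, j (algebraMap A (FractionRing A) r) = algebraMap B (FractionRing B) (ι r) :=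
    fun r => IsFractionRing.lift_algebraMap hg r
  have hint' : IsIntegral B
      (j (algebraMap A (FractionRing A) a / algebraMap A (FractionRing A) b)) :=
    IsIntegral.map_of_comp_eq ι j (by ext r; simp [hj]) hint
  rw [map_div₀, hj, hj] at hint'
  obtain ⟨c, hc⟩ := IsIntegrallyClosed.isIntegral_iff.mp hint'
  refine ⟨c, ?_⟩
  apply IsFractionRing.injective B (FractionRing B)
  have hne : algebraMap B (FractionRing B) (ι b) ≠ 0 := by
    intro h0
    apply hb
    apply hι
    apply IsFractionRing.injective B (FractionRing B)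
    rw [h0, map_zero, map_zero]
  rw [map_mul, hc, div_mul_cancel₀ _ hne]

theorem exists_section_mul_eq {X : Scheme.{u}} [IsIntegral X] (O : X.Opens) (a b : Γ(X, O))
    (hb : b ≠ 0)
    (hloc : ∀ (V : X.Opens), IsAffineOpen V → ∀ (hV : V ≤ O), Nonempty V →
      ∃ c : Γ(X, V), c * X.presheaf.map (homOfLE hV).op b = X.presheaf.map (homOfLE hV).op a) :
    ∃ c : Γ(X, O), c * b = a := by
  choose sf hsf using fun i : {V : X.Opens // IsAffineOpen V ∧ V ≤ O ∧ Nonempty V} =>
    hloc i.1 i.2.1 i.2.2.1 i.2.2.2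
  have cover : O ≤ ⨆ i : {V : X.Opens // IsAffineOpen V ∧ V ≤ O ∧ Nonempty V}, i.1 := by
    intro x hx
    obtain ⟨V, hV, hxV, hVO⟩ := exists_isAffineOpen_mem_and_subset hx
    exact Opens.mem_iSup.mpr ⟨⟨V, hV, hVO, ⟨⟨x, hxV⟩⟩⟩, hxV⟩
  have compat : ∀ i j : {V : X.Opens // IsAffineOpen V ∧ V ≤ O ∧ Nonempty V},
      X.presheaf.map (homOfLE (inf_le_left : i.1 ⊓ j.1 ≤ i.1)).op (sf i) =
      X.presheaf.map (homOfLE (inf_le_right : i.1 ⊓ j.1 ≤ j.1)).op (sf j) := by
    intro i j
    by_cases hne : Nonempty (i.1 ⊓ j.1 : X.Opens)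
    · haveI := hne
      have hbne : X.presheaf.map (homOfLE (inf_le_left.trans i.2.2.1 : i.1 ⊓ j.1 ≤ O)).op b ≠ 0 := by
        intro h0
        exact hb (map_injective_of_isIntegral X (homOfLE _) (h0.trans (map_zero _).symm))
      have e1 := congrArg (X.presheaf.map (homOfLE (inf_le_left : i.1 ⊓ j.1 ≤ i.1)).op) (hsf i)
      have e2 := congrArg (X.presheaf.map (homOfLE (inf_le_right : i.1 ⊓ j.1 ≤ j.1)).op) (hsf j)
      rw [map_mul, ThickAff.res_res, ThickAff.res_res] at e1 e2
      exact mul_right_cancel₀ hbne (e1.trans e2.symm)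
    · have hbot : i.1 ⊓ j.1 = ⊥ := by
        rw [← Opens.not_nonempty_iff_eq_bot]
        intro hh
        obtain ⟨z, hz⟩ := hh
        exact hne ⟨⟨z, hz⟩⟩
      have hsub : Subsingleton Γ(X, i.1 ⊓ j.1) := by rw [hbot]; infer_instance
      exact Subsingleton.elim _ _
  obtain ⟨c, hc, -⟩ : ∃! s : Γ(X, O),
      ∀ i : {V : X.Opens // IsAffineOpen V ∧ V ≤ O ∧ Nonempty V},
        X.presheaf.map (homOfLE i.2.2.1).op s = sf i :=
    X.sheaf.existsUnique_gluing'
      (fun i : {V : X.Opens // IsAffineOpen V ∧ V ≤ O ∧ Nonempty V} => i.1) O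
      (fun i => homOfLE i.2.2.1) cover sf (fun i j => compat i j)
  refine ⟨c, ?_⟩
  refine X.sheaf.eq_of_locally_eq'
    (fun i : {V : X.Opens // IsAffineOpen V ∧ V ≤ O ∧ Nonempty V} => i.1) O
    (fun i => homOfLE i.2.2.1) cover (c * b) a ?_
  intro i
  show X.presheaf.map (homOfLE i.2.2.1).op (c * b) = X.presheaf.map (homOfLE i.2.2.1).op a
  rw [map_mul, hc i, hsf i]

theorem eq_zero_of_mul_pullback_eq_zero {P X : Scheme.{u}} [IsIntegral X] (π : P ⟶ X) [Flat π]
    (O : X.Opens) (OP : P.Opens) (hle : OP ≤ π ⁻¹ᵁ O) (b : Γ(X, O)) (hb : b ≠ 0)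
    (d : Γ(P, OP)) (hd : d * π.appLE O OP hle b = 0) : d = 0 := by
  refine P.sheaf.eq_of_locally_eq'
    (fun i : {W : P.Opens // IsAffineOpen W ∧ W ≤ OP ∧
      ∃ V : X.Opens, IsAffineOpen V ∧ V ≤ O ∧ W ≤ π ⁻¹ᵁ V} => i.1) OP
    (fun i => homOfLE i.2.2.1) ?_ d 0 ?_
  · intro p hp
    obtain ⟨V, hV, hpV, hVO⟩ :=
      exists_isAffineOpen_mem_and_subset (x := π.base p) (U := O) (hle hp)
    obtain ⟨W, hW, hpW, hWle⟩ :=
      exists_isAffineOpen_mem_and_subset (x := p) (U := OP ⊓ π ⁻¹ᵁ V) ⟨hp, hpV⟩
    exact Opens.mem_iSup.mpr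
      ⟨⟨W, hW, fun q hq => (hWle hq).1, V, hV, hVO, fun q hq => (hWle hq).2⟩, hpW⟩
  · rintro ⟨W, hW, hWO, V, hV, hVO, hWV⟩
    show P.presheaf.map (homOfLE hWO).op d = P.presheaf.map (homOfLE hWO).op 0
    rw [map_zero]
    by_cases hWne : Nonempty (W : P.Opens)
    · obtain ⟨⟨q, hq⟩⟩ := hWne
      have : Nonempty (V : X.Opens) := ⟨⟨π.base q, hWV hq⟩⟩
      have hbV : X.presheaf.map (homOfLE hVO).op b ≠ 0 := by
        intro h0
        exact hb (map_injective_of_isIntegral X (homOfLE hVO) (h0.trans (map_zero _).symm))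
      have reg : IsSMulRegular Γ(X, V) (X.presheaf.map (homOfLE hVO).op b) := by
        intro x y hxy
        exact mul_left_cancel₀ hbV hxy
      have hflat : (π.appLE V W hWV).hom.Flat := π.flat_appLE hV hW hWV
      let _ : Algebra Γ(X, V) Γ(P, W) := (π.appLE V W hWV).hom.toAlgebra
      have : Module.Flat Γ(X, V) Γ(P, W) := hflat
      have reg' : IsSMulRegular Γ(P, W)
          (algebraMap Γ(X, V) Γ(P, W) (X.presheaf.map (homOfLE hVO).op b)) :=
        IsSMulRegular.of_flat reg
      have e1 : algebraMap Γ(X, V) Γ(P, W) (X.presheaf.map (homOfLE hVO).op b) =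
          P.presheaf.map (homOfLE hWO).op (π.appLE O OP hle b) := by
        show (π.appLE V W hWV) (X.presheaf.map (homOfLE hVO).op b) = _
        rw [← CommRingCat.comp_apply, ← CommRingCat.comp_apply, Scheme.Hom.map_appLE,
          Scheme.Hom.appLE_map]
      have e2 := congrArg (P.presheaf.map (homOfLE hWO).op) hd
      rw [map_mul, map_zero, ← e1] at e2
      apply reg'
      show algebraMap Γ(X, V) Γ(P, W) (X.presheaf.map (homOfLE hVO).op b) *
        P.presheaf.map (homOfLE hWO).op d = algebraMap Γ(X, V) Γ(P, W)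
          (X.presheaf.map (homOfLE hVO).op b) * 0
      rw [mul_zero, mul_comm]; exact e2
    · have hbot : W = ⊥ := by
        rw [← Opens.not_nonempty_iff_eq_bot]
        intro hh
        obtain ⟨z, hz⟩ := hh
        exact hWne ⟨⟨z, hz⟩⟩
      have hsub : Subsingleton Γ(P, W) := by rw [hbot]; infer_instance
      exact Subsingleton.elim _ _

theorem isNormalRing_of_isDomain_of_isIntegrallyClosed (A : Type u) [CommRing A] [IsDomain A]
    [IsIntegrallyClosed A] : EGA4.IsNormalRing A := by
  intro p hp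
  have hle : p.primeCompl ≤ nonZeroDivisors A := p.primeCompl_le_nonZeroDivisors
  exact ⟨IsLocalization.isDomain_localization hle,
    isIntegrallyClosed_of_isLocalization (Localization.AtPrime p) p.primeCompl hle⟩

section main

open MonoidalCategory CartesianMonoidalCategory MonObj GrpObj

variable {S : Scheme.{u}} {G X Y : Over S} [GrpObj G]

theorem isNormalScheme_of_isGeomQuot [IsIntegral X.left] (hX : Pi1.IsNormalScheme X.left)
    [Flat (snd G X).left] (a : AlgGrp.Action G X) (φ : X ⟶ Y) (h : GIT.IsGeomQuot a φ) :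
    Pi1.IsNormalScheme Y.left := by
  intro y
  obtain ⟨W, hW, hyW, -⟩ :=
    exists_isAffineOpen_mem_and_subset (x := y) (U := (⊤ : Y.left.Opens)) trivial
  obtain ⟨x0, hx0⟩ := h.surj y
  have : Nonempty (φ.left ⁻¹ᵁ W : X.left.Opens) := ⟨⟨x0, by show φ.left.base x0 ∈ W; rw [hx0]; exact hyW⟩⟩
  have hinj : Function.Injective (φ.left.app W) := (h.sections W).1
  have : IsDomain Γ(Y.left, W) := Function.Injective.isDomain (φ.left.app W).hom hinj
  have hic : IsIntegrallyClosed Γ(Y.left, W) := by
    refine (isIntegrallyClosed_iff (FractionRing Γ(Y.left, W))).mpr ?_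
    intro t ht
    obtain ⟨a0, b0, hb0, rfl⟩ := IsFractionRing.div_surjective (A := Γ(Y.left, W)) t
    have hb0' : b0 ≠ 0 := nonZeroDivisors.ne_zero hb0
    have hιb : φ.left.app W b0 ≠ 0 := by
      intro h0
      exact hb0' (hinj (h0.trans (map_zero _).symm))
    -- local solutions
    obtain ⟨c, hc⟩ := exists_section_mul_eq (φ.left ⁻¹ᵁ W) (φ.left.app W a0) (φ.left.app W b0) hιb
      (by
        intro V hV hVO hVne
        have := hVne
        have : IsIntegrallyClosed Γ(X.left, V) :=
          Groth.Agent.S6278.result Γ(X.left, V)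
            (Groth.Agent.H25.NormalAffine.isNormalRing_sections_of_isNormalScheme hX hV)
        have hinjV : Function.Injective
            ((X.left.presheaf.map (homOfLE hVO).op).hom.comp (φ.left.app W).hom) :=
          (map_injective_of_isIntegral X.left (homOfLE hVO)).comp hinj
        exact exists_mul_eq_of_isIntegral
          ((X.left.presheaf.map (homOfLE hVO).op).hom.comp (φ.left.app W).hom) hinjV a0 b0 hb0' ht)
    -- invariance of c
    have hi := h.inv.left
    have ia := inv_of_app a.act.left (snd G X).left φ.left hi W a0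
    have ib := inv_of_app a.act.left (snd G X).left φ.left hi W b0
    unfold GeomDescent.Inv at ia ib
    have hcinv : GIT.IsInvSection a φ W c := by
      show a.act.left.appLE _ _ inf_le_left c = (snd G X).left.appLE _ _ inf_le_right c
      rw [← sub_eq_zero]
      apply eq_zero_of_mul_pullback_eq_zero (snd G X).left (φ.left ⁻¹ᵁ W) _ inf_le_right
        (φ.left.app W b0) hιb
      rw [sub_mul, sub_eq_zero]
      calc a.act.left.appLE _ _ inf_le_left c * (snd G X).left.appLE _ _ inf_le_right (φ.left.app W b0)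
          = a.act.left.appLE _ _ inf_le_left c * a.act.left.appLE _ _ inf_le_left (φ.left.app W b0) := by
            rw [ib]
        _ = a.act.left.appLE _ _ inf_le_left (φ.left.app W a0) := by rw [← map_mul, hc]
        _ = (snd G X).left.appLE _ _ inf_le_right (φ.left.app W a0) := ia
        _ = (snd G X).left.appLE _ _ inf_le_right c *
              (snd G X).left.appLE _ _ inf_le_right (φ.left.app W b0) := by rw [← map_mul, hc]
    have hcr : c ∈ Set.range (φ.left.app W) := by
      rw [(h.sections W).2]; exact hcinv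
    obtain ⟨a', ha'⟩ := hcr
    refine ⟨a', ?_⟩
    have hab : a' * b0 = a0 := by
      apply hinj
      rw [map_mul, ha', hc]
    have hne : algebraMap Γ(Y.left, W) (FractionRing Γ(Y.left, W)) b0 ≠ 0 := by
      intro h0
      apply hb0'
      apply IsFractionRing.injective Γ(Y.left, W) (FractionRing Γ(Y.left, W))
      rw [h0, map_zero]
    rw [← hab, map_mul, mul_div_cancel_right₀ _ hne]
  exact Groth.Agent.H25.NormalAffine.stalk_normal_of_isNormalRing_sections hW
    (isNormalRing_of_isDomain_of_isIntegrallyClosed Γ(Y.left, W)) y hyW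

end main

end Groth.Agent.H93.NormalQuot
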