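import Mathlib
import Groth.Prelude.Def_AlgGrp
import Groth.Agent.H93.OrbitStab
import Groth.Agent.H37.GrpdDim
import Groth.Agent.H9.FibDimTop

/-!
# Stabilizers as group objects; closedness of the locus of small orbits (helper93)

* `stabGrpObj` : a group-object structure on the stabilizer `N` (any pullback of the orbit map of
  `x` along `x`), via the functor of points.
* `isPullback_psi` : `N` is the fibre of `Ψ = (act, snd) : G ⊗ X ⟶ X ⊗ X` over `(x, x)`.
* `fibreDimAt_psi_eq` : over a field, the local fibre dimension of `Ψ` at `(e, x)` is `dim G_x`.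
* `exists_isClosed_orbitDim_le` : S11244.
-/

set_option autoImplicit false
set_option linter.style.haveILetI false
universe u
open CategoryTheory CategoryTheory.Limits AlgebraicGeometry MonoidalCategory
  CartesianMonoidalCategory MonObj Opposite

namespace Groth.Agent.H93.OrbitStab

open Groth.Agent.H63.ActionTranslate

section General

variable {S : Scheme.{u}} {G X : Over S} [GrpObj G] (a : AlgGrp.Action G X)
  (x : 𝟙_ (Over S) ⟶ X)

/-- the subgroup of `T`-points of `G` fixing `x` -/
def stabSub (T : Over S) : Subgroup (T ⟶ G) where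
  carrier := {g | g ≫ a.orbitMap x = toUnit T ≫ x}
  mul_mem' := by
    intro g h hg hh
    show (g * h) ≫ a.orbitMap x = toUnit T ≫ x
    rw [mul_comp_orbitMap_of_stab a x g h hh]
    exact hg
  one_mem' := one_comp_orbitMap a x T
  inv_mem' := by
    intro g hg
    show g⁻¹ ≫ a.orbitMap x = toUnit T ≫ x
    have hg' : g ≫ a.orbitMap x = toUnit T ≫ x := hg
    have h := inv_mul_comp_orbitMap a x g 1 (by rw [hg', one_comp_orbitMap])
    rwa [_root_.mul_one] at h

lemma mem_stabSub {T : Over S} (g : T ⟶ G) :
    g ∈ stabSub a x T ↔ g ≫ a.orbitMap x = toUnit T ≫ x := Iff.rfl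

/-- the functor of points of the stabilizer -/
noncomputable def stabFunctor : (Over S)ᵒᵖ ⥤ GrpCat.{u} where
  obj T := GrpCat.of ↥(stabSub a x T.unop)
  map {T T'} f := GrpCat.ofHom
    { toFun := fun g => ⟨f.unop ≫ g.1, by
        have hg : g.1 ≫ a.orbitMap x = toUnit _ ≫ x := g.2
        rw [mem_stabSub, Category.assoc, hg, ← Category.assoc]
        congr 1
        exact toUnit_unique _ _⟩
      map_one' := Subtype.ext (MonObj.comp_one _)
      map_mul' := fun g h => Subtype.ext (MonObj.comp_mul _ _ _) }
  map_id T := by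
    apply GrpCat.hom_ext
    apply MonoidHom.ext
    intro g
    apply Subtype.ext
    exact Category.id_comp _
  map_comp f g := by
    apply GrpCat.hom_ext
    apply MonoidHom.ext
    intro h
    apply Subtype.ext
    exact Category.assoc _ _ _

/-- the stabilizer represents its functor of points -/
noncomputable def stabRep {N : Over S} (i : N ⟶ G)
    (hN : IsPullback i (toUnit N) (a.orbitMap x) x) :
    (stabFunctor a x ⋙ forget GrpCat).RepresentableBy N where
  homEquiv {T} :=
    { toFun := fun h => (⟨h ≫ i, by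
          rw [mem_stabSub, Category.assoc, hN.w, ← Category.assoc]
          congr 1
          exact toUnit_unique _ _⟩ : ↥(stabSub a x T))
      invFun := fun g => hN.lift (g : ↥(stabSub a x T)).1 (toUnit T) (g : ↥(stabSub a x T)).2
      left_inv := fun h => hN.hom_ext (by rw [hN.lift_fst]) (toUnit_unique _ _)
      right_inv := fun g => Subtype.ext (hN.lift_fst _ _ _) }
  homEquiv_comp f g := Subtype.ext (Category.assoc _ _ _)

/-- the group structure on the stabilizer -/
@[instance_reducible]
noncomputable def stabGrpObj {N : Over S} (i : N ⟶ G)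
    (hN : IsPullback i (toUnit N) (a.orbitMap x) x) : GrpObj N :=
  GrpObj.ofRepresentableBy N (stabFunctor a x) (stabRep a x i hN)

/-- the stabilizer is the fibre of `(act, snd)` over `(x, x)` -/
theorem isPullback_psi {N : Over S} (i : N ⟶ G)
    (hN : IsPullback i (toUnit N) (a.orbitMap x) x) :
    IsPullback (lift i (toUnit N ≫ x)) (toUnit N) (lift a.act (snd G X)) (lift x x) := by
  have comm : lift i (toUnit N ≫ x) ≫ lift a.act (snd G X) = toUnit N ≫ lift x x := by
    apply CartesianMonoidalCategory.hom_ext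
    · rw [Category.assoc, lift_fst, Category.assoc, lift_fst, ← comp_orbitMap, hN.w]
    · rw [Category.assoc, lift_snd, lift_snd, Category.assoc, lift_snd]
  have key : ∀ s : PullbackCone (lift a.act (snd G X)) (lift x x),
      (s.fst ≫ fst G X) ≫ a.orbitMap x = toUnit s.pt ≫ x := by
    intro s
    have h1 := s.condition =≫ fst X X
    have h2 := s.condition =≫ snd X X
    simp only [Category.assoc, lift_fst, lift_snd] at h1 h2
    have h3 : s.snd = toUnit s.pt := toUnit_unique _ _
    rw [h3] at h1 h2
    rw [comp_orbitMap]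
    calc lift (s.fst ≫ fst G X) (toUnit s.pt ≫ x) ≫ a.act
        = lift (s.fst ≫ fst G X) (s.fst ≫ snd G X) ≫ a.act := by rw [h2]
      _ = s.fst ≫ a.act := by rw [lift_comp_fst_snd]
      _ = toUnit s.pt ≫ x := h1
  exact IsPullback.of_isLimit (PullbackCone.IsLimit.mk comm
    (fun s => hN.lift (s.fst ≫ fst G X) (toUnit _) (key s))
    (fun s => by
      apply CartesianMonoidalCategory.hom_ext
      · rw [Category.assoc, lift_fst, hN.lift_fst]
      · rw [Category.assoc, lift_snd, ← Category.assoc, hN.lift_snd]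
        have h2 := s.condition =≫ snd X X
        simp only [Category.assoc, lift_snd] at h2
        rw [h2]
        congr 1
        exact toUnit_unique _ _)
    (fun s => toUnit_unique _ _)
    (fun s m h1 h2 => by
      apply hN.hom_ext
      · rw [hN.lift_fst, ← h1, Category.assoc, lift_fst]
      · exact toUnit_unique _ _))

end General

section Field

open Groth.Agent.H54 Groth.Agent.H38.DimFibreSum Groth.Agent.H9.FibDim Topology

variable {k : Type u} [Field k]

/-- a group scheme locally of finite type over a field is equidimensional of finite dimension -/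
theorem exists_dim_eq_nat (N : Over (Spec (CommRingCat.of k))) [GrpObj N]
    [LocallyOfFiniteType N.hom] :
    ∃ n : ℕ, (∀ t : N.left, FlatMor.localDim ↥N.left t = (n : WithBot ℕ∞)) ∧
      topologicalKrullDim ↥N.left = (n : WithBot ℕ∞) := by
  haveI : LocallyOfFiniteType (Groth.Agent.H37.GrpObjGrpd.ofGrpObj N).s :=
    ‹LocallyOfFiniteType N.hom›
  obtain ⟨n, hall, hdim⟩ :=
    Groth.Agent.H37.grpd_exists_dim (Groth.Agent.H37.GrpObjGrpd.ofGrpObj N) k (Iso.refl _)
  exact ⟨n, hall, hdim⟩

variable {G X : Over (Spec (CommRingCat.of k))} [GrpObj G]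
  (a : AlgGrp.Action G X) (x : 𝟙_ (Over (Spec (CommRingCat.of k))) ⟶ X)

/-- the dimension of the closure of the orbit is bounded by transcendence degrees -/
theorem dim_closure_range_le [LocallyOfFiniteType G.hom] [QuasiCompact G.hom]
    [LocallyOfFiniteType X.hom]
    (n : ℕ) (h : ∀ g : G.left, tdeg X.hom ((a.orbitMap x).left.base g) ≤ n) :
    topologicalKrullDim ↥(closure (Set.range (a.orbitMap x).left.base)) ≤ n := by
  set o := (a.orbitMap x).left with ho
  haveI : IsLocallyNoetherian G.left := LocallyOfFiniteType.isLocallyNoetherian G.hom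
  haveI : CompactSpace G.left := QuasiCompact.compactSpace_of_compactSpace G.hom
  haveI : IsNoetherian G.left := {}
  haveI : TopologicalSpace.NoetherianSpace G.left := inferInstance
  obtain ⟨F, hF⟩ :=
    Groth.Agent.H63.OrbitDim.exists_finite_specializes o.base o.base.hom.continuous
  exact Groth.Agent.S14480.topologicalKrullDim_closed_le_of_forall_tdeg_le X.hom _
    isClosed_closure n (fun z hz => by
      obtain ⟨g, -, hgz⟩ := hF z hz
      exact (tdeg_le_of_specializes X.hom hgz).trans (h g))

/-- the local fibre dimension of `Ψ = (act, snd)` at `(e, x)` is the dimension of the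
stabilizer of `x` -/
theorem fibreDimAt_psi_eq [LocallyOfFiniteType G.hom] [LocallyOfFiniteType X.hom]
    [IsSeparated X.hom] :
    FlatMor.fibreDimAt (lift a.act (snd G X)).left
        ((lift (toUnit X ≫ η[G]) (𝟙 X)).left.base (x.left.base (IsLocalRing.closedPoint k))) =
      topologicalKrullDim ↥(pullback (a.orbitMap x).left x.left) := by
  haveI hsub : Subsingleton ↥(Spec (CommRingCat.of k)) :=
    inferInstanceAs (Subsingleton (PrimeSpectrum k))
  set pt₀ : ↥(Spec (CommRingCat.of k)) := IsLocalRing.closedPoint k with hpt₀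
  set o := (a.orbitMap x).left with ho
  have hw : o ≫ X.hom = G.hom := Over.w _
  haveI : LocallyOfFiniteType (o ≫ X.hom) := by rw [hw]; infer_instance
  haveI : LocallyOfFiniteType o := locallyOfFiniteType_of_comp o X.hom
  set N := stabO a x with hNdef
  haveI : LocallyOfFiniteType N.hom :=
    MorphismProperty.pullback_snd (P := @LocallyOfFiniteType) _ _ inferInstance
  have hN := isPullback_stab a x
  letI : GrpObj N := stabGrpObj a x (stabι a x) hN
  obtain ⟨b, hall, hdim⟩ := exists_dim_eq_nat N
  set Ψ := lift a.act (snd G X) with hΨ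
  set ε := lift (toUnit X ≫ η[G]) (𝟙 X) with hε
  set δ := lift x x with hδ
  set j := lift (stabι a x) (toUnit N ≫ x) with hj
  have sqPsi : IsPullback j.left N.hom Ψ.left δ.left :=
    (isPullback_psi a x (stabι a x) hN).map (Over.forget _)
  -- the unit point of the stabilizer
  have hη : η[G] ≫ a.orbitMap x = 𝟙 _ ≫ x := by
    have h1 := one_comp_orbitMap a x (𝟙_ (Over (Spec (CommRingCat.of k))))
    rw [Hom.one_def, toUnit_unit, Category.id_comp] at h1
    exact h1
  set e'' := hN.lift η[G] (𝟙 _) hη with he''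
  set e' : N.left := e''.left.base pt₀ with he'
  have hje'' : e'' ≫ j = x ≫ ε := by
    apply CartesianMonoidalCategory.hom_ext
    · rw [Category.assoc, lift_fst, hN.lift_fst, Category.assoc, lift_fst, ← Category.assoc]
      have : x ≫ toUnit X = 𝟙 _ := toUnit_unique _ _
      rw [this, Category.id_comp]
    · rw [Category.assoc, lift_snd, ← Category.assoc, hN.lift_snd, Category.id_comp,
        Category.assoc, lift_snd, Category.comp_id]
  set z := ε.left.base (x.left.base pt₀) with hz
  set q := δ.left.base pt₀ with hq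
  have hje : j.left.base e' = z :=
    congrArg (fun φ : (𝟙_ (Over (Spec (CommRingCat.of k)))) ⟶ G ⊗ X => φ.left.base pt₀) hje''
  have hpt : ∀ t : N.left, Ψ.left.base (j.left.base t) = q := by
    intro t
    have h1 : Ψ.left.base (j.left.base t) = δ.left.base (N.hom.base t) :=
      congrArg (fun φ : N.left ⟶ (X ⊗ X).left => φ.base t) sqPsi.w
    rw [h1, Subsingleton.elim (N.hom.base t) pt₀]
  have hzq : Ψ.left.base z = q := by rw [← hje]; exact hpt e'
  rw [fibreDimAt_eq_tfd, tfd_eq_of_eq _ z q hzq]
  -- `j` is an embedding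
  haveI : IsClosedImmersion (x.left ≫ X.hom) := by
    rw [Over.w x]
    show IsClosedImmersion (𝟙 _)
    infer_instance
  haveI : IsClosedImmersion x.left := IsClosedImmersion.of_comp x.left X.hom
  have hiemb : IsEmbedding (stabι a x).left.base :=
    (pullback.fst o x.left).isClosedEmbedding.isEmbedding
  have hcomp : j ≫ fst G X = stabι a x := lift_fst _ _
  have hfun : ((fst G X).left.base ∘ j.left.base : N.left → G.left) = (stabι a x).left.base := by
    funext t
    exact congrArg (fun φ : N ⟶ G => φ.left.base t) hcomp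
  have hjemb : IsEmbedding j.left.base :=
    IsEmbedding.of_comp j.left.continuous (fst G X).left.continuous (hfun ▸ hiemb)
  -- the homeomorphism onto the fibre
  let ĵ : N.left → ↥(Ψ.left.base ⁻¹' {q}) := fun t => ⟨j.left.base t, hpt t⟩
  have hĵemb : IsEmbedding ĵ := hjemb.codRestrict _ hpt
  have hĵsurj : Function.Surjective ĵ := by
    rintro ⟨y, hy⟩
    have hy' : Ψ.left.base y = δ.left.base pt₀ := hy
    obtain ⟨w, hw1, -⟩ := Scheme.Pullback.exists_preimage_pullback (f := Ψ.left) (g := δ.left)
      y pt₀ hy'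
    refine ⟨sqPsi.isoPullback.inv.base w, Subtype.ext ?_⟩
    have h1 : j.left.base (sqPsi.isoPullback.inv.base w) = (pullback.fst Ψ.left δ.left).base w :=
      congrArg (fun φ : pullback Ψ.left δ.left ⟶ (G ⊗ X).left => φ.base w)
        sqPsi.isoPullback_inv_fst
    exact h1.trans hw1
  have hĵopen : IsOpenEmbedding ĵ :=
    (hĵemb.toHomeomorphOfSurjective hĵsurj).isOpenEmbedding
  have h1 := localDim_of_isOpenEmbedding hĵopen e'
  have hĵe : ĵ e' = ⟨z, hzq⟩ := Subtype.ext hje
  calc FlatMor.localDim ↥(Ψ.left.base ⁻¹' {q}) ⟨z, hzq⟩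
      = FlatMor.localDim ↥(Ψ.left.base ⁻¹' {q}) (ĵ e') := by rw [hĵe]
    _ = FlatMor.localDim ↥N.left e' := h1.symm
    _ = (b : WithBot ℕ∞) := hall e'
    _ = topologicalKrullDim ↥N.left := hdim.symm

/-- **S11244**: the locus of rational points with orbit of dimension `≤ r` is closed. -/
theorem exists_isClosed_orbitDim_le [LocallyOfFiniteType G.hom] [QuasiCompact G.hom]
    [LocallyOfFiniteType X.hom] [QuasiCompact X.hom] [IsSeparated X.hom] (r : ℕ) :
    ∃ Z : Set ↥X.left, IsClosed Z ∧
      ∀ x : 𝟙_ (Over (Spec (CommRingCat.of k))) ⟶ X,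
        topologicalKrullDim ↥(closure (Set.range ⇑(a.orbitMap x).left.base)) ≤
          (r : WithBot ℕ∞) ↔ Set.range ⇑x.left.base ⊆ Z := by
  haveI hsub : Subsingleton ↥(Spec (CommRingCat.of k)) :=
    inferInstanceAs (Subsingleton (PrimeSpectrum k))
  set pt₀ : ↥(Spec (CommRingCat.of k)) := IsLocalRing.closedPoint k with hpt₀
  obtain ⟨n, -, hn⟩ := exists_dim_eq_nat G
  set Ψ := lift a.act (snd G X) with hΨ
  set ε := lift (toUnit X ≫ η[G]) (𝟙 X) with hε
  haveI : LocallyOfFiniteType (G ⊗ X).hom := by
    show LocallyOfFiniteType (pullback.fst G.hom X.hom ≫ G.hom)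
    infer_instance
  haveI : LocallyOfFiniteType (Ψ.left ≫ (X ⊗ X).hom) := by rw [Over.w Ψ]; infer_instance
  haveI : LocallyOfFiniteType Ψ.left := locallyOfFiniteType_of_comp Ψ.left (X ⊗ X).hom
  -- general facts for each `x`
  have facts : ∀ x : 𝟙_ (Over (Spec (CommRingCat.of k))) ⟶ X, ∃ a' b : ℕ, a' + b = n ∧
      topologicalKrullDim ↥(closure (Set.range ⇑(a.orbitMap x).left.base)) = (a' : WithBot ℕ∞) ∧
      FlatMor.fibreDimAt Ψ.left (ε.left.base (x.left.base pt₀)) = (b : WithBot ℕ∞) := by
    intro x
    set o := (a.orbitMap x).left with ho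
    have hw : o ≫ X.hom = G.hom := Over.w _
    haveI : LocallyOfFiniteType (o ≫ X.hom) := by rw [hw]; infer_instance
    haveI : LocallyOfFiniteType o := locallyOfFiniteType_of_comp o X.hom
    have hdimeq := dim_eq a x
    have hKL := fibreDimAt_psi_eq a x
    let e₀ : G.left := η[G].left.base (IsLocalRing.closedPoint k)
    have hO0 : topologicalKrullDim ↥(Set.range o.base) ≠ ⊥ := by
      haveI : Nonempty ↥(Set.range o.base) := ⟨⟨_, e₀, rfl⟩⟩
      exact dim_ne_bot _
    have hr0 : topologicalKrullDim ↥(pullback o x.left) ≠ ⊥ := by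
      rw [← dim_fibre_eq a x e₀]
      haveI : Nonempty ↥(o.base ⁻¹' {o.base e₀}) := ⟨⟨e₀, rfl⟩⟩
      exact dim_ne_bot _
    have htn : ∀ g : G.left, tdeg (o ≫ X.hom) g ≤ n := by
      intro g
      have h1 := tdeg_le_dim (o ≫ X.hom) g
      rw [hn] at h1
      exact_mod_cast h1
    have hOn : topologicalKrullDim ↥(Set.range o.base) ≤ n :=
      dim_range_le a x n (fun g => (tdeg_le_of_hom X.hom (o ≫ X.hom) o rfl g).trans (htn g))
    have hrn : topologicalKrullDim ↥(pullback o x.left) ≤ n := by
      rw [← dim_fibre_eq a x e₀, ← hn]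
      exact topologicalKrullDim_subspace_le _ _
    obtain ⟨a', ha'⟩ := exists_nat_eq hO0 hOn
    obtain ⟨b, hb⟩ := exists_nat_eq hr0 hrn
    refine ⟨a', b, ?_, ?_, ?_⟩
    · rw [hn, ha', hb] at hdimeq
      have : (n : WithBot ℕ∞) = ((a' + b : ℕ) : WithBot ℕ∞) := by
        rw [hdimeq]; push_cast; rfl
      exact_mod_cast this.symm
    · apply le_antisymm
      · refine dim_closure_range_le a x a' (fun g => ?_)
        have h2 : (tdeg X.hom (o.base g) : WithBot ℕ∞) ≤ (a' : WithBot ℕ∞) :=
          ha' ▸ Groth.Agent.S14901.tdeg_image_le_dim_range G.hom X.hom o hw g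
        exact_mod_cast h2
      · rw [← ha']
        exact (Topology.IsEmbedding.inclusion subset_closure).isInducing.topologicalKrullDim_le
    · rw [hKL, hb]
  have hsingle : ∀ (x : 𝟙_ (Over (Spec (CommRingCat.of k))) ⟶ X) (Z : Set ↥X.left),
      Set.range ⇑x.left.base ⊆ Z ↔ x.left.base pt₀ ∈ Z := by
    intro x Z
    constructor
    · intro h; exact h ⟨pt₀, rfl⟩
    · rintro h _ ⟨t, rfl⟩
      rwa [Subsingleton.elim (α := ↥(Spec (CommRingCat.of k))) t pt₀]
  by_cases hm : n ≤ r
  · refine ⟨Set.univ, isClosed_univ, fun x => ?_⟩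
    obtain ⟨a', b, hab, hcl, -⟩ := facts x
    refine ⟨fun _ => Set.subset_univ _, fun _ => ?_⟩
    rw [hcl]
    have : a' ≤ r := by omega
    exact_mod_cast this
  · refine ⟨(ε.left.base ⁻¹' {w | FlatMor.fibreDimAt Ψ.left w ≤ ((n - r - 1 : ℕ) : WithBot ℕ∞)})ᶜ,
      ?_, fun x => ?_⟩
    · rw [isClosed_compl_iff]
      exact (isOpen_setOf_fibreDimAt_le Ψ.left (n - r - 1)).preimage ε.left.continuous
    · obtain ⟨a', b, hab, hcl, hfd⟩ := facts x
      rw [hsingle x, hcl]
      show (a' : WithBot ℕ∞) ≤ (r : WithBot ℕ∞) ↔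
        ¬ (FlatMor.fibreDimAt Ψ.left (ε.left.base (x.left.base pt₀)) ≤
          ((n - r - 1 : ℕ) : WithBot ℕ∞))
      rw [hfd]
      constructor
      · intro h1 h2
        have h1' : a' ≤ r := by exact_mod_cast h1
        have h2' : b ≤ n - r - 1 := by exact_mod_cast h2
        omega
      · intro h2
        have h2' : ¬ (b ≤ n - r - 1) := fun h => h2 (by exact_mod_cast h)
        have : a' ≤ r := by omega
        exact_mod_cast this

end Field

end Groth.Agent.H93.OrbitStab
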