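import Mathlib

/-!
# (K3) for helper14's S7151 squad: the separable Artin–Schreier-type extension
`X^p - ϖ^N X - ξ`.
-/

set_option autoImplicit false
universe u
open Polynomial

namespace Groth.Agent.H93.PI_K3

/-- (K3) the separable extension -/
theorem exists_K3 {K₁ : Type u} [Field K₁] (p : ℕ) (hp : p.Prime) [CharP K₁ p] (ξ ϖ : K₁)
    (hϖ : ϖ ≠ 0) (N : ℕ) :
    ∃ (K₃ : Type u) (_ : Field K₃) (_ : Algebra K₁ K₃) (z : K₃),
      FiniteDimensional K₁ K₃ ∧ Algebra.IsSeparable K₁ K₃ ∧
      z ^ p = algebraMap K₁ K₃ ϖ ^ N * z + algebraMap K₁ K₃ ξ ∧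
      Algebra.adjoin K₁ {z} = ⊤ := by
  classical
  set q : K₁[X] := C (ϖ ^ N) * X + C ξ with hq
  set f : K₁[X] := X ^ p - q with hf
  have hqdeg : q.natDegree < (X ^ p : K₁[X]).natDegree := by
    rw [natDegree_X_pow]
    exact lt_of_le_of_lt (natDegree_linear_le) hp.one_lt
  have hfdeg : f.natDegree = p := by
    rw [hf, natDegree_sub_eq_left_of_natDegree_lt hqdeg, natDegree_X_pow]
  have hf0 : f ≠ 0 := by
    intro h
    rw [h, natDegree_zero] at hfdeg
    exact hp.ne_zero hfdeg.symm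
  have hfu : ¬ IsUnit f := by
    intro h
    have := natDegree_eq_zero_of_isUnit h
    rw [hfdeg] at this
    exact hp.ne_zero this
  have hder : derivative f = - C (ϖ ^ N) := by
    rw [hf, hq, derivative_sub, derivative_X_pow, derivative_add, derivative_C_mul, derivative_X,
      derivative_C, CharP.cast_eq_zero K₁ p, C_0, zero_mul, mul_one, add_zero, zero_sub]
  have hsep : f.Separable := by
    rw [separable_def']
    refine ⟨0, - C ((ϖ ^ N)⁻¹), ?_⟩
    rw [hder, zero_mul, zero_add, neg_mul_neg, ← C_mul, inv_mul_cancel₀ (pow_ne_zero N hϖ), C_1]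
  obtain ⟨g, hg, hgf⟩ := WfDvdMonoid.exists_irreducible_factor hfu hf0
  haveI : Fact (Irreducible g) := ⟨hg⟩
  have hgsep : g.Separable := hsep.of_dvd hgf
  have hroot : aeval (AdjoinRoot.root g) f = 0 := by
    rw [AdjoinRoot.aeval_eq]
    exact AdjoinRoot.mk_eq_zero.mpr hgf
  have hadj : Algebra.adjoin K₁ ({AdjoinRoot.root g} : Set (AdjoinRoot g)) = ⊤ :=
    AdjoinRoot.adjoinRoot_eq_top
  refine ⟨AdjoinRoot g, inferInstance, inferInstance, AdjoinRoot.root g, ?_, ?_, ?_, hadj⟩
  · exact (AdjoinRoot.powerBasis hg.ne_zero).finite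
  · rw [← IntermediateField.isSeparable_top,
      ← IntermediateField.adjoin_eq_top_of_algebra K₁ _ hadj,
      IntermediateField.isSeparable_adjoin_iff_isSeparable]
    intro x hx
    rw [Set.mem_singleton_iff] at hx
    subst hx
    exact hgsep.of_dvd (minpoly.dvd K₁ _ (by
      rw [AdjoinRoot.aeval_eq, AdjoinRoot.mk_self]))
  · have h := hroot
    rw [hf, hq] at h
    simp only [map_sub, map_add, map_mul, map_pow, aeval_X, aeval_C] at h
    linear_combination h

end Groth.Agent.H93.PI_K3
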