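import Groth.Agent.H93.TwoPiece

/-!
# Affine opens containing finitely many points: from closed pieces to the whole scheme
-/

set_option autoImplicit false
universe u

namespace Groth.Agent.H93.PerComp

open AlgebraicGeometry CategoryTheory CategoryTheory.Limits TopologicalSpace Opposite
open Groth.Agent.H93

variable {X : Scheme.{u}}

/-- The points of `T` on the closed set `C` lie in an affine open of `C` (reduced structure). -/
def G (X : Scheme.{u}) (T : Set X) (C : Closeds X) : Prop :=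
  ∃ U : (Scheme.IdealSheafData.vanishingIdeal C).subscheme.Opens, IsAffineOpen U ∧
    ∀ t ∈ T, t ∈ C → t ∈ (Scheme.IdealSheafData.vanishingIdeal C).subschemeι.base '' (U : Set _)

theorem G_bot (T : Set X) : G X T ⊥ :=
  ⟨⊥, isAffineOpen_bot _, fun t _ ht => absurd ht (by
    intro h
    exact h)⟩

theorem mem_range_ι (C : Closeds X) (t : X) :
    t ∈ Set.range (Scheme.IdealSheafData.vanishingIdeal C).subschemeι.base ↔ t ∈ C := by
  rw [Union.range_vanishingIdeal_subschemeι]
  rfl

theorem G_sup (T : Set X) (hT : T.Finite) (C₁ C₂ : Closeds X) (h₁ : G X T C₁) (h₂ : G X T C₂) :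
    G X T (C₁ ⊔ C₂) := by
  obtain ⟨U₁, hU₁, hT₁⟩ := h₁
  obtain ⟨U₂, hU₂, hT₂⟩ := h₂
  have le1 : Scheme.IdealSheafData.vanishingIdeal (C₁ ⊔ C₂) ≤
      Scheme.IdealSheafData.vanishingIdeal C₁ :=
    Scheme.IdealSheafData.vanishingIdeal_antimono le_sup_left
  have le2 : Scheme.IdealSheafData.vanishingIdeal (C₁ ⊔ C₂) ≤
      Scheme.IdealSheafData.vanishingIdeal C₂ :=
    Scheme.IdealSheafData.vanishingIdeal_antimono le_sup_right
  have hred : IsReduced (Scheme.IdealSheafData.vanishingIdeal (C₁ ⊔ C₂)).subscheme :=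
    Union.isReduced_vanishingIdeal_subscheme _
  have hc1 : IsClosedImmersion (Scheme.IdealSheafData.inclusion le1) := by
    have : IsClosedImmersion (Scheme.IdealSheafData.inclusion le1 ≫
        (Scheme.IdealSheafData.vanishingIdeal (C₁ ⊔ C₂)).subschemeι) := by
      rw [Scheme.IdealSheafData.inclusion_subschemeι]
      infer_instance
    exact IsClosedImmersion.of_comp_isClosedImmersion (Scheme.IdealSheafData.inclusion le1)
      (Scheme.IdealSheafData.vanishingIdeal (C₁ ⊔ C₂)).subschemeι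
  have hc2 : IsClosedImmersion (Scheme.IdealSheafData.inclusion le2) := by
    have : IsClosedImmersion (Scheme.IdealSheafData.inclusion le2 ≫
        (Scheme.IdealSheafData.vanishingIdeal (C₁ ⊔ C₂)).subschemeι) := by
      rw [Scheme.IdealSheafData.inclusion_subschemeι]
      infer_instance
    exact IsClosedImmersion.of_comp_isClosedImmersion (Scheme.IdealSheafData.inclusion le2)
      (Scheme.IdealSheafData.vanishingIdeal (C₁ ⊔ C₂)).subschemeι
  have hinj := (Scheme.IdealSheafData.vanishingIdeal (C₁ ⊔ C₂)).subschemeι.isClosedEmbedding.injective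
  have hinj1 := (Scheme.IdealSheafData.vanishingIdeal C₁).subschemeι.isClosedEmbedding.injective
  have hinj2 := (Scheme.IdealSheafData.vanishingIdeal C₂).subschemeι.isClosedEmbedding.injective
  have e1 : ∀ y, (Scheme.IdealSheafData.vanishingIdeal (C₁ ⊔ C₂)).subschemeι.base
      ((Scheme.IdealSheafData.inclusion le1).base y) =
      (Scheme.IdealSheafData.vanishingIdeal C₁).subschemeι.base y := fun y =>
    congrArg (fun t => t.base y) (Scheme.IdealSheafData.inclusion_subschemeι le1)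
  have e2 : ∀ y, (Scheme.IdealSheafData.vanishingIdeal (C₁ ⊔ C₂)).subschemeι.base
      ((Scheme.IdealSheafData.inclusion le2).base y) =
      (Scheme.IdealSheafData.vanishingIdeal C₂).subschemeι.base y := fun y =>
    congrArg (fun t => t.base y) (Scheme.IdealSheafData.inclusion_subschemeι le2)
  have hcov : ∀ x : ↑(Scheme.IdealSheafData.vanishingIdeal (C₁ ⊔ C₂)).subscheme,
      x ∈ Set.range (Scheme.IdealSheafData.inclusion le1).base ∨
      x ∈ Set.range (Scheme.IdealSheafData.inclusion le2).base := by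
    intro x
    have hx : (Scheme.IdealSheafData.vanishingIdeal (C₁ ⊔ C₂)).subschemeι.base x ∈ C₁ ⊔ C₂ :=
      (mem_range_ι _ _).mp ⟨x, rfl⟩
    have hx' : (Scheme.IdealSheafData.vanishingIdeal (C₁ ⊔ C₂)).subschemeι.base x ∈
        (C₁ : Set X) ∪ C₂ := hx
    rcases hx' with h | h
    · left
      obtain ⟨y, hy⟩ := (mem_range_ι C₁ _).mpr h
      exact ⟨y, hinj ((e1 y).trans hy)⟩
    · right
      obtain ⟨y, hy⟩ := (mem_range_ι C₂ _).mpr h
      exact ⟨y, hinj ((e2 y).trans hy)⟩
  obtain ⟨U, hU, hTU⟩ := TwoPiece.two_piece (Scheme.IdealSheafData.inclusion le1)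
    (Scheme.IdealSheafData.inclusion le2) hcov
    ((Scheme.IdealSheafData.vanishingIdeal (C₁ ⊔ C₂)).subschemeι.base ⁻¹' T)
    (hT.preimage hinj.injOn) U₁ hU₁
    (by
      intro y hy
      have hy' : (Scheme.IdealSheafData.vanishingIdeal C₁).subschemeι.base y ∈ T := by
        rw [← e1 y]
        exact hy
      obtain ⟨y₀, hy₀, hy₀e⟩ := hT₁ _ hy' ((mem_range_ι C₁ _).mp ⟨y, rfl⟩)
      rw [← hinj1 hy₀e]
      exact hy₀)
    U₂ hU₂
    (by
      intro y hy
      have hy' : (Scheme.IdealSheafData.vanishingIdeal C₂).subschemeι.base y ∈ T := by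
        rw [← e2 y]
        exact hy
      obtain ⟨y₀, hy₀, hy₀e⟩ := hT₂ _ hy' ((mem_range_ι C₂ _).mp ⟨y, rfl⟩)
      rw [← hinj2 hy₀e]
      exact hy₀)
  refine ⟨U, hU, fun t ht htC => ?_⟩
  obtain ⟨x, rfl⟩ := (mem_range_ι (C₁ ⊔ C₂) t).mpr htC
  exact ⟨x, hTU ht, rfl⟩

/-- From the reduced scheme to the scheme itself. -/
theorem of_G_top (T : Set X) (h : G X T ⊤) : ∃ U : X.Opens, IsAffineOpen U ∧ T ⊆ U := by
  obtain ⟨Ur, hUr, hTr⟩ := h
  have hinj := (Scheme.IdealSheafData.vanishingIdeal (⊤ : Closeds X)).subschemeι.isClosedEmbedding.injective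
  have hsurj : Function.Surjective
      (Scheme.IdealSheafData.vanishingIdeal (⊤ : Closeds X)).subschemeι.base := by
    intro x
    exact (mem_range_ι ⊤ x).mpr trivial
  have hpre := TwoPiece.preimage_ext
    (Scheme.IdealSheafData.vanishingIdeal (⊤ : Closeds X)).subschemeι Ur
  have hA : IsAffine ((Scheme.IdealSheafData.vanishingIdeal (⊤ : Closeds X)).subschemeι ⁻¹ᵁ
      TwoPiece.ext (Scheme.IdealSheafData.vanishingIdeal (⊤ : Closeds X)).subschemeι Ur).toScheme := by
    rw [hpre]
    exact hUr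
  have hsurj' : Function.Surjective
      ((Scheme.IdealSheafData.vanishingIdeal (⊤ : Closeds X)).subschemeι ∣_
        TwoPiece.ext (Scheme.IdealSheafData.vanishingIdeal (⊤ : Closeds X)).subschemeι Ur).base := by
    rintro ⟨y, hy⟩
    obtain ⟨x, rfl⟩ := hsurj y
    have hy' : x ∈ (Scheme.IdealSheafData.vanishingIdeal (⊤ : Closeds X)).subschemeι ⁻¹ᵁ
      TwoPiece.ext (Scheme.IdealSheafData.vanishingIdeal (⊤ : Closeds X)).subschemeι Ur := hy
    exact ⟨⟨x, hy'⟩, Subtype.ext (morphismRestrict_base_coe _ _ ⟨x, hy'⟩)⟩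
  refine ⟨TwoPiece.ext (Scheme.IdealSheafData.vanishingIdeal (⊤ : Closeds X)).subschemeι Ur,
    ThickAff.main _ hsurj', ?_⟩
  intro t ht
  refine (TwoPiece.mem_ext _ Ur t).mpr (fun y hy => ?_)
  obtain ⟨y₀, hy₀, hy₀e⟩ := hTr t ht trivial
  rw [← hinj (hy₀e.trans hy.symm)]
  exact hy₀

end Groth.Agent.H93.PerComp
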