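import Mathlib
import Groth.Prelude.Def_Rees
import Groth.Prelude.Def_BlowUp2
import Groth.Prelude.Def_ega3
import Groth.Agent.H95.ReesProjDefs
import Groth.Agent.H93.RP_U2
set_option autoImplicit false
universe u
open CategoryTheory AlgebraicGeometry
open Groth.Agent.H95.ReesProj

namespace Groth.Agent.H93.RP_COV

variable (A : Type u) [CommRing A] (I : Ideal A)

theorem COV : ⨆ a : I, Proj.basicOpen (Rees.deg (reesAlgebra I)) (gen A I a.1 a.2) = ⊤ := by
  refine top_le_iff.mp fun y _ => ?_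
  obtain ⟨b, hb, hy⟩ := Groth.Agent.H93.RP_U2.exists_gen_mem_basicOpen A I y
  exact TopologicalSpace.Opens.mem_iSup.mpr ⟨⟨b, hb⟩, hy⟩

end Groth.Agent.H93.RP_COV
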