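import Mathlib
import Groth.Agent.H28.PerfTor4
import Groth.Agent.H28.RelPerfRestrict
import Groth.Agent.H42.FPKernel
import Groth.Prelude.Def_DCoh3

/-!
# Relative "pseudo-coherent + finite relative tor dimension ⇒ locally a bounded complex of
finitely presented S-flat modules": the ASSEMBLY half (helper93), given the relative core.
-/

set_option autoImplicit false
set_option maxHeartbeats 400000
set_option linter.style.haveILetI false
universe u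
open CategoryTheory CategoryTheory.Limits AlgebraicGeometry HomologicalComplex
attribute [local instance] HasDerivedCategory.standard

namespace Groth.Agent.H93.RelPerfAsm

open Groth.Agent.H40.TorAmp3 Groth.Agent.H90.SPerf CochainComplex

/-- Restriction along an open immersion preserves finite presentation. -/
theorem isFP_restrict {U' U : Scheme.{u}} (i : U' ⟶ U) [IsOpenImmersion i] (M : U.Modules)
    (hM : CohB1.IsFP M) : CohB1.IsFP ((Scheme.Modules.restrictFunctor i).obj M) :=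
  (SheafOfModules.isFinitePresentation U'.ringCatSheaf).prop_of_iso
    ((Scheme.Modules.restrictFunctorIsoPullback i).symm.app M)
    (Groth.Agent.H42.FPKernel.isFP_pullback i M hM)

/-- The relative core, as a hypothesis. -/
def CoreRel : Prop :=
  ∀ {Z S : Scheme.{u}} (g : Z ⟶ S) [Flat g] {P F : CochainComplex Z.Modules ℤ} (β : P ⟶ F)
    (a b : ℤ) (_ : DCoh.IsStrictlyPerfect P) (_ : DCoh.VanishesOutside F a b)
    (_ : ∀ i, FlatMod.IsFlatOver g (F.X i))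
    (_ : Groth.Agent.H90.SPerf.MQI (a - 1) (DerivedCategory.Q.map β)),
    ∃ b' : ℤ, DCoh.VanishesOutside (P.truncGE a) a b' ∧
      (∀ i, CohB1.IsFP ((P.truncGE a).X i) ∧ FlatMod.IsFlatOver g ((P.truncGE a).X i)) ∧
      Nonempty (DerivedCategory.Q.obj F ≅ DerivedCategory.Q.obj (P.truncGE a))

/-- Relative local statement on a scheme carrying a global flat representative. -/
theorem exists_loc_rel (hcore : CoreRel.{u}) {Z S : Scheme.{u}} (g : Z ⟶ S) [Flat g]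
    (E : DCoh.D Z) (a b : ℤ) (z : Z) (F : CochainComplex Z.Modules ℤ)
    (hFv : DCoh.VanishesOutside F a b) (hFfl : ∀ i, FlatMod.IsFlatOver g (F.X i))
    (eF : DerivedCategory.Q.obj F ≅ E) (hpc : LocPC (a - 1) E z) :
    ∃ (U : Scheme.{u}) (k : U ⟶ Z) (_ : IsOpenImmersion k) (y : U), k y = z ∧
      ∃ (T : CochainComplex U.Modules ℤ) (b' : ℤ), DCoh.VanishesOutside T a b' ∧
        (∀ i, CohB1.IsFP (T.X i) ∧ FlatMod.IsFlatOver (k ≫ g) (T.X i)) ∧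
        Nonempty ((DCoh.restrictD k).obj E ≅ DerivedCategory.Q.obj T) := by
  obtain ⟨V, hxV, P, α, hP, hα⟩ := hpc
  let FV := (DCoh.restrictCx V).obj F
  let e1 : (DCoh.restrictD V.ι).obj E ≅ DerivedCategory.Q.obj FV := restrictDObjIso V.ι eF
  have hα' : MQI (a - 1) (α ≫ e1.hom) := hα.comp (MQI.of_isIso _ e1.hom)
  obtain ⟨W, hxW, hW⟩ := exists_chain_map_rep hP (α ≫ e1.hom) ⟨z, hxV⟩
  obtain ⟨β, hβ⟩ := hW
  have hQβ : DerivedCategory.Q.map β =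
      (Scheme.Modules.restrictFunctor W.ι).mapDerivedCategoryFactors.inv.app P ≫
        (DCoh.restrictD W.ι).map (α ≫ e1.hom) ≫
        (Scheme.Modules.restrictFunctor W.ι).mapDerivedCategoryFactors.hom.app FV := by
    rw [hβ]
    simp
  have hmqi : MQI (a - 1) (DerivedCategory.Q.map β) := by
    rw [hQβ]
    exact (MQI.of_isIso _ _).comp ((hα'.map _).comp (MQI.of_isIso _ _))
  have hFVWv : DCoh.VanishesOutside ((DCoh.restrictCx W).obj FV) a b := fun i hi =>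
    Functor.map_isZero (Scheme.Modules.restrictFunctor W.ι)
      (Functor.map_isZero (Scheme.Modules.restrictFunctor V.ι) (hFv i hi))
  have hFVWfl : ∀ i, FlatMod.IsFlatOver ((W.ι ≫ V.ι) ≫ g) (((DCoh.restrictCx W).obj FV).X i) := by
    intro i
    rw [Category.assoc]
    exact Groth.Agent.H28.RelPerfRestrict.isFlatOver_restrict W.ι (V.ι ≫ g) _
      (Groth.Agent.H28.RelPerfRestrict.isFlatOver_restrict V.ι g _ (hFfl i))
  obtain ⟨b', hT₀v, hT₀, ⟨eT₀⟩⟩ := hcore ((W.ι ≫ V.ι) ≫ g) β a b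
    (isStrictlyPerfect_restrict W.ι hP) hFVWv hFVWfl hmqi
  obtain ⟨c⟩ := restrictD_comp_obj W.ι V.ι (W.ι ≫ V.ι) rfl E
  let e : (DCoh.restrictD (W.ι ≫ V.ι)).obj E ≅
      DerivedCategory.Q.obj (((DCoh.restrictCx W).obj P).truncGE a) :=
    c ≪≫ (DCoh.restrictD W.ι).mapIso e1 ≪≫ restrictDObjIso W.ι (Iso.refl _) ≪≫ eT₀
  exact ⟨_, W.ι ≫ V.ι, inferInstance, ⟨⟨z, hxV⟩, hxW⟩, rfl, _, b', hT₀v, hT₀, ⟨e⟩⟩

/-- (RP) given the relative core. -/
theorem exists_fp_flat_model_of_core (hcore : CoreRel.{u}) {X S : Scheme.{u}} (f : X ⟶ S)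
    [Flat f] [LocallyOfFinitePresentation f]
    (E : DCoh.D X) (hpc : ∀ m : ℤ, DCoh.IsPseudoCoherentD m E)
    (hft : DCoh.LocHasFiniteRelTorDim f E) (x : X) :
    ∃ V : X.Opens, x ∈ V ∧ ∀ F : CochainComplex X.Modules ℤ, Nonempty (DCoh.toD X F ≅ E) →
      ∃ (G : CochainComplex (V : Scheme.{u}).Modules ℤ) (a b : ℤ), DCoh.VanishesOutside G a b ∧
        (∀ i : ℤ, CohB1.IsFP (G.X i) ∧ FlatMod.IsFlatOver (V.ι ≫ f) (G.X i)) ∧
        Nonempty (DerivedCategory.Q.obj ((DCoh.restrictCx V).obj F) ≅ DerivedCategory.Q.obj G) := by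
  obtain ⟨V₁, a, b, hx₁, H⟩ := hft x
  let F0 := DerivedCategory.Q.objPreimage E
  let e0 : DerivedCategory.Q.obj F0 ≅ E := DerivedCategory.Q.objObjPreimageIso E
  obtain ⟨Fl, hFlv, hFlfl, ⟨eFl⟩⟩ := H F0 ⟨e0⟩
  let E₁ : DCoh.D (V₁ : Scheme.{u}) := DerivedCategory.Q.obj ((DCoh.restrictCx V₁).obj F0)
  let eE₁ : (DCoh.restrictD V₁.ι).obj E ≅ E₁ := restrictDObjIso V₁.ι e0
  have hpcZ : LocPC (a - 1) E₁ ⟨x, hx₁⟩ := by
    obtain ⟨V₂, hx₂, P, α, hP, hα⟩ := (isPC_iff (a - 1) E).1 (hpc (a - 1)) x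
    obtain ⟨P', α', hP', hα'⟩ := locPC_shrink (inf_le_right : V₁ ⊓ V₂ ≤ V₂) hP α hα
    obtain ⟨c⟩ := restrictD_comp_obj (X.homOfLE (inf_le_left : V₁ ⊓ V₂ ≤ V₁)) V₁.ι (V₁ ⊓ V₂).ι
      (X.homOfLE_ι _).symm E
    have h3 := locPC_of_immersion (X.homOfLE (inf_le_left : V₁ ⊓ V₂ ≤ V₁))
      (⟨x, ⟨hx₁, hx₂⟩⟩ : ↑(V₁ ⊓ V₂)) hP'
      (α' ≫ c.hom ≫ (DCoh.restrictD (X.homOfLE (inf_le_left : V₁ ⊓ V₂ ≤ V₁))).map eE₁.hom)
      (hα'.comp ((MQI.of_isIso _ c.hom).comp (MQI.of_isIso _ _)))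
    have h4 : ∀ p : ↑V₁, p.1 = x → LocPC (a - 1) E₁ p → LocPC (a - 1) E₁ ⟨x, hx₁⟩ := by
      intro p hp h
      have hp' : p = ⟨x, hx₁⟩ := Subtype.ext hp
      rwa [hp'] at h
    exact h4 _ (Scheme.homOfLE_apply _ _) h3
  obtain ⟨U, k, hk, y, hky, T, b', hTv, hT, ⟨eT⟩⟩ :=
    exists_loc_rel hcore (V₁.ι ≫ f) E₁ a b ⟨x, hx₁⟩ Fl hFlv hFlfl eFl hpcZ
  haveI := hk
  have hcomp : (k ≫ V₁.ι).isoOpensRange.inv ≫ (k ≫ V₁.ι ≫ f) = (k ≫ V₁.ι).opensRange.ι ≫ f := by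
    rw [← Scheme.Hom.isoOpensRange_inv_comp (k ≫ V₁.ι)]
    simp only [Category.assoc]
  refine ⟨(k ≫ V₁.ι).opensRange, ⟨y, ?_⟩, fun F ⟨eF⟩ => ?_⟩
  · show V₁.ι (k y) = x
    rw [hky]
    rfl
  · obtain ⟨c1⟩ := restrictD_comp_obj (k ≫ V₁.ι).isoOpensRange.inv (k ≫ V₁.ι)
      (k ≫ V₁.ι).opensRange.ι (Scheme.Hom.isoOpensRange_inv_comp (k ≫ V₁.ι)).symm E
    obtain ⟨c2⟩ := restrictD_comp_obj k V₁.ι (k ≫ V₁.ι) rfl E
    refine ⟨((Scheme.Modules.restrictFunctor (k ≫ V₁.ι).isoOpensRange.inv).mapHomologicalComplex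
      (ComplexShape.up ℤ)).obj T, a, b', ?_, ?_, ?_⟩
    · intro j hj
      exact Functor.map_isZero (Scheme.Modules.restrictFunctor _) (hTv j hj)
    · intro j
      refine ⟨isFP_restrict _ _ (hT j).1, ?_⟩
      rw [← hcomp]
      exact Groth.Agent.H28.RelPerfRestrict.isFlatOver_restrict (k ≫ V₁.ι).isoOpensRange.inv
        (k ≫ V₁.ι ≫ f) _ (hT j).2
    · exact ⟨(restrictDObjIso (k ≫ V₁.ι).opensRange.ι eF).symm ≪≫ c1 ≪≫
        (DCoh.restrictD (k ≫ V₁.ι).isoOpensRange.inv).mapIso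
          (c2 ≪≫ (DCoh.restrictD k).mapIso eE₁ ≪≫ eT) ≪≫
        restrictDObjIso (k ≫ V₁.ι).isoOpensRange.inv (Iso.refl _)⟩

end Groth.Agent.H93.RelPerfAsm
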