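import Groth.Agent.H93.SysPull
import Mathlib.RingTheory.Noetherian.OfPrime
import Mathlib.RingTheory.Finiteness.Ideal
import Mathlib.RingTheory.Nilpotent.Lemmas

/-!
# Nilpotent thickenings of locally Noetherian schemes

If `Z ⟶ X` is a closed immersion with nilpotent kernel of finite type and `Z` is locally Noetherian
then so is `X`; levels of an adic formal system over a locally Noetherian level `0`.
-/

set_option autoImplicit false
universe u

namespace Groth.Agent.H93.Thick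

open AlgebraicGeometry CategoryTheory CategoryTheory.Limits

section algebra

variable {B : Type*} [CommRing B]

lemma isNoetherianRing_of_quotient_nil (N : Ideal B) (hN : N.FG) (hnil : N ≤ nilradical B)
    [IsNoetherianRing (B ⧸ N)] : IsNoetherianRing B := by
  apply IsNoetherianRing.of_prime
  intro P hP
  have hNP : N ≤ P := hnil.trans (nilradical_le_prime P)
  apply Ideal.fg_of_fg_map_of_fg_inf_ker_of_surjective (f := Ideal.Quotient.mk N)
  · exact (isNoetherianRing_iff_ideal_fg _).mp inferInstance _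
  · rw [Ideal.mk_ker, inf_eq_right.mpr hNP]
    exact hN
  · exact Ideal.Quotient.mk_surjective

lemma le_nilradical_of_pow_eq_bot (N : Ideal B) (m : ℕ) (h : N ^ m = ⊥) : N ≤ nilradical B := by
  intro x hx
  refine mem_nilradical.mpr ⟨m, ?_⟩
  have h1 := Ideal.pow_mem_pow hx m
  rw [h] at h1
  exact Ideal.mem_bot.mp h1

lemma exists_fg_le_map_eq {S : Type*} [CommRing S] (f : B →+* S) (hf : Function.Surjective f)
    (K : Ideal B) (h : (K.map f).FG) :
    ∃ K' : Ideal B, K'.FG ∧ K' ≤ K ∧ K'.map f = K.map f := by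
  classical
  obtain ⟨T, hT⟩ := h
  have hmem : ∀ t ∈ T, ∃ x ∈ K, f x = t := by
    intro t ht
    have h1 : t ∈ K.map f := by
      rw [← hT]
      exact Ideal.subset_span ht
    exact (Ideal.mem_map_iff_of_surjective f hf).mp h1
  choose! g hgK hgf using hmem
  refine ⟨Ideal.span (g '' T), ⟨T.image g, by rw [Finset.coe_image]⟩, ?_, ?_⟩
  · rw [Ideal.span_le]
    rintro _ ⟨t, ht, rfl⟩
    exact hgK t ht
  · rw [Ideal.map_span, ← hT, Set.image_image]
    congr 1
    ext y
    constructor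
    · rintro ⟨t, ht, rfl⟩
      change f (g t) ∈ (T : Set S)
      rw [hgf t ht]
      exact ht
    · intro hy
      exact ⟨y, hy, hgf y hy⟩

lemma fg_of_map_mk_pow_fg (K : Ideal B) (e M : ℕ) (he : 2 ≤ e) (hM : K ^ M = ⊥)
    (h : (K.map (Ideal.Quotient.mk (K ^ e))).FG) : K.FG := by
  obtain ⟨K', hK'fg, hK'le, hK'map⟩ :=
    exists_fg_le_map_eq _ Ideal.Quotient.mk_surjective K h
  have h1 : K ≤ K' ⊔ K * K := by
    have h0 : K ≤ (K.map (Ideal.Quotient.mk (K ^ e))).comap (Ideal.Quotient.mk (K ^ e)) :=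
      Ideal.le_comap_map
    rw [← hK'map, Ideal.comap_map_of_surjective _ Ideal.Quotient.mk_surjective,
      ← RingHom.ker_eq_comap_bot, Ideal.mk_ker] at h0
    refine h0.trans (sup_le_sup_left ?_ _)
    calc K ^ e ≤ K ^ 2 := Ideal.pow_le_pow_right he
      _ = K * K := pow_two K
  have h2 : ∀ m : ℕ, K ≤ K' ⊔ K ^ (m + 1) := by
    intro m
    induction m with
    | zero =>
      rw [zero_add, pow_one]
      exact le_sup_right
    | succ m ih =>
      refine h1.trans (sup_le le_sup_left ?_)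
      calc K * K ≤ (K' ⊔ K ^ (m + 1)) * K := Ideal.mul_mono_left ih
        _ = K' * K ⊔ K ^ (m + 1) * K := Ideal.sup_mul _ _ _
        _ ≤ K' ⊔ K ^ (m + 1 + 1) := sup_le_sup Ideal.mul_le_left (pow_succ K (m + 1)).ge
  have h3 : K ≤ K' := by
    have h4 := h2 M
    rw [pow_succ, hM, Ideal.bot_mul, sup_bot_eq] at h4
    exact h4
  rw [le_antisymm h3 hK'le]
  exact hK'fg

end algebra

section scheme

lemma quotient_ker_noetherian {Z X : Scheme.{u}} (i : Z ⟶ X) [IsClosedImmersion i]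
    [IsLocallyNoetherian Z] (U : X.affineOpens) :
    IsNoetherianRing (Γ(X, U) ⧸ i.ker.ideal U) := by
  have hsurj : Function.Surjective (i.app U.1).hom := i.app_surjective U.1 U.2
  have hker : i.ker.ideal U = RingHom.ker (i.app U.1).hom := Scheme.Hom.ker_apply i U
  have hZ : IsNoetherianRing Γ(Z, i ⁻¹ᵁ U.1) :=
    IsLocallyNoetherian.component_noetherian ⟨i ⁻¹ᵁ U.1, U.2.preimage i⟩
  rw [hker]
  exact isNoetherianRing_of_ringEquiv _ (RingHom.quotientKerEquivOfSurjective hsurj).symm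

lemma isNoetherianRing_section {Z X : Scheme.{u}} (i : Z ⟶ X) [IsClosedImmersion i]
    [IsLocallyNoetherian Z] (m : ℕ) (hnil : i.ker ^ m = ⊥) (U : X.affineOpens)
    (hU : (i.ker.ideal U).FG) : IsNoetherianRing Γ(X, U) := by
  have hq := quotient_ker_noetherian i U
  have hpow : (i.ker.ideal U) ^ m = ⊥ := by
    have h1 := congrArg (fun I => I.ideal U) hnil
    simpa using h1
  exact isNoetherianRing_of_quotient_nil (i.ker.ideal U) hU
    (le_nilradical_of_pow_eq_bot _ m hpow)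

/-- A nilpotent thickening (with kernel of finite type near every point) of a locally Noetherian
scheme is locally Noetherian. -/
theorem isLocallyNoetherian_of_nil_thickening {Z X : Scheme.{u}} (i : Z ⟶ X)
    [IsClosedImmersion i] [IsLocallyNoetherian Z] (m : ℕ) (hnil : i.ker ^ m = ⊥)
    (hft : ∀ x : X, ∃ U : X.affineOpens, x ∈ U.1 ∧ (i.ker.ideal U).FG) :
    IsLocallyNoetherian X := by
  choose U hxU hU using hft
  refine isLocallyNoetherian_of_affine_cover (S := U)
    (eq_top_iff.mpr fun y _ => TopologicalSpace.Opens.mem_iSup.mpr ⟨y, hxU y⟩) (fun x => ?_)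
  exact isNoetherianRing_section i m hnil (U x) (hU x)

lemma isPullback_of_mono {C : Type*} [Category C] {A B D : C} (j : A ⟶ B) (ι : B ⟶ D) [Mono ι] :
    IsPullback j (𝟙 A) ι (j ≫ ι) :=
  ⟨⟨by simp⟩, ⟨PullbackCone.IsLimit.mk _ (fun s => s.snd)
    (fun s => by
      rw [← cancel_mono ι, Category.assoc]
      exact s.condition.symm)
    (fun s => Category.comp_id _)
    (fun s m _ h2 => by rw [← h2, Category.comp_id])⟩⟩

lemma comap_ker_self {X Y : Scheme.{u}} (f : X ⟶ Y) : f.ker.comap f = ⊥ :=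
  le_bot_iff.mp (Scheme.IdealSheafData.le_map_iff_comap_le.mp
    (le_of_eq (Scheme.IdealSheafData.map_bot f).symm))

variable (𝔛 : FSch.Sys.{u})

lemma toX_ker_comap (hF : 𝔛.IsFormal) (n : ℕ) :
    (𝔛.toX n).ker = (𝔛.toX (n + 1)).ker.comap (𝔛.ι n) := by
  have h1 := (hF n).1
  have h2 := SysPull.isClosedImmersion_toX hF n
  have h3 := SysPull.isClosedImmersion_toX hF (n + 1)
  have hm : Mono (𝔛.ι n) := inferInstance
  exact SysPull.ker_eq_comap_of_isPullback (isPullback_of_mono (𝔛.toX n) (𝔛.ι n))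

lemma toX_ker_pow (hF : 𝔛.IsFormal) (hA : 𝔛.IsAdic) (n : ℕ) :
    (𝔛.toX n).ker ^ (n + 1) = ⊥ := by
  rw [toX_ker_comap 𝔛 hF n, ← IdealComap.comap_pow, ← hA n, comap_ker_self]

lemma ι_ker_sq (hF : 𝔛.IsFormal) (hA : 𝔛.IsAdic) (n : ℕ) : (𝔛.ι n).ker ^ 2 = ⊥ := by
  rw [hA n, ← pow_mul]
  have h1 : (n + 1) * 2 = (n + 1 + 1) + n := by ring
  rw [h1, pow_add, toX_ker_pow 𝔛 hF hA (n + 1)]
  simp

/-- Levels of a formal adic system are locally Noetherian as soon as level `0` is and the first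
kernel is of finite type near every point. -/
theorem isLocallyNoetherian_levels (hF : 𝔛.IsFormal) (hA : 𝔛.IsAdic)
    [IsLocallyNoetherian (𝔛.X 0)]
    (hft : ∀ x : 𝔛.X 1, ∃ U : (𝔛.X 1).affineOpens, x ∈ U.1 ∧ ((𝔛.ι 0).ker.ideal U).FG) :
    ∀ n, IsLocallyNoetherian (𝔛.X n) := by
  intro n
  induction n with
  | zero => infer_instance
  | succ n ih =>
    have hci := (hF n).1
    refine isLocallyNoetherian_of_nil_thickening (𝔛.ι n) 2 (ι_ker_sq 𝔛 hF hA n) ?_
    cases n with
    | zero => exact hft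
    | succ k =>
      intro x
      obtain ⟨U, hU, hxU, -⟩ := exists_isAffineOpen_mem_and_subset
        (X := 𝔛.X (k + 1 + 1)) (x := x) (U := ⊤) trivial
      refine ⟨⟨U, hU⟩, hxU, ?_⟩
      have hker : (𝔛.ι (k + 1)).ker.ideal ⟨U, hU⟩ =
          ((𝔛.toX (k + 1 + 1)).ker.ideal ⟨U, hU⟩) ^ (k + 1 + 1) := by
        rw [hA (k + 1)]
        rfl
      have hKM : ((𝔛.toX (k + 1 + 1)).ker.ideal ⟨U, hU⟩) ^ (k + 1 + 1 + 1) = ⊥ := by
        have h1 := congrArg (fun I => I.ideal ⟨U, hU⟩) (toX_ker_pow 𝔛 hF hA (k + 1 + 1))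
        simpa using h1
      have hq : IsNoetherianRing (Γ(𝔛.X (k + 1 + 1), U) ⧸
          ((𝔛.toX (k + 1 + 1)).ker.ideal ⟨U, hU⟩) ^ (k + 1 + 1)) := by
        rw [← hker]
        exact quotient_ker_noetherian (𝔛.ι (k + 1)) ⟨U, hU⟩
      have hKfg : ((𝔛.toX (k + 1 + 1)).ker.ideal ⟨U, hU⟩).FG :=
        fg_of_map_mk_pow_fg _ (k + 1 + 1) (k + 1 + 1 + 1) (by omega) hKM
          ((isNoetherianRing_iff_ideal_fg _).mp hq _)
      rw [hker]
      exact hKfg.pow

end scheme

end Groth.Agent.H93.Thick
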