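import Groth.Agent.H93.NilPull
import Groth.Agent.H93.Thick

/-!
# Adic morphisms of formal systems: level `0` detects finiteness / closed immersions
-/

set_option autoImplicit false
universe u

namespace Groth.Agent.H93.SysNil

open AlgebraicGeometry CategoryTheory CategoryTheory.Limits

theorem toX_surj (𝔜 : FSch.Sys.{u}) (hF : 𝔜.IsFormal) (n : ℕ) :
    Function.Surjective (𝔜.toX n).base := by
  induction n with
  | zero => exact fun x => ⟨x, rfl⟩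
  | succ k ih =>
    intro x
    obtain ⟨y, rfl⟩ := (hF k).2 x
    obtain ⟨z, rfl⟩ := ih y
    exact ⟨z, rfl⟩

variable {𝔛 𝔜 : FSch.Sys.{u}} (f : 𝔛 ⟶ 𝔜)

theorem finite_level (h𝔜F : 𝔜.IsFormal) (h𝔜A : 𝔜.IsAdic) (hf : FSch.IsAdicHom f)
    [IsFinite ((f : FSch.Hom 𝔛 𝔜).app 0)] (n : ℕ) : IsFinite ((f : FSch.Hom 𝔛 𝔜).app n) := by
  have hc := SysPull.isPullback_toX f hf n
  haveI := SysPull.isClosedImmersion_toX h𝔜F n
  exact NilPull.finite_of_nil hc (toX_surj 𝔜 h𝔜F n)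
    (fun W => NilPull.nil_of_pow_eq_bot (𝔜.toX n) (n + 1) (Thick.toX_ker_pow 𝔜 h𝔜F h𝔜A n) W)

theorem closedImm_level (h𝔜F : 𝔜.IsFormal) (h𝔜A : 𝔜.IsAdic) (hf : FSch.IsAdicHom f)
    [IsClosedImmersion ((f : FSch.Hom 𝔛 𝔜).app 0)] (n : ℕ) :
    IsClosedImmersion ((f : FSch.Hom 𝔛 𝔜).app n) := by
  have hc := SysPull.isPullback_toX f hf n
  haveI := SysPull.isClosedImmersion_toX h𝔜F n
  exact NilPull.closedImm_of_nil hc (toX_surj 𝔜 h𝔜F n)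
    (fun W => NilPull.nil_of_pow_eq_bot (𝔜.toX n) (n + 1) (Thick.toX_ker_pow 𝔜 h𝔜F h𝔜A n) W)

theorem lft_level (h𝔜F : 𝔜.IsFormal) (h𝔜A : 𝔜.IsAdic) (hf : FSch.IsAdicHom f)
    [LocallyOfFiniteType ((f : FSch.Hom 𝔛 𝔜).app 0)] (n : ℕ) :
    LocallyOfFiniteType ((f : FSch.Hom 𝔛 𝔜).app n) := by
  have hc := SysPull.isPullback_toX f hf n
  haveI := SysPull.isClosedImmersion_toX h𝔜F n
  exact NilPull.lft_of_nil hc (toX_surj 𝔜 h𝔜F n)
    (fun W => NilPull.nil_of_pow_eq_bot (𝔜.toX n) (n + 1) (Thick.toX_ker_pow 𝔜 h𝔜F h𝔜A n) W)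

end Groth.Agent.H93.SysNil
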