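import Groth.Agent.H93.IdealSub
import Groth.Prelude.Def_FSch3
import Mathlib.AlgebraicGeometry.Morphisms.UnderlyingMap

/-!
# Systems of schemes: levelwise pullbacks, adic morphisms inherit formal/adic
-/

set_option autoImplicit false
universe u

namespace Groth.Agent.H93.SysPull

open AlgebraicGeometry CategoryTheory CategoryTheory.Limits

/-- A square of systems which is levelwise cartesian is cartesian. -/
theorem isPullback_of_levelwise {𝔚 𝔛 𝔜 𝔖 : FSch.Sys.{u}} (p : 𝔚 ⟶ 𝔛) (q : 𝔚 ⟶ 𝔜) (g : 𝔛 ⟶ 𝔖)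
    (h : 𝔜 ⟶ 𝔖)
    (H : ∀ n, IsPullback (FSch.Hom.app p n) (FSch.Hom.app q n) (FSch.Hom.app g n)
      (FSch.Hom.app h n)) :
    IsPullback p q g h := by
  have w : p ≫ g = q ≫ h := FSch.Hom.ext (funext fun n => (H n).w)
  have hc : ∀ (s : PullbackCone g h) (n : ℕ),
      FSch.Hom.app s.fst n ≫ FSch.Hom.app g n = FSch.Hom.app s.snd n ≫ FSch.Hom.app h n :=
    fun s n => congrArg (fun φ : FSch.Hom _ _ => φ.app n) s.condition
  refine ⟨⟨w⟩, ⟨PullbackCone.IsLimit.mk w
    (fun s => (⟨fun n => (H n).lift _ _ (hc s n), fun n => ?_⟩ : FSch.Hom s.pt 𝔚)) ?_ ?_ ?_⟩⟩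
  · apply (H (n + 1)).hom_ext
    · rw [Category.assoc, ← FSch.Hom.comm p n, ← Category.assoc, IsPullback.lift_fst,
        FSch.Hom.comm, Category.assoc, IsPullback.lift_fst]
    · rw [Category.assoc, ← FSch.Hom.comm q n, ← Category.assoc, IsPullback.lift_snd,
        FSch.Hom.comm, Category.assoc, IsPullback.lift_snd]
  · intro s
    exact FSch.Hom.ext (funext fun n => (H n).lift_fst _ _ _)
  · intro s
    exact FSch.Hom.ext (funext fun n => (H n).lift_snd _ _ _)
  · intro s m hm1 hm2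
    refine FSch.Hom.ext (funext fun n => (H n).hom_ext ?_ ?_)
    · rw [IsPullback.lift_fst]
      exact congrArg (fun φ : FSch.Hom _ _ => φ.app n) hm1
    · rw [IsPullback.lift_snd]
      exact congrArg (fun φ : FSch.Hom _ _ => φ.app n) hm2

/-- In a cartesian square whose right-hand side is a closed immersion, the kernel of the base change
is the inverse image of the kernel. -/
theorem ker_eq_comap_of_isPullback {P X' Z S' : Scheme.{u}} {a : P ⟶ X'} {b : P ⟶ Z}
    {c : X' ⟶ S'} {d : Z ⟶ S'} (hP : IsPullback a b c d) [IsClosedImmersion d] :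
    a.ker = d.ker.comap c := by
  have e : a = hP.isoPullback.hom ≫ pullback.fst c d := hP.isoPullback_hom_fst.symm
  rw [e, Scheme.Hom.ker_comp_of_isIso, Scheme.IdealSheafData.ker_fst_of_isClosedImmersion]

variable {𝔛 𝔖 : FSch.Sys.{u}} (f : 𝔛 ⟶ 𝔖)

lemma isPullback_toX (hf : FSch.IsAdicHom f) (k : ℕ) :
    IsPullback (𝔛.toX k) (FSch.Hom.app f 0) (FSch.Hom.app f k) (𝔖.toX k) := by
  induction k with
  | zero => exact IsPullback.id_horiz (FSch.Hom.app f 0)
  | succ k ih => exact ih.paste_horiz (hf k)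

lemma isClosedImmersion_toX (h : 𝔖.IsFormal) (k : ℕ) : IsClosedImmersion (𝔖.toX k) := by
  induction k with
  | zero => exact (inferInstance : IsClosedImmersion (𝟙 (𝔖.X 0)))
  | succ k ih =>
    have := (h k).1
    exact (inferInstance : IsClosedImmersion (𝔖.toX k ≫ 𝔖.ι k))

theorem isFormal_of_isAdicHom (hf : FSch.IsAdicHom f) (h : 𝔖.IsFormal) : 𝔛.IsFormal := by
  intro n
  have hc := (h n).1
  have hs : Surjective (𝔖.ι n) := ⟨(h n).2⟩
  have hp := hf n
  refine ⟨?_, ?_⟩
  · exact MorphismProperty.of_isPullback (P := @IsClosedImmersion) hp.flip hc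
  · have : Surjective (𝔛.ι n) := MorphismProperty.of_isPullback (P := @Surjective) hp.flip hs
    exact this.surj

theorem isAdic_of_isAdicHom (hf : FSch.IsAdicHom f) (h : 𝔖.IsFormal) (hA : 𝔖.IsAdic) :
    𝔛.IsAdic := by
  intro n
  have hc := (h n).1
  have hc' := isClosedImmersion_toX h (n + 1)
  rw [ker_eq_comap_of_isPullback (hf n), ker_eq_comap_of_isPullback (isPullback_toX f hf (n + 1)),
    hA n, Groth.Agent.H93.IdealComap.comap_pow]

end Groth.Agent.H93.SysPull
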