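import Groth.Agent.H93.ThickAff
import Mathlib.AlgebraicGeometry.QuasiAffine
import Mathlib.Algebra.Ring.GeomSum

/-!
# A thickening of a quasi-affine scheme is quasi-affine
-/

set_option autoImplicit false
universe u

namespace Groth.Agent.H93.ThickQAff

open AlgebraicGeometry CategoryTheory CategoryTheory.Limits TopologicalSpace Opposite
open Groth.Agent.H93.ThickAff

theorem affineOpen_of_preimage {Z X : Scheme.{u}} (i : Z ⟶ X) [IsClosedImmersion i]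
    (hs : Function.Surjective i.base) (V : X.Opens) (h : IsAffineOpen (i ⁻¹ᵁ V)) :
    IsAffineOpen V := by
  have : IsAffine (i ⁻¹ᵁ V).toScheme := h
  have hsurj : Function.Surjective (i ∣_ V).base := by
    rintro ⟨y, hy⟩
    obtain ⟨x, rfl⟩ := hs y
    exact ⟨⟨x, hy⟩, Subtype.ext (morphismRestrict_base_coe i V ⟨x, hy⟩)⟩
  exact ThickAff.main (i ∣_ V) hsurj

set_option maxHeartbeats 1600000 in
theorem half_core {Z X : Scheme.{u}} (t : Z ⟶ X) [IsClosedImmersion t]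
    (ht : Function.Surjective t.base) (W : X.Opens) (aW : IsAffineOpen W) (U₂ : Γ(X, W))
    (D : X.Opens) (hD : D = X.basicOpen U₂) (hDW : D ≤ W) (ξ : Γ(X, D))
    (hξ : t.app D ξ = t.app D (X.presheaf.map (homOfLE hDW).op U₂)) :
    ∃ N : ℕ, ∀ j, N ≤ j → ∃ y : Γ(X, W),
      X.presheaf.map (homOfLE hDW).op y = ξ ^ j ∧ t.app W y = (t.app W U₂) ^ j := by
  subst hD
  have hloc := aW.isLocalization_basicOpen U₂
  have halg : ∀ y : Γ(X, W), algebraMap Γ(X, W) Γ(X, X.basicOpen U₂) y =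
      X.presheaf.map (homOfLE hDW).op y := fun y => rfl
  obtain ⟨n, b, hb⟩ := IsLocalization.Away.surj U₂
    (ξ - algebraMap Γ(X, W) Γ(X, X.basicOpen U₂) U₂)
  have hν0 : t.app (X.basicOpen U₂) (ξ - algebraMap Γ(X, W) Γ(X, X.basicOpen U₂) U₂) = 0 := by
    rw [map_sub, halg, hξ, sub_self]
  have key : Z.presheaf.map (homOfLE (t.preimage_mono hDW)).op (t.app W b) = 0 := by
    rw [← app_res t hDW, ← halg, ← hb, map_mul, hν0, zero_mul]
  have e : Z.basicOpen (t.app W U₂) = t ⁻¹ᵁ X.basicOpen U₂ :=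
    (Scheme.preimage_basicOpen t U₂).symm
  have H : Z.presheaf.map (homOfLE (Z.basicOpen_le (t.app W U₂))).op (t.app W b) = 0 := by
    have := congrArg (Z.presheaf.map (homOfLE e.le).op) key
    rwa [res_res, map_zero] at this
  obtain ⟨r, hr⟩ := exists_pow_mul_eq_zero_of_res_basicOpen_eq_zero_of_isAffineOpen Z
    (aW.preimage t) (t.app W b) (t.app W U₂) H
  have hw : U₂ ^ r * b ∈ RingHom.ker (t.app W).hom := by
    rw [RingHom.mem_ker]
    change t.app W (U₂ ^ r * b) = 0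
    rw [map_mul, map_pow]
    exact hr
  have hm : algebraMap Γ(X, W) Γ(X, X.basicOpen U₂) U₂ ^ (n + r) *
      (ξ - algebraMap Γ(X, W) Γ(X, X.basicOpen U₂) U₂) =
      algebraMap Γ(X, W) Γ(X, X.basicOpen U₂) (U₂ ^ r * b) := by
    rw [map_mul, map_pow, ← hb]
    ring
  obtain ⟨N, hN⟩ := ring_half (R := Γ(X, W)) (S := Γ(X, X.basicOpen U₂))
    (RingHom.ker (t.app W).hom)
    (fun x hx => nil_of_app t ht aW.isCompact x (RingHom.mem_ker.mp hx))
    U₂ 0 (IsLocalization.Away.algebraMap_isUnit U₂) _ _ hw (n + r) hm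
  refine ⟨N, fun j hj => ?_⟩
  obtain ⟨z, hz, e'⟩ := hN j hj 0
  rw [add_sub_cancel, pow_zero, mul_one, pow_zero, mul_one] at e'
  have hz0 : t.app W z = 0 := RingHom.mem_ker.mp hz
  refine ⟨U₂ ^ j + z, ?_, ?_⟩
  · rw [← halg, ← e']
  · rw [map_add, hz0, add_zero, map_pow]

section induction

variable {Z X : Scheme.{u}} (i : Z ⟶ X) [IsClosedImmersion i]
  (hs : Function.Surjective i.base) [QuasiSeparatedSpace X]
  (g : Γ(Z, ⊤)) (T : X.Opens) (hT : i ⁻¹ᵁ T = Z.basicOpen g) (G : Γ(X, T))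
  (hG : i.app T G = Z.presheaf.map (homOfLE (le_top : i ⁻¹ᵁ T ≤ ⊤)).op g)

/-- The inductive statement. -/
def Q (Ω : X.Opens) : Prop :=
  ∃ N : ℕ, 1 ≤ N ∧ ∃ r : Γ(X, Ω),
    i.app Ω r = (Z.presheaf.map (homOfLE (le_top : i ⁻¹ᵁ Ω ≤ ⊤)).op g) ^ N ∧
    X.presheaf.map (homOfLE (inf_le_left : Ω ⊓ T ≤ Ω)).op r =
      (X.presheaf.map (homOfLE (inf_le_right : Ω ⊓ T ≤ T)).op G) ^ N

include hs hT hG in
set_option maxHeartbeats 3200000 in
theorem step (Ω : X.Opens) (hΩ : IsCompact (Ω : Set X)) (W : X.affineOpens)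
    (h : Q i g T G Ω) : Q i g T G (Ω ⊔ W.1) := by
  obtain ⟨N₁, hN₁, r, hr1, hr2⟩ := h
  obtain ⟨U₂, hU₂⟩ := i.app_surjective W.1 W.2
    (Z.presheaf.map (homOfLE (le_top : i ⁻¹ᵁ W.1 ≤ ⊤)).op g)
  have hD : W.1 ⊓ T = X.basicOpen U₂ := by
    apply op_inj' i hs
    rw [Scheme.preimage_basicOpen, hU₂, Scheme.basicOpen_res, Scheme.Hom.preimage_inf, hT]
  have hξ : i.app (W.1 ⊓ T) (X.presheaf.map (homOfLE (inf_le_right : W.1 ⊓ T ≤ T)).op G) =
      i.app (W.1 ⊓ T) (X.presheaf.map (homOfLE (inf_le_left : W.1 ⊓ T ≤ W.1)).op U₂) := by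
    rw [app_res, app_res, hG, hU₂, res_res, res_res]
  obtain ⟨N₀, hN₀⟩ := half_core i hs W.1 W.2 U₂ (W.1 ⊓ T) hD inf_le_left _ hξ
  obtain ⟨k, hk⟩ : ∃ k : ℕ, k = N₀ + 1 := ⟨_, rfl⟩
  have hj : N₀ ≤ N₁ * k := by
    calc N₀ ≤ k := by omega
      _ = 1 * k := (one_mul k).symm
      _ ≤ N₁ * k := Nat.mul_le_mul_right k hN₁
  have hj1 : 1 ≤ N₁ * k := Nat.mul_pos hN₁ (by omega)
  obtain ⟨y, hy1, hy2⟩ := hN₀ (N₁ * k) hj
  rw [hU₂] at hy2
  have hr1' : i.app Ω (r ^ k) =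
      (Z.presheaf.map (homOfLE (le_top : i ⁻¹ᵁ Ω ≤ ⊤)).op g) ^ (N₁ * k) := by
    rw [map_pow, hr1, ← pow_mul]
  have hr2' : X.presheaf.map (homOfLE (inf_le_left : Ω ⊓ T ≤ Ω)).op (r ^ k) =
      (X.presheaf.map (homOfLE (inf_le_right : Ω ⊓ T ≤ T)).op G) ^ (N₁ * k) := by
    rw [map_pow, hr2, ← pow_mul]
  -- basic opens of `y` and `r ^ k`
  have hby : X.basicOpen y = W.1 ⊓ T := by
    apply op_inj' i hs
    rw [Scheme.preimage_basicOpen, hy2, Scheme.basicOpen_pow _ _ hj1, Scheme.basicOpen_res,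
      Scheme.Hom.preimage_inf, hT]
  have hbr : X.basicOpen (r ^ k) = Ω ⊓ T := by
    apply op_inj' i hs
    rw [Scheme.preimage_basicOpen, hr1', Scheme.basicOpen_pow _ _ hj1, Scheme.basicOpen_res,
      Scheme.Hom.preimage_inf, hT]
  have hc : IsCompact ((Ω ⊓ W.1 : X.Opens) : Set X) :=
    QuasiSeparatedSpace.inter_isCompact _ _ Ω.2 hΩ W.1.2 W.2.isCompact
  -- the difference vanishes on `Ω ⊓ W ⊓ T`
  have hE : ∀ (E : X.Opens) (hE1 : E ≤ Ω ⊓ W.1) (hE2 : E ≤ T),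
      X.presheaf.map (homOfLE hE1).op
        (X.presheaf.map (homOfLE (inf_le_left : Ω ⊓ W.1 ≤ Ω)).op (r ^ k) -
          X.presheaf.map (homOfLE (inf_le_right : Ω ⊓ W.1 ≤ W.1)).op y) = 0 := by
    intro E hE1 hE2
    have e1 : X.presheaf.map (homOfLE (hE1.trans inf_le_left)).op (r ^ k) =
        (X.presheaf.map (homOfLE hE2).op G) ^ (N₁ * k) := by
      rw [← res_res X (le_inf (hE1.trans inf_le_left) hE2 : E ≤ Ω ⊓ T) inf_le_left, hr2',
        map_pow, res_res]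
    have e2 : X.presheaf.map (homOfLE (hE1.trans inf_le_right)).op y =
        (X.presheaf.map (homOfLE hE2).op G) ^ (N₁ * k) := by
      rw [← res_res X (le_inf (hE1.trans inf_le_right) hE2 : E ≤ W.1 ⊓ T) inf_le_left, hy1,
        map_pow, res_res]
    rw [map_sub, res_res, res_res, e1, e2, sub_self]
  obtain ⟨R₁, hR₁⟩ := exists_pow_mul_eq_zero_of_res_basicOpen_eq_zero_of_isCompact X hc
    (X.presheaf.map (homOfLE (inf_le_left : Ω ⊓ W.1 ≤ Ω)).op (r ^ k) -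
      X.presheaf.map (homOfLE (inf_le_right : Ω ⊓ W.1 ≤ W.1)).op y)
    (X.presheaf.map (homOfLE (inf_le_right : Ω ⊓ W.1 ≤ W.1)).op y)
    (hE _ (X.basicOpen_le _) (by
      rw [Scheme.basicOpen_res, hby]
      exact inf_le_right.trans inf_le_right))
  obtain ⟨R₂, hR₂⟩ := exists_pow_mul_eq_zero_of_res_basicOpen_eq_zero_of_isCompact X hc
    (X.presheaf.map (homOfLE (inf_le_left : Ω ⊓ W.1 ≤ Ω)).op (r ^ k) -
      X.presheaf.map (homOfLE (inf_le_right : Ω ⊓ W.1 ≤ W.1)).op y)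
    (X.presheaf.map (homOfLE (inf_le_left : Ω ⊓ W.1 ≤ Ω)).op (r ^ k))
    (hE _ (X.basicOpen_le _) (by
      rw [Scheme.basicOpen_res, hbr]
      exact inf_le_right.trans inf_le_right))
  -- equal powers
  have hpow : (X.presheaf.map (homOfLE (inf_le_left : Ω ⊓ W.1 ≤ Ω)).op (r ^ k)) ^ (R₁ + R₂ + 1) =
      (X.presheaf.map (homOfLE (inf_le_right : Ω ⊓ W.1 ≤ W.1)).op y) ^ (R₁ + R₂ + 1) := by
    rw [← sub_eq_zero, ← geom_sum₂_mul, Finset.sum_mul]
    apply Finset.sum_eq_zero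
    intro a ha
    have ha' := Finset.mem_range.mp ha
    by_cases hcase : R₂ ≤ a
    · have : (X.presheaf.map (homOfLE (inf_le_left : Ω ⊓ W.1 ≤ Ω)).op (r ^ k)) ^ a =
          (X.presheaf.map (homOfLE (inf_le_left : Ω ⊓ W.1 ≤ Ω)).op (r ^ k)) ^ (a - R₂) *
          (X.presheaf.map (homOfLE (inf_le_left : Ω ⊓ W.1 ≤ Ω)).op (r ^ k)) ^ R₂ := by
        rw [← pow_add, Nat.sub_add_cancel hcase]
      rw [this, mul_assoc, mul_assoc, mul_left_comm _ (_ ^ (R₁ + R₂ + 1 - 1 - a)), hR₂, mul_zero,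
        mul_zero]
    · have hb : R₁ ≤ R₁ + R₂ + 1 - 1 - a := by omega
      have : (X.presheaf.map (homOfLE (inf_le_right : Ω ⊓ W.1 ≤ W.1)).op y) ^
          (R₁ + R₂ + 1 - 1 - a) =
          (X.presheaf.map (homOfLE (inf_le_right : Ω ⊓ W.1 ≤ W.1)).op y) ^
            (R₁ + R₂ + 1 - 1 - a - R₁) *
          (X.presheaf.map (homOfLE (inf_le_right : Ω ⊓ W.1 ≤ W.1)).op y) ^ R₁ := by
        rw [← pow_add, Nat.sub_add_cancel hb]
      rw [this, mul_assoc, mul_assoc, hR₁, mul_zero, mul_zero]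
  obtain ⟨s, hs1, hs2⟩ := glue₂ X Ω W.1 (Ω ⊓ W.1) inf_le_left inf_le_right le_rfl
    ((r ^ k) ^ (R₁ + R₂ + 1)) (y ^ (R₁ + R₂ + 1)) (by rw [map_pow _ (r ^ k) (R₁ + R₂ + 1), map_pow _ y (R₁ + R₂ + 1)]; exact hpow)
  refine ⟨N₁ * k * (R₁ + R₂ + 1), Nat.mul_pos hj1 (by omega), s, ?_, ?_⟩
  · refine Z.sheaf.eq_of_locally_eq₂ (homOfLE (i.preimage_mono le_sup_left))
      (homOfLE (i.preimage_mono le_sup_right)) le_rfl _ _ ?_ ?_
    · show Z.presheaf.map (homOfLE (i.preimage_mono le_sup_left)).op (i.app (Ω ⊔ W.1) s) =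
        Z.presheaf.map (homOfLE (i.preimage_mono le_sup_left)).op
          ((Z.presheaf.map (homOfLE (le_top : i ⁻¹ᵁ (Ω ⊔ W.1) ≤ ⊤)).op g) ^
            (N₁ * k * (R₁ + R₂ + 1)))
      rw [← app_res i le_sup_left, hs1, map_pow, hr1', map_pow, res_res, ← pow_mul]
    · show Z.presheaf.map (homOfLE (i.preimage_mono le_sup_right)).op (i.app (Ω ⊔ W.1) s) =
        Z.presheaf.map (homOfLE (i.preimage_mono le_sup_right)).op
          ((Z.presheaf.map (homOfLE (le_top : i ⁻¹ᵁ (Ω ⊔ W.1) ≤ ⊤)).op g) ^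
            (N₁ * k * (R₁ + R₂ + 1)))
      rw [← app_res i le_sup_right, hs2, map_pow, hy2, map_pow, res_res, ← pow_mul]
  · refine X.sheaf.eq_of_locally_eq₂
      (homOfLE (inf_le_inf_right T le_sup_left : Ω ⊓ T ≤ (Ω ⊔ W.1) ⊓ T))
      (homOfLE (inf_le_inf_right T le_sup_right : W.1 ⊓ T ≤ (Ω ⊔ W.1) ⊓ T))
      (by rw [inf_sup_right]) _ _ ?_ ?_
    · show X.presheaf.map (homOfLE (inf_le_inf_right T le_sup_left)).op
          (X.presheaf.map (homOfLE (inf_le_left : (Ω ⊔ W.1) ⊓ T ≤ Ω ⊔ W.1)).op s) =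
        X.presheaf.map (homOfLE (inf_le_inf_right T le_sup_left)).op
          ((X.presheaf.map (homOfLE (inf_le_right : (Ω ⊔ W.1) ⊓ T ≤ T)).op G) ^
            (N₁ * k * (R₁ + R₂ + 1)))
      rw [res_res, ← res_res X (inf_le_left : Ω ⊓ T ≤ Ω) le_sup_left, hs1, map_pow, hr2',
        map_pow, res_res, ← pow_mul]
    · show X.presheaf.map (homOfLE (inf_le_inf_right T le_sup_right)).op
          (X.presheaf.map (homOfLE (inf_le_left : (Ω ⊔ W.1) ⊓ T ≤ Ω ⊔ W.1)).op s) =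
        X.presheaf.map (homOfLE (inf_le_inf_right T le_sup_right)).op
          ((X.presheaf.map (homOfLE (inf_le_right : (Ω ⊔ W.1) ⊓ T ≤ T)).op G) ^
            (N₁ * k * (R₁ + R₂ + 1)))
      rw [res_res, ← res_res X (inf_le_left : W.1 ⊓ T ≤ W.1) le_sup_right, hs2, map_pow, hy1,
        map_pow, res_res, ← pow_mul]

end induction

theorem subsingleton_of_eq_bot {X : Scheme.{u}} (U : X.Opens) (h : U = ⊥) :
    Subsingleton Γ(X, U) := by
  subst h
  infer_instance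

set_option maxHeartbeats 1600000 in
theorem lift_pow {Z X : Scheme.{u}} (i : Z ⟶ X) [IsClosedImmersion i]
    (hi : IsHomeomorph i.base) [CompactSpace X] [QuasiSeparatedSpace X] (g : Γ(Z, ⊤))
    (hg : IsAffineOpen (Z.basicOpen g)) :
    ∃ N : ℕ, 1 ≤ N ∧ ∃ r : Γ(X, ⊤), i.appTop r = g ^ N := by
  have hs : Function.Surjective i.base := hi.surjective
  obtain ⟨T, hT⟩ : ∃ T : X.Opens, i ⁻¹ᵁ T = Z.basicOpen g := by
    refine ⟨⟨i.base '' (Z.basicOpen g : Set Z), hi.isOpenMap _ (Z.basicOpen g).2⟩, ?_⟩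
    ext z
    constructor
    · rintro ⟨z', hz', e⟩
      rwa [← hi.injective e]
    · intro hz
      exact ⟨z, hz, rfl⟩
  have aT : IsAffineOpen T := affineOpen_of_preimage i hs T (hT ▸ hg)
  obtain ⟨G, hG⟩ := i.app_surjective T aT
    (Z.presheaf.map (homOfLE (le_top : i ⁻¹ᵁ T ≤ ⊤)).op g)
  have hQ : Q i g T G ⊤ := by
    refine compact_open_induction_on (P := Q i g T G) ⊤ isCompact_univ ?_
      (fun S hS U h => step i hs g T hT G hG S hS U h)
    have h1 : Subsingleton Γ(Z, i ⁻¹ᵁ (⊥ : X.Opens)) := subsingleton_of_eq_bot _ rfl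
    have h2 : Subsingleton Γ(X, (⊥ : X.Opens) ⊓ T) := subsingleton_of_eq_bot _ (bot_inf_eq _)
    exact ⟨1, le_rfl, 0, Subsingleton.elim _ _, Subsingleton.elim _ _⟩
  obtain ⟨N, hN, r, hr1, -⟩ := hQ
  refine ⟨N, hN, r, ?_⟩
  have hid : Z.presheaf.map (homOfLE (le_top : i ⁻¹ᵁ (⊤ : X.Opens) ≤ ⊤)).op g = g := by
    change (Z.presheaf.map (𝟙 (op (⊤ : Z.Opens)))) g = g
    rw [Z.presheaf.map_id]
    rfl
  rw [hid] at hr1
  exact hr1

theorem qaff {Z X : Scheme.{u}} (i : Z ⟶ X) [IsClosedImmersion i] (hi : IsHomeomorph i.base) :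
    X.IsQuasiAffine ↔ Z.IsQuasiAffine := by
  constructor
  · intro h
    exact Scheme.IsQuasiAffine.of_isAffineHom i
  · intro h
    have hcX : CompactSpace X := hi.homeomorph.compactSpace
    have hqZ : QuasiSeparatedSpace Z :=
      QuasiSeparatedSpace.of_isOpenEmbedding Z.toSpecΓ.isOpenEmbedding
    have hqX : QuasiSeparatedSpace X :=
      QuasiSeparatedSpace.of_isOpenEmbedding hi.homeomorph.symm.isOpenEmbedding
    refine Scheme.IsQuasiAffine.of_forall_exists_mem_basicOpen X fun x => ?_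
    obtain ⟨z, rfl⟩ := hi.surjective x
    obtain ⟨_, ⟨g, hg, rfl⟩, hzg, -⟩ := Opens.isBasis_iff_nbhd.mp
      (Scheme.IsQuasiAffine.isBasis_basicOpen Z) (Opens.mem_top z)
    obtain ⟨N, hN, r, hr⟩ := lift_pow i hi g hg
    have hpre : i ⁻¹ᵁ (X.basicOpen r) = Z.basicOpen g := by
      rw [Scheme.preimage_basicOpen_top, hr, Scheme.basicOpen_pow _ _ hN]
    refine ⟨r, ?_, ?_⟩
    · apply affineOpen_of_preimage i hi.surjective
      rw [hpre]
      exact hg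
    · have : z ∈ i ⁻¹ᵁ (X.basicOpen r) := by rw [hpre]; exact hzg
      exact this

end Groth.Agent.H93.ThickQAff
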