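import Groth.Agent.H93.SysNil
import Mathlib.AlgebraicGeometry.Morphisms.Proper

/-!
# Separatedness / properness descend along surjective closed immersions of the source
-/

set_option autoImplicit false
universe u

namespace Groth.Agent.H93.ThickSep

open AlgebraicGeometry CategoryTheory CategoryTheory.Limits

theorem separated_of_comp {Y₀ Y X : Scheme.{u}} (i : Y₀ ⟶ Y) (F : Y ⟶ X) [IsClosedImmersion i]
    (hs : Function.Surjective i.base) [IsSeparated (i ≫ F)] : IsSeparated F := by
  rw [isSeparated_iff, IsClosedImmersion.iff_isPreimmersion]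
  refine ⟨inferInstance, ?_⟩
  have hr : IsClosedImmersion (pullback.map (i ≫ F) (i ≫ F) F F i i (𝟙 X)
      ((Category.comp_id _).trans rfl) ((Category.comp_id _).trans rfl)) :=
    MorphismProperty.pullbackMap (P := @IsClosedImmersion) (f := i ≫ F) (g := i ≫ F)
      (f' := F) (g' := F) (i₁ := i) (i₂ := i) inferInstance inferInstance rfl rfl
  have e : pullback.diagonal (i ≫ F) ≫ pullback.map (i ≫ F) (i ≫ F) F F i i (𝟙 X)
      ((Category.comp_id _).trans rfl) ((Category.comp_id _).trans rfl) =
      i ≫ pullback.diagonal F := by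
    apply pullback.hom_ext
    · rw [Category.assoc, pullback.lift_fst, pullback.diagonal_fst_assoc, Category.assoc,
        pullback.diagonal_fst, Category.comp_id]
    · rw [Category.assoc, pullback.lift_snd, pullback.diagonal_snd_assoc, Category.assoc,
        pullback.diagonal_snd, Category.comp_id]
  have hrange : Set.range (pullback.diagonal F).base =
      (pullback.map (i ≫ F) (i ≫ F) F F i i (𝟙 X)
      ((Category.comp_id _).trans rfl) ((Category.comp_id _).trans rfl)).base ''
        Set.range (pullback.diagonal (i ≫ F)).base := by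
    rw [← Set.range_comp]
    have h1 : ⇑(pullback.map (i ≫ F) (i ≫ F) F F i i (𝟙 X)
        ((Category.comp_id _).trans rfl) ((Category.comp_id _).trans rfl)).base ∘
        ⇑(pullback.diagonal (i ≫ F)).base = ⇑(i ≫ pullback.diagonal F).base := by
      rw [← e]
      rfl
    rw [h1]
    have h2 : ⇑(i ≫ pullback.diagonal F).base = ⇑(pullback.diagonal F).base ∘ ⇑i.base := rfl
    rw [h2, Set.range_comp, hs.range_eq, Set.image_univ]
  rw [hrange]
  exact (Scheme.Hom.isClosedEmbedding _).isClosedMap _
    (Scheme.Hom.isClosedEmbedding (pullback.diagonal (i ≫ F))).isClosed_range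

theorem proper_of_comp {Y₀ Y X : Scheme.{u}} (i : Y₀ ⟶ Y) (F : Y ⟶ X) [IsClosedImmersion i]
    (hs : Function.Surjective i.base) [IsProper (i ≫ F)] [LocallyOfFiniteType F] : IsProper F := by
  have : Surjective i := ⟨hs⟩
  have h1 : IsSeparated F := separated_of_comp i F hs
  have h2 : UniversallyClosed F := UniversallyClosed.of_comp_surjective i F
  exact { }

variable {𝔛 𝔜 : FSch.Sys.{u}} (f : 𝔛 ⟶ 𝔜)

theorem proper_level (h𝔛F : 𝔛.IsFormal) (h𝔜F : 𝔜.IsFormal) (h𝔜A : 𝔜.IsAdic)
    (hf : FSch.IsAdicHom f)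
    [IsProper ((f : FSch.Hom 𝔛 𝔜).app 0)] (n : ℕ) : IsProper ((f : FSch.Hom 𝔛 𝔜).app n) := by
  have hc := SysPull.isPullback_toX f hf n
  have := SysPull.isClosedImmersion_toX h𝔜F n
  have := SysPull.isClosedImmersion_toX h𝔛F n
  have hlft : LocallyOfFiniteType ((f : FSch.Hom 𝔛 𝔜).app n) := SysNil.lft_level f h𝔜F h𝔜A hf n
  have hp : IsProper (𝔛.toX n ≫ (f : FSch.Hom 𝔛 𝔜).app n) := by
    rw [hc.w]
    infer_instance
  exact proper_of_comp (𝔛.toX n) _ (SysNil.toX_surj 𝔛 h𝔛F n)

end Groth.Agent.H93.ThickSep
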