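import Groth.Agent.H93.MultRigid

/-!
# H93/Transl: the translation action of `G` on a group `X` through a homomorphism `f : G ⟶ X`,
and the affine form of rigidity of homomorphisms from a diagonalisable group.
-/

set_option autoImplicit false
universe u
open CategoryTheory CategoryTheory.Limits MonoidalCategory CartesianMonoidalCategory MonObj GrpObj AlgebraicGeometry

namespace Groth.Agent.H93.Transl
open Groth.Agent.H1.SplitTori Groth.Agent.H93.MultRigid

section Tr
variable {S : Scheme.{u}} {G X : Over S} [GrpObj G] [GrpObj X] (f : G ⟶ X) [IsMonHom f]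

/-- `(g, x) ↦ f(g) x`. -/
noncomputable def trMor : G ⊗ X ⟶ X := (fst G X ≫ f) * snd G X

omit [GrpObj G] [IsMonHom f] in
theorem comp_trMor {T : Over S} (t : T ⟶ G ⊗ X) :
    t ≫ trMor f = ((t ≫ fst G X) ≫ f) * (t ≫ snd G X) := by
  simp only [trMor, MonObj.comp_mul, Category.assoc]

theorem trMor_one : (η[G] ▷ X) ≫ trMor f = (λ_ X).hom := by
  rw [comp_trMor, whiskerRight_fst, whiskerRight_snd, Category.assoc, IsMonHom.one_hom]
  have h1 : fst (𝟙_ (Over S)) X ≫ η[X] = 1 := by
    rw [Hom.one_def]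
    congr 1
  rw [h1, _root_.one_mul, leftUnitor_hom]

theorem trMor_mul :
    (μ[G] ▷ X) ≫ trMor f = (α_ G G X).hom ≫ (G ◁ trMor f) ≫ trMor f := by
  have hμ : μ[G] = fst G G * snd G G := by
    rw [Hom.mul_def, lift_fst_snd, Category.id_comp]
  have e1 : ((μ[G] ▷ X) ≫ fst G X) ≫ f =
      ((fst (G ⊗ G) X ≫ fst G G) ≫ f) * ((fst (G ⊗ G) X ≫ snd G G) ≫ f) := by
    rw [whiskerRight_fst, hμ, MonObj.comp_mul, MonObj.mul_comp]
  have e2 : (((α_ G G X).hom ≫ (G ◁ trMor f)) ≫ fst G X) ≫ f =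
      (fst (G ⊗ G) X ≫ fst G G) ≫ f := by
    simp only [Category.assoc, whiskerLeft_fst_assoc, associator_hom_fst_assoc]
  have e3 : ((α_ G G X).hom ≫ (G ◁ trMor f)) ≫ snd G X =
      ((fst (G ⊗ G) X ≫ snd G G) ≫ f) * snd (G ⊗ G) X := by
    rw [Category.assoc, whiskerLeft_snd, ← Category.assoc, comp_trMor]
    simp only [Category.assoc, associator_hom_snd_fst, associator_hom_snd_snd]
  rw [comp_trMor, e1, whiskerRight_snd, ← Category.assoc, comp_trMor, e2, e3, _root_.mul_assoc]

/-- the translation action of `G` on `X` through `f`. -/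
noncomputable def trAct : AlgGrp.Action G X where
  act := trMor f
  one_act := trMor_one f
  mul_act := trMor_mul f

end Tr

/-- the ideal of `Spec (R ⧸ I) ⟶ Spec R` is nilpotent when `I` is. -/
theorem hnil_quot (R : Type u) [CommRing R] (I : Ideal R) (hI : IsNilpotent I) :
    ∀ x : Spec (CommRingCat.of R), ∃ U : (Spec (CommRingCat.of R)).affineOpens,
      x ∈ (U : (Spec (CommRingCat.of R)).Opens) ∧
      IsNilpotent ((Spec.map (CommRingCat.ofHom (Ideal.Quotient.mk I))).ker.ideal U) := by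
  intro x
  refine ⟨⟨⊤, isAffineOpen_top _⟩, trivial, ?_⟩
  rw [Groth.Agent.H93.IdealComap.ideal_top_ker]
  obtain ⟨n, hn⟩ := hI
  refine ⟨n, ?_⟩
  have hle : RingHom.ker (Spec.map (CommRingCat.ofHom (Ideal.Quotient.mk I))).appTop.hom ≤
      I.comap (Scheme.ΓSpecIso (CommRingCat.of R)).hom.hom := by
    intro z hz
    rw [RingHom.mem_ker] at hz
    rw [Ideal.mem_comap]
    have hnat := Scheme.ΓSpecIso_naturality (CommRingCat.ofHom (Ideal.Quotient.mk I))
    have h1 := congrArg (fun ψ => ψ.hom z) hnat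
    simp only [CommRingCat.hom_comp, RingHom.comp_apply] at h1
    rw [hz, map_zero] at h1
    exact Ideal.Quotient.eq_zero_iff_mem.mp h1.symm
  have h2 : (I.comap (Scheme.ΓSpecIso (CommRingCat.of R)).hom.hom) ^ n ≤ ⊥ := by
    refine (Ideal.le_comap_pow _ n).trans ?_
    rw [hn]
    intro z hz
    rw [Ideal.mem_comap] at hz
    have hz' : (Scheme.ΓSpecIso (CommRingCat.of R)).hom.hom z = 0 := hz
    have h3 := congrArg (Scheme.ΓSpecIso (CommRingCat.of R)).inv.hom hz'
    rw [map_zero] at h3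
    rw [Ideal.mem_bot, ← h3]
    simp
  exact le_bot_iff.mp ((Ideal.pow_right_mono hle n).trans h2)

section Rigid

theorem homEquiv_one {S S' : Scheme.{u}} (f : S' ⟶ S) {G : Over S} [GrpObj G] (T' : Over S') :
    (Over.mapPullbackAdj f).homEquiv T' G (1 : (Over.map f).obj T' ⟶ G) = 1 := by
  have h := AlgGrp.Action.homEquiv_mul (f := f) (G := G) (T' := T')
    (1 : (Over.map f).obj T' ⟶ G) 1
  rw [_root_.mul_one] at h
  refine (mul_left_cancel (a := (Over.mapPullbackAdj f).homEquiv T' G 1) ?_).symm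
  rw [_root_.mul_one]
  exact h

/-- a homomorphism from a diagonalisable group which is trivial modulo a locally nilpotent ideal
is trivial. -/
theorem hom_eq_one_of_nil {S S₀ : Scheme.{u}} (i₀ : S₀ ⟶ S) [IsClosedImmersion i₀]
    (hnil : ∀ x : S, ∃ U : S.affineOpens, x ∈ (U : S.Opens) ∧ IsNilpotent (i₀.ker.ideal U))
    {G X : Over S} [GrpObj G] [GrpObj X] {M : Type} [AddCommGroup M]
    (e : G ≅ Red.DS S M) [IsMonHom e.hom] (f : G ⟶ X) [IsMonHom f]
    (h : (Over.pullback i₀).map f = 1) : f = 1 := by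
  have h0 : ∀ (Y : Over S) (p : Y ⟶ Over.mk i₀) (g : Y ⟶ G) (x : Y ⟶ X),
      lift g x ≫ (trAct f).act = x := by
    intro Y p g x
    show lift g x ≫ trMor f = x
    rw [comp_trMor, lift_fst, lift_snd]
    have hgf : g ≫ f = 1 := by
      let Y' : Over S₀ := Over.mk p.left
      let j : (Over.map i₀).obj Y' ≅ Y := Over.isoMk (Iso.refl Y.left) (by
        show 𝟙 Y.left ≫ Y.hom = p.left ≫ i₀
        rw [Category.id_comp]
        exact (Over.w p).symm)
      have h1 : (Over.mapPullbackAdj i₀).homEquiv Y' X ((j.hom ≫ g) ≫ f) =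
          (Over.mapPullbackAdj i₀).homEquiv Y' X 1 := by
        rw [Adjunction.homEquiv_naturality_right, h, MonObj.comp_one, homEquiv_one]
      have h2 := ((Over.mapPullbackAdj i₀).homEquiv Y' X).injective h1
      rw [← cancel_epi j.hom, ← Category.assoc, h2, MonObj.comp_one]
    rw [hgf, _root_.one_mul]
  have hcore := core i₀ e (trAct f) hnil h0
  have h2 : lift (𝟙 G) (1 : G ⟶ X) ≫ trMor f = lift (𝟙 G) (1 : G ⟶ X) ≫ snd G X :=
    congrArg (fun z => lift (𝟙 G) (1 : G ⟶ X) ≫ z) hcore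
  rw [comp_trMor, lift_fst, lift_snd, Category.id_comp, _root_.mul_one] at h2
  exact h2

end Rigid

end Groth.Agent.H93.Transl
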