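import Mathlib
import Groth.Agent.H93.Transp3
import Groth.Agent.H30.ShQuot2

/-!
# Centralisers of morphisms into a separated group scheme over a field are closed subgroup schemes
-/

set_option autoImplicit false
universe u

namespace Groth.Agent.H93.Transp

open CategoryTheory CategoryTheory.Limits AlgebraicGeometry MonoidalCategory
  CartesianMonoidalCategory
open scoped MonObj

section CommP

variable {C : Type*} [Category C] [CartesianMonoidalCategory C] {G X : C} [GrpObj G]

/-- `c` commutes with all points of `X` (mapped to `G` by `u`), universally. -/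
def CommP (u : X ⟶ G) {T : C} (c : T ⟶ G) : Prop :=
  ∀ (T' : C) (s : T' ⟶ T) (x : T' ⟶ X), (s ≫ c) * (x ≫ u) = (x ≫ u) * (s ≫ c)

lemma CommP.mul {u : X ⟶ G} {T : C} {a b : T ⟶ G} (ha : CommP u a) (hb : CommP u b) :
    CommP u (a * b) := fun T' s x => by
  rw [MonObj.comp_mul]
  exact (Commute.mul_left (show Commute (s ≫ a) (x ≫ u) from ha T' s x)
    (show Commute (s ≫ b) (x ≫ u) from hb T' s x)).eq

lemma CommP.inv {u : X ⟶ G} {T : C} {a : T ⟶ G} (ha : CommP u a) : CommP u a⁻¹ :=
  fun T' s x => by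
  rw [GrpObj.comp_inv]
  exact (Commute.inv_left (show Commute (s ≫ a) (x ≫ u) from ha T' s x)).eq

lemma CommP.one {u : X ⟶ G} {T : C} : CommP u (1 : T ⟶ G) := fun T' s x => by
  rw [MonObj.comp_one]
  exact (Commute.one_left _).eq

end CommP

variable {K : Type u} [Field K]

/-- A closed subscheme of a group scheme whose points form a subgroup of the points of the group
carries a group structure for which the inclusion is a homomorphism. -/
theorem exists_grpObj_of_closedRep {G W : Over (Spec (CommRingCat.of K))} [GrpObj G]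
    (incl : W ⟶ G) [IsClosedImmersion incl.left]
    (F : ∀ ⦃T : Over (Spec (CommRingCat.of K))⦄, (T ⟶ G) → Prop)
    (H : ∀ (T : Over (Spec (CommRingCat.of K))) (c : T ⟶ G), (∃ z : T ⟶ W, z ≫ incl = c) ↔ F c)
    (hmul : ∀ ⦃T : Over (Spec (CommRingCat.of K))⦄ (a b : T ⟶ G), F a → F b → F (a * b))
    (hinv : ∀ ⦃T : Over (Spec (CommRingCat.of K))⦄ (a : T ⟶ G), F a → F a⁻¹)
    (hone : F (1 : 𝟙_ (Over (Spec (CommRingCat.of K))) ⟶ G)) :
    ∃ str : GrpObj W, @IsMonHom _ _ _ W G str.toMonObj _ incl ∧ Mono incl := by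
  have hmono : Mono incl := by
    have : Mono ((Over.forget _).map incl) := by
      show Mono incl.left
      infer_instance
    exact (Over.forget _).mono_of_mono_map this
  obtain ⟨str, hstr⟩ := Groth.Agent.H30.ShQuot.exists_grpObj_of_closed incl
    (fun {T} a b => (H T _).mpr (hmul _ _ ((H T _).mp ⟨a, rfl⟩) ((H T _).mp ⟨b, rfl⟩)))
    (fun {T} a => (H T _).mpr (hinv _ ((H T _).mp ⟨a, rfl⟩)))
    (by
      obtain ⟨e, he⟩ := (H _ (1 : 𝟙_ (Over (Spec (CommRingCat.of K))) ⟶ G)).mpr hone
      exact ⟨e, by rw [he, MonObj.one_eq_one]⟩)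
  exact ⟨str, hstr, hmono⟩

/-- The centraliser of a morphism `u : X ⟶ G` into a separated group scheme over a field is a
closed subgroup scheme. -/
theorem exists_centralizer {G X : Over (Spec (CommRingCat.of K))} [GrpObj G]
    [IsSeparated G.hom] (u : X ⟶ G) :
    ∃ (W : Over (Spec (CommRingCat.of K))) (str : GrpObj W) (incl : W ⟶ G),
      @IsMonHom _ _ _ W G str.toMonObj _ incl ∧ Mono incl ∧ IsClosedImmersion incl.left ∧
      ∀ (T : Over (Spec (CommRingCat.of K))) (c : T ⟶ G),
        (∃ z : T ⟶ W, z ≫ incl = c) ↔ CommP u c := by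
  obtain ⟨W, incl, hci, H⟩ := eq_representable (Y := G) (X := X) (Z := G)
    (fun _ c x => c * (x ≫ u)) (fun _ c x => (x ≫ u) * c)
    (fun _ _ h c x => by rw [MonObj.comp_mul, Category.assoc])
    (fun _ _ h c x => by rw [MonObj.comp_mul, Category.assoc])
  obtain ⟨str, hstr, hmono⟩ := exists_grpObj_of_closedRep incl (fun _ c => CommP u c) H
    (fun _ _ _ ha hb => ha.mul hb) (fun _ _ ha => ha.inv) CommP.one
  exact ⟨W, str, incl, hstr, hmono, hci, H⟩

end Groth.Agent.H93.Transp
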