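import Groth.Agent.H93.Avoid

/-!
# Affine opens containing finitely many points, on a union of two closed subschemes
-/

set_option autoImplicit false
universe u

namespace Groth.Agent.H93.TwoPiece

open AlgebraicGeometry CategoryTheory CategoryTheory.Limits TopologicalSpace Opposite
open Groth.Agent.H93

section ext

variable {X Y : Scheme.{u}} (j : Y ⟶ X) [IsClosedImmersion j]

/-- The largest open of `X` whose preimage in the closed subscheme `Y` is `V`. -/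
def ext (V : Y.Opens) : X.Opens :=
  ⟨(j.base '' (V : Set Y)ᶜ)ᶜ,
    (j.isClosedEmbedding.isClosedMap _ V.isOpen.isClosed_compl).isOpen_compl⟩

theorem mem_ext (V : Y.Opens) (x : X) : x ∈ ext j V ↔ ∀ y : Y, j.base y = x → y ∈ V := by
  show x ∉ j.base '' (V : Set Y)ᶜ ↔ _
  constructor
  · intro h y hy
    by_contra hyV
    exact h ⟨y, hyV, hy⟩
  · rintro h ⟨y, hyV, hy⟩
    exact hyV (h y hy)

theorem preimage_ext (V : Y.Opens) : j ⁻¹ᵁ ext j V = V := by
  ext y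
  show j.base y ∈ ext j V ↔ y ∈ V
  rw [mem_ext]
  constructor
  · intro h
    exact h y rfl
  · intro hy y' hy'
    rw [j.isClosedEmbedding.injective hy']
    exact hy

end ext

set_option maxHeartbeats 1600000 in
theorem two_piece {X Y Y' : Scheme.{u}} [IsReduced X] (j : Y ⟶ X) (j' : Y' ⟶ X)
    [IsClosedImmersion j] [IsClosedImmersion j']
    (hcov : ∀ x : X, x ∈ Set.range j.base ∨ x ∈ Set.range j'.base)
    (T : Set X) (hT : T.Finite)
    (V : Y.Opens) (hV : IsAffineOpen V) (hTV : ∀ y : Y, j.base y ∈ T → y ∈ V)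
    (V' : Y'.Opens) (hV' : IsAffineOpen V') (hTV' : ∀ y : Y', j'.base y ∈ T → y ∈ V') :
    ∃ U : X.Opens, IsAffineOpen U ∧ T ⊆ U := by
  have hS' : (j'.base ⁻¹' T).Finite := hT.preimage j'.isClosedEmbedding.injective.injOn
  have hS : (j.base ⁻¹' T).Finite := hT.preimage j.isClosedEmbedding.injective.injOn
  -- Step 1: shrink `V'`
  obtain ⟨g, hg1, hg2⟩ := Avoid.exists_basicOpen_finite hV' (j' ⁻¹ᵁ ext j V) (j'.base ⁻¹' T) hS'
    (fun y hy => hTV' y hy)
    (fun y hy => (mem_ext j V _).mpr (fun y₀ hy₀ => hTV y₀ (by rw [hy₀]; exact hy)))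
  -- Step 2: shrink `V`
  obtain ⟨h, hh1, hh2⟩ := Avoid.exists_basicOpen_finite hV (j ⁻¹ᵁ ext j' (Y'.basicOpen g))
    (j.base ⁻¹' T) hS (fun y hy => hTV y hy)
    (fun y hy => (mem_ext j' _ _).mpr (fun y₀ hy₀ => hg2 (by
      show j'.base y₀ ∈ T
      rw [hy₀]
      exact hy)))
  have Fa : ∀ (y' : Y') (y : Y), y' ∈ Y'.basicOpen g → j'.base y' = j.base y → y ∈ V :=
    fun y' y hy' e => (mem_ext j V _).mp (hg1 hy') y e.symm
  have Fb : ∀ (y' : Y') (y : Y), y ∈ Y.basicOpen h → j'.base y' = j.base y →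
      y' ∈ Y'.basicOpen g :=
    fun y' y hy e => (mem_ext j' _ _).mp (hh1 hy) y' e
  -- Step 3
  have hP : IsAffine (Y'.basicOpen g).toScheme := hV'.basicOpen g
  have hq₂ : ∀ w : ↑(pullback ((Y'.basicOpen g).ι ≫ j') j),
      (pullback.snd ((Y'.basicOpen g).ι ≫ j') j).base w ∈ V := by
    intro w
    have e : j'.base ((Y'.basicOpen g).ι.base ((pullback.fst ((Y'.basicOpen g).ι ≫ j') j).base w)) =
        j.base ((pullback.snd ((Y'.basicOpen g).ι ≫ j') j).base w) :=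
      congrArg (fun t => t.base w) (pullback.condition (f := (Y'.basicOpen g).ι ≫ j') (g := j))
    exact Fa _ _ ((pullback.fst ((Y'.basicOpen g).ι ≫ j') j).base w).2 e
  have etop : (⊤ : (pullback ((Y'.basicOpen g).ι ≫ j') j).Opens) ≤
      pullback.snd ((Y'.basicOpen g).ι ≫ j') j ⁻¹ᵁ V := fun w _ => hq₂ w
  have hSP : ((Y'.basicOpen g).ι.base ⁻¹' (j'.base ⁻¹' T)).Finite :=
    hS'.preimage (Y'.basicOpen g).ι.isOpenEmbedding.injective.injOn
  obtain ⟨g₂, hg₂1, hg₂2⟩ := Avoid.exists_lift_avoid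
    (pullback.fst ((Y'.basicOpen g).ι ≫ j') j)
    ((pullback.snd ((Y'.basicOpen g).ι ≫ j') j).appLE V ⊤ etop h)
    ((Y'.basicOpen g).ι.base ⁻¹' (j'.base ⁻¹' T)) hSP (by
      intro w hw
      rw [Scheme.basicOpen_appLE]
      refine ⟨trivial, ?_⟩
      apply hh2
      show j.base ((pullback.snd ((Y'.basicOpen g).ι ≫ j') j).base w) ∈ T
      have e : j'.base ((Y'.basicOpen g).ι.base
          ((pullback.fst ((Y'.basicOpen g).ι ≫ j') j).base w)) =
          j.base ((pullback.snd ((Y'.basicOpen g).ι ≫ j') j).base w) :=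
        congrArg (fun t => t.base w) (pullback.condition (f := (Y'.basicOpen g).ι ≫ j') (g := j))
      rw [← e]
      exact hw)
  obtain ⟨V'', hV''def⟩ : ∃ V'' : Y'.Opens,
      V'' = (Y'.basicOpen g).ι ''ᵁ ((Y'.basicOpen g).toScheme.basicOpen g₂) := ⟨_, rfl⟩
  have hV'' : IsAffineOpen V'' := by
    rw [hV''def]
    exact (IsAffineOpen.basicOpen (isAffineOpen_top _) g₂).image_of_isOpenImmersion _
  have hV''le : V'' ≤ Y'.basicOpen g := by
    rw [hV''def]
    exact Scheme.Opens.ι_image_le _ _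
  have hmemV'' : ∀ (pt : ↑(Y'.basicOpen g).toScheme),
      (Y'.basicOpen g).ι.base pt ∈ V'' ↔ pt ∈ (Y'.basicOpen g).toScheme.basicOpen g₂ := by
    intro pt
    rw [hV''def]
    constructor
    · rintro ⟨pt₂, hpt₂, e⟩
      rw [← (Y'.basicOpen g).ι.isOpenEmbedding.injective e]
      exact hpt₂
    · intro hpt
      exact ⟨pt, hpt, rfl⟩
  have hi' : ∀ (y' : Y') (y : Y), y' ∈ Y'.basicOpen g → y ∈ V → j'.base y' = j.base y →
      (y' ∈ V'' ↔ y ∈ Y.basicOpen h) := by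
    intro y' y hy' hy e
    obtain ⟨w, hw1, hw2⟩ := Scheme.Pullback.exists_preimage_pullback
      (f := (Y'.basicOpen g).ι ≫ j') (g := j) (⟨y', hy'⟩ : ↑(Y'.basicOpen g).toScheme) y e
    have h1 : (Y'.basicOpen g).ι.base (⟨y', hy'⟩ : ↑(Y'.basicOpen g).toScheme) = y' := rfl
    rw [← h1, hmemV'']
    have h2 : w ∈ pullback.fst ((Y'.basicOpen g).ι ≫ j') j ⁻¹ᵁ
        (Y'.basicOpen g).toScheme.basicOpen g₂ ↔
        w ∈ (pullback ((Y'.basicOpen g).ι ≫ j') j).basicOpen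
          ((pullback.snd ((Y'.basicOpen g).ι ≫ j') j).appLE V ⊤ etop h) := by
      rw [Union.preimage_basicOpen_top, hg₂1]
    rw [Scheme.basicOpen_appLE] at h2
    have h3 : (w ∈ pullback.fst ((Y'.basicOpen g).ι ≫ j') j ⁻¹ᵁ
        (Y'.basicOpen g).toScheme.basicOpen g₂) ↔
        (⟨y', hy'⟩ : ↑(Y'.basicOpen g).toScheme) ∈ (Y'.basicOpen g).toScheme.basicOpen g₂ := by
      rw [← hw1]
      rfl
    have h4 : (w ∈ (⊤ : (pullback ((Y'.basicOpen g).ι ≫ j') j).Opens) ⊓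
        pullback.snd ((Y'.basicOpen g).ι ≫ j') j ⁻¹ᵁ Y.basicOpen h) ↔ y ∈ Y.basicOpen h := by
      rw [← hw2]
      exact ⟨fun hh => hh.2, fun hh => ⟨trivial, hh⟩⟩
    exact h3.symm.trans (h2.trans h4)
  have hii' : ∀ y' : Y', j'.base y' ∈ T → y' ∈ V'' := by
    intro y' hy'
    have hy'g : y' ∈ Y'.basicOpen g := hg2 hy'
    have h1 : (Y'.basicOpen g).ι.base (⟨y', hy'g⟩ : ↑(Y'.basicOpen g).toScheme) = y' := rfl
    rw [← h1, hmemV'']
    exact hg₂2 (show j'.base ((Y'.basicOpen g).ι.base ⟨y', hy'g⟩) ∈ T from hy')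
  -- Step 4
  have hN' : j' ⁻¹ᵁ (ext j' V'' ⊓ ext j (Y.basicOpen h)) = V'' := by
    ext y'
    show (j'.base y' ∈ ext j' V'' ∧ j'.base y' ∈ ext j (Y.basicOpen h)) ↔ y' ∈ V''
    rw [mem_ext, mem_ext]
    constructor
    · intro hh
      exact hh.1 y' rfl
    · intro hy'
      refine ⟨fun y₀ hy₀ => ?_, fun y hy => ?_⟩
      · rw [j'.isClosedEmbedding.injective hy₀]
        exact hy'
      · have hyV : y ∈ V := Fa y' y (hV''le hy') hy.symm
        exact (hi' y' y (hV''le hy') hyV hy.symm).mp hy'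
  have hN : j ⁻¹ᵁ (ext j' V'' ⊓ ext j (Y.basicOpen h)) = Y.basicOpen h := by
    ext y
    show (j.base y ∈ ext j' V'' ∧ j.base y ∈ ext j (Y.basicOpen h)) ↔ y ∈ Y.basicOpen h
    rw [mem_ext, mem_ext]
    constructor
    · intro hh
      exact hh.2 y rfl
    · intro hy
      refine ⟨fun y' hy' => ?_, fun y₀ hy₀ => ?_⟩
      · have hy'g : y' ∈ Y'.basicOpen g := Fb y' y hy hy'
        exact (hi' y' y hy'g (Y.basicOpen_le h hy) hy').mpr hy
      · rw [j.isClosedEmbedding.injective hy₀]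
        exact hy
  refine ⟨ext j' V'' ⊓ ext j (Y.basicOpen h), ?_, ?_⟩
  · have hA' : IsAffine (j' ⁻¹ᵁ (ext j' V'' ⊓ ext j (Y.basicOpen h))).toScheme := by
      rw [hN']
      exact hV''
    have hA : IsAffine (j ⁻¹ᵁ (ext j' V'' ⊓ ext j (Y.basicOpen h))).toScheme := by
      rw [hN]
      exact hV.basicOpen h
    refine Union.union₂ (j ∣_ (ext j' V'' ⊓ ext j (Y.basicOpen h)))
      (j' ∣_ (ext j' V'' ⊓ ext j (Y.basicOpen h))) ?_
    rintro ⟨x, hx⟩
    rcases hcov x with ⟨y, rfl⟩ | ⟨y, rfl⟩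
    · left
      have hx' : y ∈ j ⁻¹ᵁ (ext j' V'' ⊓ ext j (Y.basicOpen h)) := hx
      exact ⟨⟨y, hx'⟩, Subtype.ext (morphismRestrict_base_coe j _ ⟨y, hx'⟩)⟩
    · right
      have hx' : y ∈ j' ⁻¹ᵁ (ext j' V'' ⊓ ext j (Y.basicOpen h)) := hx
      exact ⟨⟨y, hx'⟩, Subtype.ext (morphismRestrict_base_coe j' _ ⟨y, hx'⟩)⟩
  · intro t ht
    refine ⟨(mem_ext j' V'' t).mpr (fun y' hy' => hii' y' (by rw [hy']; exact ht)),
      (mem_ext j _ t).mpr (fun y hy => hh2 (by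
        show j.base y ∈ T
        rw [hy]
        exact ht))⟩

end Groth.Agent.H93.TwoPiece
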