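import Groth.Agent.H93.NilPull
import Mathlib.AlgebraicGeometry.IdealSheaf.Subscheme
import Mathlib.Topology.Sheaves.SheafCondition.UniqueGluing

/-!
# A scheme covered by two closed affine subschemes is affine (elementary proof)

`X` reduced, `i : Z ⟶ X`, `i' : Z' ⟶ X` closed immersions, jointly surjective, with `Z`, `Z'`
affine. Then `X` is affine.  Then the general (non-reduced, finitely many pieces) version.
-/

set_option autoImplicit false
universe u

namespace Groth.Agent.H93.Union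

open AlgebraicGeometry CategoryTheory CategoryTheory.Limits TopologicalSpace Opposite
open Groth.Agent.H93

section inj

variable {X Z Z' : Scheme.{u}} (i : Z ⟶ X) (i' : Z' ⟶ X)

/-- On a reduced scheme covered by `Z`, `Z'`, a section vanishing on both pieces is zero. -/
theorem inj [IsReduced X]
    (hcov : ∀ x : X, x ∈ Set.range i.base ∨ x ∈ Set.range i'.base)
    {U : X.Opens} (s : Γ(X, U)) (h : (i.app U).hom s = 0) (h' : (i'.app U).hom s = 0) : s = 0 := by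
  apply (basicOpen_eq_bot_iff s).mp
  rw [eq_bot_iff]
  intro x hx
  rcases hcov x with ⟨z, rfl⟩ | ⟨z, rfl⟩
  · have h1 : z ∈ i ⁻¹ᵁ X.basicOpen s := hx
    rw [Scheme.preimage_basicOpen] at h1
    have h2 : (i.app U) s = 0 := h
    rw [h2, Scheme.basicOpen_zero] at h1
    exact h1
  · have h1 : z ∈ i' ⁻¹ᵁ X.basicOpen s := hx
    rw [Scheme.preimage_basicOpen] at h1
    have h2 : (i'.app U) s = 0 := h'
    rw [h2, Scheme.basicOpen_zero] at h1
    exact h1

theorem inj' [IsReduced X]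
    (hcov : ∀ x : X, x ∈ Set.range i.base ∨ x ∈ Set.range i'.base)
    {U : X.Opens} (s t : Γ(X, U)) (h : (i.app U).hom s = (i.app U).hom t)
    (h' : (i'.app U).hom s = (i'.app U).hom t) : s = t := by
  rw [← sub_eq_zero]
  apply inj i i' hcov
  · rw [map_sub, h, sub_self]
  · rw [map_sub, h', sub_self]

end inj

section aff

variable {X Z Z' W : Scheme.{u}} (i : Z ⟶ X) (i' : Z' ⟶ X) (p : W ⟶ Z) (p' : W ⟶ Z')

/-- Affine case of the gluing of functions along two closed subschemes. -/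
theorem glue_aff [IsAffine X] [IsClosedImmersion i] [IsClosedImmersion i']
    (hc : IsPullback p p' i i') (a : Γ(Z, ⊤)) (a' : Γ(Z', ⊤))
    (hcomp : p.appTop.hom a = p'.appTop.hom a') :
    ∃ r : Γ(X, ⊤), i.appTop.hom r = a ∧ i'.appTop.hom r = a' := by
  have hZ' : IsAffine Z' := isAffine_of_isAffineHom i'
  have hs : Function.Surjective i.appTop.hom :=
    (IsClosedImmersion.isAffine_surjective_of_isAffine (f := i)).2
  have hs' : Function.Surjective i'.appTop.hom :=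
    (IsClosedImmersion.isAffine_surjective_of_isAffine (f := i')).2
  obtain ⟨r₁, hr₁⟩ := hs a
  have hk := NilPull.affine_ker hc.flip
  have hcomm := NilPull.comm_appTop hc.flip
  have hd : i'.appTop.hom r₁ - a' ∈ RingHom.ker p'.appTop.hom := by
    rw [RingHom.mem_ker, map_sub]
    have h1 : p'.appTop.hom (i'.appTop.hom r₁) = p.appTop.hom (i.appTop.hom r₁) :=
      RingHom.congr_fun hcomm r₁
    rw [h1, hr₁, sub_eq_zero]
    exact hcomp
  rw [hk, Ideal.mem_map_iff_of_surjective _ hs'] at hd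
  obtain ⟨k, hk1, hk2⟩ := hd
  refine ⟨r₁ - k, ?_, ?_⟩
  · rw [map_sub, hr₁, RingHom.mem_ker.mp hk1, sub_zero]
  · rw [map_sub, hk2]
    ring

end aff

section appLE

theorem appLE_eq_of_eq {X Y : Scheme.{u}} {f g : X ⟶ Y} (h : f = g) (U : Y.Opens) (V : X.Opens)
    (e : V ≤ f ⁻¹ᵁ U) : f.appLE U V e = g.appLE U V (h ▸ e) := by
  subst h
  rfl

theorem appTop_eq_appLE {X Y : Scheme.{u}} (f : X ⟶ Y) :
    f.appTop = f.appLE ⊤ ⊤ le_top := by
  exact Scheme.Hom.app_eq_appLE f (U := ⊤)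

theorem isIso_ι_appLE {X : Scheme.{u}} (U : X.Opens) :
    IsIso (U.ι.appLE U ⊤ (by simp)) := by
  rw [Scheme.Hom.appLE]
  have h1 : IsIso (U.ι.app U) := Scheme.Hom.isIso_app U.ι U (by simp)
  have e : (⊤ : U.toScheme.Opens) ≤ U.ι ⁻¹ᵁ U := by simp
  have h2 : IsIso (homOfLE e) := ⟨homOfLE le_top, rfl, rfl⟩
  infer_instance

/-- Translating an identity of sections on the restricted schemes back to `X`. -/
theorem restrict_app_eq {Z X : Scheme.{u}} (i : Z ⟶ X) (U : X.Opens) (s : Γ(X, U)) (a : Γ(Z, ⊤))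
    (h : (i ∣_ U).appTop.hom ((U.ι.appLE U ⊤ (by simp)).hom s) = (i ⁻¹ᵁ U).ι.appTop.hom a) :
    (i.app U).hom s = (Z.presheaf.map (homOfLE (le_top : i ⁻¹ᵁ U ≤ ⊤)).op).hom a := by
  have eZ : (⊤ : (i ⁻¹ᵁ U).toScheme.Opens) ≤ (i ⁻¹ᵁ U).ι ⁻¹ᵁ (i ⁻¹ᵁ U) := by simp
  have eU : (⊤ : U.toScheme.Opens) ≤ U.ι ⁻¹ᵁ U := by simp
  have hiso : IsIso ((i ⁻¹ᵁ U).ι.appLE (i ⁻¹ᵁ U) ⊤ eZ) := isIso_ι_appLE (i ⁻¹ᵁ U)
  have hinj : Function.Injective ((i ⁻¹ᵁ U).ι.appLE (i ⁻¹ᵁ U) ⊤ eZ).hom :=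
    (ConcreteCategory.bijective_of_isIso ((i ⁻¹ᵁ U).ι.appLE (i ⁻¹ᵁ U) ⊤ eZ)).1
  apply hinj
  have e1 : U.ι.appLE U ⊤ eU ≫ (i ∣_ U).appLE ⊤ ⊤ le_top =
      i.appLE U (i ⁻¹ᵁ U) le_rfl ≫ (i ⁻¹ᵁ U).ι.appLE (i ⁻¹ᵁ U) ⊤ eZ := by
    rw [Scheme.Hom.appLE_comp_appLE, Scheme.Hom.appLE_comp_appLE]
    exact appLE_eq_of_eq (morphismRestrict_ι i U) _ _ _
  have e2 : (i ⁻¹ᵁ U).ι.appTop = Z.presheaf.map (homOfLE (le_top : i ⁻¹ᵁ U ≤ ⊤)).op ≫
      (i ⁻¹ᵁ U).ι.appLE (i ⁻¹ᵁ U) ⊤ eZ := by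
    rw [Scheme.Hom.map_appLE, appTop_eq_appLE]
  have e3 := ConcreteCategory.congr_hom e1 s
  have e4 := ConcreteCategory.congr_hom e2 a
  rw [Scheme.Hom.appLE_eq_app] at e3
  rw [← appTop_eq_appLE] at e3
  change (i ∣_ U).appTop.hom ((U.ι.appLE U ⊤ eU).hom s) =
    ((i ⁻¹ᵁ U).ι.appLE (i ⁻¹ᵁ U) ⊤ eZ).hom ((i.app U).hom s) at e3
  change (i ⁻¹ᵁ U).ι.appTop.hom a = ((i ⁻¹ᵁ U).ι.appLE (i ⁻¹ᵁ U) ⊤ eZ).hom
    ((Z.presheaf.map (homOfLE (le_top : i ⁻¹ᵁ U ≤ ⊤)).op).hom a) at e4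
  rw [← e3, ← e4]
  exact h

end appLE

section glue

variable {X Z Z' W : Scheme.{u}} (i : Z ⟶ X) (i' : Z' ⟶ X) (p : W ⟶ Z) (p' : W ⟶ Z')

theorem inj'' [IsReduced X]
    (hcov : ∀ x : X, x ∈ Set.range i.base ∨ x ∈ Set.range i'.base)
    {U : X.Opens} (s t : Γ(X, U)) (h : i.app U s = i.app U t)
    (h' : i'.app U s = i'.app U t) : s = t :=
  inj' i i' hcov s t h h'

theorem glue_loc [IsClosedImmersion i] [IsClosedImmersion i'] (hc : IsPullback p p' i i')
    (a : Γ(Z, ⊤)) (a' : Γ(Z', ⊤)) (hcomp : p.appTop.hom a = p'.appTop.hom a')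
    (U : X.Opens) (hU : IsAffineOpen U) :
    ∃ s : Γ(X, U), i.app U s = Z.presheaf.map (homOfLE (le_top : i ⁻¹ᵁ U ≤ ⊤)).op a ∧
      i'.app U s = Z'.presheaf.map (homOfLE (le_top : i' ⁻¹ᵁ U ≤ ⊤)).op a' := by
  have hUa : IsAffine U.toScheme := hU
  have hw : (pullback.fst (i ∣_ U) (i' ∣_ U) ≫ (i ⁻¹ᵁ U).ι) ≫ i =
      (pullback.snd (i ∣_ U) (i' ∣_ U) ≫ (i' ⁻¹ᵁ U).ι) ≫ i' := by
    rw [Category.assoc, Category.assoc, ← morphismRestrict_ι, ← morphismRestrict_ι,
      ← Category.assoc, ← Category.assoc, pullback.condition]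
  obtain ⟨m, hm1, hm2⟩ : ∃ m : pullback (i ∣_ U) (i' ∣_ U) ⟶ W,
      m ≫ p = pullback.fst (i ∣_ U) (i' ∣_ U) ≫ (i ⁻¹ᵁ U).ι ∧
      m ≫ p' = pullback.snd (i ∣_ U) (i' ∣_ U) ≫ (i' ⁻¹ᵁ U).ι :=
    ⟨hc.lift _ _ hw, hc.lift_fst _ _ _, hc.lift_snd _ _ _⟩
  have hcompU : (pullback.fst (i ∣_ U) (i' ∣_ U)).appTop.hom ((i ⁻¹ᵁ U).ι.appTop.hom a) =
      (pullback.snd (i ∣_ U) (i' ∣_ U)).appTop.hom ((i' ⁻¹ᵁ U).ι.appTop.hom a') := by
    have e1 : (pullback.fst (i ∣_ U) (i' ∣_ U)).appTop.hom ((i ⁻¹ᵁ U).ι.appTop.hom a) =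
        (pullback.fst (i ∣_ U) (i' ∣_ U) ≫ (i ⁻¹ᵁ U).ι).appTop.hom a := by
      rw [Scheme.Hom.comp_appTop]
      rfl
    have e2 : (pullback.snd (i ∣_ U) (i' ∣_ U)).appTop.hom ((i' ⁻¹ᵁ U).ι.appTop.hom a') =
        (pullback.snd (i ∣_ U) (i' ∣_ U) ≫ (i' ⁻¹ᵁ U).ι).appTop.hom a' := by
      rw [Scheme.Hom.comp_appTop]
      rfl
    rw [e1, e2, ← hm1, ← hm2, Scheme.Hom.comp_appTop, Scheme.Hom.comp_appTop]
    show m.appTop.hom (p.appTop.hom a) = m.appTop.hom (p'.appTop.hom a')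
    rw [hcomp]
  obtain ⟨r, hr1, hr2⟩ := glue_aff (i ∣_ U) (i' ∣_ U) _ _ (IsPullback.of_hasPullback _ _) _ _ hcompU
  have eU : (⊤ : U.toScheme.Opens) ≤ U.ι ⁻¹ᵁ U := by simp
  have hiso : IsIso (U.ι.appLE U ⊤ eU) := isIso_ι_appLE U
  obtain ⟨s, hs⟩ := (ConcreteCategory.bijective_of_isIso (U.ι.appLE U ⊤ eU)).2 r
  have hs' : (U.ι.appLE U ⊤ eU).hom s = r := hs
  refine ⟨s, restrict_app_eq i U s a ?_, restrict_app_eq i' U s a' ?_⟩
  · rw [← hr1, ← hs']
  · rw [← hr2, ← hs']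

theorem glue [IsReduced X] [IsClosedImmersion i] [IsClosedImmersion i']
    (hcov : ∀ x : X, x ∈ Set.range i.base ∨ x ∈ Set.range i'.base)
    (hc : IsPullback p p' i i') (a : Γ(Z, ⊤)) (a' : Γ(Z', ⊤))
    (hcomp : p.appTop.hom a = p'.appTop.hom a') :
    ∃ f : Γ(X, ⊤), i.appTop.hom f = a ∧ i'.appTop.hom f = a' := by
  choose sf hsf1 hsf2 using fun U : X.affineOpens => glue_loc i i' p p' hc a a' hcomp U.1 U.2
  have key : ∀ (U V : X.affineOpens),
      X.presheaf.map (homOfLE (inf_le_left : U.1 ⊓ V.1 ≤ U.1)).op (sf U) =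
        X.presheaf.map (homOfLE (inf_le_right : U.1 ⊓ V.1 ≤ V.1)).op (sf V) := by
    intro U V
    apply inj'' i i' hcov
    · rw [ThickAff.app_res, ThickAff.app_res, hsf1, hsf1, ThickAff.res_res, ThickAff.res_res]
    · rw [ThickAff.app_res, ThickAff.app_res, hsf2, hsf2, ThickAff.res_res, ThickAff.res_res]
  have hcover : (⊤ : X.Opens) ≤ ⨆ U : X.affineOpens, U.1 := (iSup_affineOpens_eq_top X).ge
  obtain ⟨f, hf, -⟩ := X.sheaf.existsUnique_gluing' (fun U : X.affineOpens => U.1) ⊤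
    (fun U => homOfLE le_top) hcover sf (fun U V => key U V)
  have hf' : ∀ U : X.affineOpens, X.presheaf.map (homOfLE (le_top : U.1 ≤ ⊤)).op f = sf U := hf
  refine ⟨f, ?_, ?_⟩
  · refine Z.sheaf.eq_of_locally_eq' (fun U : X.affineOpens => i ⁻¹ᵁ U.1) ⊤
      (fun U => homOfLE le_top) ?_ _ _ ?_
    · intro z _
      obtain ⟨U, hU, hzU, -⟩ := Opens.isBasis_iff_nbhd.mp X.isBasis_affineOpens
        (show i.base z ∈ (⊤ : X.Opens) from trivial)
      exact Opens.mem_iSup.mpr ⟨⟨U, hU⟩, hzU⟩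
    · intro U
      have h1 := hsf1 U
      rw [← hf' U, ThickAff.app_res] at h1
      exact h1
  · refine Z'.sheaf.eq_of_locally_eq' (fun U : X.affineOpens => i' ⁻¹ᵁ U.1) ⊤
      (fun U => homOfLE le_top) ?_ _ _ ?_
    · intro z _
      obtain ⟨U, hU, hzU, -⟩ := Opens.isBasis_iff_nbhd.mp X.isBasis_affineOpens
        (show i'.base z ∈ (⊤ : X.Opens) from trivial)
      exact Opens.mem_iSup.mpr ⟨⟨U, hU⟩, hzU⟩
    · intro U
      have h1 := hsf2 U
      rw [← hf' U, ThickAff.app_res] at h1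
      exact h1

end glue

section affine

/-- Nullstellensatz on an affine scheme, in terms of `Scheme.zeroLocus`. -/
theorem mem_radical_of_zeroLocus_subset {P : Scheme.{u}} [IsAffine P] (I : Ideal Γ(P, ⊤))
    (g : Γ(P, ⊤))
    (h : P.zeroLocus (U := ⊤) (I : Set Γ(P, ⊤)) ⊆ P.zeroLocus (U := ⊤) {g}) : g ∈ I.radical := by
  have h1 : P.isoSpec.hom '' P.zeroLocus (U := ⊤) (I : Set Γ(P, ⊤)) ⊆
      P.isoSpec.hom '' P.zeroLocus (U := ⊤) {g} := Set.image_mono h
  rw [Scheme.isoSpec_image_zeroLocus, Scheme.isoSpec_image_zeroLocus,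
    ← PrimeSpectrum.zeroLocus_span {g}] at h1
  have h2 := (PrimeSpectrum.zeroLocus_subset_zeroLocus_iff I (Ideal.span {g})).mp h1
  exact h2 (Ideal.subset_span rfl)

/-- The range of a closed immersion into an affine scheme is the zero locus of the kernel. -/
theorem mem_range_of_mem_zeroLocus_ker {P Q : Scheme.{u}} [IsAffine P] (q : Q ⟶ P)
    [IsClosedImmersion q] (y : P)
    (h : y ∈ P.zeroLocus (U := ⊤) (RingHom.ker q.appTop.hom : Set Γ(P, ⊤))) :
    y ∈ Set.range q.base := by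
  have h1 : y ∈ q.ker.support := by
    rw [Scheme.IdealSheafData.mem_support_iff_of_mem (U := ⟨⊤, isAffineOpen_top P⟩)
      (show y ∈ (⊤ : P.Opens) from trivial), IdealComap.ideal_top_ker]
    exact h
  have h2 : y ∈ (q.ker.support : Set P) := h1
  rw [Scheme.Hom.support_ker, q.isClosedEmbedding.isClosed_range.closure_eq] at h2
  exact h2

theorem exists_pow_sub_basicOpen_le {P Q : Scheme.{u}} [IsAffine P] (q : Q ⟶ P)
    [IsClosedImmersion q] (O : P.Opens) (g : Γ(P, ⊤))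
    (h : ∀ w : Q, q.base w ∈ P.basicOpen g → q.base w ∈ O) :
    ∃ n : ℕ, 0 < n ∧ ∃ k ∈ RingHom.ker q.appTop.hom, P.basicOpen (g ^ n - k) ≤ O := by
  obtain ⟨J, hJ⟩ := (Scheme.eq_zeroLocus_of_isClosed_of_isAffine P ((O : Set P)ᶜ)).mp
    O.isOpen.isClosed_compl
  have hsub : P.zeroLocus (U := ⊤)
      ((J ⊔ RingHom.ker q.appTop.hom : Ideal Γ(P, ⊤)) : Set Γ(P, ⊤)) ⊆
      P.zeroLocus (U := ⊤) {g} := by
    intro y hy
    have hy1 : y ∈ P.zeroLocus (U := ⊤) (J : Set Γ(P, ⊤)) :=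
      P.zeroLocus_mono (SetLike.coe_subset_coe.mpr le_sup_left) hy
    have hy2 : y ∈ P.zeroLocus (U := ⊤) (RingHom.ker q.appTop.hom : Set Γ(P, ⊤)) :=
      P.zeroLocus_mono (SetLike.coe_subset_coe.mpr le_sup_right) hy
    obtain ⟨w, rfl⟩ := mem_range_of_mem_zeroLocus_ker q y hy2
    rw [← hJ] at hy1
    rw [Scheme.zeroLocus_singleton]
    intro hg
    exact hy1 (h w hg)
  obtain ⟨n, hn⟩ := mem_radical_of_zeroLocus_subset _ g hsub
  have hn1 : g ^ (n + 1) ∈ J ⊔ RingHom.ker q.appTop.hom := by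
    rw [pow_succ]
    exact Ideal.mul_mem_right _ _ hn
  obtain ⟨j, hj, k, hk, hjk⟩ := Submodule.mem_sup.mp hn1
  refine ⟨n + 1, Nat.succ_pos n, k, hk, ?_⟩
  have e : g ^ (n + 1) - k = j := by
    rw [← hjk]
    ring
  rw [e]
  intro y hy
  by_contra hyO
  have h3 : y ∈ P.zeroLocus (U := ⊤) (J : Set Γ(P, ⊤)) := by
    rw [← hJ]
    exact hyO
  exact (P.mem_zeroLocus_iff _ y).mp h3 j hj hy

end affine

section main

variable {X Z Z' W : Scheme.{u}} (i : Z ⟶ X) (i' : Z' ⟶ X) (p : W ⟶ Z) (p' : W ⟶ Z')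

theorem preimage_basicOpen_top {A B : Scheme.{u}} (f : A ⟶ B) (r : Γ(B, ⊤)) :
    f ⁻¹ᵁ B.basicOpen r = A.basicOpen (f.appTop.hom r) :=
  Scheme.preimage_basicOpen f r

/-- For a point of `Z` mapping into an open `U` of `X`, a global function of `X` whose
non-vanishing locus contains the point and lies in `U`. -/
theorem exists_basic [IsReduced X] [IsClosedImmersion i] [IsClosedImmersion i'] [IsAffine Z]
    [IsAffine Z'] (hcov : ∀ x : X, x ∈ Set.range i.base ∨ x ∈ Set.range i'.base)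
    (hc : IsPullback p p' i i') (U : X.Opens) (z : Z) (hz : i.base z ∈ U) :
    ∃ f : Γ(X, ⊤), i.base z ∈ X.basicOpen f ∧ X.basicOpen f ≤ U := by
  obtain ⟨a, ha1, ha2⟩ := (isAffineOpen_top Z).exists_basicOpen_le (V := i ⁻¹ᵁ U) ⟨z, hz⟩ trivial
  have hp' : IsClosedImmersion p' :=
    MorphismProperty.of_isPullback (P := @IsClosedImmersion) hc inferInstance
  obtain ⟨a₀, ha₀⟩ := (IsClosedImmersion.isAffine_surjective_of_isAffine (f := p')).2
    (p.appTop.hom a)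
  have hO : ∀ w : W, p'.base w ∈ Z'.basicOpen a₀ → p'.base w ∈ i' ⁻¹ᵁ U := by
    intro w hw
    have h1 : w ∈ p' ⁻¹ᵁ Z'.basicOpen a₀ := hw
    rw [preimage_basicOpen_top, ha₀, ← preimage_basicOpen_top] at h1
    have h2 : p.base w ∈ i ⁻¹ᵁ U := ha1 h1
    have h3 : i.base (p.base w) = i'.base (p'.base w) := by
      have := congrArg (fun t => t.base w) hc.w
      exact this
    show i'.base (p'.base w) ∈ U
    rw [← h3]
    exact h2
  obtain ⟨n, hn, k, hk, hle⟩ := exists_pow_sub_basicOpen_le p' (i' ⁻¹ᵁ U) a₀ hO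
  have hcomp : p.appTop.hom (a ^ n) = p'.appTop.hom (a₀ ^ n - k) := by
    rw [map_pow, map_sub, map_pow, ha₀, RingHom.mem_ker.mp hk, sub_zero]
  obtain ⟨f, hf1, hf2⟩ := glue i i' p p' hcov hc (a ^ n) (a₀ ^ n - k) hcomp
  have hpre : i ⁻¹ᵁ X.basicOpen f = Z.basicOpen a := by
    rw [preimage_basicOpen_top, hf1, Z.basicOpen_pow a hn]
  have hpre' : i' ⁻¹ᵁ X.basicOpen f = Z'.basicOpen (a₀ ^ n - k) := by
    rw [preimage_basicOpen_top, hf2]
  refine ⟨f, ?_, ?_⟩
  · have : z ∈ i ⁻¹ᵁ X.basicOpen f := by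
      rw [hpre]
      exact ha2
    exact this
  · intro x hx
    rcases hcov x with ⟨z₁, rfl⟩ | ⟨z₁, rfl⟩
    · have h1 : z₁ ∈ i ⁻¹ᵁ X.basicOpen f := hx
      rw [hpre] at h1
      exact ha1 h1
    · have h1 : z₁ ∈ i' ⁻¹ᵁ X.basicOpen f := hx
      rw [hpre'] at h1
      exact hle h1

theorem appTop_surj [IsReduced X] [IsClosedImmersion i] [IsClosedImmersion i'] [IsAffine Z']
    (hcov : ∀ x : X, x ∈ Set.range i.base ∨ x ∈ Set.range i'.base)
    (hc : IsPullback p p' i i') : Function.Surjective i.appTop.hom := by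
  intro a
  have hp' : IsClosedImmersion p' :=
    MorphismProperty.of_isPullback (P := @IsClosedImmersion) hc inferInstance
  obtain ⟨a', ha'⟩ := (IsClosedImmersion.isAffine_surjective_of_isAffine (f := p')).2
    (p.appTop.hom a)
  obtain ⟨f, hf, -⟩ := glue i i' p p' hcov hc a a' ha'.symm
  exact ⟨f, hf⟩

end main

section union

variable {X Z Z' : Scheme.{u}} (i : Z ⟶ X) (i' : Z' ⟶ X)

/-- A reduced scheme covered by two closed affine subschemes is affine. -/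
theorem union₂ [IsReduced X] [IsClosedImmersion i] [IsClosedImmersion i'] [IsAffine Z]
    [IsAffine Z'] (hcov : ∀ x : X, x ∈ Set.range i.base ∨ x ∈ Set.range i'.base) :
    IsAffine X := by
  have hc := IsPullback.of_hasPullback i i'
  have hcov' : ∀ x : X, x ∈ Set.range i'.base ∨ x ∈ Set.range i.base := fun x => (hcov x).symm
  have key : ∀ x : X, ∃ f : Γ(X, ⊤), IsAffineOpen (X.basicOpen f) ∧ x ∈ X.basicOpen f := by
    intro x
    obtain ⟨U, hU, hxU, -⟩ := Opens.isBasis_iff_nbhd.mp X.isBasis_affineOpens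
      (show x ∈ (⊤ : X.Opens) from trivial)
    have aux : ∀ f : Γ(X, ⊤), X.basicOpen f ≤ U → IsAffineOpen (X.basicOpen f) := by
      intro f hf
      have e : X.basicOpen (X.presheaf.map (homOfLE (le_top : U ≤ ⊤)).op f) = X.basicOpen f := by
        rw [Scheme.basicOpen_res]
        exact inf_eq_right.mpr hf
      rw [← e]
      exact IsAffineOpen.basicOpen hU _
    rcases hcov x with ⟨z, rfl⟩ | ⟨z, rfl⟩
    · obtain ⟨f, hf1, hf2⟩ := exists_basic i i' _ _ hcov hc U z hxU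
      exact ⟨f, aux f hf2, hf1⟩
    · obtain ⟨f, hf1, hf2⟩ := exists_basic i' i _ _ hcov' hc.flip U z hxU
      exact ⟨f, aux f hf2, hf1⟩
  obtain ⟨s, hs⟩ : ∃ s : Set Γ(X, ⊤), s = {f | IsAffineOpen (X.basicOpen f)} := ⟨_, rfl⟩
  have hmem : ∀ f, f ∈ s ↔ IsAffineOpen (X.basicOpen f) := by
    intro f
    rw [hs]
    rfl
  have h1 : Ideal.span (i.appTop.hom '' s) = ⊤ := by
    rw [← (isAffineOpen_top Z).iSup_basicOpen_eq_self_iff, eq_top_iff]
    intro z _
    obtain ⟨f, hf1, hf2⟩ := key (i.base z)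
    refine Opens.mem_iSup.mpr ⟨⟨i.appTop.hom f, ⟨f, (hmem f).mpr hf1, rfl⟩⟩, ?_⟩
    show z ∈ Z.basicOpen (i.appTop.hom f)
    rw [← preimage_basicOpen_top]
    exact hf2
  have h1' : Ideal.span (i'.appTop.hom '' s) = ⊤ := by
    rw [← (isAffineOpen_top Z').iSup_basicOpen_eq_self_iff, eq_top_iff]
    intro z _
    obtain ⟨f, hf1, hf2⟩ := key (i'.base z)
    refine Opens.mem_iSup.mpr ⟨⟨i'.appTop.hom f, ⟨f, (hmem f).mpr hf1, rfl⟩⟩, ?_⟩
    show z ∈ Z'.basicOpen (i'.appTop.hom f)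
    rw [← preimage_basicOpen_top]
    exact hf2
  have hsurj := appTop_surj i i' _ _ hcov hc
  have hsurj' := appTop_surj i' i _ _ hcov' hc.flip
  rw [← Ideal.map_span] at h1 h1'
  have hu : (1 : Γ(Z, ⊤)) ∈ Ideal.map i.appTop.hom (Ideal.span s) := by
    rw [h1]
    trivial
  have hv : (1 : Γ(Z', ⊤)) ∈ Ideal.map i'.appTop.hom (Ideal.span s) := by
    rw [h1']
    trivial
  rw [Ideal.mem_map_iff_of_surjective _ hsurj] at hu
  rw [Ideal.mem_map_iff_of_surjective _ hsurj'] at hv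
  obtain ⟨u, hu1, hu2⟩ := hu
  obtain ⟨v, hv1, hv2⟩ := hv
  refine isAffine_of_isAffineOpen_basicOpen s ?_ (fun f hf => (hmem f).mp hf)
  rw [Ideal.eq_top_iff_one]
  have hz : (1 - u) * (1 - v) = 0 := by
    apply inj i i' hcov
    · show i.appTop.hom ((1 - u) * (1 - v)) = 0
      rw [map_mul, map_sub, map_one, hu2, sub_self, zero_mul]
    · show i'.appTop.hom ((1 - u) * (1 - v)) = 0
      rw [map_mul, map_sub _ 1 v, map_one, hv2, sub_self, mul_zero]
  have h2 : (1 : Γ(X, ⊤)) = u + v - u * v := by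
    have h3 : (1 - u) * (1 - v) = 1 - (u + v - u * v) := by ring
    rw [h3] at hz
    exact sub_eq_zero.mp hz
  rw [h2]
  exact Ideal.sub_mem _ (Ideal.add_mem _ hu1 hv1) (Ideal.mul_mem_left _ u hv1)

theorem isReduced_vanishingIdeal_subscheme (C : TopologicalSpace.Closeds X) :
    IsReduced (Scheme.IdealSheafData.vanishingIdeal C).subscheme := by
  have : ∀ U, IsReduced ((Scheme.IdealSheafData.vanishingIdeal C).subschemeCover.openCover.X U) := by
    intro U
    show IsReduced (Spec (CommRingCat.of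
      (Γ(X, U.1) ⧸ (Scheme.IdealSheafData.vanishingIdeal C).ideal U)))
    have hrad : ((Scheme.IdealSheafData.vanishingIdeal C).ideal U).IsRadical := by
      rw [Scheme.IdealSheafData.vanishingIdeal_ideal]
      exact PrimeSpectrum.isRadical_vanishingIdeal _
    have : _root_.IsReduced (Γ(X, U.1) ⧸ (Scheme.IdealSheafData.vanishingIdeal C).ideal U) :=
      (Ideal.isRadical_iff_quotient_reduced _).mp hrad
    infer_instance
  exact IsReduced.of_openCover _ (Scheme.IdealSheafData.vanishingIdeal C).subschemeCover.openCover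

theorem range_vanishingIdeal_subschemeι (C : TopologicalSpace.Closeds X) :
    Set.range (Scheme.IdealSheafData.vanishingIdeal C).subschemeι.base = (C : Set X) := by
  have h := Scheme.IdealSheafData.range_subschemeι (Scheme.IdealSheafData.vanishingIdeal C)
  rw [Scheme.IdealSheafData.coe_support_vanishingIdeal] at h
  exact h

/-- A scheme covered by two closed affine subschemes is affine. -/
theorem union₂' [IsClosedImmersion i] [IsClosedImmersion i'] [IsAffine Z]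
    [IsAffine Z'] (hcov : ∀ x : X, x ∈ Set.range i.base ∨ x ∈ Set.range i'.base) :
    IsAffine X := by
  obtain ⟨I, hI⟩ : ∃ I : X.IdealSheafData,
      I = Scheme.IdealSheafData.vanishingIdeal (⊤ : Closeds X) := ⟨_, rfl⟩
  have hred : IsReduced I.subscheme := by
    rw [hI]
    exact isReduced_vanishingIdeal_subscheme ⊤
  have hsurj : Function.Surjective I.subschemeι.base := by
    intro x
    have h : x ∈ Set.range I.subschemeι.base := by
      rw [hI, range_vanishingIdeal_subschemeι]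
      trivial
    exact h
  have hZ : IsAffine (pullback i I.subschemeι) :=
    isAffine_of_isAffineHom (pullback.fst i I.subschemeι)
  have hZ' : IsAffine (pullback i' I.subschemeι) :=
    isAffine_of_isAffineHom (pullback.fst i' I.subschemeι)
  have haff : IsAffine I.subscheme := by
    apply union₂ (pullback.snd i I.subschemeι) (pullback.snd i' I.subschemeι)
    intro y
    rcases hcov (I.subschemeι.base y) with ⟨z, hz⟩ | ⟨z, hz⟩
    · left
      obtain ⟨w, -, hw2⟩ := Scheme.Pullback.exists_preimage_pullback z y hz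
      exact ⟨w, hw2⟩
    · right
      obtain ⟨w, -, hw2⟩ := Scheme.Pullback.exists_preimage_pullback z y hz
      exact ⟨w, hw2⟩
  exact ThickAff.main I.subschemeι hsurj

/-- A scheme covered by finitely many closed affine subschemes is affine. -/
theorem fin_cover : ∀ (n : ℕ) (X : Scheme.{u}) (Z : Fin n → Scheme.{u}) (ι : ∀ k, Z k ⟶ X),
    (∀ k, IsClosedImmersion (ι k)) → (∀ k, IsAffine (Z k)) →
    (∀ x : X, ∃ k, x ∈ Set.range (ι k).base) → IsAffine X := by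
  intro n
  induction n with
  | zero =>
    intro X Z ι _ _ hcov
    have : IsEmpty X := ⟨fun x => by
      obtain ⟨k, -⟩ := hcov x
      exact Fin.elim0 k⟩
    infer_instance
  | succ n ih =>
    intro X Z ι hι hZ hcov
    have hF : IsClosed (⋃ k : Fin n, Set.range (ι k.castSucc).base) :=
      isClosed_iUnion_of_finite fun k => (ι k.castSucc).isClosedEmbedding.isClosed_range
    obtain ⟨I, hI⟩ : ∃ I : X.IdealSheafData,
        I = Scheme.IdealSheafData.vanishingIdeal ⟨_, hF⟩ := ⟨_, rfl⟩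
    have hrange : Set.range I.subschemeι.base = ⋃ k : Fin n, Set.range (ι k.castSucc).base := by
      rw [hI, range_vanishingIdeal_subschemeι]
      rfl
    have haff : IsAffine I.subscheme := by
      refine ih I.subscheme (fun k => pullback (ι k.castSucc) I.subschemeι)
        (fun k => pullback.snd (ι k.castSucc) I.subschemeι) (fun k => inferInstance)
        (fun k => isAffine_of_isAffineHom (pullback.fst (ι k.castSucc) I.subschemeι)) ?_
      intro y
      have hy : I.subschemeι.base y ∈ ⋃ k : Fin n, Set.range (ι k.castSucc).base := by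
        rw [← hrange]
        exact ⟨y, rfl⟩
      obtain ⟨k, z, hz⟩ := Set.mem_iUnion.mp hy
      obtain ⟨w, -, hw2⟩ := Scheme.Pullback.exists_preimage_pullback z y hz
      exact ⟨k, w, hw2⟩
    apply union₂' I.subschemeι (ι (Fin.last n))
    intro x
    obtain ⟨k, hk⟩ := hcov x
    rcases Fin.eq_castSucc_or_eq_last k with ⟨k', rfl⟩ | rfl
    · left
      rw [hrange]
      exact Set.mem_iUnion.mpr ⟨k', hk⟩
    · right
      exact hk

end union

end Groth.Agent.H93.Union
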